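import Mathlib

set_option autoImplicit false

namespace Cfsg.Agent.Lib.KnownA

open Matrix

/-- Upper bound for orders in `PGL_d(q)`, and the Singer element attaining it. -/
theorem maxOrder_PGL {F : Type*} [Field F] [Fintype F] (d : ℕ) (hd : 1 ≤ d) :
    (∀ g : (GL (Fin d) F ⧸ Subgroup.center (GL (Fin d) F)),
      (Fintype.card F - 1) * orderOf g ≤ Fintype.card F ^ d - 1) ∧
    (∃ g : (GL (Fin d) F ⧸ Subgroup.center (GL (Fin d) F)),
      (Fintype.card F - 1) * orderOf g = Fintype.card F ^ d - 1) := by
  classical
  haveI : Nonempty (Fin d) := ⟨⟨0, hd⟩⟩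
  set Z := Subgroup.center (GL (Fin d) F) with hZ
  have hq : Nat.card ↥Z = Fintype.card F - 1 := by
    rw [hZ, Matrix.GeneralLinearGroup.center_eq_range_scalar]
    have hinj : Function.Injective (GeneralLinearGroup.scalar (R := F) (Fin d)) := ?_
    · rw [← Nat.card_congr (MonoidHom.ofInjective hinj).toEquiv, Nat.card_units,
        Nat.card_eq_fintype_card]
    intro a b hab
    apply Units.ext
    have h0 : ((GeneralLinearGroup.scalar (Fin d) a : GL (Fin d) F) : Matrix (Fin d) (Fin d) F) = (GeneralLinearGroup.scalar (Fin d) b : GL (Fin d) F) := by rw [hab]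
    have h := congrFun (congrFun h0 ⟨0, hd⟩) ⟨0, hd⟩
    simpa [GeneralLinearGroup.scalar] using h
  have hord : ∀ g : GL (Fin d) F, (Fintype.card F - 1) * orderOf (QuotientGroup.mk' Z g) =
      Nat.card ↥(Subgroup.zpowers g ⊔ Z : Subgroup (GL (Fin d) F)) := by
    intro g
    rw [← hq, ← Nat.card_zpowers, ← MonoidHom.map_zpowers,
      ← Subgroup.card_mul_index (Z.subgroupOf (Subgroup.zpowers g ⊔ Z)),
      Nat.card_congr (Subgroup.subgroupOfEquivOfLe (le_sup_right : Z ≤ Subgroup.zpowers g ⊔ Z)).toEquiv]
    congr 1
    have h1 := Subgroup.relIndex_ker (Subgroup.zpowers g) (QuotientGroup.mk' Z)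
    rw [QuotientGroup.ker_mk'] at h1
    rw [← h1]
    exact (Subgroup.relIndex_sup_right _ _).symm
  constructor
  · intro g
    induction g using QuotientGroup.induction_on with
    | _ g =>
      change (Fintype.card F - 1) * orderOf (QuotientGroup.mk' Z g) ≤ _
      rw [hord]
      set M : Matrix (Fin d) (Fin d) F := ↑g
      set A := Algebra.adjoin F ({M} : Set (Matrix (Fin d) (Fin d) F))
      have hAsub : Subgroup.zpowers g ⊔ Z ≤
          (A.toSubmonoid.units : Subgroup (GL (Fin d) F)) := by
        refine sup_le ?_ ?_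
        · intro x hx
          rw [mem_zpowers_iff_mem_range_orderOf, Finset.mem_image] at hx
          obtain ⟨k, -, rfl⟩ := hx
          refine Submonoid.mem_units_iff _ _ |>.mpr ⟨?_, ?_⟩
          · rw [Units.val_pow_eq_pow_val]
            exact pow_mem (Algebra.self_mem_adjoin_singleton F M) k
          · have : (g ^ k)⁻¹ ∈ Subgroup.zpowers g := inv_mem (Subgroup.npow_mem_zpowers g k)
            rw [mem_zpowers_iff_mem_range_orderOf, Finset.mem_image] at this
            obtain ⟨l, -, hl⟩ := this
            rw [← hl, Units.val_pow_eq_pow_val]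
            exact pow_mem (Algebra.self_mem_adjoin_singleton F M) l
        · rw [hZ, GeneralLinearGroup.center_eq_range_scalar]
          rintro x ⟨c, rfl⟩
          refine Submonoid.mem_units_iff _ _ |>.mpr ⟨?_, ?_⟩
          · exact Subalgebra.algebraMap_mem A (c : F)
          · rw [← map_inv]
            exact Subalgebra.algebraMap_mem A ((c⁻¹ : Fˣ) : F)
      let φ : (Fin d → F) → Matrix (Fin d) (Fin d) F := fun c => ∑ i, c i • M ^ (i : ℕ)
      have hA : ∀ x ∈ A, x ∈ Set.range φ := by
        intro x hx
        replace hx : x ∈ (Polynomial.aeval (R := F) M).range := by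
          rwa [← Algebra.adjoin_singleton_eq_range_aeval F M]
        obtain ⟨f, rfl⟩ := hx
        set r := f %ₘ M.charpoly
        have hr : r.natDegree < d := by
          by_cases h0 : r = 0
          · rw [h0]; simp only [Polynomial.natDegree_zero]; omega
          · have := Polynomial.natDegree_lt_natDegree h0
              (Polynomial.degree_modByMonic_lt f (Matrix.charpoly_monic M))
            simpa [Matrix.charpoly_natDegree_eq_dim] using this
        have hfr : Polynomial.aeval M f = Polynomial.aeval M r := by
          conv_lhs => rw [← Polynomial.modByMonic_add_div f M.charpoly]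
          rw [map_add, map_mul, Matrix.aeval_self_charpoly, zero_mul, add_zero]
        refine ⟨fun i => r.coeff i, ?_⟩
        change _ = Polynomial.aeval M f
        rw [hfr, Polynomial.aeval_eq_sum_range' hr]
        exact Fin.sum_univ_eq_sum_range (fun i => r.coeff i • M ^ i) d
      have hφ0 : φ 0 = 0 := by simp [φ]
      have hmem : ∀ x : ↥(Subgroup.zpowers g ⊔ Z : Subgroup (GL (Fin d) F)),
          ∃ c : {c : Fin d → F // c ≠ 0}, φ c.1 = ((x : GL (Fin d) F) : Matrix (Fin d) (Fin d) F) := by
        intro x
        obtain ⟨c, hc⟩ := hA _ ((Submonoid.mem_units_iff _ _).mp (hAsub x.2)).1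
        refine ⟨⟨c, fun h0 => Units.ne_zero (x : GL (Fin d) F) ?_⟩, hc⟩
        rw [← hc, h0, hφ0]
      choose c hc using hmem
      refine le_trans (Nat.card_le_card_of_injective c fun x y hxy => ?_) ?_
      · exact Subtype.ext (Units.ext (by rw [← hc x, hxy, hc y]))
      · rw [Nat.card_eq_fintype_card, Fintype.card_subtype_compl, Fintype.card_subtype_eq,
          Fintype.card_fun, Fintype.card_fin]
  · obtain ⟨p, hp⟩ := CharP.exists F
    haveI : Fact p.Prime := ⟨CharP.char_is_prime F p⟩
    haveI : NeZero d := ⟨by omega⟩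
    let K := FiniteField.Extension F p d
    haveI : Finite K := Module.finite_of_finite F
    let b : Module.Basis (Fin d) F K :=
      (Module.finBasisOfFinrankEq F K (FiniteField.finrank_extension F p d))
    let ψ : Kˣ →* GL (Fin d) F := Units.map (Algebra.leftMulMatrix b).toRingHom.toMonoidHom
    have hψ : Function.Injective ψ :=
      Units.map_injective (Algebra.leftMulMatrix_injective b)
    obtain ⟨ζ, hζ⟩ := IsCyclic.exists_generator (α := Kˣ)
    refine ⟨QuotientGroup.mk' Z (ψ ζ), ?_⟩
    rw [hord, ← MonoidHom.map_zpowers, (Subgroup.eq_top_iff' _).mpr hζ, ← MonoidHom.range_eq_map]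
    have hZle : Z ≤ ψ.range := by
      rw [hZ, GeneralLinearGroup.center_eq_range_scalar]
      rintro x ⟨a, rfl⟩
      refine ⟨Units.map (algebraMap F K).toMonoidHom a, Units.ext ?_⟩
      change Algebra.leftMulMatrix b (algebraMap F K (a : F)) = _
      rw [AlgHom.commutes]
      rfl
    rw [sup_eq_left.mpr hZle, ← Nat.card_congr (MonoidHom.ofInjective hψ).toEquiv, Nat.card_units,
      FiniteField.natCard_extension, Nat.card_eq_fintype_card]

end Cfsg.Agent.Lib.KnownA
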