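import Mathlib

/-! Elements of prime order in GL₄ with irreducible minimal polynomial. -/

set_option autoImplicit false

namespace Cfsg.Agent.Lib.KnownA.GLFourIrred

open Matrix Polynomial

noncomputable section

variable {F : Type*} [Field F] [Fintype F] {p : ℕ}

theorem minpoly_spec (hp : p.Prime) (hp0 : (p : F) ≠ 0) (hord : ∀ d, 1 ≤ d → d ≤ 3 → ¬ p ∣ Fintype.card F ^ d - 1)
    {A : Matrix (Fin 4) (Fin 4) F} (hA : A ^ p = 1) (hA1 : A ≠ 1) :
    Irreducible (minpoly F A) ∧ (minpoly F A).natDegree = 4 := by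
  classical
  set μ := minpoly F A with hμ
  have hint : IsIntegral F A := Matrix.isIntegral A
  have hmonic : μ.Monic := minpoly.monic hint
  have hle : μ.natDegree ≤ 4 := by
    have := Polynomial.natDegree_le_of_dvd (Matrix.minpoly_dvd_charpoly A) (Matrix.charpoly_monic A).ne_zero
    rwa [Matrix.charpoly_natDegree_eq_dim, Fintype.card_fin] at this
  set S : F[X] := ∑ i ∈ Finset.range p, X ^ i with hS
  have hdvd : μ ∣ S * (X - 1) := by
    rw [hS, geom_sum_mul]
    exact minpoly.dvd F A (by simp [hA])
  have hnc : ¬ IsCoprime μ S := by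
    intro hc
    obtain ⟨r, hr⟩ := hc.dvd_of_dvd_mul_left hdvd
    have h0 : aeval A (X - 1 : F[X]) = 0 := by rw [hr, map_mul, minpoly.aeval, zero_mul]
    simp [sub_eq_zero] at h0
    exact hA1 h0
  obtain ⟨f, hf, hf1, hf2⟩ : ∃ f : F[X], Irreducible f ∧ f ∣ μ ∧ f ∣ S := by
    by_contra hcon
    push Not at hcon
    refine hnc (isCoprime_of_irreducible_dvd (fun h => hmonic.ne_zero h.1) ?_)
    intro z hz hz1 hz2
    exact hcon z hz hz1 hz2
  have hdeg : 4 ≤ f.natDegree := by
    haveI := Fact.mk hf
    haveI : FiniteDimensional F (AdjoinRoot f) := (AdjoinRoot.powerBasis hf.ne_zero).finite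
    haveI : Finite (AdjoinRoot f) := Module.finite_of_finite F (M := AdjoinRoot f)
    set z := AdjoinRoot.root f with hz
    have hS0 : ∑ i ∈ Finset.range p, z ^ i = 0 := by
      obtain ⟨r, hr⟩ := hf2
      have := congrArg (AdjoinRoot.mk f) hr
      rw [map_mul, AdjoinRoot.mk_self, zero_mul, hS, map_sum] at this
      simpa using this
    have hz1 : z ^ p = 1 := by
      have := geom_sum_mul z p
      rw [hS0, zero_mul] at this
      exact sub_eq_zero.mp this.symm
    have hzne : z ≠ 1 := by
      intro h
      rw [h] at hS0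
      simp only [one_pow, Finset.sum_const, Finset.card_range, nsmul_eq_mul, mul_one] at hS0
      exact hp0 (by
        apply (algebraMap F (AdjoinRoot f)).injective
        rw [map_natCast, map_zero]; exact hS0)
    have hz0 : z ≠ 0 := fun h => by rw [h, zero_pow hp.ne_zero] at hz1; exact zero_ne_one hz1
    haveI : Fact p.Prime := ⟨hp⟩
    have ho : orderOf (Units.mk0 z hz0) = p :=
      orderOf_eq_prime (Units.ext (by simpa using hz1)) (fun h => hzne (by simpa using congrArg Units.val h))
    have hd := orderOf_dvd_natCard (Units.mk0 z hz0)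
    rw [ho, Nat.card_units, Module.natCard_eq_pow_finrank (K := F), (AdjoinRoot.powerBasis hf.ne_zero).finrank,
      AdjoinRoot.powerBasis_dim, Nat.card_eq_fintype_card] at hd
    by_contra hlt
    exact hord _ hf.natDegree_pos (by omega) hd
  have hfd := Polynomial.natDegree_le_of_dvd hf1 hmonic.ne_zero
  have hμf : μ.natDegree = 4 := by omega
  refine ⟨?_, hμf⟩
  exact (Polynomial.associated_of_dvd_of_natDegree_le hf1 hmonic.ne_zero (by omega)).irreducible hf

/-- The field generated by `A`. -/
def toMat (A : Matrix (Fin 4) (Fin 4) F) : AdjoinRoot (minpoly F A) →ₐ[F] Matrix (Fin 4) (Fin 4) F :=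
  Ideal.Quotient.liftₐ (Ideal.span {minpoly F A}) (aeval A) (by
    intro a ha
    obtain ⟨r, rfl⟩ := Ideal.mem_span_singleton.mp ha
    rw [map_mul, minpoly.aeval, zero_mul])

theorem toMat_mk (A : Matrix (Fin 4) (Fin 4) F) (h : F[X]) : toMat A (AdjoinRoot.mk _ h) = aeval A h := rfl

theorem toMat_root (A : Matrix (Fin 4) (Fin 4) F) : toMat A (AdjoinRoot.root _) = A := by
  rw [AdjoinRoot.root, toMat_mk, aeval_X]

theorem mem_range_toMat {A : Matrix (Fin 4) (Fin 4) F} (hirr : Irreducible (minpoly F A))
    (hdeg : (minpoly F A).natDegree = 4) {B : Matrix (Fin 4) (Fin 4) F} (hB : B * A = A * B) :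
    ∃ r, toMat A r = B := by
  classical
  haveI := Fact.mk hirr
  haveI : FiniteDimensional F (AdjoinRoot (minpoly F A)) := (AdjoinRoot.powerBasis hirr.ne_zero).finite
  haveI : Finite (AdjoinRoot (minpoly F A)) := Module.finite_of_finite F
  set v : Fin 4 → F := Pi.single 0 1 with hv
  let ev : AdjoinRoot (minpoly F A) → (Fin 4 → F) := fun r => toMat A r *ᵥ v
  have hinj : Function.Injective ev := by
    intro r s h
    by_contra hne
    have h0 : toMat A (r - s) *ᵥ v = 0 := by
      rw [map_sub, Matrix.sub_mulVec]; exact sub_eq_zero.mpr h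
    have : v = 0 := by
      rw [← Matrix.one_mulVec v, ← map_one (toMat A), ← inv_mul_cancel₀ (sub_ne_zero.mpr hne), map_mul,
        ← Matrix.mulVec_mulVec, h0, Matrix.mulVec_zero]
    simpa [hv] using congrFun this 0
  have hbij : Function.Bijective ev := (Nat.bijective_iff_injective_and_card ev).mpr ⟨hinj, by
    rw [Module.natCard_eq_pow_finrank (K := F), (AdjoinRoot.powerBasis hirr.ne_zero).finrank,
      AdjoinRoot.powerBasis_dim, hdeg, Nat.card_fun, Nat.card_fin]⟩
  obtain ⟨r, hr⟩ := hbij.2 (B *ᵥ v)
  refine ⟨r, ?_⟩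
  have hcA : Commute B A := hB
  have hcomm : ∀ s, B * toMat A s = toMat A s * B := fun s => by
    induction s using AdjoinRoot.induction_on with
    | ih h =>
      rw [toMat_mk]
      induction h using Polynomial.induction_on' with
      | add p q hp hq => rw [map_add, mul_add, add_mul, hp, hq]
      | monomial n a =>
        rw [aeval_monomial, ← Algebra.smul_def, mul_smul_comm, smul_mul_assoc, (hcA.pow_right n).eq]
  refine Matrix.ext_iff_mulVec.mpr fun w => ?_
  obtain ⟨s, rfl⟩ := hbij.2 w
  show toMat A r *ᵥ (toMat A s *ᵥ v) = B *ᵥ (toMat A s *ᵥ v)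
  rw [Matrix.mulVec_mulVec, Matrix.mulVec_mulVec, ← map_mul, mul_comm, map_mul, hcomm s, ← Matrix.mulVec_mulVec,
    ← Matrix.mulVec_mulVec]
  exact congrArg _ hr

variable (hp : p.Prime) (hp0 : (p : F) ≠ 0) (hord : ∀ d, 1 ≤ d → d ≤ 3 → ¬ p ∣ Fintype.card F ^ d - 1)
  {x : GL (Fin 4) F} (hx : x ^ p = 1) (hx1 : x ≠ 1)

include hp hp0 hord hx hx1

theorem spec : Irreducible (minpoly F x.val) ∧ (minpoly F x.val).natDegree = 4 :=
  minpoly_spec hp hp0 hord (by rw [← Units.val_pow_eq_pow_val, hx, Units.val_one])
    (fun h => hx1 (Units.ext h))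

/-- The centraliser of such an element is cyclic. -/
theorem cyclic_of_centralizing {H : Type*} [Group H] [Finite H] (φ : H →* GL (Fin 4) F) (hφ : Function.Injective φ)
    (hH : ∀ h, φ h * x = x * φ h) : IsCyclic H := by
  obtain ⟨hirr, hdeg⟩ := spec hp hp0 hord hx hx1
  haveI := Fact.mk hirr
  have key : ∀ h, ∃ r, toMat x.val r = (φ h).val := fun h => mem_range_toMat hirr hdeg (congrArg Units.val (hH h))
  choose f hf using key
  have hinj : Function.Injective (toMat x.val) := (toMat x.val).toRingHom.injective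
  let fh : H →* AdjoinRoot (minpoly F x.val) :=
    { toFun := f
      map_one' := hinj (by simp [hf])
      map_mul' := fun a b => hinj (by simp [hf]) }
  refine isCyclic_of_injective_ringHom fh fun a b h => hφ (Units.ext ?_)
  rw [← hf a, ← hf b]
  exact congrArg _ h

/-- An element has at most four conjugates in its centraliser. -/
theorem conj_count {ι : Type*} [Finite ι] (y : ι → GL (Fin 4) F) (hy : Function.Injective y)
    (hc : ∀ i, y i * x = x * y i) (hconj : ∀ i, ∃ g, g * x * g⁻¹ = y i) : Nat.card ι ≤ 4 := by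
  classical
  obtain ⟨hirr, hdeg⟩ := spec hp hp0 hord hx hx1
  haveI := Fact.mk hirr
  haveI := Fintype.ofFinite ι
  set μ := minpoly F x.val with hμ
  have key : ∀ i, ∃ r, toMat x.val r = (y i).val := fun i => mem_range_toMat hirr hdeg (congrArg Units.val (hc i))
  choose f hf using key
  have hinj : Function.Injective (toMat x.val) := (toMat x.val).toRingHom.injective
  have hfinj : Function.Injective f := fun a b h => hy (Units.ext (by rw [← hf a, ← hf b, h]))
  have hroot : ∀ i, f i ∈ (μ.map (algebraMap F (AdjoinRoot μ))).roots.toFinset := fun i => by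
    rw [Multiset.mem_toFinset, Polynomial.mem_roots_map hirr.ne_zero, ← Polynomial.aeval_def]
    apply hinj
    rw [map_zero, ← Polynomial.aeval_algHom_apply, hf]
    obtain ⟨g, hg⟩ := hconj i
    have e : ∀ h : F[X], aeval (y i).val h = g.val * aeval x.val h * (g⁻¹).val := fun h => by
      induction h using Polynomial.induction_on' with
      | add p q hp hq => rw [map_add, map_add, hp, hq, mul_add, add_mul]
      | monomial n a =>
        rw [aeval_monomial, aeval_monomial, ← Units.val_pow_eq_pow_val (y i), ← hg, conj_pow, Units.val_mul,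
          Units.val_mul, Units.val_pow_eq_pow_val, ← Algebra.smul_def, ← Algebra.smul_def, mul_smul_comm, smul_mul_assoc]
    rw [e, minpoly.aeval, mul_zero, zero_mul]
  calc Nat.card ι = Fintype.card ι := Nat.card_eq_fintype_card
    _ = (Finset.univ.image f).card := by rw [Finset.card_image_of_injective _ hfinj, Finset.card_univ]
    _ ≤ _ := Finset.card_le_card (fun r hr => by obtain ⟨i, -, rfl⟩ := Finset.mem_image.mp hr; exact hroot i)
    _ ≤ _ := Multiset.toFinset_card_le _
    _ ≤ _ := Polynomial.card_roots' _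
    _ ≤ 4 := by rw [Polynomial.natDegree_map, hdeg]

end

end Cfsg.Agent.Lib.KnownA.GLFourIrred
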