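import Mathlib
import Cfsg.Prelude.Def_Sz

/-! A nontrivial word is not a law in the big Suzuki groups: ping-pong by degree in a formal twisted
variable, followed by specialisation. -/

set_option autoImplicit false
set_option maxHeartbeats 400000

namespace Cfsg.Agent.Lib.KnownA

open Polynomial Matrix

section generic
variable {R : Type*} [CommRing R]

/-- The central unipotent element with parameters `b` and `β` (playing the role of `b^θ`). -/
def szU (b β : R) : Matrix (Fin 4) (Fin 4) R := !![1, 0, 0, 0; 0, 1, 0, 0; b, 0, 1, 0; β, b, 0, 1]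

/-- The longest Weyl element. -/
def szW : Matrix (Fin 4) (Fin 4) R := !![0, 0, 0, 1; 0, 0, 1, 0; 0, 1, 0, 0; 1, 0, 0, 0]

theorem szU_mul (b β b' β' : R) : szU b β * szU b' β' = szU (b + b') (β + β') := by
  ext i j
  fin_cases i <;> fin_cases j <;> simp [szU, Matrix.mul_apply, Fin.sum_univ_four]

theorem szU_zero : szU (0 : R) 0 = 1 := by
  ext i j
  fin_cases i <;> fin_cases j <;> simp [szU]

theorem szW_mul : szW * szW = (1 : Matrix (Fin 4) (Fin 4) R) := by
  ext i j
  fin_cases i <;> fin_cases j <;> simp [szW, Matrix.mul_apply, Fin.sum_univ_four]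

theorem szU_map {S : Type*} [CommRing S] (f : R →+* S) (b β : R) : (szU b β).map f = szU (f b) (f β) := by
  ext i j
  fin_cases i <;> fin_cases j <;> simp [szU]

theorem szW_map {S : Type*} [CommRing S] (f : R →+* S) : (szW : Matrix (Fin 4) (Fin 4) R).map f = szW := by
  ext i j
  fin_cases i <;> fin_cases j <;> simp [szW]

end generic

/-- The coefficient ring `F₂[t][s]`. -/
abbrev SzR : Type := (ZMod 2)[X][X]

/-- `U(b, b(s))` for a polynomial `b` in `t`. -/
noncomputable def szUp (b : (ZMod 2)[X]) : Matrix (Fin 4) (Fin 4) SzR := szU (C b) (b.map C)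

theorem szUp_mul (b b' : (ZMod 2)[X]) : szUp b * szUp b' = szUp (b + b') := by
  rw [szUp, szUp, szUp, szU_mul, map_add, Polynomial.map_add]

/-- The last coordinate has strictly the largest degree in `s`. -/
def SzDom (v : Fin 4 → SzR) : Prop := ∀ j : Fin 4, j ≠ 3 → (v j).degree < (v 3).degree

theorem szDom_step {v : Fin 4 → SzR} (hv : SzDom v) {b : (ZMod 2)[X]} (hb : 0 < b.natDegree) :
    SzDom (v ᵥ* (szUp b * szW)) ∧ 0 < ((v ᵥ* (szUp b * szW)) 3).degree := by
  have h0 := hv 0 (by decide)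
  have h1 := hv 1 (by decide)
  have h2 := hv 2 (by decide)
  have hv3 : v 3 ≠ 0 := fun h => by rw [h] at h0; simp at h0
  have hCb : (C b : SzR).degree ≤ 0 := degree_C_le
  have hmap : (b.map C : SzR).degree = b.degree := degree_map_eq_of_injective C_injective b
  have hbne : b ≠ 0 := fun h => by rw [h] at hb; simp at hb
  have hβ : (0 : WithBot ℕ) < (b.map C : SzR).degree := by
    rw [hmap, degree_eq_natDegree hbne]; exact_mod_cast hb
  have e0 : (v ᵥ* (szUp b * szW)) 0 = v 3 := by
    simp [szUp, szU, szW, Matrix.vecMul, dotProduct, Fin.sum_univ_four, Matrix.mul_apply]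
  have e1 : (v ᵥ* (szUp b * szW)) 1 = v 2 := by
    simp [szUp, szU, szW, Matrix.vecMul, dotProduct, Fin.sum_univ_four, Matrix.mul_apply]
  have e2 : (v ᵥ* (szUp b * szW)) 2 = v 1 + v 3 * C b := by
    simp [szUp, szU, szW, Matrix.vecMul, dotProduct, Fin.sum_univ_four, Matrix.mul_apply]
  have e3 : (v ᵥ* (szUp b * szW)) 3 = v 0 + v 2 * C b + v 3 * b.map C := by
    simp [szUp, szU, szW, Matrix.vecMul, dotProduct, Fin.sum_univ_four, Matrix.mul_apply]
  have hgt : (v 3).degree < (v 3 * b.map C).degree := by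
    rw [degree_mul, degree_eq_natDegree hv3, hmap, degree_eq_natDegree hbne]
    exact_mod_cast Nat.lt_add_of_pos_right hb
  have hle : ∀ x : SzR, (x * C b).degree ≤ x.degree := fun x => by
    rw [degree_mul]
    calc x.degree + (C b).degree ≤ x.degree + 0 := add_le_add le_rfl hCb
      _ = x.degree := add_zero _
  have hlow : (v 0 + v 2 * C b).degree < (v 3 * b.map C).degree :=
    lt_of_le_of_lt (degree_add_le _ _) (max_lt (h0.trans hgt) ((hle _).trans_lt (h2.trans hgt)))
  have htop : ((v ᵥ* (szUp b * szW)) 3).degree = (v 3 * b.map C).degree := by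
    rw [e3, degree_add_eq_right_of_degree_lt hlow]
  refine ⟨fun j hj => ?_, ?_⟩
  · rw [htop]
    fin_cases j
    · exact e0 ▸ hgt
    · exact e1 ▸ h2.trans hgt
    · refine e2 ▸ lt_of_le_of_lt (degree_add_le _ _) (max_lt (h1.trans hgt) ((hle _).trans_lt hgt))
    · exact absurd rfl hj
  · rw [htop]
    refine lt_of_le_of_lt ?_ hgt
    rw [degree_eq_natDegree hv3]
    exact_mod_cast Nat.zero_le _

/-- First parameter of a letter. -/
noncomputable def szFst (a : ℕ × Bool) : (ZMod 2)[X] := if a.2 then X ^ (2 * a.1 + 1) else X ^ (2 * a.1 + 2)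

/-- Last parameter of a letter. -/
noncomputable def szLst (a : ℕ × Bool) : (ZMod 2)[X] := if a.2 then X ^ (2 * a.1 + 2) else X ^ (2 * a.1 + 1)

/-- The image of a letter. -/
noncomputable def szLetter (a : ℕ × Bool) : Matrix (Fin 4) (Fin 4) SzR :=
  szUp (szFst a) * szW * szUp X * szW * szUp (szLst a)

theorem natDegree_X_pow_add {k l : ℕ} (hkl : k ≠ l) (hk : 0 < k) (hl : 0 < l) :
    0 < ((X ^ k : (ZMod 2)[X]) + X ^ l).natDegree := by
  rcases lt_or_gt_of_ne hkl with h | h
  · rw [natDegree_add_eq_right_of_natDegree_lt (by rw [natDegree_X_pow, natDegree_X_pow]; exact h), natDegree_X_pow]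
    exact hl
  · rw [natDegree_add_eq_left_of_natDegree_lt (by rw [natDegree_X_pow, natDegree_X_pow]; exact h), natDegree_X_pow]
    exact hk

theorem szFst_pos (a : ℕ × Bool) : 0 < (szFst a).natDegree := by
  unfold szFst; split_ifs <;> rw [natDegree_X_pow] <;> omega

theorem szLst_add_szFst {a b : ℕ × Bool} (h : a.1 = b.1 → a.2 = b.2) :
    0 < (szLst a + szFst b).natDegree := by
  obtain ⟨i, s⟩ := a
  obtain ⟨j, t⟩ := b
  cases s <;> cases t <;> simp only [szLst, szFst, if_true, Bool.false_eq_true, if_false] <;>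
    refine natDegree_X_pow_add ?_ (by omega) (by omega)
  · omega
  · intro e
    have : i = j := by omega
    simpa using h this
  · intro e
    have : i = j := by omega
    simpa using h this
  · omega

/-- The state after a letter: a dominant vector, then the pending last parameter. -/
def SzInv (a : ℕ × Bool) (v : Fin 4 → SzR) : Prop :=
  ∃ v', SzDom v' ∧ 0 < (v' 3).degree ∧ v = v' ᵥ* szUp (szLst a)

theorem szInv_aux {v' : Fin 4 → SzR} (hv : SzDom v') {p : (ZMod 2)[X]} (b : ℕ × Bool)
    (hp : 0 < (p + szFst b).natDegree) : SzInv b ((v' ᵥ* szUp p) ᵥ* szLetter b) := by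
  obtain ⟨h1, -⟩ := szDom_step hv hp
  obtain ⟨h2, h2'⟩ := szDom_step h1 (b := (X : (ZMod 2)[X])) (by simp)
  refine ⟨_, h2, h2', ?_⟩
  simp only [szLetter, Matrix.vecMul_vecMul, ← Matrix.mul_assoc, szUp_mul]

theorem szInv_foldl (L : List (ℕ × Bool)) : ∀ (a : ℕ × Bool) (v : Fin 4 → SzR),
    FreeGroup.IsReduced (a :: L) → SzInv a v → ∃ b, SzInv b (L.foldl (fun x c => x ᵥ* szLetter c) v) := by
  induction L with
  | nil => intro a v _ hv; exact ⟨a, hv⟩
  | cons b L ih =>
    intro a v hred hv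
    rw [FreeGroup.isReduced_cons_cons] at hred
    obtain ⟨v', h1, -, hv'⟩ := hv
    rw [List.foldl_cons, hv']
    exact ih b _ hred.2 (szInv_aux h1 b (szLst_add_szFst hred.1))

theorem foldl_vecMul (L : List (ℕ × Bool)) : ∀ (v : Fin 4 → SzR),
    L.foldl (fun x c => x ᵥ* szLetter c) v = v ᵥ* (L.map szLetter).prod := by
  induction L with
  | nil => intro v; simp
  | cons b L ih =>
    intro v
    rw [List.foldl_cons, ih, Matrix.vecMul_vecMul, List.map_cons, List.prod_cons]

theorem szWord_entry {L : List (ℕ × Bool)} (hne : L ≠ []) (hred : FreeGroup.IsReduced L) :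
    ((L.map szLetter).prod 3 3 - 1) ≠ 0 := by
  obtain ⟨a, L', rfl⟩ := List.exists_cons_of_ne_nil hne
  have h0 : SzDom (Pi.single (3 : Fin 4) (1 : SzR)) := fun j hj => by
    rw [Pi.single_eq_of_ne hj, Pi.single_eq_same]; simp
  have hinit : SzInv a (Pi.single (3 : Fin 4) (1 : SzR) ᵥ* szLetter a) := by
    have := szInv_aux h0 (p := 0) a (by rw [zero_add]; exact szFst_pos a)
    rwa [show szUp 0 = 1 by rw [szUp, map_zero, Polynomial.map_zero, szU_zero], Matrix.vecMul_one] at this
  obtain ⟨b, v', -, hpos, heq⟩ := szInv_foldl L' a _ hred hinit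
  have h := foldl_vecMul (a :: L') (Pi.single (3 : Fin 4) (1 : SzR))
  rw [List.foldl_cons, heq] at h
  have h3 : ((a :: L').map szLetter).prod 3 3 = v' 3 := by
    have := congrFun h 3
    rw [Matrix.single_one_vecMul, Matrix.row_apply] at this
    rw [← this]
    simp [szUp, szU, Matrix.vecMul, dotProduct, Fin.sum_univ_four]
  rw [h3, sub_ne_zero]
  intro he
  rw [he, degree_one] at hpos
  exact lt_irrefl _ hpos

section spec
variable {F : Type*} [Field F] [CharP F 2]

/-- Specialisation `t ↦ x`, `s ↦ x^e`. -/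
noncomputable def szEval (e : ℕ) (x : F) : SzR →+* F :=
  Polynomial.eval₂RingHom (Polynomial.eval₂RingHom (ZMod.castHom (dvd_refl 2) F) x) (x ^ e)

theorem szEval_C (e : ℕ) (x : F) (b : (ZMod 2)[X]) :
    szEval e x (C b) = b.eval₂ (ZMod.castHom (dvd_refl 2) F) x := by
  simp [szEval]

theorem szEval_map (k : ℕ) (x : F) (b : (ZMod 2)[X]) :
    szEval (2 ^ k) x (b.map C) = (b.eval₂ (ZMod.castHom (dvd_refl 2) F) x) ^ (2 ^ k) := by
  have h : (szEval (2 ^ k) x).comp (Polynomial.mapRingHom (C : ZMod 2 →+* (ZMod 2)[X])) =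
      (iterateFrobenius F 2 k).comp (Polynomial.eval₂RingHom (ZMod.castHom (dvd_refl 2) F) x) := by
    refine Polynomial.ringHom_ext' ?_ ?_
    · exact RingHom.ext_zmod _ _
    · simp [szEval, iterateFrobenius_def]
  simpa [iterateFrobenius_def] using RingHom.congr_fun h b

/-- A polynomial in `t, s` does not vanish on all `(x, x^e)` once `e` is large. -/
theorem exists_szEval_ne_zero [Fintype F] {P : SzR} (hP : P ≠ 0) {e : ℕ}
    (hd : ∀ j, (P.coeff j).natDegree < e) (hq : (P.natDegree + 1) * e ≤ Fintype.card F) :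
    ∃ x : F, szEval e x P ≠ 0 := by
  set ι : (ZMod 2)[X] →+* F[X] := Polynomial.mapRingHom (ZMod.castHom (dvd_refl 2) F)
  have hι : Function.Injective (ZMod.castHom (dvd_refl 2) F) := RingHom.injective _
  set D := P.natDegree with hD
  set Q : F[X] := P.eval₂ ι (X ^ e) with hQ
  have hsum : Q = ι (P.coeff D) * (X ^ e) ^ D + ∑ j ∈ Finset.range D, ι (P.coeff j) * (X ^ e) ^ j := by
    rw [hQ, Polynomial.eval₂_eq_sum_range, Finset.sum_range_succ, add_comm]
  have htop : (ι (P.coeff D) * (X ^ e) ^ D).degree = (((P.coeff D).natDegree + e * D : ℕ) : WithBot ℕ) := by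
    rw [← pow_mul, degree_mul, degree_X_pow]
    change ((P.coeff D).map _).degree + _ = _
    rw [degree_map_eq_of_injective hι, degree_eq_natDegree (show P.coeff D ≠ 0 from hD ▸ leadingCoeff_ne_zero.mpr hP), Nat.cast_add]
  have hrest : (∑ j ∈ Finset.range D, ι (P.coeff j) * (X ^ e) ^ j).degree <
      (ι (P.coeff D) * (X ^ e) ^ D).degree := by
    rw [htop]
    refine lt_of_le_of_lt (degree_sum_le _ _) ((Finset.sup_lt_iff (WithBot.bot_lt_coe _)).mpr fun j hj => ?_)
    rw [← pow_mul]
    refine lt_of_le_of_lt (degree_mul_le _ _) ?_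
    rw [degree_X_pow]
    refine lt_of_le_of_lt (add_le_add (degree_map_le.trans degree_le_natDegree) le_rfl) ?_
    rw [Finset.mem_range] at hj
    have : e * j + e ≤ e * D := by rw [← Nat.mul_succ]; exact Nat.mul_le_mul_left e hj
    have := hd j
    norm_cast
    omega
  have hdeg : Q.degree = (((P.coeff D).natDegree + e * D : ℕ) : WithBot ℕ) := by
    rw [hsum, degree_add_eq_left_of_degree_lt hrest, htop]
  have hQ0 : Q ≠ 0 := fun h => by
    rw [h, degree_zero] at hdeg
    exact WithBot.bot_ne_coe hdeg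
  have hnd : Q.natDegree < Fintype.card F := by
    rw [natDegree_eq_of_degree_eq_some hdeg]
    have := hd D
    rw [Nat.succ_mul, mul_comm D e] at hq
    omega
  obtain ⟨x, hx⟩ : ∃ x : F, Q.eval x ≠ 0 := by
    by_contra hcon
    push Not at hcon
    exact hQ0 (eq_zero_of_natDegree_lt_card_of_eval_eq_zero _ (f := (id : F → F)) Function.injective_id hcon hnd)
  refine ⟨x, ?_⟩
  have h : (Polynomial.evalRingHom x).comp (Polynomial.eval₂RingHom ι (X ^ e)) = szEval e x := by
    refine Polynomial.ringHom_ext' (Polynomial.ringHom_ext' (RingHom.ext_zmod _ _) ?_) ?_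
    · simp [szEval, ι]
    · simp [szEval]
  rw [← h]
  exact hx

/-- `U(b, b^e)` as a unit. -/
def szUnitU (b β : F) : GL (Fin 4) F where
  val := szU b β
  inv := szU b β
  val_inv := by rw [szU_mul, CharTwo.add_self_eq_zero, CharTwo.add_self_eq_zero, szU_zero]
  inv_val := by rw [szU_mul, CharTwo.add_self_eq_zero, CharTwo.add_self_eq_zero, szU_zero]

/-- `W` as a unit. -/
def szUnitW : GL (Fin 4) F where
  val := szW
  inv := szW
  val_inv := szW_mul
  inv_val := szW_mul

theorem szUnitU_mem {e : ℕ} (he : e ≠ 0) (b : F) (hb : (b ^ e) ^ e = b * b) :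
    szUnitU b (b ^ e) ∈ Cfsg.Lie.Sz F e := by
  refine Subgroup.subset_closure ⟨?_, ?_⟩
  · intro u v
    simp [szUnitU, szU, Cfsg.Lie.altForm4, Matrix.mulVec, dotProduct, Fin.sum_univ_four]
    linear_combination (b * u 0 * v 1 + b * u 1 * v 0 + b ^ e * u 0 * v 0) * (CharTwo.two_eq_zero : (2 : F) = 0)
  · ext i j
    fin_cases i <;> fin_cases j <;>
      simp [szUnitU, szU, Cfsg.Lie.star4, Cfsg.Lie.pairOf, he, hb, CharTwo.neg_eq, CharTwo.sub_eq_add]

theorem szUnitW_mem {e : ℕ} (he : e ≠ 0) : (szUnitW : GL (Fin 4) F) ∈ Cfsg.Lie.Sz F e := by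
  refine Subgroup.subset_closure ⟨?_, ?_⟩
  · intro u v
    simp [szUnitW, szW, Cfsg.Lie.altForm4, Matrix.mulVec, dotProduct, Fin.sum_univ_four]
    ring
  · ext i j
    fin_cases i <;> fin_cases j <;>
      simp [szUnitW, szW, Cfsg.Lie.star4, Cfsg.Lie.pairOf, he, CharTwo.neg_eq, CharTwo.sub_eq_add]

end spec

/-- A nontrivial word is not a law in big Suzuki groups. -/
theorem exists_word_ne_one_suzuki (w : FreeGroup ℕ) (hw : w ≠ 1) :
    ∃ N : ℕ, ∀ (F : Type*) [Field F] [Fintype F] (m : ℕ), N ≤ m → Fintype.card F = 2 ^ (2 * m + 1) →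
      ∃ f : ℕ → ↥(Cfsg.Lie.Sz F (2 ^ (m + 1))), FreeGroup.lift f w ≠ 1 := by
  set L := FreeGroup.toWord w with hLw
  have hne : L ≠ [] := fun h => hw (FreeGroup.toWord_eq_nil_iff.mp h)
  have hP := szWord_entry hne FreeGroup.isReduced_toWord
  set P : SzR := (L.map szLetter).prod 3 3 - 1
  obtain ⟨d, hd⟩ : ∃ d, ∀ j, (P.coeff j).natDegree ≤ d :=
    ⟨P.support.sup fun j => (P.coeff j).natDegree, fun j => by
      by_cases h : j ∈ P.support
      · exact Finset.le_sup (f := fun j => (P.coeff j).natDegree) h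
      · rw [Polynomial.notMem_support_iff.mp h]; simp⟩
  refine ⟨d + 2 * (P.natDegree + 1), fun F _ _ m hm hF => ?_⟩
  haveI : Fact (Nat.Prime 2) := ⟨Nat.prime_two⟩
  haveI : CharP F 2 := charP_of_card_eq_prime_pow (f := 2 * m + 1) hF
  set e := 2 ^ (m + 1) with he
  have hme : m + 1 < e := Nat.lt_two_pow_self
  have he0 : e ≠ 0 := by omega
  have hθ : ∀ b : F, (b ^ e) ^ e = b * b := fun b => by
    have h := FiniteField.pow_card b
    rw [hF] at h
    rw [← pow_mul, he, ← pow_add, show m + 1 + (m + 1) = (2 * m + 1) + 1 by omega, pow_succ, pow_mul, h, sq]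
  have hq : (P.natDegree + 1) * e ≤ Fintype.card F := by
    rw [hF, show 2 * m + 1 = m + (m + 1) by omega, pow_add, ← he]
    refine Nat.mul_le_mul_right e ?_
    have := Nat.lt_two_pow_self (n := m)
    omega
  obtain ⟨x, hx⟩ := exists_szEval_ne_zero (F := F) hP
    (fun j => lt_of_le_of_lt (hd j) (by omega)) hq
  let U : (ZMod 2)[X] → ↥(Cfsg.Lie.Sz F e) := fun b =>
    ⟨szUnitU (b.eval₂ (ZMod.castHom (dvd_refl 2) F) x) _, szUnitU_mem he0 _ (hθ _)⟩
  let W : ↥(Cfsg.Lie.Sz F e) := ⟨szUnitW, szUnitW_mem he0⟩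
  let G : ℕ × Bool → ↥(Cfsg.Lie.Sz F e) := fun a => U (szFst a) * W * U X * W * U (szLst a)
  let φ : ↥(Cfsg.Lie.Sz F e) →* Matrix (Fin 4) (Fin 4) F :=
    (Units.coeHom _).comp (Cfsg.Lie.Sz F e).subtype
  have hU : ∀ b, φ (U b) = (szUp b).map (szEval e x) := fun b => by
    rw [szUp, szU_map, szEval_C, show szEval e x (b.map C) = _ from szEval_map (m + 1) x b]
    rfl
  have hW : φ W = (szW : Matrix (Fin 4) (Fin 4) SzR).map (szEval e x) := by
    rw [szW_map]; rfl
  refine ⟨fun i => G (i, true), fun h1 => hx ?_⟩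
  have hUinv : ∀ b, (U b)⁻¹ = U b := fun b => Subtype.ext (Units.ext rfl)
  have hWinv : W⁻¹ = W := Subtype.ext (Units.ext rfl)
  have hlift : FreeGroup.lift (fun i => G (i, true)) w = (L.map G).prod := by
    conv_lhs => rw [← FreeGroup.mk_toWord (x := w)]
    rw [FreeGroup.lift_mk]
    congr 1
    refine List.map_congr_left fun a _ => ?_
    obtain ⟨i, s⟩ := a
    cases s
    · simp [G, szFst, szLst, hUinv, hWinv, mul_assoc]
    · rfl
  have hG : ∀ a, φ (G a) = (szLetter a).map (szEval e x) := fun a => by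
    simp only [G, szLetter, map_mul, hU, hW, Matrix.map_mul]
  have h2 : φ (L.map G).prod = ((L.map szLetter).prod).map (szEval e x) := by
    rw [map_list_prod, ← RingHom.mapMatrix_apply, map_list_prod, List.map_map, List.map_map]
    exact congrArg List.prod (List.map_congr_left fun a _ => hG a)
  rw [← hlift, h1, map_one] at h2
  have h3 := congrFun (congrFun h2 3) 3
  rw [Matrix.one_apply_eq, Matrix.map_apply] at h3
  simp only [P, map_sub, map_one]
  rw [← h3, sub_self]

end Cfsg.Agent.Lib.KnownA
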