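import Mathlib
import Cfsg.Agent.Lib.KnownA.WordSuzuki
import Cfsg.Agent.Lib.Recognition.SuzukiFix

/-! Generators of the Suzuki groups: the lower unipotent subgroup, the torus and the Weyl element. -/

set_option autoImplicit false
set_option maxHeartbeats 400000

namespace Cfsg.Agent.Lib.KnownA

open Matrix Cfsg.Lie

variable {F : Type*} [Field F] [CharP F 2] (m : ℕ)

/-- The endomorphism `x ↦ x ^ 2 ^ (m+1)`. -/
noncomputable def szTh : F →+* F := iterateFrobenius F 2 (m + 1)

theorem szTh_apply (x : F) : szTh m x = x ^ 2 ^ (m + 1) := iterateFrobenius_def ..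

/-- A general lower unitriangular element. -/
noncomputable def szUM (a b : F) : Matrix (Fin 4) (Fin 4) F :=
  !![1, 0, 0, 0; a, 1, 0, 0; b, szTh m a, 1, 0; szTh m b + a * a * szTh m a + a * b, b + a * szTh m a, a, 1]

/-- A torus element. -/
noncomputable def szHM (k : F) : Matrix (Fin 4) (Fin 4) F :=
  diagonal ![k, szTh m k / k, k / szTh m k, 1 / k]

variable {m}

theorem szUM_zero : szUM m (0 : F) 0 = 1 := by
  ext i j
  fin_cases i <;> fin_cases j <;> simp [szUM]

theorem num_three : (3 : F) = 1 := by linear_combination (CharTwo.two_eq_zero : (2 : F) = 0)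

theorem num_four : (4 : F) = 0 := by linear_combination 2 * (CharTwo.two_eq_zero : (2 : F) = 0)

variable (hθ : ∀ x : F, szTh m (szTh m x) = x * x)

include hθ

theorem szUM_mul (a b a' b' : F) :
    szUM m a b * szUM m a' b' = szUM m (a + a') (b + b' + szTh m a * a') := by
  ext i j
  fin_cases i <;> fin_cases j <;>
    simp [szUM, Matrix.mul_apply, Fin.sum_univ_four, map_add, map_mul, hθ] <;>
    (ring_nf; try simp [CharTwo.two_eq_zero, num_three, num_four]; try ring)

/-- The unipotent element as a unit. -/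
noncomputable def szU' (a b : F) : GL (Fin 4) F where
  val := szUM m a b
  inv := szUM m a (b + szTh m a * a)
  val_inv := by
    rw [szUM_mul hθ, CharTwo.add_self_eq_zero, ← szUM_zero (m := m)]
    congr 1
    linear_combination (b + szTh m a * a) * (CharTwo.two_eq_zero : (2 : F) = 0)
  inv_val := by
    rw [szUM_mul hθ, CharTwo.add_self_eq_zero, ← szUM_zero (m := m)]
    congr 1
    linear_combination (b + szTh m a * a) * (CharTwo.two_eq_zero : (2 : F) = 0)

omit hθ in
/-- The torus element as a unit. -/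
noncomputable def szH' {k : F} (hk : k ≠ 0) : GL (Fin 4) F where
  val := szHM m k
  inv := szHM m k⁻¹
  val_inv := by
    have : szTh m k ≠ 0 := (map_ne_zero _).mpr hk
    rw [szHM, szHM, diagonal_mul_diagonal, ← diagonal_one]
    congr 1; funext i
    fin_cases i <;> simp [map_inv₀] <;> field_simp
  inv_val := by
    have : szTh m k ≠ 0 := (map_ne_zero _).mpr hk
    rw [szHM, szHM, diagonal_mul_diagonal, ← diagonal_one]
    congr 1; funext i
    fin_cases i <;> simp [map_inv₀] <;> field_simp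

theorem szU'_mem (a b : F) : szU' hθ a b ∈ Sz F (2 ^ (m + 1)) := by
  refine Subgroup.subset_closure ⟨?_, ?_⟩
  · intro u v
    simp [szU', szUM, altForm4, Matrix.mulVec, dotProduct, Fin.sum_univ_four]
    ring_nf
    simp [CharTwo.two_eq_zero, num_three, num_four]
    try ring
  · ext i j
    fin_cases i <;> fin_cases j <;>
      simp [szU', szUM, star4, pairOf, ← szTh_apply, map_add, map_mul, hθ, CharTwo.sub_eq_add, map_one] <;>
      (ring_nf; try simp [CharTwo.two_eq_zero, num_three, num_four]; try ring)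

theorem szH'_mem {k : F} (hk : k ≠ 0) : szH' (m := m) hk ∈ Sz F (2 ^ (m + 1)) := by
  have h0 : szTh m k ≠ 0 := (map_ne_zero _).mpr hk
  refine Subgroup.subset_closure ⟨?_, ?_⟩
  · intro u v
    simp [szH', szHM, altForm4, Matrix.mulVec_diagonal]
    field_simp
  · ext i j
    fin_cases i <;> fin_cases j <;>
      simp [szH', szHM, star4, pairOf, ← szTh_apply, map_div₀, map_inv₀, map_one, hθ] <;> field_simp

theorem szUnitW_mem' : (szUnitW : GL (Fin 4) F) ∈ Sz F (2 ^ (m + 1)) :=
  szUnitW_mem (by positivity)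

/-- The last column of an element is zero above the diagonal, or proportional to a first column of a unipotent. -/
theorem sz_column [Finite F] {g : GL (Fin 4) F} (hg : g ∈ Sz F (2 ^ (m + 1))) :
    (g.val 0 3 = 0 → g.val 1 3 = 0 ∧ g.val 2 3 = 0) ∧
      (g.val 0 3 ≠ 0 → ∀ i, g.val i 3 = g.val 0 3 * szUM m (g.val 1 3 / g.val 0 3) (g.val 2 3 / g.val 0 3) i 0) := by
  obtain ⟨hsp, hst⟩ := Recognition.mem_Sz_imp hg
  set A := (g : Matrix (Fin 4) (Fin 4) F)
  have h2 : (2 : F) = 0 := CharTwo.two_eq_zero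
  have s0 := congrFun (congrFun hst 0) 3
  have s1 := congrFun (congrFun hst 1) 3
  have s2 := congrFun (congrFun hst 2) 3
  have s3 := congrFun (congrFun hst 3) 3
  simp only [star4, pairOf, Matrix.of_apply, Matrix.map_apply, ← szTh_apply, Matrix.cons_val_zero,
    Matrix.cons_val_one, Matrix.cons_val] at s0 s1 s2 s3
  have e := Recognition.sp4_col_rel hsp 2 3
  simp [Recognition.antiJ] at e
  set s := A 0 2 * A 3 3 - A 3 2 * A 0 3 with hs
  have e1 : s * A 0 3 + szTh m (A 1 3) * A 1 3 + szTh m (A 0 3) * A 2 3 = 0 := by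
    rw [← s0, ← s1, hs]
    linear_combination A 0 3 * e + (A 1 2 * A 0 3 * A 2 3 * 0) +
      (A 1 3 * A 0 2 * A 2 3 - A 1 3 * A 2 2 * A 0 3) * h2 + (A 2 2 * A 1 3 * A 0 3 - A 1 2 * A 2 3 * A 0 3) * h2
  have e2 : szTh m (A 2 3) * A 0 3 + s * A 1 3 + szTh m (A 0 3) * A 3 3 = 0 := by
    rw [← s0, ← s2, hs]
    linear_combination (A 0 2 * A 1 3 * A 3 3 - A 1 3 * A 3 2 * A 0 3) * h2
  have e3 : s * A 2 3 + szTh m (A 1 3) * A 3 3 + szTh m (A 3 3) * A 0 3 = 0 := by
    rw [← s1, ← s3, hs]
    linear_combination (A 0 2 * A 2 3 * A 3 3 - A 2 3 * A 3 2 * A 0 3) * h2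
  refine ⟨fun h0 => ?_, fun hc => ?_⟩
  · simp only [h0, map_zero] at e1 e2 e3
    have h1 : A 1 3 = 0 := by
      have : szTh m (A 1 3) * A 1 3 = 0 := by linear_combination e1
      rcases mul_eq_zero.mp this with h | h
      · exact (map_eq_zero _).mp h
      · exact h
    refine ⟨h1, ?_⟩
    simp only [h1, map_zero] at e3
    have e4 : szTh m (A 2 3) * A 1 3 + s * A 2 3 + szTh m (A 1 3) * A 3 3 = 0 := by
      rw [h1, map_zero]; linear_combination e3
    by_cases hsz : s = 0
    · have hP12 : A 1 2 * A 2 3 - A 2 2 * A 1 3 = 0 := by linear_combination e - hsz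
      by_contra hne
      rw [h1] at hP12
      have h12 : A 1 2 = 0 := by
        have : A 1 2 * A 2 3 = 0 := by linear_combination hP12
        exact (mul_eq_zero.mp this).resolve_right hne
      rw [h1, h12] at s2
      exact hne ((map_eq_zero (szTh m)).mp (by rw [← s2]; ring))
    · have : s * A 2 3 = 0 := by linear_combination e3
      exact (mul_eq_zero.mp this).resolve_left hsz
  · set a := A 1 3 / A 0 3 with ha
    set b := A 2 3 / A 0 3 with hb
    have ha' : A 1 3 = a * A 0 3 := by rw [ha, div_mul_cancel₀ _ hc]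
    have hb' : A 2 3 = b * A 0 3 := by rw [hb, div_mul_cancel₀ _ hc]
    have h3 : A 3 3 = A 0 3 * (szTh m b + a * a * szTh m a + a * b) := by
      rw [ha', hb', map_mul] at e1
      rw [ha', hb', map_mul] at e2
      have hθc : szTh m (A 0 3) ≠ 0 := (map_ne_zero _).mpr hc
      apply mul_left_cancel₀ hθc
      linear_combination e2 + a * e1 - (szTh m b * szTh m (A 0 3) * A 0 3 + s * a * A 0 3
        + a * a * szTh m a * szTh m (A 0 3) * A 0 3 + a * b * szTh m (A 0 3) * A 0 3) * h2
    intro i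
    fin_cases i
    · simp [szUM, A]
    · simp only [szUM]; simpa [mul_comm] using ha'
    · simp only [szUM]; simpa [mul_comm] using hb'
    · simp only [szUM]; simpa using h3

/-- Elements fixing the last basis line are in the Borel subgroup. -/
theorem sz_lower [Finite F] {g : GL (Fin 4) F} (hg : g ∈ Sz F (2 ^ (m + 1))) (h0 : g.val 0 3 = 0) :
    ∃ (a b : F) (k : F) (hk : k ≠ 0), g = szU' hθ a b * szH' (m := m) hk := by
  obtain ⟨h1, h2⟩ := (sz_column hθ hg).1 h0
  have hk : g.val 3 3 ≠ 0 := by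
    intro h3
    have hdet : g.val.det ≠ 0 := ((Matrix.isUnit_iff_isUnit_det g.val).mp g.isUnit).ne_zero
    exact hdet (Matrix.det_eq_zero_of_column_eq_zero 3 (fun i => by fin_cases i <;> assumption))
  obtain ⟨g', hg', e33, h03, h13, h23, hgg⟩ : ∃ g' : GL (Fin 4) F, g' ∈ Sz F (2 ^ (m + 1)) ∧ g'.val 3 3 = 1 ∧
      g'.val 0 3 = 0 ∧ g'.val 1 3 = 0 ∧ g'.val 2 3 = 0 ∧ g = g' * szH' (m := m) (inv_ne_zero hk) := by
    refine ⟨g * szH' (m := m) hk, mul_mem hg (szH'_mem hθ hk), ?_, ?_, ?_, ?_, ?_⟩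
    · simp [szH', szHM, Matrix.mul_diagonal, hk]
    · simp [szH', szHM, Matrix.mul_diagonal, h0]
    · simp [szH', szHM, Matrix.mul_diagonal, h1]
    · simp [szH', szHM, Matrix.mul_diagonal, h2]
    · have : (szH' (m := m) (inv_ne_zero hk) : GL (Fin 4) F) = (szH' (m := m) hk)⁻¹ := Units.ext rfl
      rw [this, mul_inv_cancel_right]
  refine ⟨g'.val 1 0, g'.val 2 0, _, inv_ne_zero hk, ?_⟩
  refine hgg.trans (congrArg (· * _) ?_)
  obtain ⟨hsp, hst⟩ := Recognition.mem_Sz_imp hg'
  have r := fun j => Recognition.sp4_col_rel hsp j 3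
  have r00 := r 0; have r01 := r 1; have r02 := r 2
  simp [Recognition.antiJ, h03, h13, h23, e33] at r00 r01 r02
  have q1 := congrFun (congrFun hst 2) 3
  have q2 := congrFun (congrFun hst 3) 3
  have q3 := congrFun (congrFun hst 2) 2
  have q4 := congrFun (congrFun hst 3) 2
  simp only [star4, pairOf, Matrix.of_apply, Matrix.map_apply, ← szTh_apply, Matrix.cons_val_zero,
    Matrix.cons_val_one, Matrix.cons_val, h03, h13, h23, e33, map_zero, map_one, mul_zero, sub_zero, mul_one]
    at q1 q2 q3 q4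
  rw [q2, map_one] at q3
  have c02 := Recognition.sp4_col_rel hsp 0 2
  have c01 := Recognition.sp4_col_rel hsp 0 1
  simp [Recognition.antiJ, r00, r01, r02, q1, q2, q3, q4, CharTwo.sub_eq_add] at c02 c01
  have c32 : g'.val 3 2 = g'.val 1 0 := CharTwo.add_eq_zero.mp c02
  rw [c32] at c01
  have hcol : g'.val 3 0 = szTh m (g'.val 2 0) + g'.val 1 0 * g'.val 1 0 * szTh m (g'.val 1 0) + g'.val 1 0 * g'.val 2 0 := by
    have hw := (sz_column hθ (mul_mem hg' (szUnitW_mem' hθ))).2
    have hv : ∀ i, (g' * szUnitW).val i 3 = g'.val i 0 := fun i => by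
      simp [szUnitW, szW, Matrix.mul_apply, Fin.sum_univ_four]
    rw [hv 0, r00] at hw
    have := hw one_ne_zero 3
    rw [hv 3, hv 1, hv 2, div_one, div_one, one_mul] at this
    simpa [szUM] using this
  apply Units.ext
  ext i j
  fin_cases i <;> fin_cases j <;>
    simp [szU', szUM, r00, r01, r02, h03, h13, h23, e33, q1, q2, q3, q4, c32, hcol]
  linear_combination c01 - (g'.val 2 0 + g'.val 1 0 * szTh m (g'.val 1 0)) * (CharTwo.two_eq_zero : (2 : F) = 0)

/-- Anything containing the unipotent group, the torus and the Weyl element contains the group. -/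
theorem sz_le_of_gens [Finite F] (K : Subgroup (GL (Fin 4) F)) (hU : ∀ a b, szU' hθ a b ∈ K)
    (hH : ∀ (k : F) (hk : k ≠ 0), szH' (m := m) hk ∈ K) (hW : szUnitW ∈ K) : Sz F (2 ^ (m + 1)) ≤ K := by
  intro g hg
  have hlow : ∀ x ∈ Sz F (2 ^ (m + 1)), x.val 0 3 = 0 → x ∈ K := fun x hx h => by
    obtain ⟨a, b, k, hk, rfl⟩ := sz_lower hθ hx h
    exact mul_mem (hU a b) (hH k hk)
  by_cases h : g.val 0 3 = 0
  · exact hlow g hg h
  set a := g.val 1 3 / g.val 0 3
  set b := g.val 2 3 / g.val 0 3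
  have hmem : szUnitW * ((szU' hθ a b)⁻¹ * g) ∈ Sz F (2 ^ (m + 1)) :=
    mul_mem (szUnitW_mem' hθ) (mul_mem (inv_mem (szU'_mem hθ a b)) hg)
  have hcol : (fun i => g.val i 3) = g.val 0 3 • (fun i => (szU' hθ a b).val i 0) :=
    funext fun i => (sz_column hθ hg).2 h i
  have h0 : (szUnitW * ((szU' hθ a b)⁻¹ * g)).val 0 3 = 0 := by
    have e : ∀ i, ((szU' hθ a b)⁻¹ * g).val i 3 = g.val 0 3 * ((szU' hθ a b)⁻¹ * szU' hθ a b).val i 0 := fun i => by
      simp only [Units.val_mul, Matrix.mul_apply, Finset.mul_sum]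
      refine Finset.sum_congr rfl fun j _ => ?_
      rw [congrFun hcol j, Pi.smul_apply, smul_eq_mul]
      ring
    rw [Units.val_mul, Matrix.mul_apply, Fin.sum_univ_four, e, e, e, e, inv_mul_cancel]
    simp [szUnitW, szW]
  have := hlow _ hmem h0
  rwa [Subgroup.mul_mem_cancel_left _ hW, Subgroup.mul_mem_cancel_left _ (inv_mem (hU a b))] at this

end Cfsg.Agent.Lib.KnownA
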