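import Mathlib
import Cfsg.Agent.Lib.KnownA.SuzukiBorel

/-! The minimal degree of a nontrivial representation of a Suzuki group, by restriction to the Borel subgroup. -/

set_option autoImplicit false
set_option maxHeartbeats 400000

namespace Cfsg.Agent.Lib.KnownA

open Matrix Cfsg.Lie

variable {F : Type*} [Field F] [CharP F 2] {m : ℕ} (hθ : ∀ x : F, szTh m (szTh m x) = x * x)

include hθ

theorem szH'_mul_szU' {k : F} (hk : k ≠ 0) (a b : F) :
    szH' (m := m) hk * szU' hθ a b = szU' hθ (a * szTh m k / (k * k)) (b / szTh m k) * szH' (m := m) hk := by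
  have h0 : szTh m k ≠ 0 := (map_ne_zero _).mpr hk
  apply Units.ext
  ext i j
  fin_cases i <;> fin_cases j <;>
    simp [szH', szU', szHM, szUM, Matrix.diagonal_mul, Matrix.mul_diagonal, map_div₀, map_mul, hθ] <;> field_simp

theorem szU'_mul (a b a' b' : F) :
    szU' hθ a b * szU' hθ a' b' = szU' hθ (a + a') (b + b' + szTh m a * a') :=
  Units.ext (szUM_mul hθ a b a' b')

theorem szU'_zero : szU' hθ 0 0 = 1 := Units.ext szUM_zero

/-- A normal subgroup containing the central root elements is everything. -/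
theorem sz_le_of_central [Finite F] (hq : ∃ k : F, k ≠ 0 ∧ k ≠ 1) (M : Subgroup (GL (Fin 4) F))
    (hconj : ∀ g ∈ Sz F (2 ^ (m + 1)), ∀ x ∈ M, g * x * g⁻¹ ∈ M) (hZ : ∀ b, szU' hθ 0 b ∈ M) :
    Sz F (2 ^ (m + 1)) ≤ M := by
  have hWW : (szUnitW : GL (Fin 4) F) * szUnitW = 1 := Units.ext szW_mul
  have hW : (szUnitW : GL (Fin 4) F) ∈ M := by
    set k := szUnitW * (szU' hθ 1 1)⁻¹ * szUnitW * szU' hθ 1 1 * szUnitW with hk
    have hmem : k ∈ Sz F (2 ^ (m + 1)) :=
      mul_mem (mul_mem (mul_mem (mul_mem (szUnitW_mem' hθ) (inv_mem (szU'_mem hθ 1 1))) (szUnitW_mem' hθ))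
        (szU'_mem hθ 1 1)) (szUnitW_mem' hθ)
    have hWi : (szUnitW : GL (Fin 4) F)⁻¹ = szUnitW := inv_eq_of_mul_eq_one_right hWW
    set g := szUnitW * (szU' hθ 1 1)⁻¹ with hgdef
    have hkc : k = g * szUnitW * g⁻¹ := by
      rw [hk, hgdef, _root_.mul_inv_rev, inv_inv, hWi]
      simp only [mul_assoc]
    have hk2 : k * k = 1 := by
      rw [hkc]
      calc g * szUnitW * g⁻¹ * (g * szUnitW * g⁻¹) = g * (szUnitW * szUnitW) * g⁻¹ := by group
        _ = 1 := by rw [hWW, mul_one, mul_inv_cancel]
    have h03 : k.val 0 3 = 0 := by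
      rw [hk]
      have h2 : (2 : F) = 0 := CharTwo.two_eq_zero
      rw [hgdef]
      simp [szUnitW, szW, szU', szUM, Matrix.mul_apply, Fin.sum_univ_four]
      ring_nf
      linear_combination 10 * h2
    obtain ⟨a, b, l, hl, hkl⟩ := sz_lower hθ hmem h03
    have e33 := congrArg (fun x : GL (Fin 4) F => x.val 3 3) hk2
    rw [hkl] at e33
    simp only [Units.val_mul, szH', szHM] at e33
    simp [Matrix.mul_diagonal, Matrix.vecMul_diagonal, szU', szH', szHM, szUM, Matrix.mul_apply, Fin.sum_univ_four] at e33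
    have hl1 : l = 1 := by
      have : (1 / l - 1) ^ 2 = 0 := by
        rw [CharTwo.sub_eq_add, add_pow_char (p := 2), one_pow, sq, one_div, e33, CharTwo.add_self_eq_zero]
      have h := pow_eq_zero_iff (two_ne_zero) |>.mp this
      rw [sub_eq_zero, div_eq_one_iff_eq hl] at h
      exact h.symm
    subst hl1
    have hH1 : (szH' (m := m) hl : GL (Fin 4) F) = 1 := by
      apply Units.ext; ext i j
      fin_cases i <;> fin_cases j <;> simp [szH', szHM]
    rw [hH1, mul_one] at hkl
    have e20 := congrArg (fun x : GL (Fin 4) F => x.val 2 0) hk2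
    rw [hkl, szU'_mul] at e20
    simp [szU', szUM, CharTwo.add_self_eq_zero] at e20
    have ha : a = 0 := e20
    subst ha
    have hg : g ∈ Sz F (2 ^ (m + 1)) :=
      mul_mem (szUnitW_mem' hθ) (inv_mem (szU'_mem hθ 1 1))
    have h := hconj _ (inv_mem hg) _ (hkl ▸ hZ b : k ∈ M)
    rw [hkc] at h
    simpa [mul_assoc] using h
  have hH : ∀ (k : F) (hk : k ≠ 0), szH' (m := m) hk ∈ M := by
    intro k hk
    obtain ⟨j, hj⟩ := (Finite.injective_iff_surjective.mp (frobenius_inj F 2)) k
    rw [frobenius_def] at hj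
    have hj0 : j ≠ 0 := fun h => hk (by rw [← hj, h]; ring)
    have h1 := M.mul_mem (hconj _ (szH'_mem hθ hj0) _ hW) hW
    have e : szH' (m := m) hj0 * szUnitW * (szH' (m := m) hj0)⁻¹ * szUnitW = szH' (m := m) hk := by
      have h0 : szTh m j ≠ 0 := (map_ne_zero _).mpr hj0
      have hi : (szH' (m := m) hj0 : GL (Fin 4) F)⁻¹ = szH' (m := m) (inv_ne_zero hj0) := Units.ext rfl
      rw [hi]
      apply Units.ext; ext i l
      subst hj
      fin_cases i <;> fin_cases l <;>
        simp [szH', szHM, szUnitW, szW, Matrix.diagonal_mul, Matrix.mul_diagonal, Matrix.mul_apply,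
          Fin.sum_univ_four, map_inv₀, map_pow] <;> field_simp
    rwa [e] at h1
  refine sz_le_of_gens hθ M (fun a b => ?_) hH hW
  obtain ⟨k, hk, hk1⟩ := hq
  have hρ : szTh m k / (k * k) + 1 ≠ 0 := by
    intro h
    rw [CharTwo.add_eq_zero, div_eq_one_iff_eq (mul_ne_zero hk hk)] at h
    have h2 := congrArg (szTh m) h
    rw [hθ, map_mul, h] at h2
    have : (k - 1) ^ 2 = 0 := by
      rw [CharTwo.sub_eq_add, add_pow_char (p := 2), one_pow, sq]
      have : k * k * (k * k) = k * k * 1 := by rw [mul_one]; exact h2.symm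
      rw [mul_left_cancel₀ (mul_ne_zero hk hk) this, CharTwo.add_self_eq_zero]
    exact hk1 (sub_eq_zero.mp (pow_eq_zero_iff two_ne_zero |>.mp this))
  set a₀ := a / (szTh m k / (k * k) + 1)
  have h1 : szH' (m := m) hk * (szU' hθ a₀ 0 * (szH' (m := m) hk)⁻¹ * (szU' hθ a₀ 0)⁻¹) ∈ M := by
    refine M.mul_mem (hH k hk) ?_
    exact hconj _ (szU'_mem hθ a₀ 0) _ (inv_mem (hH k hk))
  rw [← mul_assoc, ← mul_assoc, szH'_mul_szU', mul_inv_cancel_right, show (szU' hθ a₀ 0)⁻¹ = szU' hθ a₀ (0 + szTh m a₀ * a₀) from Units.ext rfl,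
    szU'_mul] at h1
  have ha : a₀ * szTh m k / (k * k) + a₀ = a := by
    rw [mul_div_assoc, ← mul_add_one, div_mul_cancel₀ _ hρ]
  rw [ha] at h1
  set c := 0 / szTh m k + (0 + szTh m a₀ * a₀) + szTh m (a₀ * szTh m k / (k * k)) * a₀
  have h2 := M.mul_mem h1 (hZ (c + b))
  rw [szU'_mul, mul_zero, add_zero, add_zero, ← add_assoc, CharTwo.add_self_eq_zero, zero_add] at h2
  exact h2

section rep

open Module

variable {V : Type*} [AddCommGroup V] [Module ℂ V]

omit hθ in
/-- The common eigenspace of a character. -/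
def szW_eig (E : F → Module.End ℂ V) (χ : AddChar F ℂ) : Submodule ℂ V where
  carrier := {v | ∀ b, E b v = χ b • v}
  add_mem' {v w} hv hw b := by rw [map_add, hv b, hw b, smul_add]
  zero_mem' b := by rw [map_zero, smul_zero]
  smul_mem' c v hv b := by rw [map_smul, hv b, smul_comm]

omit hθ in
theorem addChar_self (χ : AddChar F ℂ) (b : F) : χ b * χ b = 1 := by
  rw [← AddChar.map_add_eq_mul, CharTwo.add_self_eq_zero, AddChar.map_zero_eq_one]

omit hθ in
theorem sum_char_mul [Fintype F] (χ ψ : AddChar F ℂ) [Decidable (χ = ψ)] :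
    ∑ b, ψ b * χ b = if χ = ψ then (Fintype.card F : ℂ) else 0 := by
  classical
  have h := AddChar.sum_eq_ite (ψ * χ)
  rw [show ∑ b, ψ b * χ b = ∑ b, (ψ * χ) b from rfl, h]
  have hiff : ψ * χ = 0 ↔ χ = ψ := by
    constructor
    · intro h0
      ext b
      have hb : ψ b * χ b = 1 := by simpa using DFunLike.congr_fun h0 b
      calc χ b = ψ b * ψ b * χ b := by rw [addChar_self, one_mul]
        _ = ψ b := by rw [mul_assoc, hb, mul_one]
    · rintro rfl
      ext b
      simpa using addChar_self χ b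
  simp only [hiff]

theorem sz_commutator (a a' : F) :
    szU' hθ a 0 * szU' hθ a' 0 = szU' hθ 0 (szTh m a * a' + szTh m a' * a) * (szU' hθ a' 0 * szU' hθ a 0) := by
  rw [szU'_mul, szU'_mul, szU'_mul]
  congr 1
  · ring
  · simp only [add_zero, zero_add, map_zero, zero_mul, add_assoc, CharTwo.add_self_eq_zero]

theorem radical_card [Fintype F] (χ : AddChar F ℂ) (hχ : χ ≠ 1) (R : AddSubgroup F)
    (hR : ∀ a ∈ R, ∀ a', χ (szTh m a' * a + szTh m a * a') = 1) : Nat.card R ≤ 2 := by
  classical
  let f : F →+ F := (szTh m).toAddMonoidHom + AddMonoidHom.id F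
  have hk : Nat.card f.ker ≤ 2 := by
    have hsub : ∀ x : f.ker, (x : F) = 0 ∨ (x : F) = 1 := by
      intro x
      have hx : szTh m (x : F) + x = 0 := x.2
      rw [CharTwo.add_eq_zero] at hx
      have h2 := hθ (x : F)
      rw [hx, hx] at h2
      rcases eq_or_ne (x : F) 0 with h | h
      · exact Or.inl h
      · exact Or.inr (mul_left_cancel₀ h (h2.symm.trans (mul_one _).symm))
    have : Function.Injective (fun x : f.ker => decide ((x : F) = 0)) := by
      intro x y h
      rcases hsub x with hx | hx <;> rcases hsub y with hy | hy <;> first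
        | exact Subtype.ext (hx.trans hy.symm)
        | (exfalso; simp [hx, hy] at h)
    simpa using Nat.card_le_card_of_injective _ this
  have hidx : f.range.index ≤ 2 := by
    have h1 := f.range.index_mul_card
    have h2 := f.ker.index_mul_card
    rw [AddSubgroup.index_ker f] at h2
    have h3 : f.range.index = Nat.card f.ker :=
      mul_right_cancel₀ (Nat.card_pos (α := f.range)).ne' (by rw [h1, mul_comm, h2])
    omega
  have huniq : ∀ w w' : F, w ≠ 0 → w' ≠ 0 → (∀ y ∈ f.range, χ (w * y) = 1) → (∀ y ∈ f.range, χ (w' * y) = 1) →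
      ∀ b, χ (w * b) = χ (w' * b) := by
    intro w w' hw hw' h h' b
    have key : ∀ u : F, u ≠ 0 → (∀ y ∈ f.range, χ (u * y) = 1) → ∀ y, y ∉ f.range → χ (u * y) = -1 := by
      intro u hu hu' y hy
      rcases mul_self_eq_one_iff.mp (addChar_self χ (u * y)) with e | e
      · exfalso
        apply hχ
        ext c
        rw [AddChar.one_apply]
        have hi2 : f.range.index = 2 := by
          have := AddSubgroup.index_ne_zero_of_finite (H := f.range)
          have : f.range.index ≠ 1 := fun h1 => hy (AddSubgroup.index_eq_one.mp h1 ▸ AddSubgroup.mem_top y)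
          omega
        have hc : χ (u * (c / u)) = 1 := by
          by_cases hcR : c / u ∈ f.range
          · exact hu' _ hcR
          · have hsum : c / u + y ∈ f.range := (AddSubgroup.add_mem_iff_of_index_two hi2).mpr (iff_of_false hcR hy)
            have := hu' _ hsum
            rwa [mul_add, AddChar.map_add_eq_mul, e, mul_one] at this
        rwa [mul_div_cancel₀ _ hu] at hc
      · exact e
    by_cases hb : b ∈ f.range
    · rw [h b hb, h' b hb]
    · rw [key w hw h b hb, key w' hw' h' b hb]
  have hall : ∀ a ∈ R, ∀ a' ∈ R, a ≠ 0 → a' ≠ 0 → a = a' := by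
    intro a ha a' ha' h0 h0'
    have hprop : ∀ c ∈ R, ∀ y ∈ f.range, χ (c * szTh m c * y) = 1 := by
      rintro c hc _ ⟨x, rfl⟩
      have := hR c hc (c * x)
      rw [map_mul] at this
      rw [← this]
      congr 1
      change c * szTh m c * (szTh m x + x) = _
      ring
    have hne : ∀ c : F, c ≠ 0 → c * szTh m c ≠ 0 := fun c hc => mul_ne_zero hc ((map_ne_zero _).mpr hc)
    have h := huniq _ _ (hne a h0) (hne a' h0') (hprop a ha) (hprop a' ha')
    have heq : a * szTh m a = a' * szTh m a' := by
      by_contra hd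
      apply hχ
      ext c
      rw [AddChar.one_apply]
      have hd' : a * szTh m a + a' * szTh m a' ≠ 0 := fun e => hd (CharTwo.add_eq_zero.mp e)
      have h2 := h (c / (a * szTh m a + a' * szTh m a'))
      have h3 : χ ((a * szTh m a + a' * szTh m a') * (c / (a * szTh m a + a' * szTh m a'))) = 1 := by
        rw [add_mul, AddChar.map_add_eq_mul, h2, addChar_self]
      rwa [mul_div_cancel₀ _ hd'] at h3
    have hr : a / a' * szTh m (a / a') = 1 := by
      rw [map_div₀, div_mul_div_comm, heq, div_self (hne a' h0')]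
    have hr2 := congrArg (szTh m) hr
    rw [map_mul, hθ, map_one] at hr2
    have : a / a' = 1 := by linear_combination hr2 - (a / a') * hr
    exact (div_eq_one_iff_eq h0').mp this
  have : Function.Injective (fun a : R => decide ((a : F) = 0)) := by
    intro x y h
    rcases eq_or_ne (x : F) 0 with hx | hx <;> rcases eq_or_ne (y : F) 0 with hy | hy
    · exact Subtype.ext (hx.trans hy.symm)
    · simp [hx, hy] at h
    · simp [hx, hy] at h
    · exact Subtype.ext (hall _ x.2 _ y.2 hx hy)
  simpa using Nat.card_le_card_of_injective _ this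

theorem heisenberg_bound [Fintype F] [FiniteDimensional ℂ V] (hq : Fintype.card F = 2 ^ (2 * m + 1))
    (E A : F → Module.End ℂ V) (hE : ∀ b c, E (b + c) = E b * E c) (hE0 : E 0 = 1)
    (hscale : ∀ t : F, t ≠ 0 → ∃ g : Module.End ℂ V, Function.Injective g ∧ ∀ b v, g (E b v) = E (t * b) (g v))
    (hAinj : ∀ a, Function.Injective (A a)) (hAE : ∀ a b v, E b (A a v) = A a (E b v))
    (hcomm : ∀ a a' v, A a (A a' v) = E (szTh m a * a' + szTh m a' * a) (A a' (A a v)))
    (hne : ∃ b, E b ≠ 1) : 2 ^ m * (2 ^ (2 * m + 1) - 1) ≤ finrank ℂ V := by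
  classical
  let P : AddChar F ℂ → Module.End ℂ V := fun χ => ∑ b, χ b • E b
  have hP : ∀ χ c v, E c (P χ v) = χ c • P χ v := by
    intro χ c v
    simp only [P, LinearMap.sum_apply, LinearMap.smul_apply, map_sum, map_smul, Finset.smul_sum, smul_smul]
    refine Fintype.sum_equiv (Equiv.addLeft c) _ _ fun b => ?_
    rw [← Module.End.mul_apply, ← hE, Equiv.coe_addLeft, AddChar.map_add_eq_mul, ← mul_assoc, addChar_self, one_mul]
  obtain ⟨χ, hχ, v₀, hv₀, hv₀ne⟩ : ∃ χ : AddChar F ℂ, χ ≠ 1 ∧ ∃ v ∈ szW_eig E χ, v ≠ 0 := by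
    by_contra hcon
    push Not at hcon
    have hzero : ∀ χ : AddChar F ℂ, χ ≠ 1 → P χ = 0 := fun χ h =>
      LinearMap.ext fun v => hcon χ h (P χ v) (fun c => hP χ c v)
    have hsum : ∑ χ : AddChar F ℂ, P χ = (Fintype.card F : ℂ) • (1 : Module.End ℂ V) := by
      simp only [P]
      rw [Finset.sum_comm]
      simp_rw [← Finset.sum_smul, AddChar.sum_apply_eq_ite]
      simp [hE0]
    rw [Finset.sum_eq_single (1 : AddChar F ℂ) (fun χ _ h => hzero χ h) (by simp)] at hsum
    obtain ⟨b, hb⟩ := hne
    refine hb (LinearMap.ext fun v => ?_)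
    have h := hP 1 b v
    rw [hsum, AddChar.one_apply, one_smul, LinearMap.smul_apply, Module.End.one_apply, map_smul] at h
    exact smul_right_injective V (Nat.cast_ne_zero.mpr Fintype.card_ne_zero) h
  have hdim : ∀ ψ : AddChar F ℂ, ψ ≠ 1 → szW_eig E ψ ≠ ⊥ → 2 ^ m ≤ finrank ℂ (szW_eig E ψ) := by
    intro ψ hψ hW
    set W := szW_eig E ψ
    have hAW : ∀ a, ∀ v ∈ W, A a v ∈ W := fun a v hv b => by rw [hAE, hv b, map_smul]
    let R : AddSubgroup F :=
      { carrier := {a | ∀ a', ψ (szTh m a' * a + szTh m a * a') = 1}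
        zero_mem' := fun a' => by simp
        add_mem' := fun {a b} ha hb a' => by
          rw [map_add (szTh m), show szTh m a' * (a + b) + (szTh m a + szTh m b) * a' =
            (szTh m a' * a + szTh m a * a') + (szTh m a' * b + szTh m b * a') by ring, AddChar.map_add_eq_mul, ha a', hb a', one_mul]
        neg_mem' := fun {a} ha => by rw [CharTwo.neg_eq]; exact ha }
    have hR : Nat.card R ≤ 2 := radical_card hθ ψ hψ R fun a ha => ha
    let Λ : F ⧸ R → (W →ₗ[ℂ] W) := fun x => (A x.out).restrict (hAW x.out)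
    have hli : LinearIndependent ℂ Λ := by
      rw [Fintype.linearIndependent_iff]
      intro c hc y
      have hsurj : ∀ a, ∀ w ∈ W, ∃ v ∈ W, A a v = w := by
        intro a w hw
        have hs : Function.Surjective ((A a).restrict (hAW a)) :=
          LinearMap.injective_iff_surjective.mp (fun x z h => Subtype.ext (hAinj a (congrArg Subtype.val h)))
        obtain ⟨v, hv⟩ := hs ⟨w, hw⟩
        exact ⟨v, v.2, congrArg Subtype.val hv⟩
      have hkey : ∀ a' : F, ∀ w ∈ W, ∑ x, (c x * ψ (szTh m a' * x.out + szTh m x.out * a')) • A x.out w = 0 := by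
        intro a' w hw
        obtain ⟨v, hv, rfl⟩ := hsurj a' w hw
        have h0 := congrArg (fun L : W →ₗ[ℂ] W => A a' ((L ⟨v, hv⟩ : W) : V)) hc
        simp only [Λ, LinearMap.sum_apply, LinearMap.smul_apply, LinearMap.zero_apply, Submodule.coe_sum,
          Submodule.coe_smul, LinearMap.restrict_apply, map_sum, map_smul, ZeroMemClass.coe_zero, map_zero] at h0
        rw [← h0]
        refine Finset.sum_congr rfl fun x _ => ?_
        rw [hcomm a' x.out v, hAW x.out _ (hAW a' v hv), smul_smul]
      obtain ⟨w, hw, hw0⟩ := Submodule.exists_mem_ne_zero_of_ne_bot hW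
      have h1 : ∑ a' : F, ψ (szTh m a' * y.out + szTh m y.out * a') •
          ∑ x, (c x * ψ (szTh m a' * x.out + szTh m x.out * a')) • A x.out w = 0 := by
        simp [hkey _ w hw]
      simp only [Finset.smul_sum, smul_smul] at h1
      rw [Finset.sum_comm] at h1
      simp_rw [← Finset.sum_smul] at h1
      rw [Finset.sum_eq_single y] at h1
      · have e : ∀ a' : F, ψ (szTh m a' * y.out + szTh m y.out * a') * (c y * ψ (szTh m a' * y.out + szTh m y.out * a')) = c y :=
          fun a' => by rw [mul_left_comm, addChar_self, mul_one]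
        simp only [e, Finset.sum_const, Finset.card_univ, nsmul_eq_mul, smul_eq_zero, mul_eq_zero,
          Nat.cast_eq_zero, Fintype.card_ne_zero, false_or] at h1
        exact h1.resolve_right fun h => hw0 (hAinj y.out (by rw [h, map_zero]))
      · intro x _ hxy
        let φ : AddChar F ℂ :=
          { toFun := fun a' => ψ (szTh m a' * (x.out + y.out) + szTh m (x.out + y.out) * a')
            map_zero_eq_one' := by simp
            map_add_eq_mul' := fun a b => by rw [← AddChar.map_add_eq_mul, map_add (szTh m)]; congr 1; ring }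
        have hφ : φ ≠ 0 := by
          intro h
          apply hxy
          have hmem : x.out + y.out ∈ R := fun a' => by
            have := DFunLike.congr_fun h a'
            simpa [φ] using this
          rw [← QuotientAddGroup.out_eq' x, ← QuotientAddGroup.out_eq' y, QuotientAddGroup.eq,
            CharTwo.neg_eq]
          exact hmem
        have hs : ∑ a', φ a' = 0 := by rw [AddChar.sum_eq_ite, if_neg hφ]
        rw [show (∑ a' : F, ψ (szTh m a' * y.out + szTh m y.out * a') * (c x * ψ (szTh m a' * x.out + szTh m x.out * a'))) =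
            c x * ∑ a', φ a' by
          rw [Finset.mul_sum]
          refine Finset.sum_congr rfl fun a' _ => ?_
          rw [mul_left_comm]
          congr 1
          change _ = ψ _
          rw [← AddChar.map_add_eq_mul, map_add (szTh m)]
          congr 1
          ring, hs, mul_zero, zero_smul]
      · simp
    have h2 := hli.fintype_card_le_finrank
    rw [Module.finrank_linearMap] at h2
    have h3 := R.card_eq_card_quotient_mul_card_addSubgroup
    rw [Nat.card_eq_fintype_card (α := F), hq, Nat.card_eq_fintype_card (α := F ⧸ R)] at h3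
    have h4 : 2 ^ (2 * m + 1) ≤ finrank ℂ W * finrank ℂ W * 2 :=
      h3.le.trans (Nat.mul_le_mul h2 hR)
    rw [pow_succ, show 2 * m = m + m by ring, pow_add] at h4
    exact Nat.mul_self_le_mul_self_iff.mp (Nat.le_of_mul_le_mul_right h4 (by norm_num))
  let χt : {t : F // t ≠ 0} → AddChar F ℂ := fun t => χ.mulShift (t : F)
  have hinjχ : Function.Injective χt := by
    intro t s h
    by_contra hts
    apply hχ
    ext c
    rw [AddChar.one_apply]
    have hne' : (t : F) + s ≠ 0 := fun e => hts (Subtype.ext (CharTwo.add_eq_zero.mp e))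
    have h2 := DFunLike.congr_fun h (c / ((t : F) + s))
    simp only [χt, AddChar.mulShift_apply] at h2
    have h3 : χ (((t : F) + s) * (c / ((t : F) + s))) = 1 := by
      rw [add_mul, AddChar.map_add_eq_mul, h2, addChar_self]
    rwa [mul_div_cancel₀ _ hne'] at h3
  have hWt : ∀ t, χt t ≠ 1 ∧ szW_eig E (χt t) ≠ ⊥ := by
    rintro ⟨t, ht⟩
    refine ⟨fun h => hχ ?_, ?_⟩
    · ext c
      have := DFunLike.congr_fun h (c / t)
      simpa [χt, AddChar.mulShift_apply, mul_div_cancel₀ _ ht] using this
    · obtain ⟨g, hg, hgE⟩ := hscale t⁻¹ (inv_ne_zero ht)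
      rw [Submodule.ne_bot_iff]
      refine ⟨g v₀, fun b => ?_, fun h => hv₀ne (hg (h.trans (map_zero g).symm))⟩
      have h := hgE (t * b) v₀
      rw [hv₀ (t * b), map_smul, inv_mul_cancel_left₀ ht] at h
      rw [← h]
      rfl
  let S : (Π t, szW_eig E (χt t)) →ₗ[ℂ] V :=
    { toFun := fun w => ∑ t, (w t : V)
      map_add' := fun w z => by simp [Finset.sum_add_distrib]
      map_smul' := fun c w => by simp [Finset.smul_sum] }
  have hS : Function.Injective S := by
    rw [← LinearMap.ker_eq_bot, LinearMap.ker_eq_bot']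
    intro w hw
    funext s
    have h := congrArg (P (χt s)) hw
    rw [map_zero] at h
    simp only [S, LinearMap.coe_mk, AddHom.coe_mk, map_sum] at h
    have hPe : ∀ t, P (χt s) (w t : V) = (if χt t = χt s then (Fintype.card F : ℂ) else 0) • (w t : V) := by
      intro t
      rw [← sum_char_mul, Finset.sum_smul]
      simp only [P, LinearMap.sum_apply, LinearMap.smul_apply]
      exact Finset.sum_congr rfl fun b _ => by rw [(w t).2 b, smul_smul]
    simp only [hPe] at h
    rw [Finset.sum_eq_single s (fun t _ hts => by rw [if_neg (hinjχ.ne hts), zero_smul]) (by simp), if_pos rfl] at h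
    exact Subtype.ext ((smul_eq_zero.mp h).resolve_left (Nat.cast_ne_zero.mpr Fintype.card_ne_zero))
  have h5 := LinearMap.finrank_le_finrank_of_injective hS
  rw [Module.finrank_pi_fintype] at h5
  refine le_trans ?_ h5
  have hc : Fintype.card {t : F // t ≠ 0} = 2 ^ (2 * m + 1) - 1 := by
    rw [Fintype.card_subtype_compl, Fintype.card_subtype_eq, hq]
  calc 2 ^ m * (2 ^ (2 * m + 1) - 1) = ∑ _t : {t : F // t ≠ 0}, 2 ^ m := by
        rw [Finset.sum_const, Finset.card_univ, hc, smul_eq_mul, mul_comm]
    _ ≤ _ := Finset.sum_le_sum fun t _ => hdim _ (hWt t).1 (hWt t).2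

end rep

end Cfsg.Agent.Lib.KnownA
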