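import Mathlib
import Cfsg.Prelude.Def_Sz
import Cfsg.Prelude.Def_LieExceptional
import Cfsg.Agent.Lib.KnownA.SuzukiBorel
import Cfsg.Agent.Lib.KnownA.SuzukiMinDeg

/-! The Suzuki group on its ovoid: Bruhat decomposition, order, and the ovoid stabiliser description. -/

set_option autoImplicit false
set_option maxHeartbeats 400000

namespace Cfsg.Agent.Lib.KnownA.Suz

open Matrix Cfsg.Lie
open scoped Pointwise

set_option linter.unusedSectionVars false

noncomputable section

/-- The numerical hypotheses on the field. -/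
theorem charP_two {F : Type*} [Field F] [Fintype F] {m : ℕ} (hF : Fintype.card F = 2 ^ (2 * m + 1)) : CharP F 2 :=
  haveI : Fact (Nat.Prime 2) := ⟨Nat.prime_two⟩
  charP_of_card_eq_prime_pow (f := 2 * m + 1) hF

theorem th_sq {F : Type*} [Field F] [Fintype F] [CharP F 2] {m : ℕ} (hF : Fintype.card F = 2 ^ (2 * m + 1)) (x : F) :
    szTh m (szTh m x) = x * x := by
  have h := FiniteField.pow_card x
  rw [hF] at h
  rw [szTh_apply, szTh_apply, ← pow_mul, ← pow_add, show m + 1 + (m + 1) = 2 * m + 1 + 1 by ring, pow_succ,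
    pow_mul, h, sq]

variable {F : Type*} [Field F] [Fintype F] [CharP F 2] {m : ℕ}

/-- The Suzuki group. -/
abbrev G (F : Type*) [Field F] (m : ℕ) : Subgroup (GL (Fin 4) F) := Lie.Sz F (2 ^ (m + 1))

/-- The ovoid vectors. -/
def ovV (m : ℕ) : Option (F × F) → Fin 4 → F
  | none => Pi.single 3 1
  | some (a, b) => fun i => szUM m a b i 0

/-- A multiple of an ovoid vector. -/
def IsOv (m : ℕ) (v : Fin 4 → F) : Prop := ∃ o : Option (F × F), ∃ c : F, c ≠ 0 ∧ v = c • ovV m o

theorem ovV_none : ovV (F := F) m none = ![0, 0, 0, 1] := by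
  funext i; fin_cases i <;> simp [ovV]

theorem ovV_some (a b : F) :
    ovV m (some (a, b)) = ![1, a, b, szTh m b + a * a * szTh m a + a * b] := by
  funext i; fin_cases i <;> simp [ovV, szUM]

theorem ovV_eq {o o' : Option (F × F)} {c : F} (h : ovV m o = c • ovV m o') : o = o' := by
  have h0 := congrFun h 0
  have h1 := congrFun h 1
  have h2 := congrFun h 2
  have h3 := congrFun h 3
  rcases o with _ | ⟨a, b⟩ <;> rcases o' with _ | ⟨a', b'⟩ <;> simp [ovV_none, ovV_some] at h0 h1 h2 h3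
  · rfl
  · exact absurd h3 (by simp [← h0])
  · rw [← h0, one_mul] at h1 h2
    rw [h1, h2]

theorem ovV_ne_zero (o : Option (F × F)) : ovV (F := F) m o ≠ 0 := fun h => by
  rcases o with _ | ⟨a, b⟩
  · simpa [ovV_none] using congrFun h 3
  · simpa [ovV_some] using congrFun h 0

theorem isOv_ne_zero {v : Fin 4 → F} (hv : IsOv m v) : v ≠ 0 := by
  obtain ⟨o, c, hc, rfl⟩ := hv
  exact smul_ne_zero hc (ovV_ne_zero o)

variable (hθ : ∀ x : F, szTh m (szTh m x) = x * x)
include hθ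

/-- The element moving the base point to an ovoid point. -/
def mover : Option (F × F) → GL (Fin 4) F
  | none => 1
  | some (a, b) => szU' hθ a b * szUnitW

theorem mover_mem : ∀ o, mover hθ o ∈ G F m
  | none => one_mem _
  | some (a, b) => mul_mem (szU'_mem hθ a b) (szUnitW_mem' hθ)

theorem mover_col (o : Option (F × F)) : (mover hθ o).val *ᵥ Pi.single 3 1 = ovV m o := by
  rw [Matrix.mulVec_single_one]
  funext i
  rcases o with _ | ⟨a, b⟩
  · fin_cases i <;> simp [mover, ovV_none]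
  · fin_cases i <;> simp [mover, ovV_some, szU', szUM, szUnitW, szW, Matrix.mul_apply, Fin.sum_univ_four]

theorem col_isOv {g : GL (Fin 4) F} (hg : g ∈ G F m) : IsOv m (g.val *ᵥ Pi.single 3 1) := by
  rw [Matrix.mulVec_single_one]
  obtain ⟨hz, hn⟩ := sz_column hθ hg
  by_cases h : g.val 0 3 = 0
  · obtain ⟨h1, h2⟩ := hz h
    refine ⟨none, g.val 3 3, fun h3 => ?_, ?_⟩
    · exact ((Matrix.isUnit_iff_isUnit_det g.val).mp g.isUnit).ne_zero
        (Matrix.det_eq_zero_of_column_eq_zero 3 (fun i => by fin_cases i <;> assumption))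
    · funext i; fin_cases i <;> simp [ovV_none, h, h1, h2]
  · refine ⟨some (g.val 1 3 / g.val 0 3, g.val 2 3 / g.val 0 3), g.val 0 3, h, funext fun i => ?_⟩
    exact hn h i

theorem sz_preserves {g : GL (Fin 4) F} (hg : g ∈ G F m) {v : Fin 4 → F} (hv : IsOv m v) : IsOv m (g.val *ᵥ v) := by
  obtain ⟨o, c, hc, rfl⟩ := hv
  obtain ⟨o', c', hc', h⟩ := col_isOv hθ (mul_mem hg (mover_mem hθ o))
  rw [Units.val_mul, ← Matrix.mulVec_mulVec, mover_col hθ] at h
  exact ⟨o', c * c', mul_ne_zero hc hc', by rw [Matrix.mulVec_smul, h, smul_smul]⟩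

theorem exponent_indep (hm : 1 ≤ m) (hF : Fintype.card F = 2 ^ (2 * m + 1)) {c₁ c₂ c₃ : F}
    (h : ∀ x : F, c₁ * szTh m x + c₂ * (x * x * szTh m x) + c₃ * (x * x) = 0) : c₁ = 0 ∧ c₂ = 0 ∧ c₃ = 0 := by
  open Polynomial in
  have hs : 4 ≤ 2 ^ (m + 1) := by
    calc 4 = 2 ^ 2 := rfl
      _ ≤ _ := Nat.pow_le_pow_right (by norm_num) (by omega)
  have hlt : 2 ^ (m + 1) + 2 < 2 ^ (2 * m + 1) := by
    have : 2 ^ (2 * m + 1) = 2 ^ (m + 1) * 2 ^ m := by rw [← pow_add]; ring_nf
    have : 2 ≤ 2 ^ m := Nat.le_self_pow (by omega) 2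
    nlinarith
  open Polynomial in
  set P : F[X] := C c₁ * X ^ (2 ^ (m + 1)) + C c₂ * X ^ (2 ^ (m + 1) + 2) + C c₃ * X ^ 2 with hP
  have hdeg : P.natDegree ≤ 2 ^ (m + 1) + 2 := by
    rw [hP]
    refine (Polynomial.natDegree_add_le _ _).trans (max_le ((Polynomial.natDegree_add_le _ _).trans (max_le ?_ ?_)) ?_)
    all_goals exact (Polynomial.natDegree_C_mul_X_pow_le _ _).trans (by omega)
  have hP0 : P = 0 := by
    refine Polynomial.eq_zero_of_natDegree_lt_card_of_eval_eq_zero' P Finset.univ (fun x _ => ?_) ?_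
    · rw [hP]
      simp only [Polynomial.eval_add, Polynomial.eval_mul, Polynomial.eval_C, Polynomial.eval_pow, Polynomial.eval_X]
      have := h x
      rw [szTh_apply] at this
      rw [pow_add, sq]
      linear_combination this
    · rw [Finset.card_univ, hF]; omega
  have hc : ∀ j, P.coeff j = 0 := fun j => by rw [hP0, Polynomial.coeff_zero]
  have k1 := hc (2 ^ (m + 1))
  have k2 := hc (2 ^ (m + 1) + 2)
  have k3 := hc 2
  simp only [hP, Polynomial.coeff_add, Polynomial.coeff_C_mul, Polynomial.coeff_X_pow] at k1 k2 k3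
  simp [show (2 : ℕ) ≠ 2 ^ (m + 1) by omega, show 2 ^ (m + 1) ≠ 2 by omega, show (2 : ℕ) ≠ 2 ^ (m + 1) + 2 by omega,
    show 2 ^ (m + 1) + 2 ≠ 2 by omega] at k1 k2 k3
  exact ⟨k1, k2, k3⟩

theorem row_zero {g : Matrix (Fin 4) (Fin 4) F} (hg : IsUnit g) (hpres : ∀ v, IsOv m v → IsOv m (g *ᵥ v))
    {c : F} (hc : c ≠ 0) (h3 : g *ᵥ Pi.single 3 1 = c • Pi.single 3 1) : g 0 1 = 0 ∧ g 0 2 = 0 := by
  have h03 : g 0 3 = 0 := by
    have := congrFun h3 0
    rw [Matrix.mulVec_single_one] at this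
    simpa using this
  have key : ∀ a b : F, g 0 0 + g 0 1 * a + g 0 2 * b ≠ 0 := by
    intro a b h0
    obtain ⟨o, d, hd, he⟩ := hpres (ovV m (some (a, b))) ⟨some (a, b), 1, one_ne_zero, (one_smul _ _).symm⟩
    have hz := congrFun he 0
    simp [Matrix.mulVec, dotProduct, Fin.sum_univ_four, ovV_some, h03] at hz
    rcases o with _ | ⟨a', b'⟩
    · have e2 : g *ᵥ ovV m (some (a, b)) = g *ᵥ ((d / c) • ovV m none) := by
        rw [he, Matrix.mulVec_smul]
        show _ = (d / c) • (g *ᵥ Pi.single 3 1)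
        rw [h3, smul_smul, div_mul_cancel₀ _ hc]; rfl
      exact absurd (ovV_eq (Matrix.mulVec_injective_iff_isUnit.mpr hg e2)) (Option.some_ne_none (a, b))
    · simp [ovV_some] at hz
      exact hd (hz.symm.trans h0)
  refine ⟨?_, ?_⟩
  · by_contra h
    exact key (-g 0 0 / g 0 1) 0 (by field_simp; ring)
  · by_contra h
    exact key 0 (-g 0 0 / g 0 2) (by field_simp; ring)

theorem mem_of_preserves_diag (hm : 1 ≤ m) (hF : Fintype.card F = 2 ^ (2 * m + 1)) {g : GL (Fin 4) F}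
    (hdet : g.val.det = 1) (hpres : ∀ v, IsOv m v → IsOv m (g.val *ᵥ v)) {c₀ c₃ : F} (hc0 : c₀ ≠ 0) (hc3 : c₃ ≠ 0)
    (h0 : g.val *ᵥ Pi.single 0 1 = c₀ • Pi.single 0 1) (h3 : g.val *ᵥ Pi.single 3 1 = c₃ • Pi.single 3 1) :
    g ∈ G F m := by
  set A := g.val with hA
  obtain ⟨r1, r2⟩ : A 0 1 = 0 ∧ A 0 2 = 0 := row_zero hθ g.isUnit hpres hc3 h3
  have hWO : ∀ v, IsOv m v → IsOv m ((szW : Matrix (Fin 4) (Fin 4) F) *ᵥ v) := fun v hv =>
    sz_preserves hθ (szUnitW_mem' hθ) hv
  have hWu : IsUnit (szW : Matrix (Fin 4) (Fin 4) F) := (szUnitW (F := F)).isUnit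
  obtain ⟨r3, r4⟩ := row_zero hθ (g := szW * A * szW) ((hWu.mul g.isUnit).mul hWu)
    (fun v hv => by
      rw [← Matrix.mulVec_mulVec, ← Matrix.mulVec_mulVec]
      exact hWO _ (hpres _ (hWO v hv))) hc0 (by
      have hw : (szW : Matrix (Fin 4) (Fin 4) F) *ᵥ Pi.single 3 1 = Pi.single 0 1 := by
        rw [Matrix.mulVec_single_one]; funext i; fin_cases i <;> simp [szW]
      have hw' : (szW : Matrix (Fin 4) (Fin 4) F) *ᵥ Pi.single 0 1 = Pi.single 3 1 := by
        rw [Matrix.mulVec_single_one]; funext i; fin_cases i <;> simp [szW]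
      rw [← Matrix.mulVec_mulVec, ← Matrix.mulVec_mulVec, hw, h0, Matrix.mulVec_smul, hw'])
  simp [szW, Matrix.mul_apply, Matrix.vecMul, dotProduct, Fin.sum_univ_four] at r3 r4
  rw [Matrix.mulVec_single_one] at h0 h3
  have a10 := congrFun h0 1; have a20 := congrFun h0 2; have a30 := congrFun h0 3; have a00 := congrFun h0 0
  have a03 := congrFun h3 0; have a13 := congrFun h3 1; have a23 := congrFun h3 2; have a33 := congrFun h3 3
  simp at a10 a20 a30 a00 a03 a13 a23 a33
  set al := A 0 0 with hal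
  have hal0 : al ≠ 0 := a00 ▸ hc0
  set P := A 1 1 / al with hP
  set Q := A 1 2 / al with hQ
  set R := A 2 1 / al with hR
  set S := A 2 2 / al with hS
  set D := A 3 3 / al with hD
  have eP : A 1 1 = P * al := by rw [hP, div_mul_cancel₀ _ hal0]
  have eQ : A 1 2 = Q * al := by rw [hQ, div_mul_cancel₀ _ hal0]
  have eR : A 2 1 = R * al := by rw [hR, div_mul_cancel₀ _ hal0]
  have eS : A 2 2 = S * al := by rw [hS, div_mul_cancel₀ _ hal0]
  have eD : A 3 3 = D * al := by rw [hD, div_mul_cancel₀ _ hal0]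
  have heq : ∀ a b : F, szTh m (R * a + S * b) + (P * a + Q * b) * (P * a + Q * b) * szTh m (P * a + Q * b) +
      (P * a + Q * b) * (R * a + S * b) = D * (szTh m b + a * a * szTh m a + a * b) := by
    intro a b
    obtain ⟨o, d, hd, he⟩ := hpres (ovV m (some (a, b))) ⟨some (a, b), 1, one_ne_zero, (one_smul _ _).symm⟩
    have e0 := congrFun he 0; have e1 := congrFun he 1; have e2 := congrFun he 2; have e3 := congrFun he 3
    simp [Matrix.mulVec, dotProduct, Fin.sum_univ_four, ovV_some, r1, r2, r3, r4, a10, a20, a30, a03, a13, a23] at e0 e1 e2 e3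
    rcases o with _ | ⟨a', b'⟩ <;> simp [ovV_none, ovV_some] at e0 e1 e2 e3
    · exact absurd e0 hal0
    rw [← e0, eP, eQ] at e1
    rw [← e0, eR, eS] at e2
    rw [← e0, eD] at e3
    have ha' : P * a + Q * b = a' := mul_left_cancel₀ hal0 (by linear_combination e1)
    have hb' : R * a + S * b = b' := mul_left_cancel₀ hal0 (by linear_combination e2)
    rw [ha', hb']
    exact mul_left_cancel₀ hal0 (by linear_combination -e3)
  obtain ⟨k1, k2, k3⟩ := exponent_indep hθ hm hF (c₁ := szTh m S - D) (c₂ := Q * Q * szTh m Q) (c₃ := Q * S)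
    (fun b => by
      have := heq 0 b
      simp only [mul_zero, zero_add, map_mul, map_zero, zero_mul, add_zero] at this
      linear_combination this)
  obtain ⟨l1, l2, l3⟩ := exponent_indep hθ hm hF (c₁ := szTh m R) (c₂ := P * P * szTh m P - D) (c₃ := P * R)
    (fun a => by
      have := heq a 0
      simp only [mul_zero, add_zero, map_mul, map_zero, zero_mul, zero_add] at this
      linear_combination this)
  have hR0 : R = 0 := (map_eq_zero _).mp l1
  have hQ0 : Q = 0 := by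
    rcases mul_eq_zero.mp k2 with h | h
    · exact mul_self_eq_zero.mp h
    · exact (map_eq_zero _).mp h
  have hPS : P * S = D := by
    have := heq 1 1
    simp only [hR0, hQ0, mul_one, zero_add, add_zero, zero_mul, map_one] at this
    linear_combination this - k1 - l2
  have hdiag : A = Matrix.diagonal ![al, A 1 1, A 2 2, A 3 3] := by
    have e12 : A 1 2 = 0 := by rw [eQ, hQ0, zero_mul]
    have e21 : A 2 1 = 0 := by rw [eR, hR0, zero_mul]
    ext i j
    fin_cases i <;> fin_cases j <;> simp [hal, r1, r2, r3, r4, a10, a20, a30, a03, a13, a23, e12, e21]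
  have hd4 : (1 : F) = al * (P * al) * (S * al) * (D * al) := by
    rw [← hdet, ← eP, ← eS, ← eD]
    conv_lhs => rw [hdiag]
    simp [Matrix.det_diagonal, Fin.prod_univ_four]
  have h2 : (2 : F) = 0 := CharTwo.two_eq_zero
  have hD1 : al * al * D = 1 := by
    have hsq : (al * al * D - 1) * (al * al * D - 1) = 0 := by
      linear_combination -hd4 - al * al * al * al * D * hPS + (1 - al * al * D) * h2
    exact sub_eq_zero.mp (mul_self_eq_zero.mp hsq)
  have hD2 : P * P * szTh m P = D := sub_eq_zero.mp l2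
  have h' : szTh m al * szTh m P * P = 1 := by
    have := congrArg (szTh m) hD1
    rw [← hD2] at this
    simp only [map_mul, map_one, hθ] at this
    have hsq : (szTh m al * szTh m P * P - 1) * (szTh m al * szTh m P * P - 1) = 0 := by
      linear_combination this + (1 - szTh m al * szTh m P * P) * h2
    exact sub_eq_zero.mp (mul_self_eq_zero.mp hsq)
  have hth : szTh m al ≠ 0 := (map_ne_zero _).mpr hal0
  have hPe : al * al * P = szTh m al := by
    rw [← hD2] at hD1
    linear_combination (-(al * al * P)) * h' + szTh m al * hD1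
  have hSe : szTh m al * S = 1 := by linear_combination hD1 + al * al * hPS - S * hPe
  have eg : g = szH' (m := m) hal0 := by
    apply Units.ext
    show A = szHM m al
    rw [hdiag, szHM]
    congr 1
    funext i
    fin_cases i
    · rfl
    · show A 1 1 = szTh m al / al
      rw [eP, ← hPe]; field_simp
    · show A 2 2 = al / szTh m al
      rw [eS, eq_div_iff hth]; linear_combination al * hSe
    · show A 3 3 = 1 / al
      rw [eD, eq_div_iff hal0]; linear_combination hD1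
  rw [eg]
  exact szH'_mem hθ hal0

/-- A Borel element. -/
def bor (a b : F) (k : Fˣ) : GL (Fin 4) F := szU' hθ a b * szH' (m := m) k.ne_zero

theorem bor_mem (a b : F) (k : Fˣ) : bor hθ a b k ∈ G F m := mul_mem (szU'_mem hθ a b) (szH'_mem hθ k.ne_zero)

theorem bor_val (a b : F) (k : Fˣ) : (bor hθ a b k).val = szUM m a b * szHM m (k : F) := rfl

theorem bor_col (a b : F) (k : Fˣ) : (bor hθ a b k).val *ᵥ Pi.single 3 1 = (k : F)⁻¹ • Pi.single 3 1 := by
  rw [Matrix.mulVec_single_one, bor_val]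
  funext i
  fin_cases i <;> simp [szUM, szHM, Matrix.vecMul_diagonal, Matrix.mul_diagonal]

theorem bor_inj {a b a' b' : F} {k k' : Fˣ} (h : bor hθ a b k = bor hθ a' b' k') : a = a' ∧ b = b' ∧ k = k' := by
  have h' := congrArg (fun g : GL (Fin 4) F => g.val) h
  simp only [bor_val] at h'
  have e0 := congrFun (congrFun h' 0) 0
  have e1 := congrFun (congrFun h' 1) 0
  have e2 := congrFun (congrFun h' 2) 0
  simp [szUM, szHM, Matrix.vecMul_diagonal, Matrix.mul_diagonal] at e0 e1 e2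
  rw [← e0] at e1 e2
  exact ⟨(mul_left_inj' k.ne_zero).mp e1, (mul_left_inj' k.ne_zero).mp e2, Units.ext e0⟩

theorem exists_bor {g : GL (Fin 4) F} (hg : g ∈ G F m) {c : F}
    (h : g.val *ᵥ Pi.single 3 1 = c • Pi.single 3 1) : ∃ a b k, g = bor hθ a b k := by
  have h0 : g.val 0 3 = 0 := by
    have := congrFun h 0
    rw [Matrix.mulVec_single_one] at this
    simpa using this
  obtain ⟨a, b, k, hk, e⟩ := sz_lower hθ hg h0
  exact ⟨a, b, Units.mk0 k hk, e⟩

/-- The element of a cell. -/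
def cell (o : Option (F × F)) (x : (F × F) × Fˣ) : GL (Fin 4) F := mover hθ o * bor hθ x.1.1 x.1.2 x.2

theorem cell_mem (o : Option (F × F)) (x : (F × F) × Fˣ) : cell hθ o x ∈ G F m :=
  mul_mem (mover_mem hθ o) (bor_mem hθ _ _ _)

theorem cell_col (o : Option (F × F)) (x : (F × F) × Fˣ) :
    (cell hθ o x).val *ᵥ Pi.single 3 1 = (x.2 : F)⁻¹ • ovV m o := by
  rw [cell, Units.val_mul, ← Matrix.mulVec_mulVec, bor_col, Matrix.mulVec_smul, mover_col]

theorem cell_bijective :
    Function.Bijective (fun t : Option (F × F) × ((F × F) × Fˣ) => (⟨cell hθ t.1 t.2, cell_mem hθ t.1 t.2⟩ : ↥(G F m))) := by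
  constructor
  · rintro ⟨o, x⟩ ⟨o', x'⟩ h
    have h' : cell hθ o x = cell hθ o' x' := congrArg Subtype.val h
    have e := congrArg (fun g : GL (Fin 4) F => g.val *ᵥ Pi.single 3 1) h'
    simp only [cell_col] at e
    have ho : o = o' := ovV_eq (c := (x.2 : F) * (x'.2 : F)⁻¹) (by
      rw [mul_smul, ← e, smul_smul, mul_inv_cancel₀ x.2.ne_zero, one_smul])
    subst ho
    obtain ⟨h1, h2, h3⟩ := bor_inj hθ (mul_left_cancel h')
    exact Prod.ext rfl (Prod.ext (Prod.ext h1 h2) h3)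
  · rintro ⟨g, hg⟩
    obtain ⟨o, c, hc, h⟩ := col_isOv hθ hg
    obtain ⟨a, b, k, e⟩ := exists_bor hθ (mul_mem (inv_mem (mover_mem hθ o)) hg) (c := c) (by
      rw [Units.val_mul, ← Matrix.mulVec_mulVec, h, ← mover_col hθ o, Matrix.mulVec_smul, Matrix.mulVec_mulVec,
        ← Units.val_mul, inv_mul_cancel, Units.val_one, Matrix.one_mulVec])
    exact ⟨(o, ((a, b), k)), Subtype.ext (by show cell hθ o ((a, b), k) = g; rw [cell, ← e, mul_inv_cancel_left])⟩

theorem card_G : Nat.card ↥(G F m) =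
    (Fintype.card F * Fintype.card F + 1) * (Fintype.card F * Fintype.card F * (Fintype.card F - 1)) := by
  rw [← Nat.card_congr (Equiv.ofBijective _ (cell_bijective hθ))]
  rw [Nat.card_prod, Nat.card_prod, Nat.card_units, Nat.card_prod, Finite.card_option, Nat.card_prod, Nat.card_eq_fintype_card]

theorem mem_of_preserves (hm : 1 ≤ m) (hF : Fintype.card F = 2 ^ (2 * m + 1)) {g : GL (Fin 4) F}
    (hdet : g.val.det = 1) (hpres : ∀ v, IsOv m v → IsOv m (g.val *ᵥ v)) : g ∈ G F m := by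
  have hdetG : ∀ x ∈ G F m, (x : GL (Fin 4) F).val.det = 1 := fun x hx =>
    Recognition.sp4_det (Recognition.mem_Sz_imp hx).1
  obtain ⟨o, c, hc, ho⟩ := hpres _ ⟨none, 1, one_ne_zero, (one_smul F (ovV m none)).symm⟩
  have ho' : g.val *ᵥ Pi.single 3 1 = c • ovV m o := ho
  set g₁ := (mover hθ o)⁻¹ * g with hg₁
  have h₁ : g₁.val *ᵥ Pi.single 3 1 = c • Pi.single 3 1 := by
    rw [hg₁, Units.val_mul, ← Matrix.mulVec_mulVec, ho', ← mover_col hθ o, Matrix.mulVec_smul, Matrix.mulVec_mulVec,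
      ← Units.val_mul, inv_mul_cancel, Units.val_one, Matrix.one_mulVec]
  have hp₁ : ∀ v, IsOv m v → IsOv m (g₁.val *ᵥ v) := fun v hv => by
    rw [hg₁, Units.val_mul, ← Matrix.mulVec_mulVec]
    exact sz_preserves hθ (inv_mem (mover_mem hθ o)) (hpres v hv)
  have he0 : (Pi.single 0 1 : Fin 4 → F) = ovV m (some (0, 0)) := by
    funext i; fin_cases i <;> simp [ovV_some]
  obtain ⟨o', c', hc', ho₁⟩ := hp₁ (Pi.single 0 1) ⟨some (0, 0), 1, one_ne_zero, by rw [one_smul, he0]⟩
  rcases o' with _ | ⟨a, b⟩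
  · exfalso
    have e : g₁.val *ᵥ Pi.single 0 1 = g₁.val *ᵥ ((c' / c) • Pi.single 3 1) := by
      rw [ho₁, Matrix.mulVec_smul, h₁, smul_smul, div_mul_cancel₀ _ hc]; rfl
    have := congrFun (Matrix.mulVec_injective_iff_isUnit.mpr g₁.isUnit e) 0
    simp at this
  · set g₂ := (szU' hθ a b)⁻¹ * g₁ with hg₂
    have hU0 : (szU' hθ a b).val *ᵥ Pi.single 0 1 = ovV m (some (a, b)) := by
      rw [Matrix.mulVec_single_one]; rfl
    have hU3 : (szU' hθ a b).val *ᵥ Pi.single 3 1 = Pi.single 3 1 := by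
      rw [Matrix.mulVec_single_one]; funext i; fin_cases i <;> simp [szU', szUM]
    have h₂0 : g₂.val *ᵥ Pi.single 0 1 = c' • Pi.single 0 1 := by
      rw [hg₂, Units.val_mul, ← Matrix.mulVec_mulVec, ho₁, ← hU0, Matrix.mulVec_smul, Matrix.mulVec_mulVec,
        ← Units.val_mul, inv_mul_cancel, Units.val_one, Matrix.one_mulVec]
    have h₂3 : g₂.val *ᵥ Pi.single 3 1 = c • Pi.single 3 1 := by
      rw [hg₂, Units.val_mul, ← Matrix.mulVec_mulVec, h₁]
      conv_lhs => rw [← hU3]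
      rw [Matrix.mulVec_smul, Matrix.mulVec_mulVec, ← Units.val_mul, inv_mul_cancel, Units.val_one, Matrix.one_mulVec]
    have hdet₂ : g₂.val.det = 1 := by
      rw [hg₂, hg₁, Units.val_mul, Units.val_mul, Matrix.det_mul, Matrix.det_mul, hdetG _ (inv_mem (szU'_mem hθ a b)),
        hdetG _ (inv_mem (mover_mem hθ o)), hdet, one_mul, one_mul]
    have hp₂ : ∀ v, IsOv m v → IsOv m (g₂.val *ᵥ v) := fun v hv => by
      rw [hg₂, Units.val_mul, ← Matrix.mulVec_mulVec]
      exact sz_preserves hθ (inv_mem (szU'_mem hθ a b)) (hp₁ v hv)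
    have := mem_of_preserves_diag hθ hm hF hdet₂ hp₂ hc' hc h₂0 h₂3
    rw [hg₂, hg₁, Subgroup.mul_mem_cancel_left _ (inv_mem (szU'_mem hθ a b)),
      Subgroup.mul_mem_cancel_left _ (inv_mem (mover_mem hθ o))] at this
    exact this

omit hθ in
theorem mk_mem_ovoid_iff {v : Fin 4 → F} (hv : v ≠ 0) :
    Projectivization.mk F v hv ∈ Cfsg.suzukiOvoid F m ↔ IsOv m ((szW : Matrix (Fin 4) (Fin 4) F) *ᵥ v) := by
  have hflip : ∀ w : Fin 4 → F, (szW : Matrix (Fin 4) (Fin 4) F) *ᵥ w = ![w 3, w 2, w 1, w 0] := fun w => by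
    funext i; fin_cases i <;> simp [szW, Matrix.mulVec, dotProduct, Fin.sum_univ_four]
  have hval : ∀ x y : F, x * y + x ^ (2 ^ (m + 1) + 2) + y ^ (2 ^ (m + 1)) = szTh m y + x * x * szTh m x + x * y := by
    intro x y; rw [szTh_apply, szTh_apply, pow_add, sq]; ring
  constructor
  · rintro ⟨w, hw, hmk, hcase⟩
    obtain ⟨u, hu⟩ := (Projectivization.mk_eq_mk_iff F v w hv hw).mp hmk
    rw [← hu, Units.smul_def, Matrix.mulVec_smul]
    rcases hcase with rfl | ⟨x, y, rfl⟩
    · exact ⟨none, u, u.ne_zero, by rw [hflip, ovV_none]; simp⟩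
    · exact ⟨some (x, y), u, u.ne_zero, by rw [hflip, ovV_some]; simp [hval]⟩
  · rintro ⟨o, c, hc, h⟩
    rw [hflip] at h
    have e0 := congrFun h 0; have e1 := congrFun h 1; have e2 := congrFun h 2; have e3 := congrFun h 3
    rcases o with _ | ⟨a, b⟩
    · refine ⟨![1, 0, 0, 0], by simp, (Projectivization.mk_eq_mk_iff F _ _ hv _).mpr ⟨Units.mk0 c hc, ?_⟩, Or.inl rfl⟩
      simp [ovV_none] at e0 e1 e2 e3
      funext i; fin_cases i <;> simp [e0, e1, e2, e3]
    · refine ⟨![a * b + a ^ (2 ^ (m + 1) + 2) + b ^ (2 ^ (m + 1)), b, a, 1], fun h0 => by simpa using congrFun h0 3,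
        (Projectivization.mk_eq_mk_iff F _ _ hv _).mpr ⟨Units.mk0 c hc, ?_⟩, Or.inr ⟨a, b, rfl⟩⟩
      simp [ovV_some] at e0 e1 e2 e3
      funext i; fin_cases i <;> simp [hval, e0, e1, e2, e3] <;> ring

omit hθ in
theorem smul_mk' (g : Matrix.SpecialLinearGroup (Fin 4) F) {v : Fin 4 → F} (hv : v ≠ 0)
    (hv' : (g : Matrix (Fin 4) (Fin 4) F) *ᵥ v ≠ 0) :
    g • Projectivization.mk F v hv = Projectivization.mk F ((g : Matrix (Fin 4) (Fin 4) F) *ᵥ v) hv' := rfl

theorem mem_SzC_iff (hm : 1 ≤ m) (hF : Fintype.card F = 2 ^ (2 * m + 1)) {g : Matrix.SpecialLinearGroup (Fin 4) F} :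
    g ∈ Cfsg.Sz F m ↔ Matrix.SpecialLinearGroup.toGL g ∈ G F m := by
  have hW : ∀ v : Fin 4 → F, (szW : Matrix (Fin 4) (Fin 4) F) *ᵥ ((szW : Matrix (Fin 4) (Fin 4) F) *ᵥ v) = v := fun v => by
    rw [Matrix.mulVec_mulVec, szW_mul, Matrix.one_mulVec]
  have hWmem := szUnitW_mem' (F := F) hθ
  have hne : ∀ {x : GL (Fin 4) F} {v : Fin 4 → F}, v ≠ 0 → x.val *ᵥ v ≠ 0 := fun {x} {v} hv h0 =>
    hv (Matrix.mulVec_injective_iff_isUnit.mpr x.isUnit (by rw [h0, Matrix.mulVec_zero]))
  constructor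
  · intro hg
    refine mem_of_preserves hθ hm hF (by simpa using g.2) fun v hv => ?_
    have hv0 := isOv_ne_zero hv
    have h1 : Projectivization.mk F v hv0 ∈ Cfsg.suzukiOvoid F m :=
      (mk_mem_ovoid_iff hv0).mpr (sz_preserves hθ hWmem hv)
    have h2 : g • Projectivization.mk F v hv0 ∈ g • Cfsg.suzukiOvoid F m := Set.smul_mem_smul_set h1
    rw [MulAction.mem_stabilizer_iff.mp hg, smul_mk' g hv0 (hne (x := Matrix.SpecialLinearGroup.toGL g) hv0)] at h2
    replace h2 := (mk_mem_ovoid_iff _).mp h2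
    have h3 := sz_preserves hθ hWmem h2
    rwa [show (szUnitW : GL (Fin 4) F).val = szW from rfl, hW] at h3
  · intro hg
    have hsub : ∀ x : Matrix.SpecialLinearGroup (Fin 4) F, Matrix.SpecialLinearGroup.toGL x ∈ G F m →
        ∀ pt ∈ Cfsg.suzukiOvoid F m, x • pt ∈ Cfsg.suzukiOvoid F m := by
      intro x hx pt hpt
      induction pt using Projectivization.ind with
      | h v hv =>
        rw [smul_mk' x hv (hne (x := Matrix.SpecialLinearGroup.toGL x) hv)]
        refine (mk_mem_ovoid_iff _).mpr ?_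
        have h1 := sz_preserves hθ (mul_mem (mul_mem hWmem hx) hWmem) ((mk_mem_ovoid_iff hv).mp hpt)
        rw [Units.val_mul, Units.val_mul, show (szUnitW : GL (Fin 4) F).val = szW from rfl, ← Matrix.mulVec_mulVec, hW,
          ← Matrix.mulVec_mulVec] at h1
        exact h1
    rw [MulAction.mem_stabilizer_iff]
    refine Set.Subset.antisymm ?_ fun y hy => ?_
    · rintro _ ⟨pt, hpt, rfl⟩
      exact hsub g hg pt hpt
    · exact ⟨g⁻¹ • y, hsub g⁻¹ (by rw [map_inv]; exact inv_mem hg) y hy, smul_inv_smul g y⟩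

/-- The two models agree. -/
def szBridge (hm : 1 ≤ m) (hF : Fintype.card F = 2 ^ (2 * m + 1)) : ↥(Cfsg.Sz F m) ≃* ↥(G F m) where
  toFun g := ⟨Matrix.SpecialLinearGroup.toGL g.1, (mem_SzC_iff hθ hm hF).mp g.2⟩
  invFun x := ⟨⟨x.1.val, Recognition.sp4_det (Recognition.mem_Sz_imp x.2).1⟩, (mem_SzC_iff hθ hm hF).mpr (by
    convert x.2 using 1
    exact Units.ext rfl)⟩
  left_inv g := Subtype.ext (Subtype.ext rfl)
  right_inv x := Subtype.ext (Units.ext rfl)
  map_mul' g h := Subtype.ext (map_mul Matrix.SpecialLinearGroup.toGL g.1 h.1)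

end

end Cfsg.Agent.Lib.KnownA.Suz
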