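import Mathlib
import Cfsg.Agent.Lib.KnownA.SuzukiGroup

/-! Structure of the Suzuki group: Borel subgroup, Sylow 2-subgroup, double transitivity, simplicity. -/

set_option autoImplicit false
set_option maxHeartbeats 400000

namespace Cfsg.Agent.Lib.KnownA.Suz

open Matrix Cfsg.Lie

set_option linter.unusedSectionVars false

noncomputable section

variable {F : Type*} [Field F] [Fintype F] [CharP F 2] {m : ℕ} (hθ : ∀ x : F, szTh m (szTh m x) = x * x)

/-- Points of the ovoid. -/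
abbrev Pts (F : Type*) : Type _ := Option (F × F)

include hθ

/-- Unipotent elements. -/
def u (a b : F) : ↥(G F m) := ⟨szU' hθ a b, szU'_mem hθ a b⟩

/-- Torus elements. -/
def tor (k : Fˣ) : ↥(G F m) := ⟨szH' (m := m) k.ne_zero, szH'_mem hθ k.ne_zero⟩

/-- The Weyl element. -/
def wel : ↥(G F m) := ⟨szUnitW, szUnitW_mem' hθ⟩

theorem u_mul (a b a' b' : F) : u hθ a b * u hθ a' b' = u hθ (a + a') (b + b' + szTh m a * a') :=
  Subtype.ext (szU'_mul hθ a b a' b')

theorem u_zero : u hθ 0 0 = 1 := Subtype.ext (szU'_zero hθ)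

theorem u_inv (a b : F) : (u hθ a b)⁻¹ = u hθ a (b + szTh m a * a) :=
  inv_eq_of_mul_eq_one_right (by
    rw [u_mul, CharTwo.add_self_eq_zero, ← u_zero hθ]
    congr 1
    linear_combination (b + szTh m a * a) * (CharTwo.two_eq_zero : (2 : F) = 0))

theorem tor_one : tor hθ 1 = 1 := by
  apply Subtype.ext; apply Units.ext
  show szHM m ((1 : Fˣ) : F) = 1
  rw [szHM, ← diagonal_one]; congr 1; funext i; fin_cases i <;> simp

theorem tor_mul (k l : Fˣ) : tor hθ k * tor hθ l = tor hθ (k * l) := by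
  apply Subtype.ext; apply Units.ext
  show szHM m (k : F) * szHM m (l : F) = szHM m ((k * l : Fˣ) : F)
  have hk : szTh m (k : F) ≠ 0 := (map_ne_zero _).mpr k.ne_zero
  have hl : szTh m (l : F) ≠ 0 := (map_ne_zero _).mpr l.ne_zero
  rw [szHM, szHM, szHM, diagonal_mul_diagonal]
  congr 1; funext i
  fin_cases i <;> simp [map_mul] <;> field_simp

/-- The torus as a homomorphism. -/
def torHom : Fˣ →* ↥(G F m) where
  toFun := tor hθ
  map_one' := tor_one hθ
  map_mul' k l := (tor_mul hθ k l).symm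

theorem tor_inv (k : Fˣ) : (tor hθ k)⁻¹ = tor hθ k⁻¹ := ((torHom hθ).map_inv k).symm

theorem tor_u (k : Fˣ) (a b : F) :
    tor hθ k * u hθ a b = u hθ (a * szTh m (k : F) / ((k : F) * k)) (b / szTh m (k : F)) * tor hθ k :=
  Subtype.ext (szH'_mul_szU' hθ k.ne_zero a b)

theorem conj_u (k : Fˣ) (a b : F) :
    tor hθ k * u hθ a b * (tor hθ k)⁻¹ = u hθ (a * szTh m (k : F) / ((k : F) * k)) (b / szTh m (k : F)) := by
  rw [tor_u, mul_inv_cancel_right]

theorem wel_mul_self : wel hθ * wel hθ = 1 := Subtype.ext (Units.ext szW_mul)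

theorem wel_tor (k : Fˣ) : wel hθ * tor hθ k = tor hθ k⁻¹ * wel hθ := by
  apply Subtype.ext; apply Units.ext
  show (szW : Matrix (Fin 4) (Fin 4) F) * szHM m (k : F) = szHM m ((k⁻¹ : Fˣ) : F) * szW
  ext i j
  fin_cases i <;> fin_cases j <;> simp [szW, szHM, Matrix.diagonal_mul, Matrix.mul_diagonal, map_inv₀, div_eq_mul_inv] <;> ring

theorem bor_eq (a b : F) (k : Fˣ) : (⟨bor hθ a b k, bor_mem hθ a b k⟩ : ↥(G F m)) = u hθ a b * tor hθ k := rfl

theorem tor_injective : Function.Injective (tor hθ) := fun k l h => by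
  have h' : bor hθ 0 0 k = bor hθ 0 0 l := by
    rw [bor, bor, szU'_zero hθ, one_mul, one_mul]; exact congrArg Subtype.val h
  exact (bor_inj hθ h').2.2

theorem u_injective {a b a' b' : F} (h : u hθ a b = u hθ a' b') : a = a' ∧ b = b' := by
  have h' : bor hθ a b 1 = bor hθ a' b' 1 := by rw [bor, bor, show szU' hθ a b = szU' hθ a' b' from congrArg Subtype.val h]
  exact ⟨(bor_inj hθ h').1, (bor_inj hθ h').2.1⟩

theorem bor_injective {a b a' b' : F} {k l : Fˣ} (h : u hθ a b * tor hθ k = u hθ a' b' * tor hθ l) :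
    a = a' ∧ b = b' ∧ k = l := bor_inj hθ (congrArg Subtype.val h)

theorem th_div_sq_eq_one {k : Fˣ} (h : szTh m (k : F) = (k : F) * k) : k = 1 := by
  have h2 := congrArg (szTh m) h
  rw [hθ, map_mul, h] at h2
  have hk := k.ne_zero
  have h3 : (k : F) * k = 1 := mul_left_cancel₀ (mul_ne_zero hk hk) (by linear_combination -h2)
  have h4 : ((k : F) - 1) * ((k : F) - 1) = 0 := by
    linear_combination h3 + (1 - (k : F)) * (CharTwo.two_eq_zero : (2 : F) = 0)
  exact Units.ext (by simpa [sub_eq_zero] using mul_self_eq_zero.mp h4)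

theorem exists_weight {c : F} (hc : c ≠ 0) : ∃ k : Fˣ, szTh m (k : F) / ((k : F) * k) = c := by
  classical
  let f : Fˣ →* Fˣ :=
    { toFun := fun k => Units.mk0 (szTh m (k : F) / ((k : F) * k))
        (div_ne_zero ((map_ne_zero _).mpr k.ne_zero) (mul_ne_zero k.ne_zero k.ne_zero))
      map_one' := Units.ext (by simp)
      map_mul' := fun k l => Units.ext (by simp [map_mul]; field_simp) }
  have hinj : Function.Injective f := (injective_iff_map_eq_one f).mpr fun k hk => th_div_sq_eq_one hθ (by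
    have h := congrArg Units.val hk
    simp [f] at h
    rw [div_eq_one_iff_eq (mul_ne_zero k.ne_zero k.ne_zero)] at h
    exact h)
  obtain ⟨k, hk⟩ := Finite.surjective_of_injective hinj (Units.mk0 c hc)
  exact ⟨k, congrArg Units.val hk⟩

theorem th_mul_self_bij : Function.Bijective (fun c : F => szTh m c * c) := by
  refine Finite.injective_iff_bijective.mp fun c d h => ?_
  rcases eq_or_ne d 0 with rfl | hd
  · rw [map_zero, zero_mul] at h
    rcases mul_eq_zero.mp h with h' | h'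
    · exact (map_eq_zero _).mp h'
    · exact h'
  have hc : c ≠ 0 := fun h0 => hd (by
    rw [h0, map_zero, zero_mul] at h
    rcases mul_eq_zero.mp h.symm with h' | h'
    · exact (map_eq_zero _).mp h'
    · exact h')
  set x := c / d with hx
  have hx0 : x ≠ 0 := div_ne_zero hc hd
  have h1 : szTh m x * x = 1 := by
    rw [hx, map_div₀]
    have := (map_ne_zero (szTh m)).mpr hd
    field_simp
    linear_combination h
  have h2 := congrArg (szTh m) h1
  rw [map_mul, map_one, hθ] at h2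
  have h3 : x = 1 := by
    linear_combination h2 - x * h1
  exact (div_eq_one_iff_eq hd).mp h3

theorem exists_move (g : ↥(G F m)) (o : Pts F) : ∃ o' : Pts F, ∃ c : F, c ≠ 0 ∧ g.1.val *ᵥ ovV m o = c • ovV m o' :=
  sz_preserves hθ g.2 ⟨o, 1, one_ne_zero, (one_smul _ _).symm⟩

/-- The action on ovoid points. -/
def act (g : ↥(G F m)) (o : Pts F) : Pts F := (exists_move hθ g o).choose

theorem act_spec (g : ↥(G F m)) (o : Pts F) : ∃ c : F, c ≠ 0 ∧ g.1.val *ᵥ ovV m o = c • ovV m (act hθ g o) :=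
  (exists_move hθ g o).choose_spec

theorem act_eq {g : ↥(G F m)} {o o' : Pts F} {c : F} (h : g.1.val *ᵥ ovV m o = c • ovV m o') : act hθ g o = o' := by
  obtain ⟨d, hd, e⟩ := act_spec hθ g o
  refine ovV_eq (m := m) (c := c / d) ?_
  rw [e] at h
  rw [div_eq_inv_mul, mul_smul, ← h, inv_smul_smul₀ hd]

theorem act_one (o : Pts F) : act hθ 1 o = o := act_eq hθ (c := 1) (by simp)

theorem act_mul (g h : ↥(G F m)) (o : Pts F) : act hθ (g * h) o = act hθ g (act hθ h o) := by
  obtain ⟨c, -, e⟩ := act_spec hθ h o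
  obtain ⟨d, -, e'⟩ := act_spec hθ g (act hθ h o)
  refine act_eq hθ (c := c * d) ?_
  rw [Subgroup.coe_mul, Units.val_mul, ← Matrix.mulVec_mulVec, e, Matrix.mulVec_smul, e', smul_smul]

/-- The action as a structure. -/
@[reducible] def mulAction : MulAction ↥(G F m) (Pts F) where
  smul := act hθ
  one_smul := act_one hθ
  mul_smul := act_mul hθ

theorem act_inv_act (g : ↥(G F m)) (o : Pts F) : act hθ g⁻¹ (act hθ g o) = o := by
  rw [← act_mul, inv_mul_cancel, act_one]

theorem act_injective (g : ↥(G F m)) : Function.Injective (act hθ g) := fun o o' h => by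
  rw [← act_inv_act hθ g o, h, act_inv_act]

theorem act_u_none (a b : F) : act hθ (u hθ a b) none = none := by
  refine act_eq hθ (c := 1) ?_
  show (szUM m a b) *ᵥ _ = _
  rw [one_smul, show ovV (F := F) m none = Pi.single 3 1 from rfl, Matrix.mulVec_single_one]
  funext i; fin_cases i <;> simp [szUM]

theorem act_u_some (a b a' b' : F) :
    act hθ (u hθ a b) (some (a', b')) = some (a + a', b + b' + szTh m a * a') := by
  refine act_eq hθ (c := 1) ?_
  have h := congrArg (fun A : Matrix (Fin 4) (Fin 4) F => A *ᵥ Pi.single 0 1) (szUM_mul hθ a b a' b')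
  simp only [← Matrix.mulVec_mulVec] at h
  rw [one_smul]
  show szUM m a b *ᵥ _ = _
  have hs : ∀ x y : F, ovV m (some (x, y)) = szUM m x y *ᵥ Pi.single 0 1 := fun x y => by
    rw [Matrix.mulVec_single_one]; rfl
  rw [hs, hs, h]

theorem act_tor_none (k : Fˣ) : act hθ (tor hθ k) none = none := by
  refine act_eq hθ (c := (k : F)⁻¹) ?_
  show szHM m (k : F) *ᵥ _ = _
  funext i; fin_cases i <;> simp [szHM, ovV_none, Matrix.mulVec_diagonal]

theorem act_tor_some (k : Fˣ) (a b : F) :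
    act hθ (tor hθ k) (some (a, b)) = some (a * szTh m (k : F) / ((k : F) * k), b / szTh m (k : F)) := by
  refine act_eq hθ (c := (k : F)) ?_
  show szHM m (k : F) *ᵥ _ = _
  have hk := k.ne_zero
  have hk' : szTh m (k : F) ≠ 0 := (map_ne_zero _).mpr hk
  funext i
  fin_cases i <;> simp [szHM, ovV_some, Matrix.mulVec_diagonal, map_div₀, map_mul, hθ] <;> field_simp

theorem act_wel_none : act hθ (wel hθ) none = some (0, 0) := by
  refine act_eq hθ (c := 1) ?_
  show (szW : Matrix (Fin 4) (Fin 4) F) *ᵥ _ = _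
  funext i; fin_cases i <;> simp [szW, ovV_none, ovV_some, Matrix.mulVec, dotProduct, Fin.sum_univ_four]

theorem act_wel_zero : act hθ (wel hθ) (some (0, 0)) = none := by
  rw [← act_wel_none hθ, ← act_mul, wel_mul_self, act_one]

theorem stab_none {g : ↥(G F m)} (h : act hθ g none = none) : ∃ a b k, g = u hθ a b * tor hθ k := by
  obtain ⟨c, -, e⟩ := act_spec hθ g none
  rw [h] at e
  obtain ⟨a, b, k, hk⟩ := exists_bor hθ g.2 e
  exact ⟨a, b, k, Subtype.ext hk⟩

theorem stab_two {g : ↥(G F m)} (h : act hθ g none = none) (h' : act hθ g (some (0, 0)) = some (0, 0)) :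
    ∃ k, g = tor hθ k := by
  obtain ⟨a, b, k, rfl⟩ := stab_none hθ h
  rw [act_mul, act_tor_some] at h'
  simp only [zero_mul, zero_div, act_u_some, add_zero, mul_zero, Option.some.injEq, Prod.mk.injEq] at h'
  exact ⟨k, by rw [h'.1, h'.2, u_zero, one_mul]⟩

theorem two_transitive {o₁ o₂ : Pts F} (h : o₁ ≠ o₂) :
    ∃ g, act hθ g none = o₁ ∧ act hθ g (some (0, 0)) = o₂ := by
  obtain ⟨g₁, hg₁⟩ : ∃ g, act hθ g none = o₁ := by
    rcases o₁ with _ | ⟨a, b⟩
    · exact ⟨1, act_one hθ _⟩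
    · exact ⟨u hθ a b * wel hθ, by rw [act_mul, act_wel_none, act_u_some]; simp⟩
  rcases hx : act hθ g₁⁻¹ o₂ with _ | ⟨a, b⟩
  · exact absurd (by rw [← hg₁, ← hx, ← act_mul, mul_inv_cancel, act_one]) h
  · refine ⟨g₁ * u hθ a b, by rw [act_mul, act_u_none, hg₁], ?_⟩
    rw [act_mul, act_u_some, show (some (a + 0, b + 0 + szTh m a * 0) : Pts F) = some (a, b) by simp, ← hx, ← act_mul,
      mul_inv_cancel, act_one]

theorem three_fixed {g : ↥(G F m)} {o₁ o₂ o₃ : Pts F} (h12 : o₁ ≠ o₂) (h23 : o₂ ≠ o₃) (h13 : o₁ ≠ o₃)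
    (f1 : act hθ g o₁ = o₁) (f2 : act hθ g o₂ = o₂) (f3 : act hθ g o₃ = o₃) : g = 1 := by
  obtain ⟨c, hc1, hc2⟩ := two_transitive hθ h12
  have hh : ∀ o, act hθ g (act hθ c o) = act hθ c o → act hθ (c⁻¹ * g * c) o = o := fun o ho => by
    rw [act_mul, act_mul, ho, act_inv_act]
  obtain ⟨k, hk⟩ := stab_two hθ (hh none (by rw [hc1, f1])) (hh _ (by rw [hc2, f2]))
  have h3 : act hθ (c⁻¹ * g * c) (act hθ c⁻¹ o₃) = act hθ c⁻¹ o₃ := hh _ (by
    rw [show act hθ c (act hθ c⁻¹ o₃) = o₃ by rw [← act_mul, mul_inv_cancel, act_one], f3])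
  rw [hk] at h3
  rcases hx : act hθ c⁻¹ o₃ with _ | ⟨a, b⟩
  · exact absurd (by rw [← hc1, ← hx, ← act_mul, mul_inv_cancel, act_one]) h13
  · rw [hx, act_tor_some] at h3
    simp only [Option.some.injEq, Prod.mk.injEq] at h3
    have hk' : k = 1 := by
      rcases eq_or_ne a 0 with rfl | ha
      · rcases eq_or_ne b 0 with rfl | hb
        · exact absurd (by rw [← hc2, ← hx, ← act_mul, mul_inv_cancel, act_one]) h23
        · have := h3.2
          rw [div_eq_iff ((map_ne_zero _).mpr k.ne_zero)] at this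
          have h1 : szTh m (k : F) = 1 := mul_left_cancel₀ hb (by linear_combination -this)
          exact Units.ext ((szTh m).injective (h1.trans (map_one _).symm))
      · have := h3.1
        rw [div_eq_iff (mul_ne_zero k.ne_zero k.ne_zero)] at this
        exact th_div_sq_eq_one hθ (mul_left_cancel₀ ha (by linear_combination this))
    rw [hk', tor_one] at hk
    have : g = c * (c⁻¹ * g * c) * c⁻¹ := by group
    rw [this, hk, mul_one, mul_inv_cancel]

/-- The Sylow 2-subgroup of the Borel subgroup. -/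
def U : Subgroup ↥(G F m) where
  carrier := {g | ∃ a b, g = u hθ a b}
  mul_mem' := by rintro _ _ ⟨a, b, rfl⟩ ⟨a', b', rfl⟩; exact ⟨_, _, u_mul hθ a b a' b'⟩
  one_mem' := ⟨0, 0, (u_zero hθ).symm⟩
  inv_mem' := by rintro _ ⟨a, b, rfl⟩; exact ⟨_, _, u_inv hθ a b⟩

theorem u_mem (a b : F) : u hθ a b ∈ U hθ := ⟨a, b, rfl⟩

/-- The Borel subgroup. -/
def B : Subgroup ↥(G F m) where
  carrier := {g | act hθ g none = none}
  mul_mem' {g h} hg hh := by show act hθ (g * h) none = none; rw [act_mul, hh, hg]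
  one_mem' := act_one hθ none
  inv_mem' {g} hg := by
    show act hθ g⁻¹ none = none
    conv_lhs => rw [← (show act hθ g none = none from hg), act_inv_act]

theorem mem_B {g : ↥(G F m)} : g ∈ B hθ ↔ act hθ g none = none := Iff.rfl

theorem U_le_B : U hθ ≤ B hθ := by rintro _ ⟨a, b, rfl⟩; exact act_u_none hθ a b

theorem tor_mem_B (k : Fˣ) : tor hθ k ∈ B hθ := act_tor_none hθ k

theorem card_U : Nat.card (U hθ) = Fintype.card F * Fintype.card F := by
  rw [← Fintype.card_prod, ← Nat.card_eq_fintype_card]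
  refine (Nat.card_congr (Equiv.ofBijective (fun x : F × F => (⟨u hθ x.1 x.2, u_mem hθ x.1 x.2⟩ : ↥(U hθ))) ⟨?_, ?_⟩)).symm
  · intro x y h
    obtain ⟨h1, h2⟩ := u_injective hθ (congrArg Subtype.val h)
    exact Prod.ext h1 h2
  · rintro ⟨_, a, b, rfl⟩; exact ⟨(a, b), rfl⟩

theorem card_B : Nat.card (B hθ) = Fintype.card F * Fintype.card F * (Fintype.card F - 1) := by
  rw [← Nat.card_congr (Equiv.ofBijective (fun x : (F × F) × Fˣ =>
    (⟨u hθ x.1.1 x.1.2 * tor hθ x.2, mul_mem (U_le_B hθ (u_mem hθ _ _)) (tor_mem_B hθ _)⟩ : ↥(B hθ))) ⟨?_, ?_⟩)]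
  · rw [Nat.card_prod, Nat.card_prod, Nat.card_units, Nat.card_eq_fintype_card]
  · intro x y h
    obtain ⟨h1, h2, h3⟩ := bor_injective hθ (congrArg Subtype.val h)
    exact Prod.ext (Prod.ext h1 h2) h3
  · rintro ⟨g, hg⟩
    obtain ⟨a, b, k, rfl⟩ := stab_none hθ hg
    exact ⟨((a, b), k), rfl⟩

theorem card_sz : Nat.card ↥(G F m) =
    (Fintype.card F * Fintype.card F + 1) * (Fintype.card F * Fintype.card F * (Fintype.card F - 1)) := card_G hθ

theorem conj_mem_U {g : ↥(G F m)} (hg : g ∈ B hθ) {x : ↥(G F m)} (hx : x ∈ U hθ) : g * x * g⁻¹ ∈ U hθ := by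
  obtain ⟨a, b, k, rfl⟩ := stab_none hθ hg
  obtain ⟨a', b', rfl⟩ := hx
  rw [show u hθ a b * tor hθ k * u hθ a' b' * (u hθ a b * tor hθ k)⁻¹ =
    u hθ a b * (tor hθ k * u hθ a' b' * (tor hθ k)⁻¹) * (u hθ a b)⁻¹ by group, conj_u]
  exact mul_mem (mul_mem (u_mem hθ _ _) (u_mem hθ _ _)) (inv_mem (u_mem hθ _ _))

theorem u_fix_only {a b : F} (h : u hθ a b ≠ 1) {o : Pts F} (ho : act hθ (u hθ a b) o = o) : o = none := by
  rcases o with _ | ⟨a', b'⟩
  · rfl
  · exfalso
    rw [act_u_some] at ho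
    simp only [Option.some.injEq, Prod.mk.injEq, add_eq_right] at ho
    obtain ⟨h1, h2⟩ := ho
    rw [h1, map_zero, zero_mul, add_zero, add_eq_right] at h2
    exact h (by rw [h1, h2, u_zero])

theorem normalizer_U : Subgroup.normalizer (U hθ : Set ↥(G F m)) = B hθ := by
  ext g
  rw [Subgroup.mem_normalizer_iff]
  constructor
  · intro h
    have h1 : u hθ 0 1 ≠ 1 := fun e => by
      rw [← u_zero hθ] at e; exact one_ne_zero (u_injective hθ e).2
    obtain ⟨a, b, hab⟩ := (h _).mp (u_mem hθ 0 1)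
    have hne : u hθ a b ≠ 1 := fun e => h1 (conj_eq_one_iff.mp (hab.trans e))
    refine u_fix_only hθ hne ?_
    rw [← hab, act_mul, act_mul, act_inv_act, act_u_none]
  · intro hg x
    refine ⟨fun hx => conj_mem_U hθ hg hx, fun hx => ?_⟩
    have := conj_mem_U hθ (inv_mem hg) hx
    simpa [mul_assoc] using this

theorem not_dvd_cofactor (hq : 2 ∣ Fintype.card F) :
    ¬ 2 ∣ (Fintype.card F * Fintype.card F + 1) * (Fintype.card F - 1) := by
  intro h
  rcases (Nat.Prime.dvd_mul Nat.prime_two).mp h with h | h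
  · have : 2 ∣ Fintype.card F * Fintype.card F := hq.mul_right _
    omega
  · have := Fintype.one_lt_card (α := F)
    omega

/-- A Sylow 2-subgroup. -/
def sylow (hF : Fintype.card F = 2 ^ (2 * m + 1)) : Sylow 2 ↥(G F m) :=
  haveI : Fact (Nat.Prime 2) := ⟨Nat.prime_two⟩
  Sylow.ofCard (U hθ) (by
    rw [card_U hθ, card_sz hθ]
    have hodd : ¬ 2 ∣ (Fintype.card F * Fintype.card F + 1) * (Fintype.card F - 1) :=
      not_dvd_cofactor hθ (by rw [hF]; exact dvd_pow_self 2 (by omega))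
    have hpos : 1 < Fintype.card F := Fintype.one_lt_card
    have hX : (Fintype.card F * Fintype.card F + 1) * (Fintype.card F - 1) ≠ 0 :=
      Nat.mul_ne_zero (by omega) (by omega)
    rw [show (Fintype.card F * Fintype.card F + 1) * (Fintype.card F * Fintype.card F * (Fintype.card F - 1)) =
      2 ^ (4 * m + 2) * ((Fintype.card F * Fintype.card F + 1) * (Fintype.card F - 1)) by rw [hF]; ring,
      Nat.factorization_mul (by positivity) hX, Finsupp.add_apply, Nat.factorization_pow, Finsupp.smul_apply,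
      Nat.prime_two.factorization_self, Nat.factorization_eq_zero_of_not_dvd hodd, hF]
    ring)

theorem sylow_coe (hF : Fintype.card F = 2 ^ (2 * m + 1)) : (sylow hθ hF : Subgroup ↥(G F m)) = U hθ := rfl

theorem gens_le (K : Subgroup ↥(G F m)) (hU : ∀ a b, u hθ a b ∈ K) (hH : ∀ k, tor hθ k ∈ K) (hW : wel hθ ∈ K) :
    K = ⊤ := by
  rw [eq_top_iff]
  intro g _
  have := sz_le_of_gens hθ (K.map (G F m).subtype) (fun a b => ⟨_, hU a b, rfl⟩)
    (fun k hk => ⟨_, hH (Units.mk0 k hk), rfl⟩) ⟨_, hW, rfl⟩ g.2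
  obtain ⟨x, hx, hxg⟩ := Subgroup.mem_map.mp this
  rwa [show g = x from Subtype.ext hxg.symm]

theorem exists_two (hm : 1 ≤ m) (hF : Fintype.card F = 2 ^ (2 * m + 1)) : ∃ t : F, t ≠ 0 ∧ t ≠ 1 := by
  classical
  by_contra hcon
  push_neg at hcon
  have := Finset.card_le_card (show (Finset.univ : Finset F) ⊆ {0, 1} from fun x _ => by
    rcases eq_or_ne x 0 with h | h
    · simp [h]
    · simp [hcon x h])
  have h2 : ({0, 1} : Finset F).card ≤ 2 := Finset.card_le_two
  rw [Finset.card_univ, hF] at this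
  have : 2 ^ 3 ≤ 2 ^ (2 * m + 1) := Nat.pow_le_pow_right (by norm_num) (by omega)
  omega

theorem eq_top_of_center (hm : 1 ≤ m) (hF : Fintype.card F = 2 ^ (2 * m + 1)) (M : Subgroup ↥(G F m)) [M.Normal]
    (hZ : ∀ b, u hθ 0 b ∈ M) : M = ⊤ := by
  obtain ⟨t, ht0, ht1⟩ := exists_two hθ hm hF
  have := sz_le_of_central hθ ⟨t, ht0, ht1⟩ (M.map (G F m).subtype) ?_ (fun b => ⟨_, hZ b, rfl⟩)
  · rw [eq_top_iff]
    intro g _
    obtain ⟨x, hx, hxg⟩ := Subgroup.mem_map.mp (this g.2)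
    rwa [show g = x from Subtype.ext hxg.symm]
  · rintro g hg _ ⟨x, hx, rfl⟩
    exact ⟨⟨g, hg⟩ * x * ⟨g, hg⟩⁻¹, ‹M.Normal›.conj_mem x hx _, by simp⟩

theorem commutator_eq_top (hm : 1 ≤ m) (hF : Fintype.card F = 2 ^ (2 * m + 1)) : commutator ↥(G F m) = ⊤ := by
  obtain ⟨t, ht0, ht1⟩ := exists_two hθ hm hF
  refine eq_top_of_center hθ hm hF _ fun b => ?_
  set s := szTh m t with hs
  have hs0 : s ≠ 0 := (map_ne_zero _).mpr ht0
  have hs1 : 1 / s + 1 ≠ 0 := by
    intro h
    apply ht1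
    apply (szTh m).injective
    rw [map_one]
    have : 1 / s = 1 := by rw [CharTwo.add_eq_zero.mp h]
    field_simp at this
    exact this.symm
  set c := b / (1 / s + 1) with hc
  have hmem : tor hθ (Units.mk0 t ht0) * u hθ 0 c * (tor hθ (Units.mk0 t ht0))⁻¹ * (u hθ 0 c)⁻¹ ∈ commutator ↥(G F m) :=
    Subgroup.commutator_mem_commutator (Subgroup.mem_top _) (Subgroup.mem_top _)
  rw [conj_u, u_inv, u_mul] at hmem
  convert hmem using 2
  · simp
  · simp only [map_zero, zero_mul, zero_div, add_zero, mul_zero, Units.val_mk0, ← hs]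
    have hs2 : 1 + s ≠ 0 := fun h => hs1 (by field_simp; linear_combination h)
    rw [hc]
    field_simp

theorem U_solvable (hF : Fintype.card F = 2 ^ (2 * m + 1)) : Group.IsSolvable ↥(U hθ) := by
  haveI : Fact (Nat.Prime 2) := ⟨Nat.prime_two⟩
  haveI : Group.IsNilpotent ↥(U hθ) := IsPGroup.isNilpotent (IsPGroup.of_card (p := 2) (n := 4 * m + 2) (by
    rw [card_U, hF]; ring))
  infer_instance

theorem B_solvable (hF : Fintype.card F = 2 ^ (2 * m + 1)) : Group.IsSolvable ↥(B hθ) := by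
  classical
  have key : ∀ g : ↥(B hθ), ∃ k : Fˣ, ∃ a b, g.1 = u hθ a b * tor hθ k := fun g => by
    obtain ⟨a, b, k, h⟩ := stab_none hθ g.2; exact ⟨k, a, b, h⟩
  choose kf af bf hf using key
  let φ : ↥(B hθ) →* Fˣ := MonoidHom.mk' kf (fun g h => by
    have e : (g * h).1 = u hθ (af g + af h * szTh m (kf g : F) / ((kf g : F) * kf g))
        (bf g + bf h / szTh m (kf g : F) + szTh m (af g) * (af h * szTh m (kf g : F) / ((kf g : F) * kf g))) *
        tor hθ (kf g * kf h) := by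
      rw [Subgroup.coe_mul, hf g, hf h, mul_assoc, ← mul_assoc (tor hθ (kf g)), tor_u, mul_assoc, tor_mul,
        ← mul_assoc, u_mul]
    exact (bor_injective hθ ((hf (g * h)).symm.trans e)).2.2)
  haveI : Group.IsSolvable ↥(U hθ) := U_solvable hθ hF
  refine solvable_of_ker_le_range (Subgroup.inclusion (U_le_B hθ)) φ fun g hg => ?_
  have hk : kf g = 1 := MonoidHom.mem_ker.mp hg
  refine ⟨⟨g.1, af g, bf g, by rw [hf g, hk, tor_one, mul_one]⟩, Subtype.ext rfl⟩

theorem transitive_of_normal {N : Subgroup ↥(G F m)} [hN : N.Normal] (hne : N ≠ ⊥) (o : Pts F) :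
    ∃ n ∈ N, act hθ n none = o := by
  obtain ⟨g, hg, hg1⟩ := N.bot_or_exists_ne_one.resolve_left hne
  obtain ⟨o₁, ho₁⟩ : ∃ o₁, act hθ g o₁ ≠ o₁ := by
    by_contra hcon
    push_neg at hcon
    exact hg1 (three_fixed hθ (o₁ := none) (o₂ := some (0, 0)) (o₃ := some (1, 0)) (by simp) (by simp) (by simp)
      (hcon _) (hcon _) (hcon _))
  rcases eq_or_ne o none with rfl | ho
  · exact ⟨1, one_mem _, act_one hθ _⟩
  obtain ⟨c, hc1, hc2⟩ := two_transitive hθ ho₁.symm
  obtain ⟨d, hd1, hd2⟩ := two_transitive hθ ho.symm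
  refine ⟨d * c⁻¹ * g * (d * c⁻¹)⁻¹, hN.conj_mem g hg _, ?_⟩
  have e1 : act hθ c⁻¹ o₁ = none := by rw [← hc1, act_inv_act]
  have e2 : act hθ c⁻¹ (act hθ g o₁) = some (0, 0) := by rw [← hc2, act_inv_act]
  have e3 : act hθ d⁻¹ none = none := by conv_lhs => rw [← hd1, act_inv_act]
  rw [_root_.mul_inv_rev, inv_inv, act_mul, act_mul, act_mul, act_mul, e3, hc1, e2, hd2]

theorem isSimple (hm : 1 ≤ m) (hF : Fintype.card F = 2 ^ (2 * m + 1)) : IsSimpleGroup ↥(G F m) := by
  haveI : Nontrivial ↥(G F m) := ⟨⟨u hθ 0 1, 1, fun e => by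
    rw [← u_zero hθ] at e; exact one_ne_zero (u_injective hθ e).2⟩⟩
  refine ⟨fun N hN => or_iff_not_imp_left.mpr fun hne => ?_⟩
  haveI := B_solvable hθ hF
  have hsurj : Function.Surjective ((QuotientGroup.mk' N).comp (B hθ).subtype) := by
    intro x
    obtain ⟨g, rfl⟩ := QuotientGroup.mk'_surjective N x
    obtain ⟨n, hn, hn'⟩ := transitive_of_normal hθ hne (act hθ g none)
    refine ⟨⟨n⁻¹ * g, by rw [mem_B, act_mul, ← hn', act_inv_act]⟩, ?_⟩
    show ((n⁻¹ * g : ↥(G F m)) : ↥(G F m) ⧸ N) = g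
    rw [QuotientGroup.mk_mul, (QuotientGroup.eq_one_iff _).mpr (inv_mem hn), one_mul]
  haveI : Group.IsSolvable (↥(G F m) ⧸ N) := solvable_of_surjective hsurj
  by_contra hN'
  haveI : Nontrivial (↥(G F m) ⧸ N) := by
    obtain ⟨g, -, hg⟩ := SetLike.exists_of_lt (lt_top_iff_ne_top.mpr hN')
    exact ⟨⟨g, 1, fun e => hg ((QuotientGroup.eq_one_iff g).mp e)⟩⟩
  refine (IsSolvable.commutator_lt_top_of_nontrivial (↥(G F m) ⧸ N)).ne ?_
  rw [commutator_def, ← Subgroup.map_top_of_surjective _ (QuotientGroup.mk'_surjective N), ← Subgroup.map_commutator,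
    ← commutator_def, commutator_eq_top hθ hm hF]

end

end Cfsg.Agent.Lib.KnownA.Suz
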