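import Mathlib
import Cfsg.Agent.Lib.KnownA.SuzukiStructure
import Cfsg.Prelude.Def_LieExceptional

/-! Transfer to the ovoid stabiliser model, Sylow subgroup facts. -/

set_option autoImplicit false
set_option maxHeartbeats 400000

namespace Cfsg.Agent.Lib.KnownA.Suz

open Matrix Cfsg.Lie

set_option linter.unusedSectionVars false

noncomputable section

variable {F : Type*} [Field F] [Fintype F] [CharP F 2] {m : ℕ} (hθ : ∀ x : F, szTh m (szTh m x) = x * x)

/-- An ovoid point as a projective point. -/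
def ptP (m : ℕ) (o : Pts F) : Projectivization F (Fin 4 → F) :=
  Projectivization.mk F ((szW : Matrix (Fin 4) (Fin 4) F) *ᵥ ovV m o) (fun h => ovV_ne_zero (m := m) o (by
    have := congrArg ((szW : Matrix (Fin 4) (Fin 4) F) *ᵥ ·) h
    simp only [Matrix.mulVec_mulVec, szW_mul, Matrix.one_mulVec, Matrix.mulVec_zero] at this
    exact this))

theorem ptP_mem (o : Pts F) : ptP m o ∈ Cfsg.suzukiOvoid F m := by
  rw [ptP, mk_mem_ovoid_iff, Matrix.mulVec_mulVec, szW_mul, Matrix.one_mulVec]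
  exact ⟨o, 1, one_ne_zero, (one_smul _ _).symm⟩

theorem ptP_injective : Function.Injective (ptP (F := F) m) := fun o o' h => by
  obtain ⟨c, hc⟩ := (Projectivization.mk_eq_mk_iff F _ _ _ _).mp h
  have := congrArg ((szW : Matrix (Fin 4) (Fin 4) F) *ᵥ ·) hc
  simp only [Units.smul_def, Matrix.mulVec_smul, Matrix.mulVec_mulVec, szW_mul, Matrix.one_mulVec] at this
  exact ovV_eq this.symm

theorem ptP_surj {p : Projectivization F (Fin 4 → F)} (hp : p ∈ Cfsg.suzukiOvoid F m) : ∃ o, ptP m o = p := by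
  induction p using Projectivization.ind with
  | h v hv =>
    obtain ⟨o, c, hc, h⟩ := (mk_mem_ovoid_iff hv).mp hp
    refine ⟨o, (Projectivization.mk_eq_mk_iff F _ _ _ hv).mpr ⟨(Units.mk0 c hc)⁻¹, ?_⟩⟩
    have := congrArg ((szW : Matrix (Fin 4) (Fin 4) F) *ᵥ ·) h
    simp only [Matrix.mulVec_mulVec, szW_mul, Matrix.one_mulVec, Matrix.mulVec_smul] at this
    rw [Units.smul_def, Units.val_inv_eq_inv_val, Units.val_mk0, this, inv_smul_smul₀ hc]

theorem ptP_none : ptP (F := F) m none = Cfsg.suzukiPointInfinity F := by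
  refine (Projectivization.mk_eq_mk_iff F _ _ _ _).mpr ⟨1, ?_⟩
  rw [one_smul]
  funext i; fin_cases i <;> simp [szW, ovV_none, Matrix.mulVec, dotProduct, Fin.sum_univ_four]

theorem ptP_zero : ptP (F := F) m (some (0, 0)) = Cfsg.suzukiPointZero F := by
  refine (Projectivization.mk_eq_mk_iff F _ _ _ _).mpr ⟨1, ?_⟩
  rw [one_smul]
  funext i; fin_cases i <;> simp [szW, ovV_some, Matrix.mulVec, dotProduct, Fin.sum_univ_four]

include hθ

/-- The model isomorphism twisted to match the actions. -/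
def model (hm : 1 ≤ m) (hF : Fintype.card F = 2 ^ (2 * m + 1)) : ↥(Cfsg.Sz F m) ≃* ↥(G F m) :=
  (szBridge hθ hm hF).trans (MulAut.conj (wel hθ))

theorem model_smul (hm : 1 ≤ m) (hF : Fintype.card F = 2 ^ (2 * m + 1)) (g : ↥(Cfsg.Sz F m)) (o : Pts F) :
    g • ptP m o = ptP m (act hθ (model hθ hm hF g) o) := by
  obtain ⟨c, hc, h⟩ := act_spec hθ (model hθ hm hF g) o
  have hw : (wel hθ)⁻¹ = wel hθ := inv_eq_of_mul_eq_one_right (wel_mul_self hθ)
  have hval : (model hθ hm hF g).1.val = (szW : Matrix (Fin 4) (Fin 4) F) *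
      ((g.1 : Matrix.SpecialLinearGroup (Fin 4) F) : Matrix (Fin 4) (Fin 4) F) * szW := by
    show (wel hθ * szBridge hθ hm hF g * (wel hθ)⁻¹).1.val = _
    rw [hw]; rfl
  have h2 : ((g.1 : Matrix.SpecialLinearGroup (Fin 4) F) : Matrix (Fin 4) (Fin 4) F) *ᵥ ((szW : Matrix (Fin 4) (Fin 4) F) *ᵥ ovV m o)
      = c • ((szW : Matrix (Fin 4) (Fin 4) F) *ᵥ ovV m (act hθ (model hθ hm hF g) o)) := by
    rw [← Matrix.mulVec_smul, ← h, hval, ← Matrix.mulVec_mulVec, ← Matrix.mulVec_mulVec, Matrix.mulVec_mulVec _ szW szW,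
      szW_mul, Matrix.one_mulVec]
  show (g.1 : Matrix.SpecialLinearGroup (Fin 4) F) • ptP m o = _
  rw [ptP, smul_mk' g.1 _ (by rw [h2]; exact smul_ne_zero hc (fun e => ovV_ne_zero (m := m) (act hθ (model hθ hm hF g) o) (by
    have := congrArg ((szW : Matrix (Fin 4) (Fin 4) F) *ᵥ ·) e
    simp only [Matrix.mulVec_mulVec, szW_mul, Matrix.one_mulVec, Matrix.mulVec_zero] at this
    exact this)))]
  exact (Projectivization.mk_eq_mk_iff F _ _ _ _).mpr ⟨Units.mk0 c hc, h2.symm⟩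

theorem mem_stab_iff (hm : 1 ≤ m) (hF : Fintype.card F = 2 ^ (2 * m + 1)) (g : ↥(Cfsg.Sz F m)) (o : Pts F) :
    g ∈ MulAction.stabilizer ↥(Cfsg.Sz F m) (ptP m o) ↔ act hθ (model hθ hm hF g) o = o := by
  rw [MulAction.mem_stabilizer_iff, model_smul hθ hm hF]
  exact ptP_injective.eq_iff

theorem exists_sylow_equiv {H : Type*} [Group H] (e : H ≃* ↥(G F m)) (hF : Fintype.card F = 2 ^ (2 * m + 1))
    (P : Sylow 2 H) : ∃ e' : H ≃* ↥(G F m), (P : Subgroup H).map e'.toMonoidHom = U hθ := by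
  haveI : Fact (Nat.Prime 2) := ⟨Nat.prime_two⟩
  haveI : Finite H := Finite.of_equiv _ e.symm.toEquiv
  let P' : Sylow 2 ↥(G F m) := Sylow.ofCard ((P : Subgroup H).map e.toMonoidHom) (by
    rw [Subgroup.card_map_of_injective e.injective, P.card_eq_multiplicity, Nat.card_congr e.toEquiv])
  obtain ⟨g, hg⟩ := MulAction.exists_smul_eq ↥(G F m) P' (sylow hθ hF)
  refine ⟨e.trans (MulAut.conj g), ?_⟩
  rw [← sylow_coe hθ hF, ← hg, Sylow.coe_subgroup_smul, show (e.trans (MulAut.conj g)).toMonoidHom =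
    (MulAut.conj g).toMonoidHom.comp e.toMonoidHom from rfl, ← Subgroup.map_map]
  rfl

theorem u_sq (a b : F) : u hθ a b * u hθ a b = u hθ 0 (szTh m a * a) := by
  rw [u_mul, CharTwo.add_self_eq_zero, CharTwo.add_self_eq_zero, zero_add]

theorem center_U_iff (hm : 1 ≤ m) (hF : Fintype.card F = 2 ^ (2 * m + 1)) (a b : F) :
    (⟨u hθ a b, u_mem hθ a b⟩ : ↥(U hθ)) ∈ Subgroup.center ↥(U hθ) ↔ a = 0 := by
  rw [Subgroup.mem_center_iff]
  constructor
  · intro h
    have key : ∀ a' : F, szTh m a' * a = szTh m a * a' := fun a' => by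
      have e := (u_injective hθ (a := a' + a) (b := 0 + b + szTh m a' * a) (a' := a + a') (b' := b + 0 + szTh m a * a') (by
        rw [← u_mul, ← u_mul]; exact congrArg Subtype.val (h ⟨u hθ a' 0, u_mem hθ a' 0⟩))).2
      linear_combination e
    by_contra ha
    obtain ⟨t, ht0, ht1⟩ := exists_two hθ hm hF
    have h1 : szTh m a = a := by have := key 1; rw [map_one, one_mul, mul_one] at this; exact this.symm
    have h2 := key t
    rw [h1] at h2
    have h3 : szTh m t = t := mul_right_cancel₀ ha (by linear_combination h2)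
    have h4 := hθ t
    rw [h3, h3] at h4
    exact ht1 (mul_left_cancel₀ ht0 (by linear_combination -h4))
  · rintro rfl ⟨_, a', b', rfl⟩
    apply Subtype.ext
    show u hθ a' b' * u hθ 0 b = u hθ 0 b * u hθ a' b'
    rw [u_mul, u_mul, map_zero, mul_zero, zero_mul, add_zero, add_zero, zero_add, add_zero, add_comm b' b]

theorem card_center_U (hm : 1 ≤ m) (hF : Fintype.card F = 2 ^ (2 * m + 1)) :
    Nat.card (Subgroup.center ↥(U hθ)) = Fintype.card F := by
  rw [← Nat.card_eq_fintype_card]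
  refine (Nat.card_congr (Equiv.ofBijective (fun b : F => (⟨⟨u hθ 0 b, u_mem hθ 0 b⟩,
    (center_U_iff hθ hm hF 0 b).mpr rfl⟩ : ↥(Subgroup.center ↥(U hθ)))) ⟨?_, ?_⟩)).symm
  · intro x y h
    exact (u_injective hθ (congrArg (fun t : ↥(Subgroup.center ↥(U hθ)) => t.1.1) h)).2
  · rintro ⟨⟨_, a, b, rfl⟩, hx⟩
    obtain rfl := (center_U_iff hθ hm hF a b).mp hx
    exact ⟨b, rfl⟩

theorem exists_comm_center (hm : 1 ≤ m) (hF : Fintype.card F = 2 ^ (2 * m + 1)) (b : F) :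
    ∃ x y : ↥(U hθ), x * y * x⁻¹ * y⁻¹ = ⟨u hθ 0 b, u_mem hθ 0 b⟩ := by
  obtain ⟨t, ht0, ht1⟩ := exists_two hθ hm hF
  have hd : szTh m t + t ≠ 0 := fun h => by
    have h3 : szTh m t = t := CharTwo.add_eq_zero.mp h
    have h4 := hθ t
    rw [h3, h3] at h4
    exact ht1 (mul_left_cancel₀ ht0 (by linear_combination -h4))
  obtain ⟨c, hc⟩ := (th_mul_self_bij hθ).2 (b / (szTh m t + t))
  refine ⟨⟨u hθ (c * t) 0, u_mem hθ _ _⟩, ⟨u hθ c 0, u_mem hθ _ _⟩, Subtype.ext ?_⟩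
  show u hθ (c * t) 0 * u hθ c 0 * (u hθ (c * t) 0)⁻¹ * (u hθ c 0)⁻¹ = u hθ 0 b
  have h2 : (2 : F) = 0 := CharTwo.two_eq_zero
  rw [u_inv, u_inv, u_mul, u_mul, u_mul]
  have hb : b = szTh m c * c * (szTh m t + t) := by rw [show szTh m c * c = _ from hc, div_mul_cancel₀ _ hd]
  congr 1
  · linear_combination (c * t + c) * h2
  · simp only [map_add, map_mul]
    rw [hb]
    linear_combination (szTh m c * szTh m t * (c * t) + szTh m c * c + szTh m c * (c * t) + szTh m c * szTh m t * c - szTh m c * c * t) * h2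

theorem commutator_U (hm : 1 ≤ m) (hF : Fintype.card F = 2 ^ (2 * m + 1)) :
    Subgroup.center ↥(U hθ) = commutator ↥(U hθ) := by
  refine le_antisymm ?_ ?_
  · rintro ⟨_, a, b, rfl⟩ hx
    obtain rfl := (center_U_iff hθ hm hF a b).mp hx
    obtain ⟨x, y, h⟩ := exists_comm_center hθ hm hF b
    rw [← h]
    exact Subgroup.commutator_mem_commutator (Subgroup.mem_top x) (Subgroup.mem_top y)
  · rw [commutator_def, Subgroup.commutator_le]
    rintro ⟨_, a, b, rfl⟩ - ⟨_, a', b', rfl⟩ -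
    have e : ∃ b'' : F, u hθ a b * u hθ a' b' * (u hθ a b)⁻¹ * (u hθ a' b')⁻¹ = u hθ 0 b'' := by
      rw [u_inv, u_inv, u_mul, u_mul, u_mul]
      exact ⟨_, congrArg (u hθ · _) (show a + a' + a + a' = 0 by
        linear_combination (a + a') * (CharTwo.two_eq_zero : (2 : F) = 0))⟩
    obtain ⟨b'', e⟩ := e
    have : (⟨u hθ a b, u_mem hθ a b⟩ * ⟨u hθ a' b', u_mem hθ a' b'⟩ * ⟨u hθ a b, u_mem hθ a b⟩⁻¹ *
      ⟨u hθ a' b', u_mem hθ a' b'⟩⁻¹ : ↥(U hθ)) = ⟨u hθ 0 b'', u_mem hθ 0 b''⟩ := Subtype.ext e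
    rw [commutatorElement_def, this]
    exact (center_U_iff hθ hm hF 0 b'').mpr rfl

theorem exponent_U : Monoid.exponent ↥(U hθ) = 4 := by
  have h1 : ∀ x : ↥(U hθ), x ^ 4 = 1 := by
    rintro ⟨_, a, b, rfl⟩
    apply Subtype.ext
    show u hθ a b ^ 4 = 1
    rw [pow_succ, pow_succ, pow_succ, pow_one, mul_assoc (u hθ a b * u hθ a b), u_sq, u_sq, map_zero, zero_mul, u_zero]
  have h2 : Monoid.exponent ↥(U hθ) ∣ 4 := Monoid.exponent_dvd_of_forall_pow_eq_one h1
  have hne : ¬ Monoid.exponent ↥(U hθ) ∣ 2 := fun h => by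
    have := Monoid.exponent_dvd_iff_forall_pow_eq_one.mp h ⟨u hθ 1 0, u_mem hθ 1 0⟩
    have e : u hθ 1 0 ^ 2 = 1 := congrArg Subtype.val this
    rw [sq, u_sq, map_one, one_mul, ← u_zero hθ] at e
    exact one_ne_zero (u_injective hθ e).2
  have h3 : Monoid.exponent ↥(U hθ) ∈ Nat.divisors 4 := Nat.mem_divisors.mpr ⟨h2, by norm_num⟩
  rw [show Nat.divisors 4 = {1, 2, 4} by decide] at h3
  simp only [Finset.mem_insert, Finset.mem_singleton] at h3
  rcases h3 with h | h | h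
  · exact absurd (h ▸ one_dvd _) hne
  · exact absurd (h ▸ dvd_rfl) hne
  · exact h

theorem real_U (g : ↥(G F m)) {a b : F} (h : g * u hθ a b * g⁻¹ = (u hθ a b)⁻¹) : a = 0 := by
  by_contra ha
  have h1 : u hθ a b ≠ 1 := fun e => by
    rw [← u_zero hθ] at e; exact ha (u_injective hθ e).1
  have hgB : g ∈ B hθ := by
    refine u_fix_only hθ (a := a) (b := b + szTh m a * a) (by rw [← u_inv]; exact inv_ne_one.mpr h1) ?_
    rw [← u_inv hθ a b, ← h, act_mul, act_mul, act_inv_act, act_u_none]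
  obtain ⟨a', b', k, rfl⟩ := stab_none hθ hgB
  rw [show u hθ a' b' * tor hθ k * u hθ a b * (u hθ a' b' * tor hθ k)⁻¹ =
    u hθ a' b' * (tor hθ k * u hθ a b * (tor hθ k)⁻¹) * (u hθ a' b')⁻¹ by group, conj_u, u_inv, u_inv, u_mul, u_mul] at h
  obtain ⟨e1, e2⟩ := u_injective hθ h
  have h2 : (2 : F) = 0 := CharTwo.two_eq_zero
  have hk : k = 1 := by
    refine th_div_sq_eq_one hθ ?_
    have e3 : a * szTh m (k : F) / ((k : F) * k) = a := by linear_combination e1 - a' * h2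
    rw [div_eq_iff (mul_ne_zero k.ne_zero k.ne_zero)] at e3
    exact mul_left_cancel₀ ha e3
  subst hk
  simp only [Units.val_one, map_one, mul_one, div_one, map_add] at e2
  set x := a' / a with hxdef
  have hx : a' = x * a := by rw [hxdef, div_mul_cancel₀ _ ha]
  have hne0 : szTh m a * a ≠ 0 := mul_ne_zero ((map_ne_zero _).mpr ha) ha
  have e4 : x + szTh m x = 1 := by
    apply mul_left_cancel₀ hne0
    rw [hx] at e2
    simp only [map_mul] at e2
    linear_combination e2 - (b' + szTh m x * szTh m a * (x * a)) * h2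
  have e5 := congrArg (szTh m) e4
  rw [map_add, map_one, hθ] at e5
  have e6 : x * (x - 1) = 0 := by linear_combination e5 - e4
  rcases mul_eq_zero.mp e6 with h0 | h0
  · rw [h0, map_zero, add_zero] at e4; exact zero_ne_one e4
  · rw [sub_eq_zero.mp h0, map_one] at e4; exact one_ne_zero (by linear_combination -e4 + h2)

theorem max_over_U (hm : 1 ≤ m) (hF : Fintype.card F = 2 ^ (2 * m + 1)) (M : Subgroup ↥(G F m)) (hU : U hθ ≤ M)
    (hMB : ¬ M ≤ B hθ) : M = ⊤ := by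
  haveI := isSimple hθ hm hF
  obtain ⟨g, hg, hgn⟩ := SetLike.not_le_iff_exists.mp hMB
  obtain ⟨a, b, hab⟩ : ∃ a b, act hθ g none = some (a, b) := by
    rcases h : act hθ g none with _ | ⟨a, b⟩
    · exact absurd h hgn
    · exact ⟨a, b, rfl⟩
  set g' := (u hθ a b)⁻¹ * g with hg'
  have hg'M : g' ∈ M := mul_mem (inv_mem (hU (u_mem hθ a b))) hg
  have hp : act hθ (wel hθ * g') none = none := by
    rw [act_mul, hg', act_mul, hab, u_inv, act_u_some]
    rw [show (some (a + a, b + szTh m a * a + b + szTh m a * a) : Pts F) = some (0, 0) by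
      rw [CharTwo.add_self_eq_zero, show b + szTh m a * a + b + szTh m a * a = 0 by
        linear_combination (b + szTh m a * a) * (CharTwo.two_eq_zero : (2 : F) = 0)]]
    exact act_wel_zero hθ
  have hconj : ∀ a b, wel hθ * u hθ a b * wel hθ ∈ M := fun a b => by
    have h1 := conj_mem_U hθ (inv_mem (show wel hθ * g' ∈ B hθ from hp)) (u_mem hθ a b)
    have e : wel hθ * u hθ a b * wel hθ = g' * ((wel hθ * g')⁻¹ * u hθ a b * (wel hθ * g')⁻¹⁻¹) * g'⁻¹ := by
      rw [inv_inv, _root_.mul_inv_rev, inv_eq_of_mul_eq_one_right (wel_mul_self hθ)]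
      group
    rw [e]
    exact mul_mem (mul_mem hg'M (hU h1)) (inv_mem hg'M)
  set W := wel hθ with hWdef
  have hW2 : W * W = 1 := wel_mul_self hθ
  set K := Subgroup.closure {x : ↥(G F m) | ∃ a b, x = u hθ a b ∨ x = W * u hθ a b * W} with hK
  have hKM : K ≤ M := (Subgroup.closure_le M).mpr (by
    rintro x ⟨a, b, rfl | rfl⟩
    · exact hU (u_mem hθ a b)
    · exact hconj a b)
  have hgen : ∀ y, (∀ a b, y * u hθ a b * y⁻¹ ∈ K) → (∀ a b, y * (W * u hθ a b * W) * y⁻¹ ∈ K) →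
      ∀ x ∈ K, y * x * y⁻¹ ∈ K := by
    intro y h1 h2 x hx
    induction hx using Subgroup.closure_induction with
    | mem t ht =>
      rcases ht with ⟨a, b, rfl | rfl⟩
      · exact h1 a b
      · exact h2 a b
    | one => simp
    | mul s t _ _ hs ht => rw [show y * (s * t) * y⁻¹ = y * s * y⁻¹ * (y * t * y⁻¹) by group]; exact mul_mem hs ht
    | inv s _ hs => rw [show y * s⁻¹ * y⁻¹ = (y * s * y⁻¹)⁻¹ by group]; exact inv_mem hs
  have hu1 : ∀ a b, u hθ a b ∈ K := fun a b => Subgroup.subset_closure ⟨a, b, Or.inl rfl⟩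
  have hu2 : ∀ a b, W * u hθ a b * W ∈ K := fun a b => Subgroup.subset_closure ⟨a, b, Or.inr rfl⟩
  have hnorm : Subgroup.normalizer (K : Set ↥(G F m)) = ⊤ := by
    have key : ∀ y, (∀ x ∈ K, y * x * y⁻¹ ∈ K) → (∀ x ∈ K, y⁻¹ * x * y⁻¹⁻¹ ∈ K) →
        y ∈ Subgroup.normalizer (K : Set ↥(G F m)) := fun y h1 h2 => by
      rw [Subgroup.mem_normalizer_iff]
      exact fun x => ⟨h1 x, fun hx => by have := h2 _ hx; simpa [mul_assoc] using this⟩
    refine gens_le hθ _ (fun a b => Subgroup.le_normalizer (hu1 a b)) (fun k => ?_) ?_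
    · have hk : ∀ k : Fˣ, ∀ x ∈ K, tor hθ k * x * (tor hθ k)⁻¹ ∈ K := fun k => hgen _
        (fun a b => by rw [conj_u]; exact hu1 _ _) (fun a b => by
          have e : tor hθ k * (W * u hθ a b * W) * (tor hθ k)⁻¹ = W * (tor hθ k⁻¹ * u hθ a b * (tor hθ k⁻¹)⁻¹) * W := by
            have e1 : tor hθ k * W = W * tor hθ k⁻¹ := by rw [hWdef, wel_tor, inv_inv]
            have e2 : W * (tor hθ k)⁻¹ = (tor hθ k⁻¹)⁻¹ * W := by
              rw [tor_inv, tor_inv, hWdef, wel_tor]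
            calc tor hθ k * (W * u hθ a b * W) * (tor hθ k)⁻¹ = tor hθ k * W * u hθ a b * (W * (tor hθ k)⁻¹) := by group
              _ = _ := by rw [e1, e2]; group
          rw [e, conj_u]; exact hu2 _ _)
      exact key _ (hk k) (fun x hx => by rw [tor_inv]; exact hk _ x hx)
    · have hWi : W⁻¹ = W := inv_eq_of_mul_eq_one_right hW2
      have hw : ∀ x ∈ K, W * x * W⁻¹ ∈ K := hgen _ (fun a b => by rw [hWi]; exact hu2 a b) (fun a b => by
        rw [hWi, show W * (W * u hθ a b * W) * W = (W * W) * u hθ a b * (W * W) by group, hW2, one_mul, mul_one]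
        exact hu1 a b)
      exact key _ hw (fun x hx => by rw [hWi, hWi]; simpa [hWi] using hw x hx)
  haveI : K.Normal := Subgroup.normalizer_eq_top_iff.mp hnorm
  rcases IsSimpleGroup.eq_bot_or_eq_top_of_normal K ‹_› with h | h
  · exfalso
    have := hu1 0 1
    rw [h, Subgroup.mem_bot, ← u_zero hθ] at this
    exact one_ne_zero (u_injective hθ this).2
  · exact top_le_iff.mp (h ▸ hKM)

theorem B_ne_top : B hθ ≠ ⊤ := fun h => by
  have : act hθ (wel hθ) none = none := (mem_B hθ).mp (h ▸ Subgroup.mem_top _)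
  rw [act_wel_none] at this
  exact Option.some_ne_none _ this

theorem two_generated (hm : 1 ≤ m) (hF : Fintype.card F = 2 ^ (2 * m + 1)) :
    ∃ a b : ↥(G F m), Subgroup.closure ({a, b} : Set ↥(G F m)) = ⊤ := by
  obtain ⟨ζ, hζ⟩ := IsCyclic.exists_generator (α := Fˣ)
  set W := wel hθ
  refine ⟨tor hθ ζ, u hθ 1 0 * W, ?_⟩
  set M := Subgroup.closure ({tor hθ ζ, u hθ 1 0 * W} : Set ↥(G F m)) with hM
  have ha : tor hθ ζ ∈ M := Subgroup.subset_closure (Set.mem_insert _ _)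
  have hb : u hθ 1 0 * W ∈ M := Subgroup.subset_closure (Set.mem_insert_of_mem _ rfl)
  have hT : ∀ k, tor hθ k ∈ M := fun k => by
    obtain ⟨j, hj⟩ := Subgroup.mem_zpowers_iff.mp (hζ k)
    rw [← hj, show tor hθ (ζ ^ j) = tor hθ ζ ^ j from (torHom hθ).map_zpow ζ j]
    exact zpow_mem ha j
  have hWi : W⁻¹ = W := inv_eq_of_mul_eq_one_right (wel_mul_self hθ)
  -- a unipotent element with nonzero first coordinate
  have hz : u hθ 1 0 * (tor hθ ζ⁻¹ * (u hθ 1 0)⁻¹ * (tor hθ ζ⁻¹)⁻¹) ∈ M := by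
    have e1 : W * tor hθ ζ * W⁻¹ = tor hθ ζ⁻¹ := by rw [wel_tor, mul_inv_cancel_right]
    have e : u hθ 1 0 * (tor hθ ζ⁻¹ * (u hθ 1 0)⁻¹ * (tor hθ ζ⁻¹)⁻¹) =
        (u hθ 1 0 * W) * tor hθ ζ * (u hθ 1 0 * W)⁻¹ * tor hθ ζ := by
      rw [_root_.mul_inv_rev, tor_inv hθ ζ⁻¹, inv_inv,
        show u hθ 1 0 * W * tor hθ ζ * (W⁻¹ * (u hθ 1 0)⁻¹) * tor hθ ζ =
          u hθ 1 0 * (W * tor hθ ζ * W⁻¹) * (u hθ 1 0)⁻¹ * tor hθ ζ by group, e1]
      group
    rw [e]
    exact mul_mem (mul_mem (mul_mem hb ha) (inv_mem hb)) ha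
  rw [u_inv, conj_u, u_mul] at hz
  obtain ⟨a₀, b₀, ha₀, hz'⟩ : ∃ a₀ b₀, a₀ ≠ 0 ∧ u hθ a₀ b₀ ∈ M := by
    refine ⟨_, _, ?_, hz⟩
    intro h0
    have h0' : szTh m ((ζ⁻¹ : Fˣ) : F) / (((ζ⁻¹ : Fˣ) : F) * ((ζ⁻¹ : Fˣ) : F)) = 1 := by
      rw [one_mul] at h0; exact (CharTwo.add_eq_zero.mp h0).symm
    rw [div_eq_one_iff_eq (mul_ne_zero (Units.ne_zero _) (Units.ne_zero _))] at h0'
    have hz1 : ζ = 1 := inv_eq_one.mp (th_div_sq_eq_one hθ h0')
    obtain ⟨t, ht0, ht1⟩ := exists_two hθ hm hF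
    obtain ⟨j, hj⟩ := Subgroup.mem_zpowers_iff.mp (hζ (Units.mk0 t ht0))
    rw [hz1, _root_.one_zpow] at hj
    exact ht1 (congrArg Units.val hj).symm
  have hfirst : ∀ c : F, ∃ e, u hθ c e ∈ M := fun c => by
    rcases eq_or_ne c 0 with rfl | hc
    · exact ⟨0, by rw [u_zero]; exact one_mem _⟩
    obtain ⟨k, hk⟩ := exists_weight hθ (div_ne_zero hc ha₀)
    refine ⟨b₀ / szTh m (k : F), ?_⟩
    have := mul_mem (mul_mem (hT k) hz') (inv_mem (hT k))
    rw [conj_u] at this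
    rwa [show a₀ * szTh m (k : F) / ((k : F) * k) = c by rw [mul_div_assoc, hk]; field_simp] at this
  have hcent : ∀ b, u hθ 0 b ∈ M := fun b => by
    obtain ⟨c, hc⟩ := (th_mul_self_bij hθ).2 b
    obtain ⟨e, he⟩ := hfirst c
    rw [← show szTh m c * c = b from hc, ← u_sq hθ c e]
    exact mul_mem he he
  have hU : ∀ a b, u hθ a b ∈ M := fun a b => by
    obtain ⟨e, he⟩ := hfirst a
    have := mul_mem he (hcent (b + e))
    rw [u_mul, add_zero, mul_zero, add_zero] at this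
    rwa [show e + (b + e) = b by linear_combination e * (CharTwo.two_eq_zero : (2 : F) = 0)] at this
  have hW : W ∈ M := by simpa using mul_mem (inv_mem (hU 1 0)) hb
  exact gens_le hθ M hU hT hW

end

end Cfsg.Agent.Lib.KnownA.Suz
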