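import Mathlib
import Cfsg.Agent.Lib.KnownA.SuzukiStructure
import Cfsg.Agent.Lib.KnownA.SuzukiModel

/-! Homomorphisms between Suzuki groups: every embedding is a field embedding followed by a conjugation. -/

set_option autoImplicit false
set_option maxHeartbeats 400000

namespace Cfsg.Agent.Lib.KnownA.Suz

open Matrix Cfsg.Lie

set_option linter.unusedSectionVars false

noncomputable section

variable {F : Type*} [Field F] [Fintype F] [CharP F 2] {m : ℕ} (hθ : ∀ x : F, szTh m (szTh m x) = x * x)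
variable {K : Type*} [Field K] [Fintype K] [CharP K 2] {k : ℕ} (hθK : ∀ x : K, szTh k (szTh k x) = x * x)

theorem th_compat {n : ℕ} (hK : Fintype.card K = 2 ^ (2 * k + 1)) (hdiv : 2 * k + 1 ∣ 2 * n + 1) (x : K) :
    szTh n x = szTh k x := by
  obtain ⟨c, hc⟩ := hdiv
  obtain ⟨i, rfl⟩ : ∃ i, c = 2 * i + 1 := by
    rcases Nat.even_or_odd' c with ⟨i, rfl | rfl⟩
    · exfalso
      rw [show (2 * k + 1) * (2 * i) = 2 * ((2 * k + 1) * i) by ring] at hc
      omega
    · exact ⟨i, rfl⟩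
  have hn : n = i * (2 * k + 1) + k := by
    rw [show (2 * k + 1) * (2 * i + 1) = 2 * (i * (2 * k + 1)) + (2 * k + 1) by ring] at hc
    omega
  rw [szTh_apply, szTh_apply, hn, show i * (2 * k + 1) + k + 1 = i * (2 * k + 1) + (k + 1) by ring, pow_add, pow_mul,
    Nat.mul_comm i, pow_mul 2 (2 * k + 1) i, ← hK, FiniteField.pow_card_pow]

theorem hcomp_of_dvd (hK : Fintype.card K = 2 ^ (2 * k + 1)) (hdiv : 2 * k + 1 ∣ 2 * m + 1) (ι : K →+* F) (x : K) :
    ι (szTh k x) = szTh m (ι x) := by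
  rw [← th_compat (n := m) hK hdiv, szTh_apply, szTh_apply, map_pow]

/-- The entrywise map on GL₄. -/
def glMap (ι : K →+* F) : GL (Fin 4) K →* GL (Fin 4) F := Units.map ι.mapMatrix.toMonoidHom

omit [Fintype F] [CharP F 2] [Fintype K] [CharP K 2] in
theorem glMap_val (ι : K →+* F) (g : GL (Fin 4) K) : (glMap ι g).val = g.val.map ι := rfl

variable (ι : K →+* F) (hcomp : ∀ x, ι (szTh k x) = szTh m (ι x))

include hcomp hθ hθK

theorem glMap_szU (a b : K) : glMap ι (szU' hθK a b) = szU' hθ (ι a) (ι b) := by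
  apply Units.ext
  show (szUM k a b).map ι = szUM m (ι a) (ι b)
  ext i j
  fin_cases i <;> fin_cases j <;> simp [szUM, hcomp]

theorem glMap_szH {l : K} (hl : l ≠ 0) :
    glMap ι (szH' (m := k) hl) = szH' (m := m) ((map_ne_zero ι).mpr hl) := by
  apply Units.ext
  show (szHM k l).map ι = szHM m (ι l)
  rw [szHM, szHM, Matrix.diagonal_map (map_zero ι)]
  congr 1
  funext i
  fin_cases i <;> simp [hcomp, map_div₀]

omit hcomp hθ hθK in
theorem glMap_szW : glMap ι (szUnitW : GL (Fin 4) K) = szUnitW := by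
  apply Units.ext
  show (szW : Matrix (Fin 4) (Fin 4) K).map ι = szW
  ext i j
  fin_cases i <;> fin_cases j <;> simp [szW]

theorem glMap_mem {g : GL (Fin 4) K} (hg : g ∈ G K k) : glMap ι g ∈ G F m :=
  sz_le_of_gens hθK ((G F m).comap (glMap ι))
    (fun a b => by rw [Subgroup.mem_comap, glMap_szU hθ hθK ι hcomp]; exact szU'_mem hθ _ _)
    (fun l hl => by rw [Subgroup.mem_comap, glMap_szH hθ hθK ι hcomp hl]; exact szH'_mem hθ _)
    (by rw [Subgroup.mem_comap, glMap_szW]; exact szUnitW_mem' hθ) hg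

/-- The homomorphism induced by a compatible field embedding. -/
def mapSz : ↥(G K k) →* ↥(G F m) :=
  ((glMap ι).comp (G K k).subtype).codRestrict _ fun g => glMap_mem hθ hθK ι hcomp g.2

theorem mapSz_coe (g : ↥(G K k)) : (mapSz hθ hθK ι hcomp g).1 = glMap ι g.1 := rfl

theorem mapSz_u (a b : K) : mapSz hθ hθK ι hcomp (u hθK a b) = u hθ (ι a) (ι b) :=
  Subtype.ext (glMap_szU hθ hθK ι hcomp a b)

theorem mapSz_tor (l : Kˣ) : mapSz hθ hθK ι hcomp (tor hθK l) = tor hθ (Units.map ι.toMonoidHom l) :=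
  Subtype.ext (glMap_szH hθ hθK ι hcomp l.ne_zero)

theorem mapSz_wel : mapSz hθ hθK ι hcomp (wel hθK) = wel hθ := Subtype.ext (glMap_szW ι)

theorem mapSz_injective : Function.Injective (mapSz hθ hθK ι hcomp) := by
  intro g h e
  have e' := congrArg (fun x : ↥(G F m) => x.1.val) e
  simp only [mapSz_coe, glMap_val] at e'
  exact Subtype.ext (Units.ext (Matrix.map_injective ι.injective e'))

omit ι hcomp in
theorem range_le_range (ι₁ ι₂ : K →+* F) (h₁ : ∀ x, ι₁ (szTh k x) = szTh m (ι₁ x))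
    (h₂ : ∀ x, ι₂ (szTh k x) = szTh m (ι₂ x)) (hr : ∀ a, ∃ b, ι₁ b = ι₂ a) :
    (mapSz hθ hθK ι₂ h₂).range ≤ (mapSz hθ hθK ι₁ h₁).range := by
  rintro _ ⟨g, rfl⟩
  have htop := gens_le hθK ((mapSz hθ hθK ι₁ h₁).range.comap (mapSz hθ hθK ι₂ h₂)) ?_ ?_ ?_
  · have hg : g ∈ (⊤ : Subgroup ↥(G K k)) := Subgroup.mem_top g
    rw [← htop] at hg
    exact hg
  · intro a b
    obtain ⟨a', ha⟩ := hr a
    obtain ⟨b', hb⟩ := hr b
    exact ⟨u hθK a' b', by rw [mapSz_u, mapSz_u, ha, hb]⟩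
  · intro l
    obtain ⟨l', hl⟩ := hr (l : K)
    have hl0 : l' ≠ 0 := fun h => (map_ne_zero ι₂).mpr l.ne_zero (by rw [← hl, h, map_zero])
    refine ⟨tor hθK (Units.mk0 l' hl0), ?_⟩
    rw [mapSz_tor, mapSz_tor]
    exact congrArg (tor hθ) (Units.ext (by simpa using hl))
  · exact ⟨wel hθK, by rw [mapSz_wel, mapSz_wel]⟩

omit hcomp hθK ι in
theorem mem_B_of_conj {x : ↥(G F m)} {v : ↥(G F m)} (hv : v ∈ U hθ) (hv1 : v ≠ 1) (h : x * v * x⁻¹ ∈ U hθ) :
    x ∈ B hθ := by
  obtain ⟨a, b, hab⟩ := h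
  obtain ⟨a', b', rfl⟩ := hv
  have hne : u hθ a b ≠ 1 := fun e => hv1 (conj_eq_one_iff.mp (hab.trans e))
  refine u_fix_only hθ hne ?_
  rw [← hab, act_mul, act_mul, act_inv_act, act_u_none]

omit hcomp hθK ι in
/-- A Borel element with non-trivial torus part is conjugate under `U` to a torus element. -/
theorem exists_conj_tor (a b : F) {c : Fˣ} (hc : c ≠ 1) :
    ∃ v ∈ U hθ, v * (u hθ a b * tor hθ c) * v⁻¹ = tor hθ c := by
  let Φ : ↥(U hθ) → ↥(U hθ) := fun v =>
    ⟨v.1⁻¹ * (tor hθ c * v.1 * (tor hθ c)⁻¹), mul_mem (inv_mem v.2) (conj_mem_U hθ (tor_mem_B hθ c) v.2)⟩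
  have hinj : Function.Injective Φ := by
    rintro ⟨v₁, hv₁⟩ ⟨v₂, hv₂⟩ h
    have h' : v₁⁻¹ * (tor hθ c * v₁ * (tor hθ c)⁻¹) = v₂⁻¹ * (tor hθ c * v₂ * (tor hθ c)⁻¹) := congrArg Subtype.val h
    obtain ⟨x, y, hxy⟩ : v₂ * v₁⁻¹ ∈ U hθ := mul_mem hv₂ (inv_mem hv₁)
    have hfix : tor hθ c * u hθ x y * (tor hθ c)⁻¹ = u hθ x y := by
      rw [← hxy]
      calc tor hθ c * (v₂ * v₁⁻¹) * (tor hθ c)⁻¹
          = v₂ * (v₂⁻¹ * (tor hθ c * v₂ * (tor hθ c)⁻¹)) * (tor hθ c * v₁ * (tor hθ c)⁻¹)⁻¹ := by group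
        _ = v₂ * (v₁⁻¹ * (tor hθ c * v₁ * (tor hθ c)⁻¹)) * (tor hθ c * v₁ * (tor hθ c)⁻¹)⁻¹ := by rw [h']
        _ = v₂ * v₁⁻¹ := by group
    rw [conj_u] at hfix
    obtain ⟨h1, h2⟩ := u_injective hθ hfix
    have hx : x = 0 := by
      by_contra hx
      rw [div_eq_iff (mul_ne_zero c.ne_zero c.ne_zero)] at h1
      exact hc (th_div_sq_eq_one hθ (mul_left_cancel₀ hx h1))
    have hy : y = 0 := by
      by_contra hy
      rw [div_eq_iff ((map_ne_zero _).mpr c.ne_zero)] at h2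
      exact hc (Units.ext ((szTh m).injective ((mul_left_cancel₀ hy (h2.symm.trans (mul_one y).symm)).trans (map_one _).symm)))
    rw [hx, hy, u_zero] at hxy
    exact Subtype.ext (mul_inv_eq_one.mp hxy).symm
  obtain ⟨⟨v, hv⟩, hv'⟩ := Finite.surjective_of_injective hinj ⟨u hθ a b, u_mem hθ a b⟩
  refine ⟨v, hv, ?_⟩
  have e : v⁻¹ * (tor hθ c * v * (tor hθ c)⁻¹) = u hθ a b := congrArg Subtype.val hv'
  rw [← e]; group

omit hcomp ι in
theorem not_solvable (hk : 1 ≤ k) (hK : Fintype.card K = 2 ^ (2 * k + 1)) : ¬ Group.IsSolvable ↥(G K k) := by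
  intro h
  haveI := isSimple hθK hk hK
  exact (IsSolvable.commutator_lt_top_of_nontrivial ↥(G K k)).ne (commutator_eq_top hθK hk hK)

omit hcomp ι in
theorem hom_normalize (hk : 1 ≤ k) (hK : Fintype.card K = 2 ^ (2 * k + 1)) (hF : Fintype.card F = 2 ^ (2 * m + 1))
    (ψ : ↥(G K k) →* ↥(G F m)) (hψ : Function.Injective ψ) :
    ∃ x : ↥(G F m), ∃ σ : Kˣ →* Fˣ, Function.Injective σ ∧
      (∀ a b, ∃ a' b', x * ψ (u hθK a b) * x⁻¹ = u hθ a' b') ∧
      ∀ l, x * ψ (tor hθK l) * x⁻¹ = tor hθ (σ l) := by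
  haveI : Fact (Nat.Prime 2) := ⟨Nat.prime_two⟩
  have hp : IsPGroup 2 ↥(U hθK) := IsPGroup.of_card (p := 2) (n := 4 * k + 2) (by rw [card_U hθK, hK]; ring)
  obtain ⟨P, hP⟩ := (hp.map ψ).exists_le_sylow
  obtain ⟨x₀, hx₀⟩ := MulAction.exists_smul_eq ↥(G F m) P (sylow hθ hF)
  have hU : ∀ a b, x₀ * ψ (u hθK a b) * x₀⁻¹ ∈ U hθ := fun a b => by
    rw [← sylow_coe hθ hF, ← hx₀, Sylow.coe_subgroup_smul]
    exact Subgroup.mem_map.mpr ⟨_, hP (Subgroup.mem_map_of_mem ψ (u_mem hθK a b)), rfl⟩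
  let ψ₀ : ↥(G K k) →* ↥(G F m) := (MulAut.conj x₀).toMonoidHom.comp ψ
  have hψ₀ : Function.Injective ψ₀ := (MulAut.conj x₀).injective.comp hψ
  have happ : ∀ g, ψ₀ g = x₀ * ψ g * x₀⁻¹ := fun _ => rfl
  have htB : ∀ l, ψ₀ (tor hθK l) ∈ B hθ := fun l => by
    refine mem_B_of_conj hθ (v := ψ₀ (u hθK 0 1)) (hU 0 1) ?_ ?_
    · rw [← map_one ψ₀]
      refine fun e => one_ne_zero (u_injective hθK ((hψ₀ e).trans (u_zero hθK).symm)).2
    · rw [← map_inv, ← map_mul, ← map_mul, conj_u]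
      exact hU _ _
  obtain ⟨ζ, hζ⟩ := IsCyclic.exists_generator (α := Kˣ)
  have hζ1 : ζ ≠ 1 := by
    rintro rfl
    obtain ⟨t, ht0, ht1⟩ := exists_two hθK hk hK
    have := hζ (Units.mk0 t ht0)
    rw [Subgroup.zpowers_one_eq_bot, Subgroup.mem_bot] at this
    exact ht1 (congrArg Units.val this)
  obtain ⟨a, b, c, hc⟩ := stab_none hθ (htB ζ)
  have hc1 : c ≠ 1 := by
    rintro rfl
    rw [tor_one, mul_one] at hc
    have hpF : IsPGroup 2 ↥(U hθ) := IsPGroup.of_card (p := 2) (n := 4 * m + 2) (by rw [card_U hθ, hF]; ring)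
    obtain ⟨r, hr⟩ := hpF ⟨u hθ a b, u_mem hθ a b⟩
    have hr' : u hθ a b ^ 2 ^ r = 1 := congrArg Subtype.val hr
    rw [← hc, ← map_pow, ← map_one ψ₀] at hr'
    have h1 : torHom hθK (ζ ^ 2 ^ r) = torHom hθK 1 := by rw [map_pow, map_one]; exact hψ₀ hr'
    have h2 : ζ ^ 2 ^ r = 1 := tor_injective hθK h1
    have h3 : orderOf ζ ∣ Fintype.card K - 1 := by
      rw [← Nat.card_eq_fintype_card, ← Nat.card_units]; exact orderOf_dvd_natCard ζ
    obtain ⟨s, -, hs⟩ := (Nat.dvd_prime_pow Nat.prime_two).mp (orderOf_dvd_of_pow_eq_one h2)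
    rcases s with _ | s
    · exact hζ1 (orderOf_eq_one_iff.mp (by simpa using hs))
    · have h4 : 2 ∣ Fintype.card K - 1 := dvd_trans ⟨2 ^ s, by rw [hs, pow_succ']⟩ h3
      have h5 : 2 ∣ Fintype.card K := by rw [hK]; exact dvd_pow_self 2 (by omega)
      have := Fintype.one_lt_card (α := K)
      omega
  obtain ⟨v, hv, hv'⟩ := exists_conj_tor hθ a b hc1
  have happ' : ∀ g, v * x₀ * ψ g * (v * x₀)⁻¹ = v * ψ₀ g * v⁻¹ := fun g => by rw [happ]; group
  have htor : ∀ l, ∃ l' : Fˣ, v * x₀ * ψ (tor hθK l) * (v * x₀)⁻¹ = tor hθ l' := fun l => by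
    obtain ⟨n, rfl⟩ := hζ l
    refine ⟨c ^ n, ?_⟩
    rw [happ', show tor hθK (ζ ^ n) = tor hθK ζ ^ n from map_zpow (torHom hθK) ζ n, map_zpow,
      show tor hθ (c ^ n) = tor hθ c ^ n from map_zpow (torHom hθ) c n, ← hv', ← hc, conj_zpow]
  choose σ hσ using htor
  refine ⟨v * x₀, MonoidHom.mk' σ fun l l' => tor_injective hθ ?_, ?_, ?_, hσ⟩
  · rw [← hσ, ← tor_mul hθK, map_mul, ← tor_mul hθ, ← hσ, ← hσ]; group
  · intro l l' h
    have e : tor hθ (σ l) = tor hθ (σ l') := congrArg (tor hθ) h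
    rw [← hσ, ← hσ, mul_left_inj, mul_right_inj] at e
    exact tor_injective hθK (hψ e)
  · intro a' b'
    rw [happ']
    exact mul_mem (mul_mem hv (hU a' b')) (inv_mem hv)

omit hcomp ι in
theorem hom_field (hk : 1 ≤ k) (hK : Fintype.card K = 2 ^ (2 * k + 1))
    (ψ : ↥(G K k) →* ↥(G F m)) (hψ : Function.Injective ψ) (σ : Kˣ →* Fˣ)
    (hU : ∀ a b, ∃ a' b', ψ (u hθK a b) = u hθ a' b') (hT : ∀ l, ψ (tor hθK l) = tor hθ (σ l))
    (h1 : ∃ b', ψ (u hθK 1 0) = u hθ 1 b') :
    ∃ (ι : K →+* F) (hc : ∀ x, ι (szTh k x) = szTh m (ι x)),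
      (∀ a b, ψ (u hθK a b) = u hθ (ι a) (ι b)) ∧ ∀ l, σ l = Units.map ι.toMonoidHom l := by
  choose F1 G1 hFG using hU
  have hmul : ∀ a b a' b', F1 (a + a') (b + b' + szTh k a * a') = F1 a b + F1 a' b' ∧
      G1 (a + a') (b + b' + szTh k a * a') = G1 a b + G1 a' b' + szTh m (F1 a b) * F1 a' b' := fun a b a' b' =>
    u_injective hθ (by rw [← hFG, ← u_mul hθK, map_mul, hFG, hFG, u_mul])
  have hz : ∀ b, F1 0 b = 0 ∧ ∃ a, szTh k a * a = b := by
    intro b
    obtain ⟨a, ha⟩ := (th_mul_self_bij hθK).2 b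
    refine ⟨?_, a, ha⟩
    have := (hmul a 0 a 0).1
    rw [CharTwo.add_self_eq_zero, add_zero, zero_add, CharTwo.add_self_eq_zero] at this
    rwa [show szTh k a * a = b from ha] at this
  have hf : ∀ a b, F1 a b = F1 a 0 := fun a b => by
    have := (hmul a 0 0 b).1
    rw [(hz b).1, add_zero, add_zero, zero_add, mul_zero, add_zero] at this
    exact this
  set f : K → F := fun a => F1 a 0 with hfdef
  set h : K → F := fun b => G1 0 b with hhdef
  have fadd : ∀ a a', f (a + a') = f a + f a' := fun a a' => by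
    have := (hmul a 0 a' 0).1
    rwa [hf] at this
  have hadd : ∀ b b', h (b + b') = h b + h b' := fun b b' => by
    have := (hmul 0 b 0 b').2
    rw [(hz b).1, map_zero, zero_mul, add_zero, map_zero, zero_mul, add_zero, add_zero] at this
    exact this
  have hsq : ∀ a, h (szTh k a * a) = szTh m (f a) * f a := fun a => by
    have := (hmul a 0 a 0).2
    rw [CharTwo.add_self_eq_zero, CharTwo.add_self_eq_zero, CharTwo.add_self_eq_zero, zero_add, zero_add] at this
    exact this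
  have hconj : ∀ a b (l : Kˣ),
      F1 (a * szTh k (l : K) / ((l : K) * l)) (b / szTh k (l : K)) = F1 a b * szTh m (σ l : F) / ((σ l : F) * σ l) ∧
        G1 (a * szTh k (l : K) / ((l : K) * l)) (b / szTh k (l : K)) = G1 a b / szTh m (σ l : F) := fun a b l =>
    u_injective hθ (by rw [← hFG, ← conj_u hθK, map_mul, map_mul, map_inv, hT, hFG, conj_u])
  have f1 : f 1 = 1 := by
    obtain ⟨b', hb'⟩ := h1
    exact (u_injective hθ ((hFG 1 0).symm.trans hb')).1
  have f0 : f 0 = 0 := (hz 0).1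
  have fw : ∀ a (l : Kˣ), f (a * szTh k (l : K) / ((l : K) * l)) = f a * (szTh m (σ l : F) / ((σ l : F) * σ l)) :=
    fun a l => by
      have := (hconj a 0 l).1
      rw [zero_div, mul_div_assoc, mul_div_assoc] at this
      rw [mul_div_assoc]; exact this
  have fmul : ∀ a c, f (a * c) = f a * f c := by
    intro a c
    rcases eq_or_ne c 0 with rfl | hc
    · rw [mul_zero, f0, mul_zero]
    obtain ⟨l, rfl⟩ := exists_weight hθK hc
    have e1 := fw 1 l
    rw [one_mul, f1, one_mul] at e1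
    rw [e1, ← mul_div_assoc, fw]
  let ι : K →+* F :=
    { toFun := f, map_one' := f1, map_mul' := fmul, map_zero' := f0, map_add' := fadd }
  have hι : ∀ a, ι a = f a := fun _ => rfl
  have hh : ∀ a b, h (szTh k a * b + szTh k b * a) = szTh m (f a) * f b + szTh m (f b) * f a := fun a b => by
    have e := hsq (a + b)
    rw [map_add, show (szTh k a + szTh k b) * (a + b) =
      szTh k a * a + szTh k b * b + (szTh k a * b + szTh k b * a) by ring, hadd, hadd, hsq, hsq, fadd, map_add] at e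
    linear_combination e
  have h11 : h 1 = 1 := by
    have := hsq 1
    rwa [map_one, one_mul, f1, map_one, one_mul] at this
  have hinvth : ∀ c : K, c ≠ 0 → ∃ l : Kˣ, 1 / szTh k (l : K) = c := fun c hc => by
    obtain ⟨x, hx⟩ := Finite.surjective_of_injective (szTh k).injective c⁻¹
    have hx0 : x ≠ 0 := fun h0 => inv_ne_zero hc (by rw [← hx, h0, map_zero])
    exact ⟨Units.mk0 x hx0, by rw [Units.val_mk0, hx, one_div, inv_inv]⟩
  have hG : ∀ b (l : Kˣ), h (b / szTh k (l : K)) = h b / szTh m (σ l : F) := fun b l => by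
    have := (hconj 0 b l).2
    rwa [zero_mul, zero_div] at this
  have hmulh : ∀ b c, h (b * c) = h b * h c := by
    intro b c
    rcases eq_or_ne c 0 with rfl | hc
    · have h00 : h 0 = 0 := by
        have := hadd 0 0
        rw [add_zero] at this
        rw [this, CharTwo.add_self_eq_zero]
      rw [mul_zero, h00, mul_zero]
    · obtain ⟨l, rfl⟩ := hinvth c hc
      rw [mul_one_div, hG, hG 1 l, h11, mul_one_div]
  -- `h a` or `h (θ a)` equals `f a`
  have hroot : ∀ a, h a = f a ∨ h (szTh k a) = f a := fun a => by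
    have p := hsq a
    rw [hmulh] at p
    have s := hh a 1
    rw [map_one, mul_one, one_mul, f1, map_one, mul_one, one_mul, hadd] at s
    have : (f a + h (szTh k a)) * (f a + h a) = 0 := by
      linear_combination p + f a * s + (f a * szTh m (f a) + f a * f a) * (CharTwo.two_eq_zero : (2 : F) = 0)
    rcases mul_eq_zero.mp this with h' | h'
    · exact Or.inr (CharTwo.add_eq_zero.mp h').symm
    · exact Or.inl (CharTwo.add_eq_zero.mp h').symm
  have key : ∀ a, h a = f a := by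
    by_contra hcon
    push_neg at hcon
    obtain ⟨a₀, ha₀⟩ := hcon
    have h2 : ∀ a, h (szTh k a) = f a := by
      intro a
      by_contra ha
      have ha' := (hroot a).resolve_right ha
      have ha₀' := (hroot a₀).resolve_left ha₀
      rcases hroot (a₀ + a) with e | e
      · rw [hadd, fadd, ha', add_left_inj] at e; exact ha₀ e
      · rw [map_add, hadd, fadd, ha₀', add_right_inj] at e; exact ha e
    have h3 : ∀ a, h a = szTh m (f a) := fun a => by
      have p := hsq a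
      rw [hmulh, h2, mul_comm] at p
      rcases eq_or_ne (f a) 0 with e | e
      · rw [(ι.injective ((hι a).trans (e.trans (map_zero ι).symm)) : a = 0), f0, map_zero]
        have := hsq 0
        rwa [map_zero, zero_mul, f0, map_zero, zero_mul] at this
      · exact mul_right_cancel₀ e p
    obtain ⟨t, ht0, ht1⟩ := exists_two hθK hk hK
    have hA : ∀ a, f a = szTh m (f (szTh k a)) := fun a => by rw [← h3, h2]
    have hB : ∀ a, szTh m (f a) = f (szTh k a) * f (szTh k a) := fun a => by rw [hA a, hθ]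
    have h4 : t ^ 4 = t := ι.injective (by
      rw [map_pow, hι]
      conv_rhs => rw [hA t, hB, hθK, fmul]
      ring)
    have h5 : ∀ j, t ^ 4 ^ j = t := fun j => by
      induction j with
      | zero => simp
      | succ j ih => rw [pow_succ, pow_mul, ih, h4]
    have h6 := FiniteField.pow_card t
    rw [hK, pow_succ, pow_mul, pow_mul, show (2 : ℕ) ^ 2 = 4 from rfl, h5, sq] at h6
    exact ht1 (mul_left_cancel₀ ht0 (by rw [h6, mul_one]))
  have hc : ∀ x, ι (szTh k x) = szTh m (ι x) := fun a => by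
    rcases eq_or_ne a 0 with rfl | ha
    · simp
    · have p := hsq a
      rw [key, fmul] at p
      exact mul_right_cancel₀ ((map_ne_zero ι).mpr ha) p
  have hσ : ∀ l, σ l = Units.map ι.toMonoidHom l := fun l => by
    apply Units.ext
    apply (szTh m).injective
    have e := hG 1 l
    rw [h11, key, one_div, one_div, ← hι, map_inv₀] at e
    rw [← inv_injective e, hc]
    rfl
  set g : K → F := fun a => G1 a 0 with hgdef
  have gsplit : ∀ a b, G1 a b = g a + f b := fun a b => by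
    have := (hmul a 0 0 b).2
    rw [(hz b).1, mul_zero, add_zero, add_zero, mul_zero, add_zero, zero_add] at this
    rw [this]
    show g a + h b = _
    rw [key]
  have gadd : ∀ a a', g (a + a') = g a + g a' := fun a a' => by
    have := (hmul a 0 a' 0).2
    rw [zero_add, zero_add, gsplit, fmul, ← hι (szTh k a), hc, hι] at this
    exact add_right_cancel this
  have gw : ∀ c : K, g c = g 1 * f (szTh k c * c) := by
    intro c
    rcases eq_or_ne c 0 with rfl | hc0
    · rw [mul_zero, f0, mul_zero]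
      have := gadd 0 0
      rw [add_zero] at this
      rw [this, CharTwo.add_self_eq_zero]
    obtain ⟨l, rfl⟩ := exists_weight hθK hc0
    have e := (hconj 1 0 l).2
    rw [one_mul, zero_div] at e
    show G1 _ 0 = _
    rw [e]
    show g 1 / szTh m (σ l : F) = _
    have hs : (σ l : F) = ι l := by rw [hσ]; rfl
    rw [hs, ← hc, map_div₀ (szTh k), map_mul (szTh k), hθK]
    have hl := l.ne_zero
    have hl' : szTh k (l : K) ≠ 0 := (map_ne_zero _).mpr hl
    rw [show (l : K) * l / (szTh k (l : K) * szTh k (l : K)) * (szTh k (l : K) / ((l : K) * l)) = (szTh k (l : K))⁻¹ by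
      field_simp, ← hι (szTh k (l : K))⁻¹, map_inv₀, div_eq_mul_inv]
  have g1 : g 1 = 0 := by
    by_contra hg1
    obtain ⟨t, ht0, ht1⟩ := exists_two hθK hk hK
    have e := gadd t 1
    rw [gw (t + 1), gw t, gw 1, map_one, one_mul, f1, mul_one, map_add, map_one,
      show (szTh k t + 1) * (t + 1) = szTh k t * t + (szTh k t + t) + 1 by ring, fadd, fadd, f1, mul_add, mul_add,
      mul_one, add_left_inj, add_eq_left] at e
    rcases mul_eq_zero.mp e with e | e
    · exact hg1 e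
    have e' : szTh k t + t = 0 := ι.injective (e.trans (map_zero ι).symm)
    have h4 := hθK t
    rw [CharTwo.add_eq_zero.mp e', CharTwo.add_eq_zero.mp e'] at h4
    exact ht1 (mul_left_cancel₀ ht0 (by rw [← h4, mul_one]))
  refine ⟨ι, hc, fun a b => ?_, hσ⟩
  rw [hFG, hf, gsplit, gw, g1, zero_mul, zero_add]
  rfl

omit hcomp ι in
/-- Every embedding of Suzuki groups is induced by a field embedding, up to conjugation. -/
theorem hom_classify (hk : 1 ≤ k) (hK : Fintype.card K = 2 ^ (2 * k + 1)) (hF : Fintype.card F = 2 ^ (2 * m + 1))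
    (ψ : ↥(G K k) →* ↥(G F m)) (hψ : Function.Injective ψ) :
    ∃ (ι : K →+* F) (hc : ∀ x, ι (szTh k x) = szTh m (ι x)) (x : ↥(G F m)),
      ∀ g, ψ g = x * mapSz hθ hθK ι hc g * x⁻¹ := by
  obtain ⟨x₁, σ, hσinj, hU, hT⟩ := hom_normalize hθ hθK hk hK hF ψ hψ
  obtain ⟨f1, g1, hfg⟩ := hU 1 0
  have hf1 : f1 ≠ 0 := by
    rintro rfl
    have h2 : u hθ 0 g1 * u hθ 0 g1 = 1 := by
      rw [u_sq, map_zero, zero_mul, u_zero]
    rw [← hfg, show x₁ * ψ (u hθK 1 0) * x₁⁻¹ * (x₁ * ψ (u hθK 1 0) * x₁⁻¹) =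
      x₁ * ψ (u hθK 1 0 * u hθK 1 0) * x₁⁻¹ by rw [map_mul]; group, conj_eq_one_iff, u_sq, map_one, one_mul] at h2
    exact one_ne_zero (u_injective hθK ((hψ (h2.trans (map_one ψ).symm)).trans (u_zero hθK).symm)).2
  obtain ⟨d, hd⟩ := exists_weight hθ (one_div_ne_zero hf1)
  let ψ' : ↥(G K k) →* ↥(G F m) := (MulAut.conj (tor hθ d * x₁)).toMonoidHom.comp ψ
  have hψ' : Function.Injective ψ' := (MulAut.conj (tor hθ d * x₁)).injective.comp hψ
  have happ : ∀ g, ψ' g = tor hθ d * (x₁ * ψ g * x₁⁻¹) * (tor hθ d)⁻¹ := fun g => by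
    show tor hθ d * x₁ * ψ g * (tor hθ d * x₁)⁻¹ = _; group
  have hU' : ∀ a b, ∃ a' b', ψ' (u hθK a b) = u hθ a' b' := fun a b => by
    obtain ⟨a', b', h⟩ := hU a b
    exact ⟨_, _, by rw [happ, h, conj_u]⟩
  have hT' : ∀ l, ψ' (tor hθK l) = tor hθ (σ l) := fun l => by
    rw [happ, hT, tor_mul, tor_inv, tor_mul, mul_comm d, mul_inv_cancel_right]
  obtain ⟨ι, hc, hu, hσι⟩ := hom_field hθ hθK hk hK ψ' hψ' σ hU' hT'
    ⟨_, by rw [happ, hfg, conj_u, mul_div_assoc, hd, mul_one_div_cancel hf1]⟩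
  refine ⟨ι, hc, (tor hθ d * x₁)⁻¹, fun g => ?_⟩
  set φ := mapSz hθ hθK ι hc with hφ
  have ht : ∀ l, ψ' (tor hθK l) = φ (tor hθK l) := fun l => by rw [hT', hσι, hφ, mapSz_tor]
  have hu' : ∀ a b, ψ' (u hθK a b) = φ (u hθK a b) := fun a b => by rw [hu, hφ, mapSz_u]
  set x := ψ' (wel hθK) with hx
  obtain ⟨t, ht0, ht1⟩ := exists_two hθK hk hK
  set c : Fˣ := Units.map ι.toMonoidHom (Units.mk0 t ht0) with hcdef
  have hc1 : c ≠ 1 := fun e => ht1 (ι.injective (by simpa [hcdef] using congrArg Units.val e))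
  have hfix : ∀ o, act hθ (tor hθ c) o = o → o = none ∨ o = some (0, 0) := by
    intro o ho
    by_contra hcon
    push_neg at hcon
    refine hc1 (tor_injective hθ ((three_fixed hθ (o₁ := none) (o₂ := some (0, 0)) (o₃ := o) (by simp)
      (Ne.symm hcon.2) (Ne.symm hcon.1) (act_tor_none hθ c) ?_ ho).trans (tor_one hθ).symm))
    rw [act_tor_some]; simp
  have hxc : tor hθ c * x = x * tor hθ c⁻¹ := by
    have e1 : tor hθ c = ψ' (tor hθK (Units.mk0 t ht0)) := by rw [hT', hσι]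
    have e2 : tor hθ c⁻¹ = ψ' (tor hθK (Units.mk0 t ht0)⁻¹) := by rw [hT', hσι, map_inv]
    rw [e1, e2, hx, ← map_mul, ← map_mul, wel_tor hθK, inv_inv]
  have hx0 : act hθ x none = none ∨ act hθ x none = some (0, 0) :=
    hfix _ (by rw [← act_mul, hxc, act_mul, act_tor_none])
  have hx1 : act hθ x (some (0, 0)) = none ∨ act hθ x (some (0, 0)) = some (0, 0) :=
    hfix _ (by rw [← act_mul, hxc, act_mul, act_tor_some]; simp)
  have hnB : act hθ x none ≠ none := by
    intro h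
    have htop := gens_le hθK ((B hθ).comap ψ') (fun a b => by rw [Subgroup.mem_comap, hu]; exact act_u_none hθ _ _)
      (fun l => by rw [Subgroup.mem_comap, hT']; exact tor_mem_B hθ _) h
    haveI := B_solvable hθ hF
    let r : ↥(G K k) →* ↥(B hθ) := ψ'.codRestrict _ fun z => by
      have hz : z ∈ (⊤ : Subgroup ↥(G K k)) := Subgroup.mem_top z
      rw [← htop] at hz; exact hz
    exact not_solvable hθ hθK hk hK (solvable_of_solvable_injective (f := r)
      (fun y z e => hψ' (congrArg Subtype.val e)))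
  have hx0' : act hθ x none = some (0, 0) := hx0.resolve_left hnB
  have hnone : ∀ z, act hθ (ψ' z) none = act hθ (φ z) none := by
    intro z
    have hB : ∀ y, act hθK y none = none → act hθ (ψ' y) none = none ∧ act hθ (φ y) none = none := by
      intro y hy
      obtain ⟨a, b, l, rfl⟩ := stab_none hθK hy
      rw [map_mul, map_mul, hu', ht, hφ, mapSz_u, mapSz_tor, act_mul, act_tor_none, act_u_none]
      simp [act_u_none]
    rcases hz : act hθK z none with _ | ⟨a, b⟩
    · rw [(hB z hz).1, (hB z hz).2]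
    · obtain ⟨y, hy, hzy⟩ : ∃ y, act hθK y none = none ∧ z = u hθK a b * wel hθK * y :=
        ⟨(u hθK a b * wel hθK)⁻¹ * z, by
          rw [act_mul, hz]
          have : act hθK (u hθK a b * wel hθK) none = some (a, b) := by
            rw [act_mul, act_wel_none, act_u_some]; simp
          rw [← this, act_inv_act], by rw [mul_inv_cancel_left]⟩
      rw [hzy, map_mul, map_mul, map_mul, map_mul, act_mul, (hB y hy).1, act_mul hθ _ (φ y), (hB y hy).2, ← hx,
        act_mul, hx0', hu', act_mul, hφ, mapSz_wel, act_wel_none]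
  have hagree : ∀ z y, act hθ (ψ' z) (act hθ (φ y) none) = act hθ (φ z) (act hθ (φ y) none) := fun z y => by
    rw [← hnone y, ← act_mul, ← map_mul, hnone (z * y), map_mul, act_mul, hnone]
  have heq : ψ' g = φ g := by
    have hfixp : ∀ y, act hθ ((φ g)⁻¹ * ψ' g) (act hθ (φ y) none) = act hθ (φ y) none := fun y => by
      rw [act_mul, hagree, act_inv_act]
    have p0 : act hθ (φ 1) none = none := by rw [map_one, act_one]
    have p1 : act hθ (φ (wel hθK)) none = some (0, 0) := by rw [hφ, mapSz_wel, act_wel_none]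
    have p2 : act hθ (φ (u hθK 1 0 * wel hθK)) none = some (1, 0) := by
      rw [map_mul, hφ, mapSz_u, mapSz_wel, act_mul, act_wel_none, act_u_some]; simp
    refine (inv_mul_eq_one.mp (three_fixed hθ (o₁ := none) (o₂ := some (0, 0)) (o₃ := some (1, 0)) (by simp) (by simp)
      (by simp) ?_ ?_ ?_)).symm
    · have h := hfixp 1; rwa [p0] at h
    · have h := hfixp (wel hθK); rwa [p1] at h
    · have h := hfixp (u hθK 1 0 * wel hθK); rwa [p2] at h
  rw [← heq]
  show ψ g = (tor hθ d * x₁)⁻¹ * (tor hθ d * x₁ * ψ g * (tor hθ d * x₁)⁻¹) * (tor hθ d * x₁)⁻¹⁻¹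
  group

omit hcomp hθ hθK ι in
theorem card_range_eq (hK : Fintype.card K = 2 ^ (2 * k + 1)) (ι₁ ι₂ : K →+* F) (a : K) : ∃ b, ι₁ b = ι₂ a := by
  classical
  set s := Fintype.card K with hs
  have hs1 : 1 < s := Fintype.one_lt_card
  let S : Finset F := Finset.univ.filter fun x => x ^ s = x
  have hS : S.card ≤ s := by
    open Polynomial in
    have hd : (X ^ s - X : F[X]).natDegree = s := FiniteField.X_pow_card_sub_X_natDegree_eq F hs1
    have hne : (Polynomial.X ^ s - Polynomial.X : Polynomial F) ≠ 0 := FiniteField.X_pow_card_sub_X_ne_zero F hs1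
    refine (Finset.card_le_card (t := (Polynomial.X ^ s - Polynomial.X : Polynomial F).roots.toFinset) fun x hx => ?_).trans
      ((Multiset.toFinset_card_le _).trans ((Polynomial.card_roots' _).trans hd.le))
    rw [Multiset.mem_toFinset, Polynomial.mem_roots hne]
    simp [Polynomial.IsRoot, (Finset.mem_filter.mp hx).2]
  have hmem : ∀ (ι : K →+* F) x, ι x ∈ S := fun ι x =>
    Finset.mem_filter.mpr ⟨Finset.mem_univ _, by rw [← map_pow, hs, FiniteField.pow_card]⟩
  have himg : Finset.univ.image ι₁ = S := Finset.eq_of_subset_of_card_le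
    (fun x hx => by obtain ⟨y, -, rfl⟩ := Finset.mem_image.mp hx; exact hmem ι₁ y)
    (by rw [Finset.card_image_of_injective _ ι₁.injective, Finset.card_univ]; exact hS)
  have := hmem ι₂ a
  rw [← himg] at this
  obtain ⟨b, -, hb⟩ := Finset.mem_image.mp this
  exact ⟨b, hb⟩

end

end Cfsg.Agent.Lib.KnownA.Suz
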