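import Mathlib
import Cfsg.Agent.Lib.KnownA.SuzukiAut
import Cfsg.Agent.Lib.KnownA.GLFourIrred

/-! Fixed points and centralisers in the Suzuki group. -/

set_option autoImplicit false
set_option maxHeartbeats 400000

namespace Cfsg.Agent.Lib.KnownA.Suz

open Matrix Cfsg.Lie

set_option linter.unusedSectionVars false

noncomputable section

variable {F : Type*} [Field F] [Fintype F] [CharP F 2] {m : ℕ} (hθ : ∀ x : F, szTh m (szTh m x) = x * x)

include hθ

theorem card_dvd_facts (hF : Fintype.card F = 2 ^ (2 * m + 1)) {p : ℕ} (hp : p.Prime)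
    (hd : p ∣ Nat.card ↥(G F m)) :
    p = 2 ∨ (p ∣ Fintype.card F - 1 ∧ ¬ p ∣ Fintype.card F * Fintype.card F + 1 ∧ p ≠ 2) ∨
      (p ∣ Fintype.card F * Fintype.card F + 1 ∧ ¬ p ∣ Fintype.card F - 1 ∧ p ≠ 2) := by
  rw [card_sz hθ] at hd
  set q := Fintype.card F with hq
  have h2 : 2 ∣ q := by rw [hF]; exact dvd_pow_self 2 (by omega)
  have hq1 : 1 < q := Fintype.one_lt_card
  rcases eq_or_ne p 2 with rfl | hp2
  · exact Or.inl rfl
  have hboth : p ∣ q - 1 → ¬ p ∣ q * q + 1 := fun h1 h3 => by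
    have h4 : p ∣ (q - 1) * (q + 1) := h1.mul_right _
    have h5 : q * q + 1 = (q - 1) * (q + 1) + 2 := by
      obtain ⟨r, hr⟩ : ∃ r, q = r + 1 := ⟨q - 1, by omega⟩
      rw [hr, Nat.add_sub_cancel]; ring
    rw [h5] at h3
    have := Nat.le_of_dvd (by norm_num) ((Nat.dvd_add_right h4).mp h3)
    have := hp.two_le
    omega
  rcases hp.dvd_mul.mp hd with h | h
  · exact Or.inr (Or.inr ⟨h, fun h1 => hboth h1 h, hp2⟩)
  · rcases hp.dvd_mul.mp h with h | h
    · exfalso
      have hq2 : p ∣ q := by rcases hp.dvd_mul.mp h with h | h <;> exact h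
      rw [hF] at hq2
      exact hp2 ((Nat.prime_dvd_prime_iff_eq hp Nat.prime_two).mp (hp.dvd_of_dvd_pow hq2))
    · exact Or.inr (Or.inl ⟨h, hboth h, hp2⟩)

theorem fix_iff_conj {g c : ↥(G F m)} {o : Pts F} :
    act hθ (c * g * c⁻¹) (act hθ c o) = act hθ c o ↔ act hθ g o = o := by
  rw [act_mul, act_mul, act_inv_act]
  exact (act_injective hθ c).eq_iff

theorem fixed_cases {g : ↥(G F m)} {o : Pts F} (ho : act hθ g o = o) :
    (∃ c a b, g = c * u hθ a b * c⁻¹) ∨ ∃ c k, k ≠ 1 ∧ g = c * tor hθ k * c⁻¹ := by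
  obtain ⟨o', ho'⟩ : ∃ o' : Pts F, o ≠ o' := exists_ne o |>.imp fun _ h => h.symm
  obtain ⟨c, hc, -⟩ := two_transitive hθ ho'
  have hB : act hθ (c⁻¹ * g * c) none = none := by
    rw [act_mul, act_mul, hc, ho, ← hc, act_inv_act]
  obtain ⟨a, b, k, hk⟩ := stab_none hθ hB
  have hg : g = c * (u hθ a b * tor hθ k) * c⁻¹ := by rw [← hk]; group
  rcases eq_or_ne k 1 with rfl | hk1
  · exact Or.inl ⟨c, a, b, by rw [hg, tor_one, mul_one]⟩
  · obtain ⟨v, -, hv⟩ := exists_conj_tor hθ a b hk1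
    refine Or.inr ⟨c * v⁻¹, k, hk1, ?_⟩
    rw [hg]; conv_rhs => rw [← hv]
    group

theorem tor_fix {k : Fˣ} (hk : k ≠ 1) {o : Pts F} (ho : act hθ (tor hθ k) o = o) : o = none ∨ o = some (0, 0) := by
  by_contra hcon
  push Not at hcon
  refine hk (tor_injective hθ ((three_fixed hθ (o₁ := none) (o₂ := some (0, 0)) (o₃ := o) (by simp)
    (Ne.symm hcon.2) (Ne.symm hcon.1) (act_tor_none hθ k) ?_ ho).trans (tor_one hθ).symm))
  rw [act_tor_some]; simp

theorem commute_tor {g : ↥(G F m)} {k : Fˣ} (hk : k ≠ 1) (h : g * tor hθ k = tor hθ k * g) :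
    ∃ l, g = tor hθ l := by
  have h0 : act hθ g none = none ∨ act hθ g none = some (0, 0) :=
    tor_fix hθ hk (by rw [← act_mul, ← h, act_mul, act_tor_none])
  have hz : act hθ (tor hθ k) (some (0, 0)) = some (0, 0) := by rw [act_tor_some]; simp
  have h1 : act hθ g (some (0, 0)) = none ∨ act hθ g (some (0, 0)) = some (0, 0) :=
    tor_fix hθ hk (by rw [← act_mul, ← h, act_mul, hz])
  rcases h0 with h0 | h0
  · rcases h1 with h1 | h1
    · exact absurd (act_injective hθ g (h0.trans h1.symm)) (by simp)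
    · exact stab_two hθ h0 h1
  · rcases h1 with h1 | h1
    · exfalso
      obtain ⟨l, hl⟩ := stab_two hθ (g := wel hθ * g) (by rw [act_mul, h0, act_wel_zero])
        (by rw [act_mul, h1, act_wel_none])
      have hg : g = wel hθ * tor hθ l := by rw [← hl, ← mul_assoc, wel_mul_self, one_mul]
      rw [hg, mul_assoc, tor_mul, ← mul_assoc (tor hθ k), ← inv_inv k, ← wel_tor, inv_inv, mul_assoc, tor_mul] at h
      have e := tor_injective hθ (mul_left_cancel h)
      rw [mul_comm k⁻¹ l] at e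
      have e' : (k : Fˣ) = k⁻¹ := mul_left_cancel e
      have h2 : (k : F) * k = 1 := by
        have h3 := congrArg (fun t : Fˣ => (k : F) * t) e'
        simpa using h3
      have h4 : ((k : F) + 1) * ((k : F) + 1) = 0 := by
        linear_combination h2 + ((k : F) + 1) * (CharTwo.two_eq_zero : (2 : F) = 0)
      exact hk (Units.ext (CharTwo.add_eq_zero.mp (mul_self_eq_zero.mp h4)))
    · exact absurd (act_injective hθ g (h0.trans h1.symm)) (by simp)

theorem commute_u {g : ↥(G F m)} {a b : F} (h1 : u hθ a b ≠ 1) (h : g * u hθ a b = u hθ a b * g) :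
    g ∈ U hθ := by
  have hgB : g ∈ B hθ := mem_B_of_conj hθ (u_mem hθ a b) h1 (by rw [h, mul_inv_cancel_right]; exact u_mem hθ a b)
  obtain ⟨b', hb', hc⟩ : ∃ b', b' ≠ 0 ∧ g * u hθ 0 b' = u hθ 0 b' * g := by
    rcases eq_or_ne a 0 with rfl | ha
    · exact ⟨b, fun hb => h1 (by rw [hb, u_zero]), h⟩
    · refine ⟨szTh m a * a, mul_ne_zero ((map_ne_zero _).mpr ha) ha, ?_⟩
      rw [← u_sq hθ a b, ← mul_assoc, h, mul_assoc, h, mul_assoc]
  obtain ⟨x, y, k, rfl⟩ := stab_none hθ hgB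
  refine ⟨x, y, ?_⟩
  suffices k = 1 by rw [this, tor_one, mul_one]
  rw [mul_assoc, tor_u, ← mul_assoc, ← mul_assoc, mul_left_inj, u_mul, u_mul] at hc
  have e := (u_injective hθ hc).2
  simp only [zero_mul, zero_div, mul_zero, add_zero, map_zero] at e
  have hs : szTh m (k : F) ≠ 0 := (map_ne_zero _).mpr k.ne_zero
  have e2 : b' / szTh m (k : F) = b' := by linear_combination e
  rw [div_eq_iff hs] at e2
  exact Units.ext ((szTh m).injective ((mul_left_cancel₀ hb' (e2.symm.trans (mul_one b').symm)).trans (map_one _).symm))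

theorem u_two_power (hF : Fintype.card F = 2 ^ (2 * m + 1)) (c : ↥(G F m)) (a b : F) :
    ∃ r, orderOf (c * u hθ a b * c⁻¹) = 2 ^ r := by
  haveI : Fact (Nat.Prime 2) := ⟨Nat.prime_two⟩
  have hp : IsPGroup 2 ↥(U hθ) := IsPGroup.of_card (p := 2) (n := 4 * m + 2) (by rw [card_U hθ, hF]; ring)
  obtain ⟨r, hr⟩ := hp ⟨u hθ a b, u_mem hθ a b⟩
  have hr' : u hθ a b ^ 2 ^ r = 1 := congrArg Subtype.val hr
  have h : (c * u hθ a b * c⁻¹) ^ 2 ^ r = 1 := by rw [conj_pow, hr', mul_one, mul_inv_cancel]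
  obtain ⟨s, -, hs⟩ := (Nat.dvd_prime_pow Nat.prime_two).mp (orderOf_dvd_of_pow_eq_one h)
  exact ⟨s, hs⟩

theorem tor_order (c : ↥(G F m)) (k : Fˣ) : orderOf (c * tor hθ k * c⁻¹) ∣ Fintype.card F - 1 := by
  refine orderOf_dvd_of_pow_eq_one ?_
  rw [conj_pow, show tor hθ k ^ (Fintype.card F - 1) = tor hθ (k ^ (Fintype.card F - 1)) from
    (map_pow (torHom hθ) k _).symm, ← Nat.card_eq_fintype_card, ← Nat.card_units, pow_card_eq_one',
    tor_one, mul_one, mul_inv_cancel]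

theorem centralizer_conj {g x c : ↥(G F m)} (h : g * (c * x * c⁻¹) = c * x * c⁻¹ * g) :
    c⁻¹ * g * c * x = x * (c⁻¹ * g * c) := by
  calc c⁻¹ * g * c * x = c⁻¹ * (g * (c * x * c⁻¹)) * c := by group
    _ = c⁻¹ * (c * x * c⁻¹ * g) * c := by rw [h]
    _ = x * (c⁻¹ * g * c) := by group

/-- Elements commuting with a non-identity element having a fixed point have a fixed point. -/
theorem fixed_of_commute {g x : ↥(G F m)} (hx : x ≠ 1) {o : Pts F} (ho : act hθ x o = o)
    (h : g * x = x * g) : ∃ o', act hθ g o' = o' := by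
  rcases fixed_cases hθ ho with ⟨c, a, b, rfl⟩ | ⟨c, k, hk, rfl⟩
  · have h1 : u hθ a b ≠ 1 := fun e => hx (by rw [e, mul_one, mul_inv_cancel])
    obtain ⟨a', b', hg⟩ := commute_u hθ h1 (centralizer_conj hθ h)
    refine ⟨act hθ c none, ?_⟩
    rw [show g = c * (c⁻¹ * g * c) * c⁻¹ by group, fix_iff_conj, hg, act_u_none]
  · obtain ⟨l, hl⟩ := commute_tor hθ hk (centralizer_conj hθ h)
    refine ⟨act hθ c none, ?_⟩
    rw [show g = c * (c⁻¹ * g * c) * c⁻¹ by group, fix_iff_conj, hl, act_tor_none]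

theorem fpf_pow {g : ↥(G F m)} (hg : ∀ o, act hθ g o ≠ o) (j : ℕ) (hj : g ^ j ≠ 1) :
    ∀ o, act hθ (g ^ j) o ≠ o := fun _ ho => by
  obtain ⟨o', ho'⟩ := fixed_of_commute hθ hj ho (g := g) (by rw [← pow_succ', ← pow_succ])
  exact hg o' ho'

theorem prime_fpf (hF : Fintype.card F = 2 ^ (2 * m + 1)) {x : ↥(G F m)} {p : ℕ} (hp : p.Prime)
    (hx : orderOf x = p) (hfix : ∀ o, act hθ x o ≠ o) :
    p ∣ Fintype.card F * Fintype.card F + 1 ∧ p ≠ 2 := by
  classical
  haveI : Fact p.Prime := ⟨hp⟩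
  have hx1 : x ≠ 1 := fun e => hp.ne_one (hx ▸ e ▸ orderOf_one)
  have hd : p ∣ Nat.card ↥(G F m) := hx ▸ orderOf_dvd_natCard x
  have hq1 : 1 < Fintype.card F := Fintype.one_lt_card
  have key : ∀ H : Subgroup ↥(G F m), H ≤ B hθ →
      (Nat.card ↥(G F m)).factorization p ≤ (Nat.card H).factorization p → False := by
    intro H hH hv
    have hpg : IsPGroup p ↥(Subgroup.zpowers x) := IsPGroup.of_card (n := 1) (by rw [Nat.card_zpowers, hx, pow_one])
    obtain ⟨P, hP⟩ := hpg.exists_le_sylow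
    obtain ⟨Q⟩ : Nonempty (Sylow p ↥H) := inferInstance
    let Q' : Sylow p ↥(G F m) := Sylow.ofCard ((Q : Subgroup ↥H).map H.subtype) (by
      rw [Subgroup.card_map_of_injective H.subtype_injective, Q.card_eq_multiplicity]
      exact congrArg _ (le_antisymm
        ((Nat.factorization_le_iff_dvd Nat.card_pos.ne' Nat.card_pos.ne').mpr (Subgroup.card_subgroup_dvd_card H) p) hv))
    obtain ⟨c, hc⟩ := MulAction.exists_smul_eq ↥(G F m) Q' P
    have hmem : x ∈ (P : Subgroup ↥(G F m)) := hP (Subgroup.mem_zpowers x)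
    rw [← hc, Sylow.coe_subgroup_smul] at hmem
    obtain ⟨y, hy, rfl⟩ := Subgroup.mem_map.mp hmem
    obtain ⟨⟨y', hy'⟩, -, rfl⟩ := Subgroup.mem_map.mp hy
    exact hfix (act hθ c none) ((fix_iff_conj hθ (c := c)).mpr (hH hy'))
  have hpos : Fintype.card F * Fintype.card F + 1 ≠ 0 := by omega
  have hqq : Fintype.card F * Fintype.card F ≠ 0 := by positivity
  rcases card_dvd_facts hθ hF hp hd with rfl | ⟨h1, h2, hne⟩ | ⟨h1, -, hne⟩
  · exfalso
    refine key (U hθ) (U_le_B hθ) (le_of_eq ?_)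
    have hS := (sylow hθ hF).card_eq_multiplicity
    rw [sylow_coe hθ hF] at hS
    rw [hS, Nat.factorization_pow, Finsupp.smul_apply, Nat.prime_two.factorization_self, smul_eq_mul, mul_one]
  · exfalso
    refine key (B hθ) le_rfl (le_of_eq ?_)
    rw [card_sz hθ, card_B hθ, Nat.factorization_mul hpos (Nat.mul_ne_zero hqq (by omega)), Finsupp.add_apply,
      Nat.factorization_eq_zero_of_not_dvd h2, zero_add]
  · exact ⟨h1, hne⟩

/-- The inclusion into `GL₄`. -/
theorem incl_inj (H : Subgroup ↥(G F m)) :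
    Function.Injective ((G F m).subtype.comp H.subtype) :=
  (G F m).subtype_injective.comp H.subtype_injective

theorem ord_hyp (hF : Fintype.card F = 2 ^ (2 * m + 1)) {p : ℕ} (hp : p.Prime)
    (hd : p ∣ Fintype.card F * Fintype.card F + 1) (hp2 : p ≠ 2) :
    (p : F) ≠ 0 ∧ ∀ d, 1 ≤ d → d ≤ 3 → ¬ p ∣ Fintype.card F ^ d - 1 := by
  refine ⟨fun h => hp2 ((Nat.prime_dvd_prime_iff_eq Nat.prime_two hp).mp
    ((CharP.cast_eq_zero_iff F 2 p).mp h)).symm, fun d h1 h3 hdd => ?_⟩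
  haveI : Fact p.Prime := ⟨hp⟩
  set q := Fintype.card F with hq
  have hq1 : 1 < q := Fintype.one_lt_card
  have e1 : ((q : ZMod p)) * q + 1 = 0 := by
    have := (CharP.cast_eq_zero_iff (ZMod p) p (q * q + 1)).mpr hd
    push_cast at this
    exact this
  have e2 : ((q : ZMod p)) ^ d = 1 := by
    have h0 := (CharP.cast_eq_zero_iff (ZMod p) p (q ^ d - 1)).mpr hdd
    rw [Nat.cast_sub (Nat.one_le_pow _ _ (by omega))] at h0
    push_cast at h0
    exact sub_eq_zero.mp h0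
  have h2 : (2 : ZMod p) ≠ 0 := fun h => hp2 ((Nat.prime_dvd_prime_iff_eq hp Nat.prime_two).mp
    ((CharP.cast_eq_zero_iff (ZMod p) p 2).mp (by exact_mod_cast h)))
  obtain rfl | rfl | rfl : d = 1 ∨ d = 2 ∨ d = 3 := by omega
  · exact h2 (by linear_combination e1 - ((q : ZMod p) + 1) * e2)
  · exact h2 (by linear_combination e1 - e2)
  · have : (q : ZMod p) = -1 := by linear_combination (q : ZMod p) * e1 - e2
    exact h2 (by rw [this] at e1; linear_combination e1)

theorem exists_prime_power_elt {g : ↥(G F m)} (hg1 : g ≠ 1) :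
    ∃ (p j : ℕ), p.Prime ∧ orderOf (g ^ j) = p := by
  have hn : orderOf g ≠ 1 := fun h => hg1 (orderOf_eq_one_iff.mp h)
  obtain ⟨p, hp, hpd⟩ := Nat.exists_prime_and_dvd hn
  refine ⟨p, orderOf g / p, hp, ?_⟩
  exact orderOf_pow_orderOf_div (orderOf_pos g).ne' hpd

theorem cyclic_centralizer_fpf (hF : Fintype.card F = 2 ^ (2 * m + 1)) {g : ↥(G F m)}
    (hg : ∀ o, act hθ g o ≠ o) : IsCyclic ↥(Subgroup.centralizer {g}) := by
  have hg1 : g ≠ 1 := fun e => hg none (by rw [e, act_one])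
  obtain ⟨p, j, hp, hj⟩ := exists_prime_power_elt hθ hg1
  have hj1 : g ^ j ≠ 1 := fun e => hp.ne_one (hj ▸ e ▸ orderOf_one)
  obtain ⟨hd, hp2⟩ := prime_fpf hθ hF hp hj (fpf_pow hθ hg j hj1)
  obtain ⟨hp0, hord⟩ := ord_hyp hθ hF hp hd hp2
  refine GLFourIrred.cyclic_of_centralizing hp hp0 hord (x := (g ^ j).1) ?_ ?_ _ (incl_inj hθ _) fun h => ?_
  · rw [← SubgroupClass.coe_pow, ← hj, pow_orderOf_eq_one]; rfl
  · exact fun e => hj1 (Subtype.ext e)
  · have hh : Commute g h.1 := Subgroup.mem_centralizer_singleton_iff.mp h.2 |> fun e => e.symm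
    exact (congrArg Subtype.val (hh.pow_left j).eq).symm

theorem fpf_of_commute {g y : ↥(G F m)} (hg : ∀ o, act hθ g o ≠ o) (hy : y ≠ 1) (h : g * y = y * g) :
    ∀ o, act hθ y o ≠ o := fun _ ho => by
  obtain ⟨o', ho'⟩ := fixed_of_commute hθ hy ho (g := g) h
  exact hg o' ho'

theorem centralizer_eq_of_mem (hF : Fintype.card F = 2 ^ (2 * m + 1)) {g y : ↥(G F m)}
    (hg : ∀ o, act hθ g o ≠ o) (hy : y ∈ Subgroup.centralizer {g}) (hy1 : y ≠ 1) :
    Subgroup.centralizer {y} = Subgroup.centralizer {g} := by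
  have hyg := Subgroup.mem_centralizer_singleton_iff.mp hy
  have hyf := fpf_of_commute hθ hg hy1 hyg.symm
  have key : ∀ a b : ↥(G F m), (∀ o, act hθ a o ≠ o) → b ∈ Subgroup.centralizer {a} →
      Subgroup.centralizer {a} ≤ Subgroup.centralizer {b} := by
    intro a b ha hb z hz
    haveI := cyclic_centralizer_fpf hθ hF ha
    letI := IsCyclic.commGroup (α := ↥(Subgroup.centralizer {a}))
    rw [Subgroup.mem_centralizer_singleton_iff]
    exact congrArg Subtype.val (mul_comm (⟨z, hz⟩ : ↥(Subgroup.centralizer {a})) ⟨b, hb⟩)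
  exact le_antisymm (key y g hyf (Subgroup.mem_centralizer_singleton_iff.mpr hyg.symm)) (key g y hg hy)

/-- The split torus. -/
def T : Subgroup ↥(G F m) := (torHom hθ).range

theorem card_T : Nat.card (T hθ) = Fintype.card F - 1 := by
  rw [T, ← Nat.card_congr (MonoidHom.ofInjective (f := torHom hθ) (tor_injective hθ)).toEquiv, Nat.card_units,
    Nat.card_eq_fintype_card]

theorem T_cyclic : IsCyclic ↥(T hθ) := isCyclic_of_surjective _ (torHom hθ).rangeRestrict_surjective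

theorem centralizer_tor_le {c : ↥(G F m)} {k : Fˣ} (hk : k ≠ 1) :
    Subgroup.centralizer {c * tor hθ k * c⁻¹} = (T hθ).map (MulAut.conj c).toMonoidHom := by
  ext g
  rw [Subgroup.mem_centralizer_singleton_iff, Subgroup.mem_map_equiv]
  constructor
  · intro h
    obtain ⟨l, hl⟩ := commute_tor hθ hk (centralizer_conj hθ h)
    exact ⟨l, by rw [MulAut.conj_symm_apply]; exact hl.symm⟩
  · rintro ⟨l, hl⟩
    rw [MulAut.conj_symm_apply] at hl
    have hl' : c⁻¹ * g * c = tor hθ l := hl.symm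
    have hg : g = c * tor hθ l * c⁻¹ := by rw [← hl']; group
    rw [hg]
    calc c * tor hθ l * c⁻¹ * (c * tor hθ k * c⁻¹) = c * (tor hθ l * tor hθ k) * c⁻¹ := by group
      _ = c * (tor hθ k * tor hθ l) * c⁻¹ := by rw [tor_mul, tor_mul, mul_comm l]
      _ = c * tor hθ k * c⁻¹ * (c * tor hθ l * c⁻¹) := by group

theorem centralizer_cases (hF : Fintype.card F = 2 ^ (2 * m + 1)) {g : ↥(G F m)} (hg : g ≠ 1) :
    (∃ r, orderOf g = 2 ^ r) ∧ (∃ c : ↥(G F m), Subgroup.centralizer {g} ≤ (U hθ).map (MulAut.conj c).toMonoidHom) ∨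
      IsCyclic ↥(Subgroup.centralizer {g}) := by
  by_cases hfix : ∃ o, act hθ g o = o
  · obtain ⟨o, ho⟩ := hfix
    rcases fixed_cases hθ ho with ⟨c, a, b, rfl⟩ | ⟨c, k, hk, rfl⟩
    · refine Or.inl ⟨u_two_power hθ hF c a b, c, fun x hx => ?_⟩
      rw [Subgroup.mem_centralizer_singleton_iff] at hx
      rw [Subgroup.mem_map_equiv, MulAut.conj_symm_apply]
      exact commute_u hθ (fun e => hg (by rw [e, mul_one, mul_inv_cancel])) (centralizer_conj hθ hx)
    · refine Or.inr ?_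
      rw [centralizer_tor_le hθ hk]
      haveI := T_cyclic hθ
      exact isCyclic_of_surjective _ ((T hθ).equivMapOfInjective _ (MulAut.conj c).injective).surjective
  · push Not at hfix
    exact Or.inr (cyclic_centralizer_fpf hθ hF hfix)

theorem isCN (hF : Fintype.card F = 2 ^ (2 * m + 1)) : Cfsg.IsCNGroup ↥(G F m) := by
  intro g hg
  rcases centralizer_cases hθ hF hg with ⟨-, c, hc⟩ | hc
  · haveI : Fact (Nat.Prime 2) := ⟨Nat.prime_two⟩
    exact IsPGroup.isNilpotent (((IsPGroup.of_card (p := 2) (n := 4 * m + 2) (by rw [card_U hθ, hF]; ring) :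
      IsPGroup 2 ↥(U hθ)).map _).to_le hc)
  · letI := IsCyclic.commGroup (α := ↥(Subgroup.centralizer ({g} : Set ↥(G F m))))
    infer_instance

theorem sylow_odd_cyclic (hF : Fintype.card F = 2 ^ (2 * m + 1)) {p : ℕ} [hp : Fact p.Prime] (hp2 : p ≠ 2)
    (P : Sylow p ↥(G F m)) : IsCyclic ↥P := by
  by_cases hP : Nontrivial ↥P
  · haveI := P.2.center_nontrivial
    obtain ⟨⟨z, hz⟩, hz1⟩ := exists_ne (1 : ↥(Subgroup.center ↥P))
    have hz1' : z.1 ≠ 1 := fun e => hz1 (Subtype.ext (Subtype.ext e))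
    have hle : (P : Subgroup ↥(G F m)) ≤ Subgroup.centralizer {z.1} := fun x hx =>
      Subgroup.mem_centralizer_singleton_iff.mpr (congrArg Subtype.val (Subgroup.mem_center_iff.mp hz ⟨x, hx⟩))
    rcases centralizer_cases hθ hF hz1' with ⟨⟨r, hr⟩, -⟩ | hc
    · exfalso
      obtain ⟨s, hs⟩ := (IsPGroup.iff_orderOf.mp P.2) z
      rw [← Subgroup.orderOf_coe] at hs
      rcases s with _ | s
      · exact hz1' (orderOf_eq_one_iff.mp (by simpa using hs))
      · have hd : p ∣ 2 ^ r := by rw [← hr, hs]; exact dvd_pow_self p (by omega)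
        exact hp2 ((Nat.prime_dvd_prime_iff_eq hp.out Nat.prime_two).mp (hp.out.dvd_of_dvd_pow hd))
    · exact isCyclic_of_injective (Subgroup.inclusion hle) (Subgroup.inclusion_injective hle)
  · rw [not_nontrivial_iff_subsingleton] at hP
    exact isCyclic_of_subsingleton

end

end Cfsg.Agent.Lib.KnownA.Suz
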