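import Mathlib

/-! Sylow 2-subgroups of symmetric and alternating groups: self-normalisation via a pairing involution. -/

set_option autoImplicit false
set_option maxHeartbeats 400000

namespace Cfsg.Agent.Lib.KnownA.SylowTwo

open Equiv

instance fact2 : Fact (Nat.Prime 2) := ⟨Nat.prime_two⟩

/-- `m` pairs and `r` further points. -/
abbrev Mdl (m r : ℕ) : Type := (Fin m × Bool) ⊕ Fin r

/-- The standard pairing. -/
def flipM (m r : ℕ) : Perm (Mdl m r) :=
  Equiv.sumCongr (Equiv.prodCongr (Equiv.refl (Fin m)) Equiv.boolNot) (Equiv.refl (Fin r))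

variable {m r : ℕ}

@[simp] theorem flipM_inl (i : Fin m) (b : Bool) : flipM m r (Sum.inl (i, b)) = Sum.inl (i, !b) := rfl

@[simp] theorem flipM_inr (c : Fin r) : flipM m r (Sum.inr c) = Sum.inr c := rfl

/-- Its centraliser. -/
def wr (m r : ℕ) : Subgroup (Perm (Mdl m r)) := Subgroup.centralizer {flipM m r}

theorem mem_wr {h : Perm (Mdl m r)} : h ∈ wr m r ↔ ∀ x, h (flipM m r x) = flipM m r (h x) := by
  rw [wr, Subgroup.mem_centralizer_singleton_iff, Equiv.ext_iff]
  simp only [Perm.mul_apply]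

/-- The induced map on pairs. -/
def qf (h : Perm (Mdl m r)) (i : Fin m) : Fin m :=
  Sum.elim Prod.fst (fun _ => i) (h (Sum.inl (i, false)))

theorem qf_spec {h : Perm (Mdl m r)} (hh : h ∈ wr m r) (i : Fin m) (b : Bool) :
    ∃ b', h (Sum.inl (i, b)) = Sum.inl (qf h i, b') := by
  rw [mem_wr] at hh
  have h0 : ∃ b', h (Sum.inl (i, false)) = Sum.inl (qf h i, b') := by
    rcases hx : h (Sum.inl (i, false)) with ⟨j, b'⟩ | c
    · exact ⟨b', by simp [qf, hx]⟩
    · exfalso
      have := hh (Sum.inl (i, false))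
      rw [hx, flipM_inr, ← hx] at this
      simpa using h.injective this
  obtain ⟨b', hb'⟩ := h0
  cases b
  · exact ⟨b', hb'⟩
  · refine ⟨!b', ?_⟩
    have := hh (Sum.inl (i, false))
    rw [hb', flipM_inl, flipM_inl] at this
    simpa using this

theorem qf_mul {g h : Perm (Mdl m r)} (hg : g ∈ wr m r) (hh : h ∈ wr m r) (i : Fin m) :
    qf (g * h) i = qf g (qf h i) := by
  obtain ⟨b, hb⟩ := qf_spec hh i false
  obtain ⟨b', hb'⟩ := qf_spec hg (qf h i) b
  rw [qf, Perm.mul_apply, hb, hb']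
  rfl

/-- The action on pairs. -/
def toPairs : ↥(wr m r) →* Perm (Fin m) where
  toFun h :=
    { toFun := qf (h : Perm (Mdl m r))
      invFun := qf ((h⁻¹ : ↥(wr m r)) : Perm (Mdl m r))
      left_inv := fun i => by
        rw [← qf_mul (h⁻¹).2 h.2, ← Subgroup.coe_mul, inv_mul_cancel]; rfl
      right_inv := fun i => by
        rw [← qf_mul h.2 (h⁻¹).2, ← Subgroup.coe_mul, mul_inv_cancel]; rfl }
  map_one' := Equiv.ext fun i => rfl
  map_mul' g h := Equiv.ext fun i => qf_mul g.2 h.2 i

theorem toPairs_surjective : Function.Surjective (toPairs (m := m) (r := r)) := fun p => by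
  refine ⟨⟨Equiv.sumCongr (Equiv.prodCongr p (Equiv.refl Bool)) (Equiv.refl (Fin r)), ?_⟩, ?_⟩
  · rw [mem_wr]
    rintro (⟨i, b⟩ | c) <;> rfl
  · exact Equiv.ext fun i => rfl

theorem inr_fixed (hr : r ≤ 1) {h : Perm (Mdl m r)} (hh : h ∈ wr m r) (c : Fin r) :
    h (Sum.inr c) = Sum.inr c := by
  rw [mem_wr] at hh
  rcases hx : h (Sum.inr c) with ⟨i, b⟩ | c'
  · have := hh (Sum.inr c)
    rw [flipM_inr, hx, flipM_inl] at this
    simp at this
  · congr 1
    exact Fin.ext (by have := c.2; have := c'.2; omega)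

theorem ker_sq (hr : r ≤ 1) {h : ↥(wr m r)} (hh : h ∈ (toPairs (m := m) (r := r)).ker) : h * h = 1 := by
  refine Subtype.ext (Equiv.ext fun x => ?_)
  rw [Subgroup.coe_mul, Perm.mul_apply, Subgroup.coe_one, Perm.one_apply]
  rcases x with ⟨i, b⟩ | c
  · have hi : qf (h : Perm (Mdl m r)) i = i := Equiv.ext_iff.mp hh i
    obtain ⟨b', hb'⟩ := qf_spec h.2 i b
    rw [hi] at hb'
    rw [hb']
    rcases Bool.eq_or_eq_not b' b with e | e
    · rw [e] at hb' ⊢; exact hb'
    · subst e
      have := (mem_wr.mp h.2) (Sum.inl (i, b))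
      rw [hb', flipM_inl, flipM_inl, Bool.not_not] at this
      exact this
  · rw [inr_fixed hr h.2 c, inr_fixed hr h.2 c]

theorem ker_isPGroup (hr : r ≤ 1) : IsPGroup 2 ↥(toPairs (m := m) (r := r)).ker := fun h =>
  ⟨1, Subtype.ext (by rw [pow_one, sq]; exact ker_sq hr h.2)⟩

/-- Independent flips. -/
def flips (f : Fin m → Bool) : Perm (Mdl m r) :=
  Equiv.sumCongr (Equiv.prodCongrRight fun i => if f i then Equiv.boolNot else Equiv.refl Bool) (Equiv.refl (Fin r))

theorem flips_mem (f : Fin m → Bool) : (flips f : Perm (Mdl m r)) ∈ wr m r := by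
  rw [mem_wr]
  rintro (⟨i, b⟩ | c)
  · cases hf : f i <;> simp [flips, flipM, hf]
  · rfl

theorem flips_ker (f : Fin m → Bool) : (⟨flips f, flips_mem f⟩ : ↥(wr m r)) ∈ (toPairs (m := m) (r := r)).ker :=
  Equiv.ext fun i => rfl

theorem two_pow_dvd_ker (hr : r ≤ 1) : 2 ^ m ∣ Nat.card ↥(toPairs (m := m) (r := r)).ker := by
  obtain ⟨a, ha⟩ := IsPGroup.iff_card.mp (ker_isPGroup (m := m) hr)
  have hinj : Function.Injective (fun f : Fin m → Bool =>
      (⟨⟨flips f, flips_mem f⟩, flips_ker f⟩ : ↥(toPairs (m := m) (r := r)).ker)) := by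
    intro f g hfg
    funext i
    have h : (flips f : Perm (Mdl m r)) (Sum.inl (i, false)) = flips g (Sum.inl (i, false)) := by
      rw [Subtype.mk.injEq, Subtype.mk.injEq] at hfg
      rw [hfg]
    cases hf : f i <;> cases hg : g i <;> simp [flips, hf, hg] at h ⊢
  have h := Nat.card_le_card_of_injective _ hinj
  simp only [Nat.card_fun, Nat.card_eq_fintype_card (α := Bool), Fintype.card_bool, Nat.card_fin] at h
  rw [ha] at h ⊢
  exact pow_dvd_pow 2 ((Nat.pow_le_pow_iff_right one_lt_two).mp h)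

theorem index_wr_odd (hr : r ≤ 1) : ¬ 2 ∣ (wr m r).index := by
  rintro ⟨c, hc⟩
  have hK : 2 ^ m * m.factorial ∣ Nat.card ↥(wr m r) := by
    rw [← Subgroup.card_mul_index (toPairs (m := m) (r := r)).ker, Subgroup.index_ker,
      MonoidHom.range_eq_top_of_surjective _ toPairs_surjective, Subgroup.card_top, Nat.card_perm,
      Nat.card_fin]
    exact Nat.mul_dvd_mul_right (two_pow_dvd_ker hr) _
  have hdvd : 2 ^ (m + 1) * m.factorial ∣ (2 * m + r).factorial := by
    have h := Subgroup.index_mul_card (wr m r)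
    rw [Nat.card_perm (α := Mdl m r), hc] at h
    have hM : Nat.card (Mdl m r) = 2 * m + r := by
      simp [Nat.card_eq_fintype_card, mul_comm]
    rw [hM] at h
    rw [← h, pow_succ', mul_assoc, mul_assoc]
    exact Nat.mul_dvd_mul_left 2 (hK.trans (Dvd.intro_left c rfl))
  have hne : (2 ^ (m + 1) * m.factorial) ≠ 0 := by positivity
  have h1 : padicValNat 2 (2 ^ (m + 1) * m.factorial) ≤ padicValNat 2 (2 * m + r).factorial := by
    obtain ⟨d, hd⟩ := hdvd
    have hd0 : d ≠ 0 := fun h => (Nat.factorial_ne_zero _) (by rw [hd, h, mul_zero])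
    rw [hd, padicValNat.mul hne hd0]
    exact Nat.le_add_right _ _
  rw [padicValNat.mul (by positivity) (Nat.factorial_ne_zero _), padicValNat.prime_pow,
    padicValNat_factorial_mul_add m (show r < 2 by omega), padicValNat_factorial_mul] at h1
  omega

theorem exists_sylow_le_wr (hr : r ≤ 1) : ∃ T : Sylow 2 (Perm (Mdl m r)), (T : Subgroup (Perm (Mdl m r))) ≤ wr m r := by
  obtain ⟨P⟩ : Nonempty (Sylow 2 ↥(wr m r)) := inferInstance
  have hp : IsPGroup 2 ↥((P : Subgroup ↥(wr m r)).map (wr m r).subtype) := P.isPGroup'.map _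
  refine ⟨hp.toSylow ?_, ?_⟩
  · rw [Subgroup.index_map_subtype]
    exact Nat.Prime.not_dvd_mul Nat.prime_two P.not_dvd_index (index_wr_odd hr)
  · exact Subgroup.map_subtype_le _

theorem ker_le (hr : r ≤ 1) {T : Sylow 2 (Perm (Mdl m r))} (hT : (T : Subgroup (Perm (Mdl m r))) ≤ wr m r) :
    (toPairs (m := m) (r := r)).ker ≤ (T.subtype hT : Subgroup ↥(wr m r)) := by
  have h : IsPGroup 2 ↥((T.subtype hT : Subgroup ↥(wr m r)) ⊔ (toPairs (m := m) (r := r)).ker) :=
    (T.subtype hT).isPGroup'.to_sup_of_normal_right (ker_isPGroup hr)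
  exact le_sup_right.trans ((T.subtype hT).is_maximal' h le_sup_left).le

theorem flips_mem_sylow (hr : r ≤ 1) {T : Sylow 2 (Perm (Mdl m r))} (hT : (T : Subgroup (Perm (Mdl m r))) ≤ wr m r)
    (f : Fin m → Bool) : (flips f : Perm (Mdl m r)) ∈ (T : Subgroup (Perm (Mdl m r))) :=
  ker_le hr hT (flips_ker f)

theorem swap_mem_sylow (hr : r ≤ 1) {T : Sylow 2 (Perm (Mdl m r))} (hT : (T : Subgroup (Perm (Mdl m r))) ≤ wr m r)
    (x : Mdl m r) : Equiv.swap x (flipM m r x) ∈ (T : Subgroup (Perm (Mdl m r))) := by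
  rcases x with ⟨i, b⟩ | c
  · have he : Equiv.swap (Sum.inl (i, b) : Mdl m r) (flipM m r (Sum.inl (i, b))) = flips (fun j => decide (j = i)) := by
      refine Equiv.ext fun y => ?_
      rcases y with ⟨j, b'⟩ | c
      · by_cases hj : j = i
        · subst hj
          cases b <;> cases b' <;> simp [flips]
        · rw [Equiv.swap_apply_of_ne_of_ne (by simp [hj]) (by simp [hj])]
          simp [flips, hj]
      · rw [Equiv.swap_apply_of_ne_of_ne (by simp) (by simp)]
        rfl
    rw [he]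
    exact flips_mem_sylow hr hT _
  · rw [flipM_inr, Equiv.swap_self]
    exact one_mem _

/-- A permutation respecting the pairs commutes with the pairing. -/
theorem commute_of_moved {α : Type*} [Finite α] {σ g : Perm α} (hσ : ∀ x, σ (σ x) = x)
    (hfix : ∀ x y, σ x = x → σ y = y → x = y) (h : ∀ x, σ x ≠ x → σ (g x) = g (σ x)) :
    ∀ x, g (σ x) = σ (g x) := by
  intro x
  by_cases hx : σ x = x
  · rw [hx]
    by_contra hne
    set y := g⁻¹ (σ (g x)) with hy
    have hgy : g y = σ (g x) := by simp [hy]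
    by_cases hy' : σ y = y
    · rw [hfix y x hy' hx] at hgy
      exact hne hgy
    · have := h y hy'
      rw [hgy, hσ] at this
      have e : σ y = x := g.injective this.symm
      rw [← e, hσ] at hx
      exact hy' hx.symm
  · exact (h x hx).symm

/-- If the image of a pair is swapped by the centraliser of the pairing, it is a pair. -/
theorem pair_of_swap {α : Type*} [DecidableEq α] {σ : Perm α} (hσ : ∀ x, σ (σ x) = x)
    (hfix : ∀ x y, σ x = x → σ y = y → x = y) {a b : α} (hab : a ≠ b)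
    (h : ∀ x, Equiv.swap a b (σ x) = σ (Equiv.swap a b x)) : σ a = b := by
  have h3 := h a
  rw [Equiv.swap_apply_left] at h3
  by_contra hne
  rcases eq_or_ne (σ a) a with e | e
  · rw [e, Equiv.swap_apply_left] at h3
    exact hab (hfix a b e h3.symm)
  · rw [Equiv.swap_apply_of_ne_of_ne e hne] at h3
    exact hab (σ.injective h3)

theorem flipM_flipM (x : Mdl m r) : flipM m r (flipM m r x) = x := by
  rcases x with ⟨i, b⟩ | c <;> simp

theorem flipM_fixed (hr : r ≤ 1) (x y : Mdl m r) (hx : flipM m r x = x) (hy : flipM m r y = y) : x = y := by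
  rcases x with ⟨i, b⟩ | c
  · simp at hx
  rcases y with ⟨i, b⟩ | c'
  · simp at hy
  exact congrArg Sum.inr (Fin.ext (by have := c.2; have := c'.2; omega))

/-- Self-normalisation in the model, given it on pairs. -/
theorem normalizer_le_model (hr : r ≤ 1) {T : Sylow 2 (Perm (Mdl m r))}
    (hT : (T : Subgroup (Perm (Mdl m r))) ≤ wr m r)
    (ih : ∀ Q : Sylow 2 (Perm (Fin m)), Subgroup.normalizer ((Q : Subgroup (Perm (Fin m))) : Set (Perm (Fin m))) ≤ Q) :
    Subgroup.normalizer ((T : Subgroup (Perm (Mdl m r))) : Set (Perm (Mdl m r))) ≤ T := by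
  intro g hg
  rw [Subgroup.mem_normalizer_iff] at hg
  have hgw : g ∈ wr m r := by
    rw [mem_wr]
    refine commute_of_moved flipM_flipM (flipM_fixed hr) fun x hx => ?_
    refine pair_of_swap flipM_flipM (flipM_fixed hr) (fun e => hx (g.injective e).symm) ?_
    refine mem_wr.mp (hT ?_)
    rw [Equiv.swap_apply_apply g]
    exact (hg _).mp (swap_mem_sylow hr hT x)
  have hgN : (⟨g, hgw⟩ : ↥(wr m r)) ∈ Subgroup.normalizer (((T.subtype hT) : Subgroup ↥(wr m r)) : Set ↥(wr m r)) := by
    rw [Subgroup.mem_normalizer_iff]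
    exact fun h => hg (h : Perm (Mdl m r))
  have h1 : toPairs ⟨g, hgw⟩ ∈ (((T.subtype hT).mapSurjective toPairs_surjective : Sylow 2 (Perm (Fin m))) : Subgroup (Perm (Fin m))) := by
    refine ih _ ?_
    rw [Sylow.coe_mapSurjective]
    exact Subgroup.le_normalizer_map _ (Subgroup.mem_map_of_mem _ hgN)
  rw [Sylow.coe_mapSurjective, Subgroup.mem_map] at h1
  obtain ⟨t, ht, hte⟩ := h1
  have hk : t⁻¹ * ⟨g, hgw⟩ ∈ (toPairs (m := m) (r := r)).ker := by
    rw [MonoidHom.mem_ker, map_mul, map_inv, hte, inv_mul_cancel]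
  have := (T.subtype hT : Subgroup ↥(wr m r)).mul_mem ht (ker_le hr hT hk)
  rw [mul_inv_cancel_left] at this
  exact this

/-- Every Sylow 2-subgroup comes from the model. -/
theorem exists_model {α : Type*} [Finite α] (T : Sylow 2 (Perm α)) :
    ∃ (m r : ℕ) (e : Mdl m r ≃ α) (T₀ : Sylow 2 (Perm (Mdl m r))), r ≤ 1 ∧ 2 * m + r = Nat.card α ∧
      (T₀ : Subgroup (Perm (Mdl m r))) ≤ wr m r ∧
      ∀ t : Perm (Mdl m r), t ∈ (T₀ : Subgroup (Perm (Mdl m r))) ↔ e.permCongr t ∈ (T : Subgroup (Perm α)) := by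
  haveI := Fintype.ofFinite α
  set m := Nat.card α / 2
  set r := Nat.card α % 2
  have hr : r ≤ 1 := by omega
  have hn : 2 * m + r = Nat.card α := Nat.div_add_mod _ _
  obtain ⟨T₀, hT₀⟩ := exists_sylow_le_wr (m := m) hr
  obtain ⟨e⟩ : Nonempty (Mdl m r ≃ α) := by
    rw [← Fintype.card_eq, Fintype.card_sum, Fintype.card_prod, Fintype.card_fin, Fintype.card_fin,
      Fintype.card_bool, ← Nat.card_eq_fintype_card (α := α)]
    omega
  obtain ⟨g, hg⟩ := MulAction.exists_smul_eq (Perm α)
    (T₀.mapSurjective (f := e.permCongrHom.toMonoidHom)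
      (show Function.Surjective e.permCongrHom.toMonoidHom from e.permCongrHom.surjective)) T
  refine ⟨m, r, e.trans g, T₀, hr, hn, hT₀, fun t => ?_⟩
  rw [← hg, Sylow.coe_subgroup_smul, Subgroup.mem_pointwise_smul_iff_inv_smul_mem, Sylow.coe_mapSurjective]
  have : (MulAut.conj g)⁻¹ • (e.trans g).permCongr t = e.permCongrHom.toMonoidHom t := by
    rw [MulAut.smul_def, MulAut.conj_inv_apply]
    exact Equiv.ext fun x => by simp [Equiv.permCongrHom]
  rw [this]
  exact (Subgroup.mem_map_iff_mem e.permCongrHom.injective).symm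

/-- Sylow 2-subgroups of finite symmetric groups are self-normalising. -/
theorem normalizer_sylow_le : ∀ (n : ℕ) (T : Sylow 2 (Perm (Fin n))),
    Subgroup.normalizer ((T : Subgroup (Perm (Fin n))) : Set (Perm (Fin n))) ≤ T := by
  intro n
  induction n using Nat.strong_induction_on with
  | _ n ih =>
    intro T g hg
    obtain ⟨m, r, e, T₀, hr, hmr, hT₀, hiff⟩ := exists_model T
    rw [Nat.card_fin] at hmr
    rcases Nat.eq_zero_or_pos n with h0 | h0
    · subst h0
      rw [Subsingleton.elim g 1]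
      exact one_mem _
    obtain ⟨h, rfl⟩ : ∃ h, e.permCongr h = g := ⟨e.permCongr.symm g, e.permCongr.apply_symm_apply g⟩
    rw [← hiff]
    have hmn : m < n := by omega
    refine normalizer_le_model hr hT₀ (ih m hmn) ?_
    rw [Subgroup.mem_normalizer_iff] at hg ⊢
    intro t
    have hm : ∀ a b, e.permCongr (a * b) = e.permCongr a * e.permCongr b := fun a b => map_mul e.permCongrHom a b
    have hi : ∀ a, e.permCongr a⁻¹ = (e.permCongr a)⁻¹ := fun a => map_inv e.permCongrHom a
    rw [hiff, hiff, hm, hm, hi]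
    exact hg _

/-- The pairing of a Sylow 2-subgroup of a symmetric group. -/
theorem exists_pairing {n : ℕ} (T : Sylow 2 (Perm (Fin n))) :
    ∃ σ : Perm (Fin n), (∀ x, σ (σ x) = x) ∧ (∀ x y, σ x = x → σ y = y → x = y) ∧
      (∀ t ∈ (T : Subgroup (Perm (Fin n))), ∀ x, t (σ x) = σ (t x)) ∧
      (∀ x, Equiv.swap x (σ x) ∈ (T : Subgroup (Perm (Fin n)))) ∧
      (Odd n → ∃ x, σ x = x) ∧ (Even n → ∀ x, σ x ≠ x) := by
  obtain ⟨m, r, e, T₀, hr, hmr, hT₀, hiff⟩ := exists_model T
  rw [Nat.card_fin] at hmr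
  refine ⟨e.permCongr (flipM m r), fun x => ?_, fun x y hx hy => ?_, fun t ht x => ?_, fun x => ?_, fun ho => ?_, fun he x hx => ?_⟩
  · simp [flipM_flipM]
  · simp only [Equiv.permCongr_apply] at hx hy
    exact e.symm.injective (flipM_fixed hr _ _ (e.injective (hx.trans (e.apply_symm_apply x).symm))
      (e.injective (hy.trans (e.apply_symm_apply y).symm)))
  · obtain ⟨t₀, rfl⟩ : ∃ h, e.permCongr h = t := ⟨e.permCongr.symm t, e.permCongr.apply_symm_apply t⟩
    simp only [Equiv.permCongr_apply, Equiv.symm_apply_apply]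
    rw [mem_wr.mp (hT₀ ((hiff _).mpr ht))]
  · have h := (hiff _).mp (swap_mem_sylow hr hT₀ (e.symm x))
    rw [Equiv.permCongr_def, Equiv.symm_trans_swap_trans, Equiv.apply_symm_apply] at h
    rwa [Equiv.permCongr_apply]
  · obtain ⟨c, hc⟩ := ho
    exact ⟨e (Sum.inr ⟨0, by omega⟩), by simp [Equiv.permCongr_apply]⟩
  · obtain ⟨c, hc⟩ := he
    rw [Equiv.permCongr_apply] at hx
    rcases hx' : e.symm x with ⟨i, b⟩ | j
    · rw [hx'] at hx
      have := e.injective (hx.trans (e.apply_symm_apply x).symm)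
      rw [hx', flipM_inl] at this
      simp at this
    · have := j.2; omega

theorem exists_not_mem {n : ℕ} (s : Finset (Fin n)) (h : s.card < n) : ∃ z, z ∉ s := by
  by_contra hc
  push Not at hc
  have : s = Finset.univ := Finset.eq_univ_of_forall hc
  simp [this] at h

/-- Conjugating the even part of a Sylow 2-subgroup into the group maps it into itself. -/
theorem conj_mem_of_even {n : ℕ} (hn : 6 ≤ n) (T : Sylow 2 (Perm (Fin n))) {g : Perm (Fin n)}
    (hg : ∀ h ∈ (T : Subgroup (Perm (Fin n))), Perm.sign h = 1 → g * h * g⁻¹ ∈ (T : Subgroup (Perm (Fin n))))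
    {t : Perm (Fin n)} (ht : t ∈ (T : Subgroup (Perm (Fin n)))) : g * t * g⁻¹ ∈ (T : Subgroup (Perm (Fin n))) := by
  classical
  obtain ⟨σ, hσ, hfix, hcomm, hswap, -⟩ := exists_pairing T
  set F := Finset.univ.filter fun x => σ x = x with hF
  have hFc : F.card ≤ 1 := Finset.card_le_one.mpr fun a ha b hb =>
    hfix a b (Finset.mem_filter.mp ha).2 (Finset.mem_filter.mp hb).2
  have hclaim : ∀ x, σ x ≠ x → σ (g x) = g (σ x) := by
    intro x hx
    obtain ⟨y, hy⟩ := exists_not_mem ({x, σ x} ∪ F) (by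
      have := Finset.card_union_le {x, σ x} F
      have : ({x, σ x} : Finset (Fin n)).card ≤ 2 := Finset.card_le_two
      omega)
    obtain ⟨z, hz⟩ := exists_not_mem ({x, σ x, y, σ y} ∪ F) (by
      have := Finset.card_union_le {x, σ x, y, σ y} F
      have : ({x, σ x, y, σ y} : Finset (Fin n)).card ≤ 4 := Finset.card_le_four
      omega)
    simp only [hF, Finset.mem_union, Finset.mem_insert, Finset.mem_singleton, Finset.mem_filter,
      Finset.mem_univ, true_and, not_or] at hy hz
    have key : ∀ w, σ w ≠ w → w ≠ x → w ≠ σ x → σ (g x) = g (σ x) ∨ σ (g x) = g w ∨ σ (g x) = g (σ w) := by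
      intro w hw hwx hwsx
      have hmem := hg _ ((T : Subgroup (Perm (Fin n))).mul_mem (hswap x) (hswap w))
        (by rw [map_mul, Perm.sign_swap (Ne.symm hx), Perm.sign_swap (Ne.symm hw)]; rfl)
      have he : g * (Equiv.swap x (σ x) * Equiv.swap w (σ w)) * g⁻¹ =
          Equiv.swap (g x) (g (σ x)) * Equiv.swap (g w) (g (σ w)) := by
        rw [Equiv.swap_apply_apply, Equiv.swap_apply_apply]; group
      rw [he] at hmem
      have h3 := hcomm _ hmem (g x)
      have hxw : x ≠ σ w := fun h => hwsx (by rw [h, hσ])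
      rw [Perm.mul_apply, Perm.mul_apply, Equiv.swap_apply_of_ne_of_ne (g.injective.ne (Ne.symm hwx))
        (g.injective.ne hxw), Equiv.swap_apply_left] at h3
      by_contra hcon
      push Not at hcon
      obtain ⟨c1, c2, c3⟩ := hcon
      rw [Equiv.swap_apply_of_ne_of_ne c2 c3] at h3
      rcases eq_or_ne (σ (g x)) (g x) with e | e
      · rw [e, Equiv.swap_apply_left] at h3
        exact hx (g.injective (hfix _ _ e h3.symm)).symm
      · rw [Equiv.swap_apply_of_ne_of_ne e c1] at h3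
        exact hx (g.injective (σ.injective h3)).symm
    rcases key y hy.2 hy.1.1 hy.1.2 with h | h | h
    · exact h
    all_goals
      rcases key z hz.2 hz.1.1 hz.1.2.1 with h' | h' | h'
      · exact h'
      all_goals
        exfalso
        have h'' := g.injective (h.symm.trans h')
        first
          | exact hz.1.2.2.1 h''.symm
          | exact hz.1.2.2.2 h''.symm
          | (apply hz.1.2.2.2; rw [h'', hσ])
          | (apply hz.1.2.2.1; exact σ.injective h''.symm)
  have hgσ := commute_of_moved hσ hfix hclaim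
  rcases Int.units_eq_one_or (Perm.sign t) with hs | hs
  · exact hg t ht hs
  · obtain ⟨x, hx⟩ := exists_not_mem F (by omega)
    have hx' : x ≠ σ x := fun e => hx (Finset.mem_filter.mpr ⟨Finset.mem_univ _, e.symm⟩)
    have h1 := hg _ ((T : Subgroup (Perm (Fin n))).mul_mem ht (hswap x))
      (by rw [map_mul, hs, Perm.sign_swap hx']; rfl)
    have h2 : g * Equiv.swap x (σ x) * g⁻¹ ∈ (T : Subgroup (Perm (Fin n))) := by
      rw [← Equiv.swap_apply_apply, hgσ]; exact hswap _
    have h3 := (T : Subgroup (Perm (Fin n))).mul_mem h1 h2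
    have e : g * (t * Equiv.swap x (σ x)) * g⁻¹ * (g * Equiv.swap x (σ x) * g⁻¹) = g * t * g⁻¹ := by
      simp [mul_assoc]
    rwa [e] at h3

/-- A Sylow 2-subgroup of an alternating group is the even part of one of the symmetric group. -/
theorem exists_sylow_perm {n : ℕ} (S : Sylow 2 ↥(alternatingGroup (Fin n))) :
    ∃ T : Sylow 2 (Perm (Fin n)), (S : Subgroup ↥(alternatingGroup (Fin n))) =
      (T : Subgroup (Perm (Fin n))).subgroupOf (alternatingGroup (Fin n)) := by
  obtain ⟨T, hT⟩ := IsPGroup.exists_le_sylow (S.isPGroup'.map (alternatingGroup (Fin n)).subtype)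
  refine ⟨T, (S.is_maximal' (T.isPGroup'.comap_of_injective _ Subtype.val_injective) ?_).symm⟩
  exact Subgroup.map_le_iff_le_comap.mp hT

/-- Sylow 2-subgroups of alternating groups of degree at least 6 are self-normalising. -/
theorem normalizer_alt_le {n : ℕ} (hn : 6 ≤ n) (S : Sylow 2 ↥(alternatingGroup (Fin n))) :
    Subgroup.normalizer ((S : Subgroup ↥(alternatingGroup (Fin n))) : Set ↥(alternatingGroup (Fin n))) ≤ S := by
  obtain ⟨T, hT⟩ := exists_sylow_perm S
  intro g hg
  have hfwd : ∀ k ∈ Subgroup.normalizer ((S : Subgroup ↥(alternatingGroup (Fin n))) : Set ↥(alternatingGroup (Fin n))),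
      ∀ t ∈ (T : Subgroup (Perm (Fin n))), (k : Perm (Fin n)) * t * (k : Perm (Fin n))⁻¹ ∈ (T : Subgroup (Perm (Fin n))) := by
    intro k hk t ht
    refine conj_mem_of_even hn T (fun h hh hs => ?_) ht
    have h1 := (Subgroup.mem_normalizer_iff.mp hk ⟨h, Perm.mem_alternatingGroup.mpr hs⟩).mp
      (by rw [hT]; exact hh)
    rw [hT] at h1
    exact h1
  rw [hT]
  refine normalizer_sylow_le n T (Subgroup.mem_normalizer_iff.mpr fun t => ⟨hfwd g hg t, fun h => ?_⟩)
  have h2 := hfwd g⁻¹ (inv_mem hg) _ h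
  simpa [mul_assoc] using h2

/-- Sylow subgroups of a subgroup containing two conjugates are conjugate there. -/
theorem exists_conj_in {G : Type*} [Group G] [Finite G] {p : ℕ} [Fact p.Prime] (S : Sylow p G) (g : G)
    (K : Subgroup G) (h1 : (S : Subgroup G) ≤ K) (h2 : (S : Subgroup G).map (MulAut.conj g).toMonoidHom ≤ K) :
    ∃ k ∈ K, k⁻¹ * g ∈ Subgroup.normalizer ((S : Subgroup G) : Set G) := by
  have h2' : ((g • S : Sylow p G) : Subgroup G) ≤ K := h2
  obtain ⟨k, hk⟩ := MulAction.exists_smul_eq ↥K (S.subtype h1) ((g • S).subtype h2')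
  refine ⟨k, k.2, ?_⟩
  refine Sylow.smul_eq_iff_mem_normalizer.mp ?_
  rw [mul_smul, inv_smul_eq_iff]
  rw [Sylow.smul_subtype] at hk
  exact (Sylow.subtype_injective hk).symm

end Cfsg.Agent.Lib.KnownA.SylowTwo
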