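import Mathlib

/-!
Agreements between a permutation and the even conjugates of another one.
-/

set_option autoImplicit false
set_option linter.unusedSectionVars false

namespace Cfsg.Agent.Lib.KnownA.AgreementCount

variable {n : ℕ}

/-- A partial injection extends to an even permutation when two points are free. -/
theorem exists_even {k : ℕ} (e e' : Fin k → Fin n) (he : Function.Injective e) (he' : Function.Injective e')
    (hk : k + 2 ≤ n) : ∃ g : Equiv.Perm (Fin n), Equiv.Perm.sign g = 1 ∧ ∀ i, g (e i) = e' i := by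
  classical
  let E := ((Equiv.ofInjective e he).symm.trans (Equiv.ofInjective e' he'))
  let g₀ : Equiv.Perm (Fin n) := E.extendSubtype
  have hg₀ : ∀ i, g₀ (e i) = e' i := fun i => by
    show E.extendSubtype (e i) = e' i
    rw [Equiv.extendSubtype_apply_of_mem E (e i) ⟨i, rfl⟩]
    show ((Equiv.ofInjective e' he') ((Equiv.ofInjective e he).symm ⟨e i, _⟩) : Fin n) = e' i
    rw [Equiv.ofInjective_symm_apply]
    rfl
  rcases Int.units_eq_one_or (Equiv.Perm.sign g₀) with hs | hs
  · exact ⟨g₀, hs, hg₀⟩
  · have hc : 1 < (Finset.univ \ Finset.image e Finset.univ).card := by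
      rw [Finset.card_sdiff_of_subset (Finset.subset_univ _), Finset.card_image_of_injective _ he]
      simp
      omega
    obtain ⟨x, hx, y, hy, hxy⟩ := Finset.one_lt_card.mp hc
    simp only [Finset.mem_sdiff, Finset.mem_univ, true_and, Finset.mem_image, not_exists] at hx hy
    refine ⟨g₀ * Equiv.swap x y, by rw [map_mul, hs, Equiv.Perm.sign_swap hxy]; decide, fun i => ?_⟩
    rw [Equiv.Perm.mul_apply, Equiv.swap_apply_of_ne_of_ne (hx i) (hy i), hg₀]

/-- Fixed points as a finset. -/
def fx (u : Equiv.Perm (Fin n)) : Finset (Fin n) := Finset.univ.filter fun x => u x = x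

/-- The number of agreements of `u` with the conjugate of `b` by `g`. -/
def agree (u b g : Equiv.Perm (Fin n)) : ℕ := (Finset.univ.filter fun y => g (b y) = u (g y)).card

theorem fixedPoints_card (a b g : Equiv.Perm (Fin n)) :
    Nat.card (Function.fixedPoints ⇑(a * (g * b * g⁻¹))) = agree a⁻¹ b g := by
  classical
  rw [agree, ← Fintype.card_coe, ← Nat.card_eq_fintype_card]
  have h1 : ∀ y ∈ Finset.univ.filter (fun y => g (b y) = a⁻¹ (g y)),
      g y ∈ Function.fixedPoints ⇑(a * (g * b * g⁻¹)) := by
    intro y hy
    have h := (Finset.mem_filter.mp hy).2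
    show a (g (b (g⁻¹ (g y)))) = g y
    simp [h]
  have h2 : ∀ x ∈ Function.fixedPoints ⇑(a * (g * b * g⁻¹)),
      g⁻¹ x ∈ Finset.univ.filter (fun y => g (b y) = a⁻¹ (g y)) := by
    intro x hx
    have h : a (g (b (g⁻¹ x))) = x := hx
    simp only [Finset.mem_filter, Finset.mem_univ, true_and]
    rw [show g (g⁻¹ x) = x by simp]
    exact Equiv.Perm.eq_inv_iff_eq.mpr h
  exact (Nat.card_congr
    { toFun := fun y => ⟨g y.1, h1 y.1 y.2⟩
      invFun := fun x => ⟨g⁻¹ x.1, h2 x.1 x.2⟩
      left_inv := fun y => Subtype.ext (by simp)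
      right_inv := fun x => Subtype.ext (by simp) }).symm

/-- The even permutations. -/
def evens (n : ℕ) : Finset (Equiv.Perm (Fin n)) := Finset.univ.filter fun g => Equiv.Perm.sign g = 1

/-- Even permutations with two given values. -/
def fib (y₁ x₁ y₂ x₂ : Fin n) : ℕ := ((evens n).filter fun g => g y₁ = x₁ ∧ g y₂ = x₂).card

theorem fib_indep {y₁ x₁ y₂ x₂ z₁ w₁ z₂ w₂ : Fin n} (hn : 4 ≤ n) (hy : y₁ ≠ y₂) (hx : x₁ ≠ x₂) (hz : z₁ ≠ z₂)
    (hw : w₁ ≠ w₂) : fib y₁ x₁ y₂ x₂ = fib z₁ w₁ z₂ w₂ := by
  classical
  have inj : ∀ {a b : Fin n}, a ≠ b → Function.Injective ![a, b] := by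
    intro a b hab i j h
    fin_cases i <;> fin_cases j <;> simp_all
  obtain ⟨σ, hσ, hσ'⟩ := exists_even ![z₁, z₂] ![y₁, y₂] (inj hz) (inj hy) (by omega)
  obtain ⟨τ, hτ, hτ'⟩ := exists_even ![x₁, x₂] ![w₁, w₂] (inj hx) (inj hw) (by omega)
  have a0 := hσ' 0
  have a1 := hσ' 1
  have b0 := hτ' 0
  have b1 := hτ' 1
  simp at a0 a1 b0 b1
  refine Finset.card_bij' (fun g _ => τ * g * σ) (fun g _ => τ⁻¹ * g * σ⁻¹) ?_ ?_ ?_ ?_
  · intro g hg
    simp only [Finset.mem_filter, evens, Finset.mem_univ, true_and] at hg ⊢
    exact ⟨by rw [map_mul, map_mul, hσ, hτ, hg.1]; rfl, by simp [a0, hg.2.1, b0], by simp [a1, hg.2.2, b1]⟩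
  · intro g hg
    simp only [Finset.mem_filter, evens, Finset.mem_univ, true_and] at hg ⊢
    refine ⟨by rw [map_mul, map_mul, map_inv, map_inv, hσ, hτ, hg.1]; simp, ?_, ?_⟩
    · simp [← a0, hg.2.1, ← b0]
    · simp [← a1, hg.2.2, ← b1]
  · intro g _; group
  · intro g _; group

theorem evens_pos (n : ℕ) : 0 < (evens n).card :=
  Finset.card_pos.mpr ⟨1, by simp [evens]⟩

theorem card_mul_fib (hn : 4 ≤ n) {y₁ x₁ y₂ x₂ : Fin n} (hy : y₁ ≠ y₂) (hx : x₁ ≠ x₂) :
    n * (n - 1) * fib y₁ x₁ y₂ x₂ = (evens n).card := by
  classical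
  let T : Finset (Fin n × Fin n) := Finset.univ.filter fun p => p.1 ≠ p.2
  have hT : T.card = n * (n - 1) := by
    have e : T = (Finset.univ : Finset (Fin n)).offDiag := by ext p; simp [T, Finset.mem_offDiag]
    rw [e, Finset.offDiag_card, Finset.card_univ, Fintype.card_fin, Nat.mul_sub, mul_one]
  have h := Finset.card_eq_sum_card_fiberwise (s := evens n) (t := T) (f := fun g => (g y₁, g y₂))
    (fun g _ => by simp [T, hy])
  rw [h, ← hT, Finset.card_eq_sum_ones T, Finset.sum_mul]
  refine Finset.sum_congr rfl fun p hp => ?_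
  have hp' : p.1 ≠ p.2 := (Finset.mem_filter.mp hp).2
  rw [one_mul, fib_indep hn hy hx hy hp']
  unfold fib
  congr 1
  ext g
  simp [Prod.ext_iff]

theorem sum_agree (hn : 4 ≤ n) (u b : Equiv.Perm (Fin n)) :
    n * (n - 1) * ∑ g ∈ evens n, agree u b g =
      (evens n).card * ((fx u).card * (fx b).card * (n - 1) + (n - (fx u).card) * (n - (fx b).card)) := by
  classical
  have hsum : ∑ g ∈ evens n, agree u b g =
      ∑ y : Fin n, ∑ x : Fin n, ((evens n).filter fun g => g y = x ∧ g (b y) = u x).card := by
    have e : ∀ g : Equiv.Perm (Fin n), agree u b g = ∑ y : Fin n, if g (b y) = u (g y) then 1 else 0 := fun g => by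
      rw [agree, Finset.card_filter]
    simp only [e]
    rw [Finset.sum_comm]
    refine Finset.sum_congr rfl fun y _ => ?_
    have h := Finset.card_eq_sum_card_fiberwise (s := (evens n).filter fun g => g (b y) = u (g y))
      (t := Finset.univ) (f := fun g => g y) (fun g _ => by simp)
    rw [← Finset.card_filter, h]
    refine Finset.sum_congr rfl fun x _ => ?_
    congr 1
    ext g
    simp only [Finset.mem_filter]
    constructor
    · rintro ⟨⟨h1, h2⟩, h3⟩; exact ⟨h1, h3, by rw [h2, h3]⟩
    · rintro ⟨h1, h3, h2⟩; exact ⟨⟨h1, by rw [h2, h3]⟩, h3⟩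
  have hval : ∀ y x : Fin n, n * (n - 1) * ((evens n).filter fun g => g y = x ∧ g (b y) = u x).card =
      (evens n).card * ((if b y = y then n - 1 else 0) * (if u x = x then 1 else 0) +
        (if b y = y then 0 else 1) * (if u x = x then 0 else 1)) := by
    intro y x
    by_cases hb : b y = y <;> by_cases hu : u x = x
    · rw [if_pos hb, if_pos hu, if_pos hb, if_pos hu, mul_one, mul_zero, add_zero]
      haveI : Nontrivial (Fin n) := Fin.nontrivial_iff_two_le.mpr (by omega)
      obtain ⟨y', hy'⟩ := exists_ne y
      have h := Finset.card_eq_sum_card_fiberwise (s := (evens n).filter fun g => g y = x ∧ g (b y) = u x)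
        (t := Finset.univ.erase x) (f := fun g => g y') (fun g hg => by
          simp only [Finset.mem_coe, Finset.mem_filter] at hg
          simp only [Finset.mem_coe, Finset.mem_erase, Finset.mem_univ, and_true]
          exact fun e => hy' (g.injective (e.trans hg.2.1.symm)))
      rw [h, Finset.mul_sum, ← card_mul_fib hn (y₁ := y) (y₂ := y') hy'.symm (x₁ := x) (x₂ := Classical.choose (exists_ne x))
        (Classical.choose_spec (exists_ne x)).symm]
      rw [Finset.sum_congr rfl (g := fun _ => n * (n - 1) * fib y x y' (Classical.choose (exists_ne x)))]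
      · rw [Finset.sum_const, Finset.card_erase_of_mem (Finset.mem_univ x), Finset.card_univ, Fintype.card_fin,
          smul_eq_mul]
        ring
      · intro z hz
        have hzx : z ≠ x := (Finset.mem_erase.mp hz).1
        rw [fib_indep hn hy'.symm (Classical.choose_spec (exists_ne x)).symm hy'.symm hzx.symm]
        congr 1
        unfold fib
        congr 1
        ext g
        simp only [Finset.mem_filter, hb, hu]
        tauto
    · rw [if_pos hb, if_neg hu, if_pos hb, if_neg hu]
      simp only [hb, mul_zero, zero_mul, add_zero]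
      rw [Finset.filter_false_of_mem (fun g _ h => hu (h.2.symm.trans h.1))]
      simp
    · rw [if_neg hb, if_pos hu, if_neg hb, if_pos hu]
      simp only [hu, mul_zero, zero_mul, add_zero]
      rw [Finset.filter_false_of_mem (fun g _ h => hb (g.injective (h.2.trans h.1.symm)))]
      simp
    · rw [if_neg hb, if_neg hu, if_neg hb, if_neg hu]
      simp only [zero_mul, mul_one, zero_add]
      exact card_mul_fib hn (y₁ := y) (y₂ := b y) (Ne.symm hb) (x₁ := x) (x₂ := u x) (Ne.symm hu)
  rw [hsum, Finset.mul_sum]
  simp only [Finset.mul_sum, hval]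
  rw [← Finset.sum_congr rfl (fun y _ => Finset.mul_sum (Finset.univ : Finset (Fin n)) _ ((evens n).card)), ← Finset.mul_sum]
  congr 1
  simp only [Finset.sum_add_distrib, ← Finset.mul_sum, ← Finset.sum_mul]
  have h1 : ∀ v : Equiv.Perm (Fin n), (∑ x : Fin n, if v x = x then 1 else 0) = (fx v).card := fun v => by
    rw [fx, Finset.card_filter]
  have h2 : ∀ v : Equiv.Perm (Fin n), (∑ x : Fin n, if v x = x then 0 else 1) = n - (fx v).card := fun v => by
    have : (∑ x : Fin n, if v x = x then 0 else 1) + (∑ x : Fin n, if v x = x then 1 else 0) = n := by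
      rw [← Finset.sum_add_distrib, Finset.sum_congr rfl (g := fun _ => 1) (fun x _ => by split <;> rfl)]
      simp
    rw [h1] at this
    omega
  have h3 : (∑ x : Fin n, if b x = x then n - 1 else 0) = (n - 1) * (fx b).card := by
    rw [← h1, Finset.mul_sum]
    exact Finset.sum_congr rfl fun x _ => by split <;> simp
  rw [h1, h2, h2, h3]
  ring

/-- The case of degree five. -/
def fiveCheck (u b : Equiv.Perm (Fin 5)) : Bool :=
  !decide ((fx u).card + (fx b).card = 1) || decide (∃ g : Equiv.Perm (Fin 5), Equiv.Perm.sign g = 1 ∧ agree u b g ≠ 1)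

set_option maxRecDepth 4000 in
theorem five_check : ∀ u b : Equiv.Perm (Fin 5), fiveCheck u b = true := by
  decide +kernel

theorem fx_card_le {u : Equiv.Perm (Fin n)} (hu : u ≠ 1) : (fx u).card + 2 ≤ n := by
  classical
  have h : Finset.univ = fx u ∪ u.support := by
    ext x; simp [fx, Equiv.Perm.mem_support, em]
  have h1 := congrArg Finset.card h
  rw [Finset.card_union_of_disjoint (by
    rw [Finset.disjoint_left]; intro x hx; simp [fx] at hx; simp [Equiv.Perm.mem_support, hx]), Finset.card_univ,
    Fintype.card_fin] at h1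
  have := Equiv.Perm.two_le_card_support_of_ne_one hu
  omega

/-- Two disjoint arcs. -/
theorem exists_two_arcs (h6 : 6 ≤ n) {u : Equiv.Perm (Fin n)} (hu : (fx u).card ≤ 1) :
    ∃ x y, Function.Injective ![x, u x, y, u y] := by
  classical
  have hc : 4 ≤ (Finset.univ \ fx u).card := by
    rw [Finset.card_sdiff_of_subset (Finset.subset_univ _), Finset.card_univ, Fintype.card_fin]; omega
  obtain ⟨x, hx⟩ := Finset.card_pos.mp (show 0 < (Finset.univ \ fx u).card by omega)
  have hlt : ({x, u x, u⁻¹ x} : Finset (Fin n)).card < (Finset.univ \ fx u).card :=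
    lt_of_le_of_lt Finset.card_le_three (by omega)
  obtain ⟨y, hy, hy'⟩ := Finset.exists_mem_notMem_of_card_lt_card hlt
  simp only [Finset.mem_sdiff, Finset.mem_univ, true_and, fx, Finset.mem_filter] at hx hy
  simp only [Finset.mem_insert, Finset.mem_singleton, not_or] at hy'
  have h1 : u x ≠ u y := fun e => hy'.1 (u.injective e).symm
  have h2 : x ≠ u y := fun e => hy'.2.2 (by rw [e]; simp)
  refine ⟨x, y, ?_⟩
  intro i j h
  fin_cases i <;> fin_cases j <;> simp at h ⊢ <;>
    first
      | exact hx h
      | exact hx h.symm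
      | exact hy h
      | exact hy h.symm
      | exact hy'.1 h
      | exact hy'.1 h.symm
      | exact hy'.2.1 h
      | exact hy'.2.1 h.symm
      | exact h2 h
      | exact h2 h.symm
      | exact h1 h
      | exact h1 h.symm
      | exact hy'.1 (u.injective h)
      | exact hy'.1 (u.injective h).symm

theorem exists_ne_agree (hn : 5 ≤ n) (u b : Equiv.Perm (Fin n)) (hu : u ≠ 1) (hb : b ≠ 1) :
    ∃ g₁ g₂ : Equiv.Perm (Fin n), Equiv.Perm.sign g₁ = 1 ∧ Equiv.Perm.sign g₂ = 1 ∧ agree u b g₁ ≠ agree u b g₂ := by
  classical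
  by_contra! hcon
  have hconst : ∀ g ∈ evens n, agree u b g = agree u b 1 := fun g hg =>
    hcon g 1 (Finset.mem_filter.mp hg).2 (map_one _)
  have h := sum_agree (by omega) u b
  rw [Finset.sum_congr rfl hconst, Finset.sum_const, smul_eq_mul, mul_left_comm] at h
  have h' := Nat.eq_of_mul_eq_mul_left (evens_pos n) h
  set c := agree u b 1
  set s := (fx u).card with hs
  set t := (fx b).card with ht
  have hsn := fx_card_le hu
  have htn := fx_card_le hb
  rw [← hs] at hsn
  rw [← ht] at htn
  obtain ⟨m, rfl⟩ : ∃ m, n = m + 1 := ⟨n - 1, by omega⟩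
  simp only [Nat.add_sub_cancel] at h'
  -- a lower bound from a common arc or fixed point
  have hge : ∀ {g : Equiv.Perm (Fin (m + 1))}, Equiv.Perm.sign g = 1 → ∀ S : Finset (Fin (m + 1)),
      (∀ y ∈ S, g (b y) = u (g y)) → S.card ≤ c := by
    intro g hg S hS
    rw [← hconst g (Finset.mem_filter.mpr ⟨Finset.mem_univ g, hg⟩)]
    exact Finset.card_le_card fun y hy => Finset.mem_filter.mpr ⟨Finset.mem_univ y, hS y hy⟩
  have harc : ∀ {v : Equiv.Perm (Fin (m + 1))}, v ≠ 1 → ∃ x, v x ≠ x := fun {v} hv => by
    by_contra! hh; exact hv (Equiv.ext hh)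
  rcases Nat.eq_zero_or_pos s with hs0 | hs0 <;> rcases Nat.eq_zero_or_pos t with ht0 | ht0
  · -- no fixed points
    rw [hs0, ht0] at h'
    simp at h'
    have h2 : m * c = m + 1 := Nat.eq_of_mul_eq_mul_left (show 0 < m + 1 by omega) (by linear_combination h')
    have hm : m ∣ 1 := (Nat.dvd_add_right (dvd_refl m)).mp ⟨c, h2.symm⟩
    have := Nat.le_of_dvd one_pos hm
    omega
  · rw [hs0] at h'
    simp at h'
    have h2 : m * c + t = m + 1 := by
      have : m * c = m + 1 - t := Nat.eq_of_mul_eq_mul_left (show 0 < m + 1 by omega) (by linear_combination h')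
      omega
    rcases Nat.lt_or_ge t 2 with ht1 | ht2
    · have hc1 : c = 1 := by
        have : m * c = m * 1 := by omega
        exact Nat.eq_of_mul_eq_mul_left (by omega) this
      rcases eq_or_lt_of_le hn with h5 | h6
      · obtain rfl : m = 4 := by omega
        have h := five_check u b
        simp only [fiveCheck, Bool.or_eq_true, Bool.not_eq_true', decide_eq_false_iff_not, decide_eq_true_eq] at h
        rcases h with h | ⟨g, hg, hgne⟩
        · exact h (by rw [← hs, ← ht]; omega)
        · exact hgne ((hconst g (Finset.mem_filter.mpr ⟨Finset.mem_univ g, hg⟩)).trans hc1)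
      · obtain ⟨x, y, hxy⟩ := exists_two_arcs h6 (u := u) (by rw [← hs]; omega)
        obtain ⟨x', y', hxy'⟩ := exists_two_arcs h6 (u := b) (by rw [← ht]; omega)
        obtain ⟨g, hg, hge'⟩ := exists_even ![x', b x', y', b y'] ![x, u x, y, u y] hxy' hxy (by omega)
        have := hge hg {x', y'} (by
          intro z hz
          simp only [Finset.mem_insert, Finset.mem_singleton] at hz
          rcases hz with rfl | rfl
          · have a := hge' 0; have b' := hge' 1; simp at a b'; rw [a, b']
          · have a := hge' 2; have b' := hge' 3; simp at a b'; rw [a, b'])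
        rw [Finset.card_pair (show x' ≠ y' from fun e => absurd (hxy' (a₁ := 0) (a₂ := 2) (by simpa using e)) (by decide))] at this
        omega
    · rcases Nat.eq_zero_or_pos c with hc0 | hc0
      · rw [hc0] at h2; omega
      · have : m ≤ m * c := Nat.le_mul_of_pos_right m hc0
        omega
  · rw [ht0] at h'
    simp at h'
    have h2 : m * c + s = m + 1 := by
      have : m * c = m + 1 - s := Nat.eq_of_mul_eq_mul_left (show 0 < m + 1 by omega) (by linear_combination h')
      omega
    rcases Nat.lt_or_ge s 2 with hs1 | hs2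
    · have hc1 : c = 1 := by
        have : m * c = m * 1 := by omega
        exact Nat.eq_of_mul_eq_mul_left (by omega) this
      rcases eq_or_lt_of_le hn with h5 | h6
      · obtain rfl : m = 4 := by omega
        have h := five_check u b
        simp only [fiveCheck, Bool.or_eq_true, Bool.not_eq_true', decide_eq_false_iff_not, decide_eq_true_eq] at h
        rcases h with h | ⟨g, hg, hgne⟩
        · exact h (by rw [← hs, ← ht]; omega)
        · exact hgne ((hconst g (Finset.mem_filter.mpr ⟨Finset.mem_univ g, hg⟩)).trans hc1)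
      · obtain ⟨x, y, hxy⟩ := exists_two_arcs h6 (u := u) (by rw [← hs]; omega)
        obtain ⟨x', y', hxy'⟩ := exists_two_arcs h6 (u := b) (by rw [← ht]; omega)
        obtain ⟨g, hg, hge'⟩ := exists_even ![x', b x', y', b y'] ![x, u x, y, u y] hxy' hxy (by omega)
        have := hge hg {x', y'} (by
          intro z hz
          simp only [Finset.mem_insert, Finset.mem_singleton] at hz
          rcases hz with rfl | rfl
          · have a := hge' 0; have b' := hge' 1; simp at a b'; rw [a, b']
          · have a := hge' 2; have b' := hge' 3; simp at a b'; rw [a, b'])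
        rw [Finset.card_pair (show x' ≠ y' from fun e => absurd (hxy' (a₁ := 0) (a₂ := 2) (by simpa using e)) (by decide))] at this
        omega
    · rcases Nat.eq_zero_or_pos c with hc0 | hc0
      · rw [hc0] at h2; omega
      · have : m ≤ m * c := Nat.le_mul_of_pos_right m hc0
        omega
  · by_cases h1 : s = 1 ∨ t = 1
    · -- common fixed point and common arc
      have hc1 : c = 1 := by
        have hs' : (m + 1 - s) + s = m + 1 := by omega
        have ht' : (m + 1 - t) + t = m + 1 := by omega
        refine Nat.eq_of_mul_eq_mul_left (show 0 < (m + 1) * m from Nat.mul_pos (by omega) (by omega)) ?_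
        rcases h1 with h1 | h1 <;> rw [h1] at h' <;> simp only [Nat.add_sub_cancel, one_mul, mul_one] at h'
        · nlinarith [ht']
        · nlinarith [hs']
      obtain ⟨p, hp⟩ := Finset.card_pos.mp (show 0 < (fx u).card by omega)
      obtain ⟨p', hp'⟩ := Finset.card_pos.mp (show 0 < (fx b).card by omega)
      simp only [fx, Finset.mem_filter, Finset.mem_univ, true_and] at hp hp'
      obtain ⟨x, hx⟩ := harc hu
      obtain ⟨x', hx'⟩ := harc hb
      have inj : ∀ {v : Equiv.Perm (Fin (m + 1))} {p x : Fin (m + 1)}, v p = p → v x ≠ x → Function.Injective ![p, x, v x] := by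
        intro v p x hp hx
        have h1 : p ≠ x := fun e => hx (e ▸ hp)
        have h2 : p ≠ v x := fun e => h1 (v.injective (hp.trans e))
        intro i j h
        fin_cases i <;> fin_cases j <;> simp at h ⊢ <;>
          first | exact h2 h | exact h2 h.symm | exact h1 h | exact h1 h.symm | exact hx h | exact hx h.symm
      obtain ⟨g, hg, hge'⟩ := exists_even ![p', x', b x'] ![p, x, u x] (inj hp' hx') (inj hp hx) (by omega)
      have := hge hg {p', x'} (by
        intro z hz
        simp only [Finset.mem_insert, Finset.mem_singleton] at hz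
        have a := hge' 0; have b' := hge' 1; have c' := hge' 2; simp at a b' c'
        rcases hz with rfl | rfl
        · rw [hp', a, hp]
        · rw [b', c'])
      rw [Finset.card_pair (show p' ≠ x' from fun e => hx' (e ▸ hp'))] at this
      omega
    · push Not at h1
      -- all the fixed points in common
      let k := min s t
      let e : Fin k → Fin (m + 1) := (fx b).orderEmbOfFin ht.symm ∘ Fin.castLE (min_le_right s t)
      let e' : Fin k → Fin (m + 1) := (fx u).orderEmbOfFin hs.symm ∘ Fin.castLE (min_le_left s t)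
      have he : Function.Injective e := (RelEmbedding.injective _).comp (Fin.castLE_injective _)
      have he' : Function.Injective e' := (RelEmbedding.injective _).comp (Fin.castLE_injective _)
      obtain ⟨g, hg, hge'⟩ := exists_even e e' he he' (by have := min_le_left s t; show min s t + 2 ≤ m + 1; omega)
      have hk := hge hg (Finset.univ.image e) (by
        intro z hz
        obtain ⟨i, -, rfl⟩ := Finset.mem_image.mp hz
        have hb' : b (e i) = e i := (Finset.mem_filter.mp ((fx b).orderEmbOfFin_mem ht.symm _)).2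
        have hu' : u (e' i) = e' i := (Finset.mem_filter.mp ((fx u).orderEmbOfFin_mem hs.symm _)).2
        rw [hb', hge', hu'])
      rw [Finset.card_image_of_injective _ he, Finset.card_univ, Fintype.card_fin] at hk
      have hkc : (m + 1) * m * min s t ≤ (m + 1) * m * c := Nat.mul_le_mul_left _ hk
      obtain ⟨s', hs'⟩ : ∃ s', m + 1 = s + s' := ⟨m + 1 - s, by omega⟩
      obtain ⟨t', ht'⟩ : ∃ t', m + 1 = t + t' := ⟨m + 1 - t, by omega⟩
      rw [show m + 1 - s = s' by omega, show m + 1 - t = t' by omega] at h'
      have key : ∀ a a' d d' : ℕ, 2 ≤ a → a ≤ d → m + 1 = a + a' → m + 1 = d + d' → 1 ≤ d' →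
          a * d * m + a' * d' < (m + 1) * m * a := by
        intro a a' d d' h2 had ha hd hd'
        have h3 : a' < a * m := by
          have : 2 * m ≤ a * m := Nat.mul_le_mul_right m h2
          omega
        calc a * d * m + a' * d' < a * d * m + a * m * d' := Nat.add_lt_add_left (Nat.mul_lt_mul_of_pos_right h3 hd') _
          _ = (d + d') * m * a := by ring
          _ = _ := by rw [← hd]
      rcases le_total s t with hst | hst
      · rw [min_eq_left hst] at hkc
        have := key s s' t t' (by omega) hst hs' ht' (by omega)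
        nlinarith
      · rw [min_eq_right hst] at hkc
        have := key t t' s s' (by omega) hst ht' hs' (by omega)
        nlinarith

end Cfsg.Agent.Lib.KnownA.AgreementCount
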