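import Cfsg.Agent.Lib.KnownA.AltCoverMain
import Cfsg.Agent.Lib.KnownA.AltCoverSix
import Cfsg.Agent.Lib.KnownA.AltCoverSeven
import Cfsg.Agent.Lib.KnownA.AltCoverSl
import Cfsg.Agent.Lib.Classical.LinearCard

/-!
The exceptional multipliers of the alternating groups of degree 6 and 7 and of `SL₂(9)`.
-/

set_option autoImplicit false
set_option maxRecDepth 100000

namespace Cfsg.Agent.Lib.KnownA.AltCover

open Cfsg.Agent.Lib.Compute

universe u

def sixData : Data :=
  ⟨104, 6, sixCert, sixCommBase, sixCommWit, sixCommSteps, sixX, sixXWit, sixY, sixYWit, sixTwo, sixTwoSteps,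
    sixA, sixAWit, sixB, sixBWit, sixG, sixGWit, sixThree, sixThreeSteps, sixZ, sixZWit⟩

def sevenData : Data :=
  ⟨292, 7, sevenCert, sevenCommBase, sevenCommWit, sevenCommSteps, sevenX, sevenXWit, sevenY, sevenYWit, sevenTwo,
    sevenTwoSteps, sevenA, sevenAWit, sevenB, sevenBWit, sevenG, sevenGWit, sevenThree, sevenThreeSteps, sevenZ, sevenZWit⟩

def slData : Data :=
  ⟨98, 80, slCert, slCommBase, slCommWit, slCommSteps, slX, slXWit, slY, slYWit, slTwo, slTwoSteps,
    slA, slAWit, slB, slBWit, slG, slGWit, slThree, slThreeSteps, slZ, slZWit⟩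

theorem sixData_ok : sixData.ok = true := by decide +kernel
theorem sevenData_ok : sevenData.ok = true := by decide +kernel
theorem slData_ok : slData.ok = true := by decide +kernel

theorem exists_cyclic_five {n : ℕ} {c : List Lvl} (hc : chk n c = true) {P : ℕ} {w : List ℕ}
    (hP : memOk n c P w = true) {q d : ℕ} (hq : q.Prime) (hd : certOrder c = q * d) (hpow : powOk n q P = true)
    (hne : ((List.range n).any fun i => app P i != i) = true) (hcop : Nat.Coprime q d) :
    ∃ x : grp n c, Nat.Coprime q (Subgroup.zpowers x).index :=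
  ⟨⟨_, (mem_grp_of_memOk hc hP).2⟩,
    coprime_index_of_prime (mem_grp_of_memOk hc hP).2 (card_grp hc) hq hd hpow hne hcop⟩

theorem primes_of_dvd {N : ℕ} (hN : N ∣ 2 ^ 4 * (3 ^ 3 * (5 * 7))) : ∀ p : ℕ, p.Prime → p ∣ N → p ∈ [2, 3, 5, 7] := by
  intro p hp hdvd
  have h := hdvd.trans hN
  simp only [List.mem_cons, List.not_mem_nil, or_false]
  rcases hp.dvd_mul.mp h with h | h
  · exact Or.inl ((Nat.prime_dvd_prime_iff_eq hp Nat.prime_two).mp (hp.dvd_of_dvd_pow h))
  rcases hp.dvd_mul.mp h with h | h
  · exact Or.inr (Or.inl ((Nat.prime_dvd_prime_iff_eq hp Nat.prime_three).mp (hp.dvd_of_dvd_pow h)))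
  rcases hp.dvd_mul.mp h with h | h
  · exact Or.inr (Or.inr (Or.inl ((Nat.prime_dvd_prime_iff_eq hp (by norm_num)).mp h)))
  · exact Or.inr (Or.inr (Or.inr ((Nat.prime_dvd_prime_iff_eq hp (by norm_num)).mp h)))

theorem exists_alternating_hom {n m : ℕ} (hmn : m ≤ n) (hm : 2 ≤ m) {L : Lvl} {rest : List Lvl}
    (hc : chk n (L :: rest) = true) {c' : List Lvl} (hc' : chk m c' = true)
    (hord : certOrder c' * 2 = Nat.factorial m)
    (hkeep : keepOk m (L :: rest) = true) {Bs : List ℕ} {wit : List (List ℕ)}
    (himg : imgOk m (L :: rest) c' Bs wit = true) {steps : List (ℕ × ℕ × ℕ × Bool)}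
    (hslp : slpOk m Bs steps = true) (hcov : slpCovers Bs steps c' = true) :
    ∃ σ : grp n (L :: rest) →* alternatingGroup (Fin m), Function.Surjective σ := by
  obtain ⟨σ, hσ⟩ := exists_restrict hmn hc hc' hkeep himg hslp hcov
  haveI : Nontrivial (Fin m) := Fin.nontrivial_iff_two_le.mpr hm
  have h2 : (grp m c').index = 2 := by
    have h := Subgroup.index_mul_card (grp m c')
    rw [card_grp hc', Nat.card_perm, Nat.card_fin, ← hord, mul_comm (certOrder c') 2] at h
    refine Nat.eq_of_mul_eq_mul_right ?_ h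
    rw [← card_grp hc']; exact Nat.card_pos
  let e := MulEquiv.subgroupCongr (Equiv.Perm.eq_alternatingGroup_of_index_eq_two h2)
  exact ⟨e.toMonoidHom.comp σ, e.surjective.comp hσ⟩

theorem center_alt {m k : ℕ} (hm : 4 ≤ m) :
    ∀ w ∈ Subgroup.center (alternatingGroup (Fin m)), w ^ k = 1 → w = 1 := fun w hw _ => by
  rw [alternatingGroup.center_eq_bot (by simpa using hm)] at hw
  exact Subgroup.mem_bot.mp hw

theorem multiplier_six : Cfsg.HasCyclicSchurMultiplier (alternatingGroup (Fin 6)) 6 := by
  have hc : chk 104 sixCert = true := by decide +kernel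
  obtain ⟨σ, hσ⟩ := exists_alternating_hom (n := 104) (m := 6) (by norm_num) (by norm_num) (L := sixCert0)
    (rest := sixCert.tail) hc (c' := sixImg) (by decide +kernel) (by decide +kernel) (by decide +kernel)
    (Bs := sixGenBase) (wit := sixGenWit) (by decide +kernel) (steps := sixGenSteps) (by decide +kernel) (by decide +kernel)
  refine hasCyclicSchurMultiplier_of_data sixData sixData_ok (d₂ := 135) (d₃ := 80) (by decide +kernel) (by norm_num)
    (by decide +kernel) (by norm_num) (primes_of_dvd (by decide +kernel)) ?_ (by decide +kernel) (by decide +kernel)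
    (center_alt (by norm_num)) ?_ σ hσ
  · intro p hp
    simp only [List.mem_cons, List.not_mem_nil, or_false] at hp
    rcases hp with rfl | rfl
    · exact exists_cyclic_five hc (P := sixQ5) (w := sixQ5Wit) (by decide +kernel) (d := 432) (by norm_num)
        (by decide +kernel) (by decide +kernel) (by decide +kernel) (by norm_num)
    · refine ⟨1, ?_⟩
      rw [Subgroup.zpowers_one_eq_bot, Subgroup.index_bot]
      show Nat.Coprime 7 (Nat.card (grp 104 sixCert))
      rw [card_grp hc]; decide +kernel
  · rw [Nat.card_eq_fintype_card, card_alternatingGroup, Fintype.card_fin]; decide +kernel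

theorem multiplier_seven : Cfsg.HasCyclicSchurMultiplier (alternatingGroup (Fin 7)) 6 := by
  have hc : chk 292 sevenCert = true := by decide +kernel
  obtain ⟨σ, hσ⟩ := exists_alternating_hom (n := 292) (m := 7) (by norm_num) (by norm_num) (L := sevenCert0)
    (rest := sevenCert.tail) hc (c' := sevenImg) (by decide +kernel) (by decide +kernel) (by decide +kernel)
    (Bs := sevenGenBase) (wit := sevenGenWit) (by decide +kernel) (steps := sevenGenSteps) (by decide +kernel) (by decide +kernel)
  refine hasCyclicSchurMultiplier_of_data sevenData sevenData_ok (d₂ := 945) (d₃ := 560) (by decide +kernel) (by norm_num)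
    (by decide +kernel) (by norm_num) (primes_of_dvd (by decide +kernel)) ?_ (by decide +kernel) (by decide +kernel)
    (center_alt (by norm_num)) ?_ σ hσ
  · intro p hp
    simp only [List.mem_cons, List.not_mem_nil, or_false] at hp
    rcases hp with rfl | rfl
    · exact exists_cyclic_five hc (P := sevenQ5) (w := sevenQ5Wit) (by decide +kernel) (d := 3024) (by norm_num)
        (by decide +kernel) (by decide +kernel) (by decide +kernel) (by norm_num)
    · exact exists_cyclic_five hc (P := sevenQ7) (w := sevenQ7Wit) (by decide +kernel) (d := 2160) (by norm_num)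
        (by decide +kernel) (by decide +kernel) (by decide +kernel) (by norm_num)
  · rw [Nat.card_eq_fintype_card, card_alternatingGroup, Fintype.card_fin]; decide +kernel

/-- Sum of two coded elements of the field with nine elements. -/
def addc (a b : ℕ) : ℕ := 3 * ((a / 3 + b / 3) % 3) + (a % 3 + b % 3) % 3

/-- Product of two coded elements of the field with nine elements. -/
def mulc (a b : ℕ) : ℕ :=
  3 * (((a / 3) * (b / 3) + 2 * ((a % 3) * (b % 3))) % 3) + ((a / 3) * (b % 3) + (a % 3) * (b / 3)) % 3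

/-- The action of a coded matrix on coded nonzero vectors. -/
def actc (M : ℕ × ℕ × ℕ × ℕ) (i : ℕ) : ℕ :=
  9 * addc (mulc M.1 ((i + 1) / 9)) (mulc M.2.1 ((i + 1) % 9)) +
    addc (mulc M.2.2.1 ((i + 1) / 9)) (mulc M.2.2.2 ((i + 1) % 9)) - 1

/-- The coded matrices have determinant one and induce the image generators. -/
def matsOk : Bool :=
  slMats.length == slGenBase.length && (List.range slGenBase.length).all fun j =>
    let M := slMats.getD j (0, 0, 0, 0)
    decide (M.1 < 9 ∧ M.2.1 < 9 ∧ M.2.2.1 < 9 ∧ M.2.2.2 < 9) &&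
    addc (mulc M.1 M.2.2.2) (mulc 6 (mulc M.2.1 M.2.2.1)) == 3 &&
    eqOk 80 (app (slGenBase.getD j 0)) (actc M)

theorem matsOk_ok : matsOk = true := by decide +kernel

theorem multiplier_sl {F : Type u} [Field F] [Fintype F] (hF : Fintype.card F = 9) :
    Cfsg.HasCyclicSchurMultiplier (Matrix.SpecialLinearGroup (Fin 2) F) 3 := by
  have hsq : ∀ t : ZMod 3, t * t ≠ -1 := by decide
  classical
  haveI : Fact (Nat.Prime 3) := ⟨Nat.prime_three⟩
  haveI : CharP F 3 := by
    obtain ⟨n, hp, hn⟩ := FiniteField.card F (ringChar F)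
    have hd : ringChar F ∣ 3 ^ 2 := by
      rw [show (3 : ℕ) ^ 2 = Fintype.card F by rw [hF]; norm_num, hn]
      exact dvd_pow_self _ n.ne_zero
    rw [← (Nat.prime_dvd_prime_iff_eq hp Nat.prime_three).mp (hp.dvd_of_dvd_pow hd)]
    infer_instance
  letI : Algebra (ZMod 3) F := ZMod.algebra F 3
  obtain ⟨u, hu⟩ : IsSquare (-1 : F) := FiniteField.isSquare_neg_one_iff.mpr (by rw [hF]; norm_num)
  have h3 : (3 : F) = 0 := by exact_mod_cast CharP.cast_eq_zero F 3
  let ψ : ℕ → F := fun a => ((a / 3 : ℕ) : F) + ((a % 3 : ℕ) : F) * u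
  have hmod : ∀ a : ℕ, ((a % 3 : ℕ) : F) = (a : F) := fun a => by
    conv_rhs => rw [← Nat.mod_add_div a 3]
    push_cast; rw [h3]; ring
  have hψadd : ∀ a b, ψ (addc a b) = ψ a + ψ b := by
    intro a b
    simp only [ψ, addc]
    rw [show (3 * ((a / 3 + b / 3) % 3) + (a % 3 + b % 3) % 3) / 3 = (a / 3 + b / 3) % 3 by omega,
      show (3 * ((a / 3 + b / 3) % 3) + (a % 3 + b % 3) % 3) % 3 = (a % 3 + b % 3) % 3 by omega, hmod, hmod]
    simp only [Nat.cast_add]; ring
  have hψmul : ∀ a b, ψ (mulc a b) = ψ a * ψ b := by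
    intro a b
    simp only [ψ, mulc]
    rw [show (3 * (((a / 3) * (b / 3) + 2 * ((a % 3) * (b % 3))) % 3) + ((a / 3) * (b % 3) + (a % 3) * (b / 3)) % 3) / 3 =
        ((a / 3) * (b / 3) + 2 * ((a % 3) * (b % 3))) % 3 by omega,
      show (3 * (((a / 3) * (b / 3) + 2 * ((a % 3) * (b % 3))) % 3) + ((a / 3) * (b % 3) + (a % 3) * (b / 3)) % 3) % 3 =
        ((a / 3) * (b % 3) + (a % 3) * (b / 3)) % 3 by omega, hmod, hmod]
    simp only [Nat.cast_add, Nat.cast_mul, Nat.cast_ofNat]
    linear_combination ((a % 3 : ℕ) : F) * ((b % 3 : ℕ) : F) * h3 + ((a % 3 : ℕ) : F) * ((b % 3 : ℕ) : F) * hu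
  have hψinj : ∀ a b, a < 9 → b < 9 → ψ a = ψ b → a = b := by
    intro a b ha hb e
    simp only [ψ] at e
    have hlin : ∀ x y x' y' : ℕ, x < 3 → y < 3 → x' < 3 → y' < 3 → (x : F) + (y : F) * u = (x' : F) + (y' : F) * u →
        x = x' ∧ y = y' := by
      intro x y x' y' hx hy hx' hy' e
      have hy2 : (y : ZMod 3) = (y' : ZMod 3) := by
        by_contra hne
        have hne' : (algebraMap (ZMod 3) F ((y : ZMod 3) - y')) ≠ 0 := by
          rw [map_ne_zero]; exact sub_ne_zero.mpr hne
        have hut : u = algebraMap (ZMod 3) F (((x' : ZMod 3) - x) / ((y : ZMod 3) - y')) := by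
          rw [map_div₀, eq_div_iff hne']
          simp only [map_sub, map_natCast]
          linear_combination e
        refine hsq (((x' : ZMod 3) - x) / ((y : ZMod 3) - y')) ((algebraMap (ZMod 3) F).injective ?_)
        rw [map_mul, ← hut, map_neg, map_one]
        exact hu.symm
      have hy3 : y = y' := by
        have := congrArg ZMod.val hy2
        rwa [ZMod.val_cast_of_lt hy, ZMod.val_cast_of_lt hy'] at this
      refine ⟨?_, hy3⟩
      subst hy3
      have hx2 : (x : ZMod 3) = (x' : ZMod 3) := (algebraMap (ZMod 3) F).injective (by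
        simpa only [map_natCast] using add_right_cancel e)
      have := congrArg ZMod.val hx2
      rwa [ZMod.val_cast_of_lt hx, ZMod.val_cast_of_lt hx'] at this
    have := hlin _ _ _ _ (by omega) (by omega) (by omega) (by omega) e
    omega
  let f : Fin 80 → {v : Fin 2 → F // v ≠ 0} := fun i => ⟨![ψ ((i.1 + 1) / 9), ψ ((i.1 + 1) % 9)], by
    intro h
    have h0 : ψ 0 = 0 := by simp [ψ]
    have e1 := hψinj ((i.1 + 1) / 9) 0 (by omega) (by norm_num) ((congrFun h 0).trans h0.symm)
    have e2 := hψinj ((i.1 + 1) % 9) 0 (by omega) (by norm_num) ((congrFun h 1).trans h0.symm)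
    omega⟩
  have hfinj : Function.Injective f := by
    intro i j h
    have h' := congrArg Subtype.val h
    have e1 := hψinj ((i.1 + 1) / 9) ((j.1 + 1) / 9) (by omega) (by omega) (congrFun h' 0)
    have e2 := hψinj ((i.1 + 1) % 9) ((j.1 + 1) % 9) (by omega) (by omega) (congrFun h' 1)
    exact Fin.ext (by omega)
  have hfbij : Function.Bijective f := by
    refine (Fintype.bijective_iff_injective_and_card f).mpr ⟨hfinj, ?_⟩
    rw [Fintype.card_fin, Fintype.card_subtype_compl, Fintype.card_subtype_eq, Fintype.card_fun, hF, Fintype.card_fin]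
    norm_num
  let e := Equiv.ofBijective f hfbij
  let S := Matrix.SpecialLinearGroup (Fin 2) F
  let act : S → {v : Fin 2 → F // v ≠ 0} → {v : Fin 2 → F // v ≠ 0} := fun M v =>
    ⟨Matrix.mulVec (M : Matrix (Fin 2) (Fin 2) F) v.1, fun h => v.2 (by
      have := congrArg (Matrix.mulVec ((M⁻¹ : S) : Matrix (Fin 2) (Fin 2) F)) h
      rwa [Matrix.mulVec_mulVec, ← Matrix.SpecialLinearGroup.coe_mul, inv_mul_cancel, Matrix.SpecialLinearGroup.coe_one,
        Matrix.one_mulVec, Matrix.mulVec_zero] at this)⟩
  have hact1 : ∀ v, act 1 v = v := fun v => Subtype.ext (by simp [act])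
  have hactm : ∀ M N v, act (M * N) v = act M (act N v) := fun M N v => Subtype.ext (by
    show Matrix.mulVec (((M * N : Matrix.SpecialLinearGroup (Fin 2) F)) : Matrix (Fin 2) (Fin 2) F) v.1 =
      Matrix.mulVec (M : Matrix (Fin 2) (Fin 2) F) (Matrix.mulVec (N : Matrix (Fin 2) (Fin 2) F) v.1)
    rw [Matrix.SpecialLinearGroup.coe_mul, Matrix.mulVec_mulVec])
  let toP : S →* Equiv.Perm (Fin 80) :=
    { toFun := fun M =>
        { toFun := fun i => e.symm (act M (e i))
          invFun := fun i => e.symm (act M⁻¹ (e i))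
          left_inv := fun i => by simp only [Equiv.apply_symm_apply]; rw [← hactm, inv_mul_cancel (G := Matrix.SpecialLinearGroup (Fin 2) F), hact1, Equiv.symm_apply_apply]
          right_inv := fun i => by simp only [Equiv.apply_symm_apply]; rw [← hactm, mul_inv_cancel (G := Matrix.SpecialLinearGroup (Fin 2) F), hact1, Equiv.symm_apply_apply] }
      map_one' := Equiv.ext fun i => by simp [hact1]
      map_mul' := fun M N => Equiv.ext fun i => by simp [hactm] }
  have hinj : Function.Injective toP := by
    intro M N h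
    have key : ∀ v : {v : Fin 2 → F // v ≠ 0}, act M v = act N v := fun v => by
      have := congrArg (fun σ : Equiv.Perm (Fin 80) => σ (e.symm v)) h
      simpa [toP] using this
    apply Subtype.ext
    ext i j
    have := congrArg (fun w : {v : Fin 2 → F // v ≠ 0} => w.1 i) (key ⟨Pi.single j 1, by simp⟩)
    simpa [act] using this
  have hgen : grp 80 slImg ≤ toP.range := by
    have hok := matsOk_ok
    simp only [matsOk, Bool.and_eq_true, beq_iff_eq, List.all_eq_true, List.mem_range, decide_eq_true_eq] at hok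
    obtain ⟨-, hok⟩ := hok
    have hr : ∀ b ∈ slGenBase, Valid 80 b ∧ toPerm 80 b ∈ toP.range := by
      intro b hb
      obtain ⟨j, hj, rfl⟩ := List.getElem_of_mem hb
      obtain ⟨⟨⟨hb1, hb2, hb3, hb4⟩, hdet⟩, heq⟩ := hok j hj
      rw [List.getD_eq_getElem _ _ hj] at heq
      generalize slMats.getD j (0, 0, 0, 0) = M at hb1 hb2 hb3 hb4 hdet heq
      have hd : (!![ψ M.1, ψ M.2.1; ψ M.2.2.1, ψ M.2.2.2] : Matrix (Fin 2) (Fin 2) F).det = 1 := by
        rw [Matrix.det_fin_two_of]
        have h6 : ψ 6 = -1 := by simp [ψ]; linear_combination h3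
        have h1 : ψ 3 = 1 := by simp [ψ]
        have := congrArg ψ hdet
        rw [hψadd, hψmul, hψmul, hψmul, h6, h1] at this
        linear_combination this
      have hrepr : Repr (toP ⟨_, hd⟩) (app (slGenBase[j])) := by
        intro i
        have h80 : actc M i.1 < 80 ∧ ((actc M i.1 + 1) / 9 = addc (mulc M.1 ((i.1 + 1) / 9)) (mulc M.2.1 ((i.1 + 1) % 9)) ∧
            (actc M i.1 + 1) % 9 = addc (mulc M.2.2.1 ((i.1 + 1) / 9)) (mulc M.2.2.2 ((i.1 + 1) % 9))) := by
          have hlt : ∀ a b, addc a b < 9 := fun a b => by unfold addc; omega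
          have := hlt (mulc M.1 ((i.1 + 1) / 9)) (mulc M.2.1 ((i.1 + 1) % 9))
          have := hlt (mulc M.2.2.1 ((i.1 + 1) / 9)) (mulc M.2.2.2 ((i.1 + 1) % 9))
          have hnz : ¬ (addc (mulc M.1 ((i.1 + 1) / 9)) (mulc M.2.1 ((i.1 + 1) % 9)) = 0 ∧
              addc (mulc M.2.2.1 ((i.1 + 1) / 9)) (mulc M.2.2.2 ((i.1 + 1) % 9)) = 0) := by
            rintro ⟨z1, z2⟩
            apply (act ⟨_, hd⟩ (f i)).2
            funext k
            have e1 := congrArg ψ z1
            have e2 := congrArg ψ z2
            rw [hψadd, hψmul, hψmul] at e1 e2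
            have h0 : ψ 0 = 0 := by simp [ψ]
            rw [h0] at e1 e2
            fin_cases k
            · simpa [act, f, Matrix.mulVec, dotProduct, Fin.sum_univ_two] using e1
            · simpa [act, f, Matrix.mulVec, dotProduct, Fin.sum_univ_two] using e2
          unfold actc
          omega
        obtain ⟨h80, h81, h82⟩ := h80
        have heq' := beq_iff_eq.mp (List.all_eq_true.mp heq i.1 (List.mem_range.mpr i.2))
        rw [heq']
        have : e.symm (act ⟨_, hd⟩ (e i)) = ⟨actc M i.1, h80⟩ := by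
          rw [Equiv.symm_apply_eq]
          apply Subtype.ext
          funext k
          simp only [e, Equiv.ofBijective_apply, f, act]
          rw [h81, h82]
          fin_cases k <;> simp [hψadd, hψmul, Matrix.mulVec, dotProduct, Fin.sum_univ_two]
        exact congrArg Fin.val this
      exact ⟨⟨_, hrepr⟩, ⟨⟨_, hd⟩, (repr_toPerm_of_repr hrepr).symm⟩⟩
    refine le_trans (grp_le_closure (fun b hb => (hr b hb).1) (steps := slGenSteps) (by decide +kernel) (by decide +kernel)) ?_
    rw [Subgroup.closure_le]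
    rintro _ ⟨b, hb, rfl⟩
    exact (hr b hb).2
  have hcard : Nat.card S = 720 := by
    show Nat.card (Matrix.SpecialLinearGroup (Fin 2) F) = 720
    rw [Cfsg.Agent.Lib.Classical.card_SL2, hF]
    norm_num
  have hI : chk 80 slImg = true := by decide +kernel
  have heq : grp 80 slImg = toP.range := by
    refine Subgroup.eq_of_le_of_card_ge hgen ?_
    rw [← Nat.card_congr (MonoidHom.ofInjective hinj).toEquiv, hcard, card_grp hI]
    decide +kernel
  have hc : chk 98 slCert = true := by decide +kernel
  obtain ⟨σ₀, hσ₀⟩ := exists_restrict (m := 80) (n := 98) (by norm_num) (L := slCert0) (rest := slCert.tail) hc hI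
    (by decide +kernel) (Bs := slGenBase) (wit := slGenWit) (by decide +kernel) (steps := slGenSteps) (by decide +kernel)
    (by decide +kernel)
  let φ : grp 80 slImg ≃* S := (MulEquiv.subgroupCongr heq).trans (MonoidHom.ofInjective hinj).symm
  refine hasCyclicSchurMultiplier_of_data slData slData_ok (d₂ := 135) (d₃ := 80) (by decide +kernel) (by norm_num)
    (by decide +kernel) (by norm_num) (primes_of_dvd (by decide +kernel)) ?_ (by decide +kernel) (by decide +kernel)
    ?_ ?_ (φ.toMonoidHom.comp σ₀) (φ.surjective.comp hσ₀)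
  · intro p hp
    simp only [List.mem_cons, List.not_mem_nil, or_false] at hp
    rcases hp with rfl | rfl
    · exact exists_cyclic_five hc (P := slQ5) (w := slQ5Wit) (by decide +kernel) (d := 432) (by norm_num)
        (by decide +kernel) (by decide +kernel) (by decide +kernel) (by norm_num)
    · refine ⟨1, ?_⟩
      rw [Subgroup.zpowers_one_eq_bot, Subgroup.index_bot]
      show Nat.Coprime 7 (Nat.card (grp 98 slCert))
      rw [card_grp hc]; decide +kernel
  · intro w hw hw3
    obtain ⟨r, hr2, hrs⟩ := Matrix.SpecialLinearGroup.mem_center_iff.mp hw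
    apply Subtype.ext
    rw [Matrix.SpecialLinearGroup.coe_one, ← hrs]
    have hr3 : r ^ 3 = 1 := by
      have := congrArg (fun M : S => (M : Matrix (Fin 2) (Fin 2) F)) hw3
      simp only [Matrix.SpecialLinearGroup.coe_pow, Matrix.SpecialLinearGroup.coe_one, ← hrs, ← map_pow] at this
      exact Matrix.scalar_inj.mp (this.trans (map_one _).symm)
    rw [Fintype.card_fin] at hr2
    rw [show r = 1 by linear_combination hr3 - r * hr2, map_one]
  · show certOrder slCert = Nat.card S * 3
    rw [hcard]; decide +kernel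

end Cfsg.Agent.Lib.KnownA.AltCover
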