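import Mathlib
import Cfsg.Agent.Lib.Compute.CoverCert
import Cfsg.Agent.Lib.Compute.MultReduce
import Cfsg.Agent.Lib.Compute.MultCert
import Cfsg.Agent.Lib.Compute.MultBound

/-!
Multipliers from perfect covering groups given by certificates, with quaternion and extraspecial Sylow subgroups.
-/

set_option autoImplicit false

universe u

namespace Cfsg.Agent.Lib.KnownA.AltCover

open Cfsg.Agent.Lib.Compute
open scoped commutatorElement

/-- Two maps agree below `n`. -/
def eqOk (n : ℕ) (f g : ℕ → ℕ) : Bool := (List.range n).all fun i => f i == g i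

/-- Two maps differ somewhere below `n`. -/
def neOk (n : ℕ) (f g : ℕ → ℕ) : Bool := (List.range n).any fun i => f i != g i

theorem eq_of_eqOk {n : ℕ} {σ τ : Equiv.Perm (Fin n)} {f g : ℕ → ℕ} (hσ : Repr σ f) (hτ : Repr τ g)
    (h : eqOk n f g = true) : σ = τ :=
  hσ.eq hτ fun i hi => beq_iff_eq.mp (List.all_eq_true.mp h i (List.mem_range.mpr hi))

theorem ne_of_neOk {n : ℕ} {σ τ : Equiv.Perm (Fin n)} {f g : ℕ → ℕ} (hσ : Repr σ f) (hτ : Repr τ g)
    (h : neOk n f g = true) : σ ≠ τ := by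
  rintro rfl
  obtain ⟨i, hi, hne⟩ := List.any_eq_true.mp h
  exact (bne_iff_ne.mp hne) ((hσ ⟨i, List.mem_range.mp hi⟩).symm.trans (hτ ⟨i, List.mem_range.mp hi⟩))

theorem repr_pow {n : ℕ} {σ : Equiv.Perm (Fin n)} {f : ℕ → ℕ} (h : Repr σ f) : ∀ k : ℕ, Repr (σ ^ k) (f^[k])
  | 0 => fun _ => rfl
  | k + 1 => fun i => by
    rw [pow_succ', Function.iterate_succ_apply', Equiv.Perm.mul_apply, h, repr_pow h k]

/-- An element of the group of a certificate, given by a witness. -/
theorem exists_elt {n : ℕ} {c : List Lvl} (hc : chk n c = true) {P : ℕ} {w : List ℕ}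
    (h : memOk n c P w = true) : ∃ x : grp n c, Valid n P ∧ (x : Equiv.Perm (Fin n)) = toPerm n P :=
  ⟨⟨_, (mem_grp_of_memOk hc h).2⟩, (mem_grp_of_memOk hc h).1, rfl⟩

theorem le_centralizer_of_check {n Z : ℕ} {z : Equiv.Perm (Fin n)} : ∀ {c : List Lvl}, chk n c = true →
    Repr z (app Z) → (match c with
      | [] => false
      | L :: _ => L.gens.all fun e => eqOk n (fun i => app e.1 (app Z i)) (fun i => app Z (app e.1 i))) = true →
    grp n c ≤ Subgroup.centralizer {z}
  | [], _, _, h => by simp at h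
  | L :: rest, hc, rz, h => by
    simp only [chk, Bool.and_eq_true] at hc
    obtain ⟨-, hgens, -⟩ := lvlOk_iff hc.1
    refine (Subgroup.closure_le _).mpr ?_
    rintro _ ⟨e, he, rfl⟩
    rw [SetLike.mem_coe, Subgroup.mem_centralizer_singleton_iff]
    have re := repr_toPerm_of_genOk (hgens e he)
    exact eq_of_eqOk (re.mul rz) (rz.mul re) (List.all_eq_true.mp h e he)

/-- The data certifying a covering group. -/
structure Data where
  n : ℕ
  m : ℕ
  c : List Lvl
  comm : List ℕ
  commWit : List (List ℕ × List ℕ)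
  commSteps : List (ℕ × ℕ × ℕ × Bool)
  x : ℕ
  xw : List ℕ
  y : ℕ
  yw : List ℕ
  two : List Lvl
  twoSteps : List (ℕ × ℕ × ℕ × Bool)
  a : ℕ
  aw : List ℕ
  b : ℕ
  bw : List ℕ
  g : ℕ
  gw : List ℕ
  three : List Lvl
  threeSteps : List (ℕ × ℕ × ℕ × Bool)
  z : ℕ
  zw : List ℕ

/-- All the checks. -/
def Data.ok (D : Data) : Bool :=
  chk D.n D.c && ((List.range D.comm.length).all fun i =>
    commOk D.n D.c (D.comm.getD i 0) (D.commWit.getD i ([], [])).1 (D.commWit.getD i ([], [])).2) &&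
  slpOk D.n D.comm D.commSteps && slpCovers D.comm D.commSteps D.c &&
  -- quaternion
  memOk D.n D.c D.x D.xw && memOk D.n D.c D.y D.yw && powOk D.n 8 D.x &&
  neOk D.n (app D.x)^[4] id && eqOk D.n (app D.y)^[2] (app D.x)^[4] &&
  eqOk D.n (fun i => app D.x (app D.y (app D.x i))) (app D.y) &&
  chk D.n D.two && slpOk D.n [D.x, D.y] D.twoSteps && slpCovers [D.x, D.y] D.twoSteps D.two &&
  -- extraspecial
  memOk D.n D.c D.a D.aw && memOk D.n D.c D.b D.bw && memOk D.n D.c D.g D.gw &&
  powOk D.n 3 D.a && powOk D.n 3 D.b &&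
  eqOk D.n (fun i => app D.a (app D.a (app D.b (app D.a (app D.a (app D.b (app D.b i)))))))
    (fun i => app D.a (app D.b (app D.a (app D.a (app D.b (app D.b (app D.a i))))))) &&
  eqOk D.n (fun i => app D.b (app D.a (app D.b (app D.a (app D.a (app D.b (app D.b i)))))))
    (fun i => app D.a (app D.b (app D.a (app D.a (app D.b (app D.b (app D.b i))))))) &&
  neOk D.n (fun i => app D.a (app D.b (app D.a (app D.a (app D.b (app D.b i)))))) id &&
  eqOk D.n (fun i => app D.g (app D.a i)) (fun i => app D.a (app D.a (app D.g i))) &&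
  eqOk D.n (fun i => app D.g (app D.b i)) (fun i => app D.b (app D.b (app D.g i))) &&
  chk D.n D.three && slpOk D.n [D.a, D.b] D.threeSteps && slpCovers [D.a, D.b] D.threeSteps D.three &&
  -- central element
  memOk D.n D.c D.z D.zw && match D.c with
    | [] => false
    | L :: _ => L.gens.all fun e => eqOk D.n (fun i => app e.1 (app D.z i)) (fun i => app D.z (app e.1 i))

/-- The multiplier of the image of a certified covering group. -/
theorem hasCyclicSchurMultiplier_of_data {Q : Type u} [Group Q] [Finite Q] (D : Data) (h : D.ok = true)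
    {d₂ d₃ k : ℕ} [NeZero k] (h₂ : certOrder D.c = certOrder D.two * d₂) (h₂' : Nat.Coprime 2 d₂)
    (h₃ : certOrder D.c = certOrder D.three * d₃) (h₃' : Nat.Coprime 3 d₃)
    (hps : ∀ p : ℕ, p.Prime → p ∣ certOrder D.c → p ∈ [2, 3, 5, 7])
    (hcyc : ∀ p ∈ [5, 7], ∃ x : grp D.n D.c, Nat.Coprime p (Subgroup.zpowers x).index)
    (hzk : powOk D.n k D.z = true)
    (hzk' : ∀ j < k, 0 < j → neOk D.n (app D.z)^[j] id = true)
    (hQ : ∀ w ∈ Subgroup.center Q, w ^ k = 1 → w = 1) (hcard : certOrder D.c = Nat.card Q * k)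
    (σ₀ : grp D.n D.c →* Q) (hσ₀ : Function.Surjective σ₀) : Cfsg.HasCyclicSchurMultiplier Q k := by
  simp only [Data.ok, Bool.and_eq_true, and_assoc] at h
  obtain ⟨hc, hcomm, hcs, hcc, hx, hy, hx8, hx4, hy2, hyx, hk2, hs2, hv2, ha, hb, hg, ha3, hb3, hac, hbc, hab,
    hga, hgb, hk3, hs3, hv3, hz, hzc⟩ := h
  have hperf : Group.IsPerfect (grp D.n D.c) :=
    isPerfect_of_comms hc (Cs := D.comm) (wit := D.commWit) hcomm hcs hcc
  have hN : Nat.card (grp D.n D.c) = certOrder D.c := card_grp hc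
  haveI : Finite (grp D.n D.c) := inferInstance
  let E : ULift.{u} (grp D.n D.c) ≃* grp D.n D.c := MulEquiv.ulift
  have hmult : Cfsg.HasCyclicSchurMultiplier (ULift.{u} (grp D.n D.c)) 1 := by
    refine hasCyclicSchurMultiplier_one_of_primes E.symm [2, 3, 5, 7] (fun p hp hd => hps p hp (hN ▸ hd)) ?_
    intro p hp Δ _ _ τ hs hc' hd w hw hw' hwp
    simp only [List.mem_cons, List.not_mem_nil, or_false] at hp
    rcases hp with rfl | rfl | hp
    · obtain ⟨x, hxv, hxe⟩ := exists_elt hc hx
      obtain ⟨y, hyv, hye⟩ := exists_elt hc hy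
      obtain ⟨-, hx8'⟩ := valid_of_powOk (by norm_num) hx8
      have rx : Repr (x : Equiv.Perm (Fin D.n)) (app D.x) := hxe ▸ hxv.repr
      have ry : Repr (y : Equiv.Perm (Fin D.n)) (app D.y) := hye ▸ hyv.repr
      haveI : Fact (Nat.Prime 2) := ⟨Nat.prime_two⟩
      refine eq_one_of_quaternion τ hs hc' hw hw' hwp (x := x) (y := y) ?_ ?_ ?_ ?_
      · refine orderOf_eq_prime_pow (p := 2) (n := 2) ?_ ?_
        · intro e
          refine ne_of_neOk (repr_pow rx 4) Repr.one hx4 ?_
          simpa using congrArg Subtype.val e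
        · apply Subtype.ext
          simpa [hxe] using hx8'
      · apply Subtype.ext
        simp only [SubgroupClass.coe_pow]
        exact eq_of_eqOk (repr_pow ry 2) (repr_pow rx 4) hy2
      · rw [mul_inv_eq_iff_eq_mul, eq_inv_mul_iff_mul_eq]
        apply Subtype.ext
        simp only [Subgroup.coe_mul]
        exact eq_of_eqOk (rx.mul (ry.mul rx)) ry hyx
      · have hx' : toPerm D.n D.x ∈ grp D.n D.c := (mem_grp_of_memOk hc hx).2
        have hy' : toPerm D.n D.y ∈ grp D.n D.c := (mem_grp_of_memOk hc hy).2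
        rw [show x = ⟨_, hx'⟩ from Subtype.ext hxe, show y = ⟨_, hy'⟩ from Subtype.ext hye]
        exact coprime_index_of_slp hx' hy' hN hk2 hxv hyv hs2 hv2 h₂ h₂'
    · obtain ⟨a, hav, hae⟩ := exists_elt hc ha
      obtain ⟨b, hbv, hbe⟩ := exists_elt hc hb
      obtain ⟨g, hgv, hge⟩ := exists_elt hc hg
      obtain ⟨-, ha3'⟩ := valid_of_powOk (by norm_num) ha3
      obtain ⟨-, hb3'⟩ := valid_of_powOk (by norm_num) hb3
      have ra : Repr (a : Equiv.Perm (Fin D.n)) (app D.a) := hae ▸ hav.repr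
      have rb : Repr (b : Equiv.Perm (Fin D.n)) (app D.b) := hbe ▸ hbv.repr
      have rg : Repr (g : Equiv.Perm (Fin D.n)) (app D.g) := hge ▸ hgv.repr
      have a3 : a ^ 3 = 1 := Subtype.ext (by simpa [hae] using ha3')
      have b3 : b ^ 3 = 1 := Subtype.ext (by simpa [hbe] using hb3')
      have ai : a⁻¹ = a * a := inv_eq_of_mul_eq_one_right (by rw [← mul_assoc, ← pow_two, ← pow_succ]; exact a3)
      have bi : b⁻¹ = b * b := inv_eq_of_mul_eq_one_right (by rw [← mul_assoc, ← pow_two, ← pow_succ]; exact b3)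
      have rc := ((ra.mul rb).mul (ra.mul ra)).mul (rb.mul rb)
      have hcom : ((⁅a, b⁆ : grp D.n D.c) : Equiv.Perm (Fin D.n)) =
          (a : Equiv.Perm (Fin D.n)) * b * (a * a) * (b * b) := by
        rw [commutatorElement_def, ai, bi]; rfl
      refine eq_one_of_extraspecial τ hs hc' hw hw' hwp (x := a) (y := b) (g := g) a3 b3 ?_ ?_ ?_ ?_ ?_ ?_
      · apply Subtype.ext
        simp only [Subgroup.coe_mul, hcom]
        exact eq_of_eqOk (ra.mul rc) (rc.mul ra) hac
      · apply Subtype.ext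
        simp only [Subgroup.coe_mul, hcom]
        exact eq_of_eqOk (rb.mul rc) (rc.mul rb) hbc
      · intro e
        refine ne_of_neOk rc Repr.one hab ?_
        rw [← hcom, e]; rfl
      · rw [mul_inv_eq_iff_eq_mul, ai]
        apply Subtype.ext
        simp only [Subgroup.coe_mul, mul_assoc]
        exact eq_of_eqOk (rg.mul ra) (ra.mul (ra.mul rg)) hga
      · rw [mul_inv_eq_iff_eq_mul, bi]
        apply Subtype.ext
        simp only [Subgroup.coe_mul, mul_assoc]
        exact eq_of_eqOk (rg.mul rb) (rb.mul (rb.mul rg)) hgb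
      · have ha' : toPerm D.n D.a ∈ grp D.n D.c := (mem_grp_of_memOk hc ha).2
        have hb' : toPerm D.n D.b ∈ grp D.n D.c := (mem_grp_of_memOk hc hb).2
        rw [show a = ⟨_, ha'⟩ from Subtype.ext hae, show b = ⟨_, hb'⟩ from Subtype.ext hbe]
        exact coprime_index_of_slp ha' hb' hN hk3 hav hbv hs3 hv3 h₃ h₃'
    · obtain ⟨x, hx⟩ := hcyc p (by simpa using hp)
      exact eq_one_of_cyclic τ hs hc' hw hw' hwp (x := x) hx
  have hperf' : Group.IsPerfect (ULift.{u} (grp D.n D.c)) := by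
    rw [Group.isPerfect_def, commutator_def]
    apply Subgroup.map_injective (f := E.toMonoidHom) E.injective
    rw [Subgroup.map_commutator, Subgroup.map_top_of_surjective _ E.surjective, ← commutator_def]
    exact Group.isPerfect_def.mp hperf
  let σ : ULift.{u} (grp D.n D.c) →* Q := σ₀.comp E.toMonoidHom
  have hσ : Function.Surjective σ := hσ₀.comp E.surjective
  obtain ⟨z, hzv, hze⟩ := exists_elt hc hz
  obtain ⟨-, hzk''⟩ := valid_of_powOk (NeZero.pos k) hzk
  have rz : Repr (z : Equiv.Perm (Fin D.n)) (app D.z) := hze ▸ hzv.repr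
  have hzcen : z ∈ Subgroup.center (grp D.n D.c) := by
    rw [Subgroup.mem_center_iff]
    intro w
    apply Subtype.ext
    simp only [Subgroup.coe_mul]
    obtain ⟨w, hw⟩ := w
    have hle : grp D.n D.c ≤ Subgroup.centralizer {(z : Equiv.Perm (Fin D.n))} := le_centralizer_of_check hc rz hzc
    exact Subgroup.mem_centralizer_singleton_iff.mp (hle hw)
  have hzord : orderOf z = k := by
    rw [orderOf_eq_iff (NeZero.pos k)]
    refine ⟨Subtype.ext (by simpa [hze] using hzk''), fun j hj hj0 e => ?_⟩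
    refine ne_of_neOk (repr_pow rz j) Repr.one (hzk' j hj hj0) ?_
    simpa using congrArg Subtype.val e
  let z' : ULift.{u} (grp D.n D.c) := E.symm z
  have hz'c : z' ∈ Subgroup.center (ULift.{u} (grp D.n D.c)) := by
    rw [Subgroup.mem_center_iff]
    intro w
    apply E.injective
    rw [map_mul, map_mul, MulEquiv.apply_symm_apply]
    exact Subgroup.mem_center_iff.mp hzcen (E w)
  have hσz : σ z' = 1 := by
    refine hQ _ (Subgroup.mem_center_iff.mpr fun q => ?_) ?_
    · obtain ⟨w, rfl⟩ := hσ q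
      rw [← map_mul, ← map_mul, Subgroup.mem_center_iff.mp hz'c w]
    · rw [← map_pow, ← map_pow E.symm z k, ← hzord, pow_orderOf_eq_one, map_one, map_one]
  have hk : Nat.card σ.ker = k := by
    have h1 := Subgroup.index_mul_card σ.ker
    rw [Subgroup.index_ker, MonoidHom.range_eq_top.mpr hσ, Subgroup.card_top, Nat.card_congr E.toEquiv,
      hN, hcard] at h1
    exact Nat.eq_of_mul_eq_mul_left Nat.card_pos h1
  have hker : σ.ker = Subgroup.zpowers z' := by
    refine (Subgroup.eq_of_le_of_card_ge (Subgroup.zpowers_le.mpr hσz) ?_).symm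
    rw [hk, Nat.card_zpowers, ← orderOf_injective E.toMonoidHom E.injective]
    show k ≤ orderOf (E (E.symm z))
    rw [E.apply_symm_apply, hzord]
  obtain ⟨e⟩ := nonempty_ker_equiv_mult hperf' hmult σ hσ (hker ▸ Subgroup.zpowers_le.mpr hz'c)
  rw [Cfsg.Agent.Lib.SchurMultiplier.hasCyclicSchurMultiplier_iff]
  refine ⟨?_, by rw [← Nat.card_congr e.toEquiv, hk]⟩
  haveI : IsCyclic σ.ker := by rw [hker]; infer_instance
  exact isCyclic_of_surjective e.toMonoidHom e.surjective

end Cfsg.Agent.Lib.KnownA.AltCover
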