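import Mathlib
import Cfsg.Agent.Lib.Classical.LinearCard

/-!
Sylow subgroups of `GL_n(q)` and `SL_n(q)` for primes larger than `n`.
-/

set_option autoImplicit false

namespace Cfsg.Agent.Lib.KnownA.SylowTori

open Cfsg.Agent.Lib.Classical

variable {r q : ℕ} [hr : Fact r.Prime]

/-- The exponent of the maximal `r`-part. -/
noncomputable def expo (r q : ℕ) : ℕ := padicValNat r (q ^ orderOf (q : ZMod r) - 1)

theorem ord_pos (hrq : ¬ r ∣ q) : 0 < orderOf (q : ZMod r) := by
  refine IsOfFinOrder.orderOf_pos ⟨r - 1, by have := hr.out.two_le; omega, ?_⟩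
  rw [isPeriodicPt_mul_iff_pow_eq_one]
  exact ZMod.pow_card_sub_one_eq_one fun h => hrq ((ZMod.natCast_eq_zero_iff q r).mp h)

theorem dvd_pow_sub_one_iff (hq : 0 < q) (i : ℕ) : r ∣ q ^ i - 1 ↔ orderOf (q : ZMod r) ∣ i := by
  rw [← ZMod.natCast_eq_zero_iff, Nat.cast_sub (Nat.one_le_pow _ _ hq), Nat.cast_pow, Nat.cast_one,
    sub_eq_zero, orderOf_dvd_iff_pow_eq_one]

theorem val_pow_sub_one (hq : 1 < q) {n : ℕ} (hrn : n < r) (hrq : ¬ r ∣ q) {i : ℕ} (hi : 1 ≤ i)
    (hin : i ≤ n) :
    padicValNat r (q ^ i - 1) = if orderOf (q : ZMod r) ∣ i then expo r q else 0 := by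
  split_ifs with h
  · obtain ⟨j, rfl⟩ := h
    have hd := ord_pos hrq
    have hj : 1 ≤ j := Nat.pos_of_ne_zero fun h => by simp [h] at hi
    have hjr : j < r := lt_of_le_of_lt ((Nat.le_mul_of_pos_left j hd).trans hin) hrn
    set Q := q ^ orderOf (q : ZMod r) with hQ
    have hQ1 : 1 < Q := Nat.one_lt_pow hd.ne' hq
    have hfac : (∑ l ∈ Finset.range j, Q ^ l) * (Q - 1) = Q ^ j - 1 := geom_sum_mul_of_one_le hQ1.le j
    rw [pow_mul, ← hQ, ← hfac, padicValNat.mul ?_ (by omega), padicValNat.eq_zero_of_not_dvd, zero_add]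
    · rw [expo, ← hQ]
    · intro hdvd
      have h1 : ((∑ l ∈ Finset.range j, Q ^ l : ℕ) : ZMod r) = 0 := (ZMod.natCast_eq_zero_iff _ r).mpr hdvd
      have h2 : (Q : ZMod r) = 1 := by rw [hQ, Nat.cast_pow, pow_orderOf_eq_one]
      push_cast at h1
      simp [h2] at h1
      rw [ZMod.natCast_eq_zero_iff] at h1
      exact absurd (Nat.le_of_dvd hj h1) (by omega)
    · refine (Finset.sum_pos (fun l _ => Nat.pow_pos (by omega)) ?_).ne'
      exact ⟨0, Finset.mem_range.mpr hj⟩
  · exact padicValNat.eq_zero_of_not_dvd fun hd => h ((dvd_pow_sub_one_iff (by omega) i).mp hd)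

theorem val_prod {ι : Type*} (s : Finset ι) (f : ι → ℕ) (hf : ∀ i ∈ s, f i ≠ 0) :
    padicValNat r (∏ i ∈ s, f i) = ∑ i ∈ s, padicValNat r (f i) := by
  classical
  induction s using Finset.induction with
  | empty => simp
  | insert a s ha ih =>
    rw [Finset.prod_insert ha, Finset.sum_insert ha, padicValNat.mul (hf a (Finset.mem_insert_self a s))
      (Finset.prod_ne_zero_iff.mpr fun i hi => hf i (Finset.mem_insert_of_mem hi)),
      ih fun i hi => hf i (Finset.mem_insert_of_mem hi)]

theorem val_cyclotomic (hq : 1 < q) (hrq : ¬ r ∣ q) :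
    padicValNat r ((Polynomial.cyclotomic (orderOf (q : ZMod r)) ℤ).eval (q : ℤ)).natAbs = expo r q := by
  have hd := ord_pos hrq
  have key : ∀ e, 0 < e → ∏ k ∈ e.divisors, ((Polynomial.cyclotomic k ℤ).eval (q : ℤ)).natAbs =
      q ^ e - 1 := by
    intro e he
    have h := congrArg (Polynomial.eval (q : ℤ)) (Polynomial.prod_cyclotomic_eq_X_pow_sub_one he ℤ)
    rw [Polynomial.eval_prod, Polynomial.eval_sub, Polynomial.eval_pow, Polynomial.eval_X,
      Polynomial.eval_one] at h
    have h2 : ((q : ℤ) ^ e - 1) = ((q ^ e - 1 : ℕ) : ℤ) := by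
      rw [Nat.cast_sub (Nat.one_le_pow _ _ (by omega)), Nat.cast_pow, Nat.cast_one]
    rw [h2] at h
    have := congrArg Int.natAbs h
    rw [Int.natAbs_natCast, show (∏ k ∈ e.divisors, (Polynomial.cyclotomic k ℤ).eval (q : ℤ)).natAbs =
      ∏ k ∈ e.divisors, ((Polynomial.cyclotomic k ℤ).eval (q : ℤ)).natAbs from map_prod Int.natAbsHom _ _] at this
    exact this
  have hne : ∀ e, 0 < e → q ^ e - 1 ≠ 0 := fun e he => by
    have := Nat.one_lt_pow he.ne' hq; omega
  rw [expo, ← key _ hd, val_prod _ _ fun k hk h0 => hne _ hd (by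
    rw [← key _ hd]; exact Finset.prod_eq_zero hk h0)]
  symm
  refine Finset.sum_eq_single (M := ℕ) (orderOf (q : ZMod r)) (fun k hk hkd => ?_)
    (fun h => absurd (Nat.mem_divisors_self _ hd.ne') h)
  refine padicValNat.eq_zero_of_not_dvd fun hdvd => hkd ?_
  have hk0 : 0 < k := Nat.pos_of_mem_divisors hk
  have h1 : r ∣ q ^ k - 1 := by
    rw [← key k hk0]
    exact hdvd.trans (Finset.dvd_prod_of_mem _ (Nat.mem_divisors_self _ hk0.ne'))
  exact Nat.dvd_antisymm (Nat.divisor_le hk |> fun _ => (Nat.mem_divisors.mp hk).1)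
    ((dvd_pow_sub_one_iff (by omega) k).mp h1)

variable {F : Type*} [Field F] [Fintype F]

theorem one_lt_q (hF : Fintype.card F = q) : 1 < q := hF ▸ Fintype.one_lt_card

theorem val_GL (hF : Fintype.card F = q) {n : ℕ} (hrn : n < r) (hrq : ¬ r ∣ q) :
    (Nat.card (GL (Fin n) F)).factorization r = n / orderOf (q : ZMod r) * expo r q := by
  have hq := one_lt_q hF
  rw [Nat.factorization_def _ hr.out, card_GL_formula, hF, padicValNat.mul (pow_ne_zero _ (by omega))
    (Finset.prod_ne_zero_iff.mpr fun i _ => by have := Nat.one_lt_pow (n := i + 1) (by omega) hq; omega),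
    padicValNat.eq_zero_of_not_dvd (fun h => hrq (hr.out.dvd_of_dvd_pow h)), zero_add,
    val_prod _ _ fun i _ => by have := Nat.one_lt_pow (n := i + 1) (by omega) hq; omega,
    Finset.sum_congr rfl fun i hi => val_pow_sub_one hq hrn hrq (i := i + 1) (by omega)
      (by have := Finset.mem_range.mp hi; omega),
    Finset.sum_ite, Finset.sum_const_zero, add_zero, Finset.sum_const, Nat.card_multiples, smul_eq_mul]

theorem val_SL (hF : Fintype.card F = q) {n : ℕ} (hrn : n < r) (hrq : ¬ r ∣ q) :
    (Nat.card (Matrix.SpecialLinearGroup (Fin n) F)).factorization r =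
      ((Finset.Icc 2 n).filter fun i => orderOf (q : ZMod r) ∣ i).card * expo r q := by
  have hq := one_lt_q hF
  have hsum : ∑ i ∈ Finset.range (n - 1), (if orderOf (q : ZMod r) ∣ i + 2 then expo r q else 0) =
      ∑ i ∈ Finset.Icc 2 n, (if orderOf (q : ZMod r) ∣ i then expo r q else 0) := by
    refine Finset.sum_bij' (fun i _ => i + 2) (fun j _ => j - 2) ?_ ?_ ?_ ?_ ?_
    all_goals first
      | (intro i hi; simp only [Finset.mem_range, Finset.mem_Icc] at hi ⊢; omega)
      | (intro i hi; rfl)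
  rw [Nat.factorization_def _ hr.out, card_SL_formula, hF, padicValNat.mul (pow_ne_zero _ (by omega))
    (Finset.prod_ne_zero_iff.mpr fun i _ => by have := Nat.one_lt_pow (n := i + 2) (by omega) hq; omega),
    padicValNat.eq_zero_of_not_dvd (fun h => hrq (hr.out.dvd_of_dvd_pow h)), zero_add,
    val_prod _ _ fun i _ => by have := Nat.one_lt_pow (n := i + 2) (by omega) hq; omega,
    Finset.sum_congr rfl fun i hi => val_pow_sub_one hq hrn hrq (i := i + 2) (by omega)
      (by have := Finset.mem_range.mp hi; omega),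
    hsum, Finset.sum_ite, Finset.sum_const_zero, add_zero, Finset.sum_const, smul_eq_mul]

/-- A Sylow subgroup is isomorphic to any group of its order embedded in the group. -/
theorem sylow_equiv_of_embedding {G A : Type*} [Group G] [Finite G] [Group A] (φ : A →* G)
    (hφ : Function.Injective φ) (hA : Nat.card A = r ^ (Nat.card G).factorization r) (P : Sylow r G) :
    Nonempty (↥(P : Subgroup G) ≃* A) := by
  let Q : Sylow r G := Sylow.ofCard φ.range (by
    rw [← Nat.card_congr (MonoidHom.ofInjective hφ).toEquiv, hA])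
  obtain ⟨g, hg⟩ := MulAction.exists_smul_eq G Q P
  have e1 : ↥(Q : Subgroup G) ≃* A :=
    (MulEquiv.subgroupCongr (Sylow.coe_ofCard φ.range _)).trans (MonoidHom.ofInjective hφ).symm
  rw [← hg]
  exact ⟨(Q.equivSMul g).symm.trans e1⟩

/-- A cyclic group of order `r ^ expo` inside a cyclic group of units. -/
theorem exists_units_hom {K : Type*} [Field K] [Fintype K] (hdvd : r ^ expo r q ∣ Fintype.card K - 1) :
    ∃ ψ : Multiplicative (ZMod (r ^ expo r q)) →* Kˣ, Function.Injective ψ := by
  classical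
  obtain ⟨g, hg⟩ := IsCyclic.exists_ofOrder_eq_natCard (α := Kˣ)
  rw [Nat.card_units, Nat.card_eq_fintype_card] at hg
  obtain ⟨c, hc⟩ := hdvd
  have hpos : 0 < Fintype.card K - 1 := by have := Fintype.one_lt_card (α := K); omega
  have hζ : orderOf (g ^ c) = r ^ expo r q := by
    have hc0 : c ≠ 0 := fun h => by simp [h] at hc; omega
    rw [orderOf_pow' _ hc0, hg, hc, Nat.gcd_eq_right (dvd_mul_left c _), Nat.mul_div_cancel _ (Nat.pos_of_ne_zero hc0)]
  haveI : NeZero (r ^ expo r q) := ⟨pow_ne_zero _ hr.out.ne_zero⟩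
  let e : Multiplicative (ZMod (r ^ expo r q)) ≃* ↥(Subgroup.zpowers (g ^ c)) :=
    mulEquivOfCyclicCardEq (by rw [Nat.card_zpowers, hζ, Nat.card_congr Multiplicative.toAdd, Nat.card_zmod])
  exact ⟨(Subgroup.zpowers (g ^ c)).subtype.comp e.toMonoidHom,
    Subtype.val_injective.comp e.injective⟩

omit [Fintype F] in
/-- Tuples of units of an extension field act on the corresponding vector space. -/
theorem exists_torus_hom {K : Type*} [Field K] [Algebra F K] [FiniteDimensional F K] {n k : ℕ}
    (h : k * Module.finrank F K ≤ n) :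
    ∃ φ : (Fin k → Kˣ) →* GL (Fin n) F, Function.Injective φ := by
  classical
  let V := (Fin k → K) × (Fin (n - k * Module.finrank F K) → F)
  have hfr : Module.finrank F V = Module.finrank F (Fin n → F) := by
    rw [Module.finrank_prod, Module.finrank_pi_fintype, Finset.sum_const, Finset.card_univ,
      Fintype.card_fin, smul_eq_mul, Module.finrank_fintype_fun_eq_card, Fintype.card_fin,
      Module.finrank_fintype_fun_eq_card, Fintype.card_fin]
    omega
  let e : V ≃ₗ[F] (Fin n → F) := LinearEquiv.ofFinrankEq _ _ hfr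
  let T : (Fin k → Kˣ) →* Module.End F V :=
    { toFun := fun c => LinearMap.prodMap
        (LinearMap.pi fun i => (LinearMap.mulLeft F (c i : K)).comp (LinearMap.proj i)) LinearMap.id
      map_one' := by
        refine LinearMap.ext fun v => Prod.ext (funext fun i => ?_) rfl
        simp
      map_mul' := fun a b => by
        refine LinearMap.ext fun v => Prod.ext (funext fun i => ?_) rfl
        simp [mul_assoc] }
  let M : Module.End F V →* Matrix (Fin n) (Fin n) F :=
    ((e.conjAlgEquiv F).trans LinearMap.toMatrixAlgEquiv').toAlgHom.toMonoidHom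
  have hM : Function.Injective M := ((e.conjAlgEquiv F).trans LinearMap.toMatrixAlgEquiv').injective
  refine ⟨(M.comp T).toHomUnits, fun a b hab => ?_⟩
  have h1 : T a = T b := hM (congrArg Units.val hab)
  funext i
  have h2 := congrFun (congrArg Prod.fst (LinearMap.congr_fun h1 ((fun _ => 1), 0))) i
  refine Units.ext ?_
  change (a i : K) * 1 = (b i : K) * 1 at h2
  simpa only [mul_one] using h2

theorem exists_GL_hom (hF : Fintype.card F = q) {n : ℕ} (hrq : ¬ r ∣ q) :
    ∃ φ : (Fin (n / orderOf (q : ZMod r)) → Multiplicative (ZMod (r ^ expo r q))) →* GL (Fin n) F,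
      Function.Injective φ := by
  classical
  obtain ⟨p, hp⟩ := CharP.exists F
  haveI := hp
  haveI : Fact p.Prime := ⟨CharP.char_is_prime F p⟩
  haveI : NeZero (orderOf (q : ZMod r)) := ⟨(ord_pos hrq).ne'⟩
  let K := FiniteField.Extension F p (orderOf (q : ZMod r))
  letI : Fintype K := Fintype.ofFinite K
  have hK : Fintype.card K = q ^ orderOf (q : ZMod r) := by
    rw [← Nat.card_eq_fintype_card, FiniteField.natCard_extension, Nat.card_eq_fintype_card, hF]
  obtain ⟨ψ, hψ⟩ := exists_units_hom (r := r) (q := q) (K := K) (by rw [hK]; exact pow_padicValNat_dvd)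
  obtain ⟨φ, hφ⟩ := exists_torus_hom (F := F) (K := K) (n := n) (k := n / orderOf (q : ZMod r))
    (by rw [FiniteField.finrank_extension]; exact Nat.div_mul_le_self _ _)
  refine ⟨φ.comp (Pi.monoidHom fun i => ψ.comp (Pi.evalMonoidHom _ i)), hφ.comp fun a b h => ?_⟩
  funext i
  exact hψ (congrFun h i)

theorem card_tuples (k : ℕ) :
    Nat.card (Fin k → Multiplicative (ZMod (r ^ expo r q))) = r ^ (k * expo r q) := by
  rw [Nat.card_fun, Nat.card_congr Multiplicative.toAdd, Nat.card_zmod, Nat.card_fin, ← pow_mul, mul_comm]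

theorem sylow_GL (hF : Fintype.card F = q) {n : ℕ} (hrn : n < r) (hrq : ¬ r ∣ q)
    (P : Sylow r (GL (Fin n) F)) :
    Nonempty (↥(P : Subgroup (GL (Fin n) F)) ≃*
      (Fin (n / orderOf (q : ZMod r)) → Multiplicative (ZMod (r ^ expo r q)))) := by
  obtain ⟨φ, hφ⟩ := exists_GL_hom (r := r) hF (n := n) hrq
  exact sylow_equiv_of_embedding φ hφ (by rw [card_tuples, val_GL hF hrn hrq]) P

theorem exists_SL_hom (hF : Fintype.card F = q) {n : ℕ} (hrq : ¬ r ∣ q) :
    ∃ φ : (Fin ((Finset.Icc 2 n).filter fun i => orderOf (q : ZMod r) ∣ i).card →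
        Multiplicative (ZMod (r ^ expo r q))) →* Matrix.SpecialLinearGroup (Fin n) F,
      Function.Injective φ := by
  classical
  have hq := one_lt_q hF
  by_cases hd : orderOf (q : ZMod r) = 1
  · have ha : ((Finset.Icc 2 n).filter fun i => orderOf (q : ZMod r) ∣ i).card = n - 1 := by
      rw [Finset.filter_true_of_mem fun i _ => by rw [hd]; exact one_dvd i, Nat.card_Icc]
      omega
    rw [ha]
    obtain ⟨ψ, hψ⟩ := exists_units_hom (r := r) (q := q) (K := F) (by
      have h := pow_padicValNat_dvd (p := r) (n := q ^ orderOf (q : ZMod r) - 1)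
      rw [expo, hF]
      convert h using 2
      rw [hd, pow_one])
    rcases n with _ | m
    · exact ⟨1, fun a b _ => funext fun i => i.elim0⟩
    rw [Nat.add_sub_cancel]
    let f : (Fin m → Multiplicative (ZMod (r ^ expo r q))) → Fin (m + 1) → F := fun c =>
      Fin.snoc (fun i => (ψ (c i) : F)) ((∏ i, ψ (c i))⁻¹ : Fˣ)
    have hdet : ∀ c, (Matrix.diagonal (f c)).det = 1 := fun c => by
      rw [Matrix.det_diagonal, Fin.prod_univ_castSucc]
      simp only [f, Fin.snoc_castSucc, Fin.snoc_last]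
      rw [← Units.coe_prod, ← Units.val_mul, mul_inv_cancel, Units.val_one]
    refine ⟨{ toFun := fun c => ⟨Matrix.diagonal (f c), hdet c⟩
              map_one' := Subtype.ext ?_
              map_mul' := fun a b => Subtype.ext ?_ }, fun a b h => funext fun i => hψ (Units.ext ?_)⟩
    · refine Matrix.diagonal_eq_one.mpr (funext fun i => ?_)
      refine Fin.lastCases ?_ (fun i => ?_) i <;> simp [f]
    · show Matrix.diagonal (f (a * b)) = Matrix.diagonal (f a) * Matrix.diagonal (f b)
      rw [Matrix.diagonal_mul_diagonal]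
      refine congrArg _ (funext fun i => ?_)
      refine Fin.lastCases ?_ (fun i => ?_) i <;> simp [f, Finset.prod_mul_distrib, mul_comm]
    · have h0 : Matrix.diagonal (f a) = Matrix.diagonal (f b) := congrArg Subtype.val h
      simpa [f] using congrFun (Matrix.diagonal_injective h0) i.castSucc
  · have hd1 : 1 < orderOf (q : ZMod r) := by have := ord_pos hrq; omega
    have ha : ((Finset.Icc 2 n).filter fun i => orderOf (q : ZMod r) ∣ i).card = n / orderOf (q : ZMod r) := by
      rw [← Nat.Ioc_filter_dvd_card_eq_div]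
      refine congrArg _ (Finset.ext fun i => ?_)
      simp only [Finset.mem_filter, Finset.mem_Icc, Finset.mem_Ioc]
      constructor
      · rintro ⟨⟨h1, h2⟩, h3⟩; exact ⟨⟨by omega, h2⟩, h3⟩
      · rintro ⟨⟨h1, h2⟩, h3⟩
        have := Nat.le_of_dvd h1 h3
        exact ⟨⟨by omega, h2⟩, h3⟩
    rw [ha]
    obtain ⟨φ, hφ⟩ := exists_GL_hom (r := r) hF (n := n) hrq
    have hdet : ∀ c, (φ c : Matrix (Fin n) (Fin n) F).det = 1 := by
      intro c
      have hc : c ^ r ^ expo r q = 1 := funext fun i => by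
        haveI : NeZero (r ^ expo r q) := ⟨pow_ne_zero _ hr.out.ne_zero⟩
        show c i ^ r ^ expo r q = 1
        refine Multiplicative.toAdd.injective ?_
        rw [toAdd_pow, toAdd_one, nsmul_eq_mul, ZMod.natCast_self, zero_mul]
      let D := Matrix.GeneralLinearGroup.det (φ c)
      have h1 : D ^ r ^ expo r q = 1 := by
        rw [← map_pow, ← map_pow, hc, map_one, map_one]
      have h2 : D ^ (q - 1) = 1 := Units.ext (by
        rw [Units.val_pow_eq_pow_val, ← hF, FiniteField.pow_card_sub_one_eq_one _ (Units.ne_zero _), Units.val_one])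
      have hcop : (r ^ expo r q).Coprime (q - 1) := Nat.Coprime.pow_left _ (hr.out.coprime_iff_not_dvd.mpr
        fun h => by
          have h' := (dvd_pow_sub_one_iff (r := r) (q := q) (Nat.zero_lt_of_lt hq) 1).mp (by rw [pow_one]; exact h)
          rw [Nat.dvd_one] at h'
          omega)
      have h3 : D = 1 := by
        have h := pow_gcd_eq_one.mpr ⟨h1, h2⟩
        rwa [hcop, pow_one] at h
      exact congrArg Units.val h3
    refine ⟨{ toFun := fun c => ⟨(φ c : Matrix (Fin n) (Fin n) F), hdet c⟩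
              map_one' := Subtype.ext (by show ((φ 1 : GL (Fin n) F) : Matrix (Fin n) (Fin n) F) = 1; rw [map_one]; rfl)
              map_mul' := fun a b => Subtype.ext (by show ((φ (a * b) : GL (Fin n) F) : Matrix (Fin n) (Fin n) F) = (φ a : Matrix (Fin n) (Fin n) F) * (φ b : Matrix (Fin n) (Fin n) F); rw [map_mul]; rfl) }, fun a b h => ?_⟩
    exact hφ (Units.ext (congrArg Subtype.val h))

theorem sylow_SL (hF : Fintype.card F = q) {n : ℕ} (hrn : n < r) (hrq : ¬ r ∣ q)
    (P : Sylow r (Matrix.SpecialLinearGroup (Fin n) F)) :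
    Nonempty (↥(P : Subgroup (Matrix.SpecialLinearGroup (Fin n) F)) ≃*
      (Fin ((Finset.Icc 2 n).filter fun i => orderOf (q : ZMod r) ∣ i).card →
        Multiplicative (ZMod (r ^ expo r q)))) := by
  obtain ⟨φ, hφ⟩ := exists_SL_hom (r := r) hF (n := n) hrq
  exact sylow_equiv_of_embedding φ hφ (by rw [card_tuples, val_SL hF hrn hrq]) P

end Cfsg.Agent.Lib.KnownA.SylowTori
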