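import Mathlib
import Cfsg.Agent.Lib.Classical.LinearCard
import Cfsg.Agent.Lib.KnownA.SylowTori

/-!
An element of prime order commuting with a non-trivial nilpotent endomorphism lives in codimension two.
-/

set_option autoImplicit false

namespace Cfsg.Agent.Lib.KnownA.CentUnip

open Cfsg.Agent.Lib.Classical
open Module

variable {F : Type*} [Field F] [Fintype F] {r : ℕ} [hr : Fact r.Prime]

theorem not_dvd_card_GL {q : ℕ} (hF : Fintype.card F = q) (hrq : ¬ r ∣ q) {k : ℕ}
    (hk : k < orderOf (q : ZMod r)) : ¬ r ∣ Nat.card (GL (Fin k) F) := by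
  rw [card_GL_formula, hF]
  intro h
  rcases hr.out.dvd_mul.mp h with h | h
  · exact hrq (hr.out.dvd_of_dvd_pow h)
  · obtain ⟨i, hi, hd⟩ := (hr.out.prime.dvd_finsetProd_iff _).mp h
    have h1 := Nat.le_of_dvd (Nat.succ_pos i)
      ((SylowTori.dvd_pow_sub_one_iff (hF ▸ Fintype.card_pos) (i + 1)).mp hd)
    have := Finset.mem_range.mp hi
    omega

variable {V : Type*} [AddCommGroup V] [Module F V] [FiniteDimensional F V]

/-- An element of order `r` fixes every small invariant subspace. -/
theorem fixes_small {q : ℕ} (hF : Fintype.card F = q) (hrq : ¬ r ∣ q) (g : Module.End F V)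
    (hg : g ^ r = 1) (W : Submodule F V) (hW : ∀ v ∈ W, g v ∈ W)
    (hsmall : finrank F W < orderOf (q : ZMod r)) : ∀ v ∈ W, g v = v := by
  classical
  let R : Submonoid (Module.End F V) :=
    { carrier := {x | ∀ v ∈ W, x v ∈ W}
      mul_mem' := fun {a b} ha hb v hv => ha _ (hb v hv)
      one_mem' := fun v hv => hv }
  let res : R →* Module.End F W :=
    { toFun := fun x => x.1.restrict x.2
      map_one' := LinearMap.ext fun v => Subtype.ext rfl
      map_mul' := fun a b => LinearMap.ext fun v => Subtype.ext rfl }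
  let b := Module.finBasis F W
  let M : Module.End F W →* Matrix (Fin (finrank F W)) (Fin (finrank F W)) F :=
    (LinearMap.toMatrixAlgEquiv b).toAlgHom.toMonoidHom
  have hp : (⟨g, hW⟩ : R) ^ r = 1 := Subtype.ext hg
  let x : GL (Fin (finrank F W)) F := Units.ofPowEqOne (M (res ⟨g, hW⟩)) r
    (by rw [← map_pow, ← map_pow, hp, map_one, map_one]) hr.out.ne_zero
  have hx : x = 1 := by
    have h1 : x ^ r = 1 := Units.pow_ofPowEqOne _ _
    have h2 := orderOf_dvd_natCard x
    rcases (Nat.dvd_prime hr.out).mp (orderOf_dvd_of_pow_eq_one h1) with h | h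
    · exact orderOf_eq_one_iff.mp h
    · rw [h] at h2
      exact absurd h2 (not_dvd_card_GL hF hrq hsmall)
  have h1 : M (res ⟨g, hW⟩) = M 1 := by
    rw [map_one]
    exact congrArg Units.val hx
  intro v hv
  exact congrArg Subtype.val (LinearMap.congr_fun ((LinearMap.toMatrixAlgEquiv b).injective h1) ⟨v, hv⟩)

theorem ord_le {q : ℕ} (hF : Fintype.card F = q) (hrq : ¬ r ∣ q) (hrF : (r : F) ≠ 0)
    (g N : Module.End F V) (hg : g ^ r = 1) (hg1 : g ≠ 1) (hN : IsNilpotent N) (hN0 : N ≠ 0)
    (hcomm : g * N = N * g) (hV : 3 ≤ finrank F V) : orderOf (q : ZMod r) + 2 ≤ finrank F V := by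
  by_contra hlt
  have hgN : ∀ v, g (N v) = N (g v) := fun v => LinearMap.congr_fun hcomm v
  let W := LinearMap.range (g - 1)
  let U := LinearMap.ker N
  let I := LinearMap.range N
  -- no non-zero fixed vector in the commutator space
  have hWfix : ∀ w ∈ W, g w = w → w = 0 := by
    rintro _ ⟨v, rfl⟩ hfix
    have hk : ∀ k : ℕ, (g ^ k) v = v + (k : F) • ((g - 1) v) := by
      intro k
      induction k with
      | zero => simp
      | succ k ih =>
        rw [pow_succ', Module.End.mul_apply, ih, map_add, map_smul, hfix]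
        rw [show g v = v + (g - 1) v by simp, Nat.cast_succ, add_smul, one_smul]
        abel
    have h1 := hk r
    rw [hg, Module.End.one_apply] at h1
    exact (smul_eq_zero.mp (left_eq_add.mp h1)).resolve_left hrF
  have hWg : ∀ w ∈ W, g w ∈ W := by
    rintro _ ⟨v, rfl⟩
    exact ⟨g v, by simp [map_sub]⟩
  have hWN : ∀ w ∈ W, N w ∈ W := by
    rintro _ ⟨v, rfl⟩
    exact ⟨N v, by simp [map_sub, hgN]⟩
  have hW0 : W ≠ ⊥ := fun h => hg1 (sub_eq_zero.mp (LinearMap.range_eq_bot.mp h))
  have hUg : ∀ v ∈ U, g v ∈ U := fun v hv => by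
    simp only [U, LinearMap.mem_ker] at hv ⊢
    rw [← hgN, hv, map_zero]
  have hIg : ∀ v ∈ I, g v ∈ I := by
    rintro _ ⟨v, rfl⟩
    exact ⟨g v, (hgN v).symm⟩
  by_cases hU : finrank F U < orderOf (q : ZMod r)
  · obtain ⟨w, hw, hw0⟩ := (Submodule.ne_bot_iff W).mp hW0
    obtain ⟨k, hk⟩ := hN
    -- the last non-zero iterate lies in the kernel
    have key : ∀ m : ℕ, ∀ x ∈ W, (N ^ m) x = 0 → x = 0 := by
      intro m
      induction m with
      | zero => intro x _ hx; simpa using hx
      | succ m ih =>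
        intro x hx hxm
        rw [pow_succ, Module.End.mul_apply] at hxm
        exact hWfix x hx (fixes_small hF hrq g hg U hUg hU x (ih (N x) (hWN x hx) hxm))
    exact hw0 (key k w hw (by rw [hk]; rfl))
  · have hrank : finrank F I + finrank F U = finrank F V := N.finrank_range_add_finrank_ker
    have hI0 : I ≠ ⊥ := fun h => hN0 (LinearMap.range_eq_bot.mp h)
    have hI1 : 1 ≤ finrank F I := Submodule.one_le_finrank_iff.mpr hI0
    have hI : finrank F I = 1 := by omega
    have hd : 1 < orderOf (q : ZMod r) := by omega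
    have hfixI := fixes_small hF hrq g hg I hIg (by omega)
    have hWI : W ⊓ I = ⊥ := (Submodule.eq_bot_iff _).mpr fun x hx => hWfix x hx.1 (hfixI x hx.2)
    have hWU : W ≤ U := fun w hw => by
      show N w = 0
      have : N w ∈ W ⊓ I := ⟨hWN w hw, w, rfl⟩
      rw [hWI] at this
      simpa using this
    have hIU : I ≤ U := by
      rintro _ ⟨v, rfl⟩
      show N (N v) = 0
      obtain ⟨x, hx, hspan⟩ := finrank_eq_one_iff'.mp hI
      obtain ⟨c, hc⟩ := hspan ⟨N x.1, x.1, rfl⟩
      obtain ⟨k, hk⟩ := hN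
      have hc' : N x.1 = c • x.1 := (congrArg Subtype.val hc).symm
      have hpow : ∀ m : ℕ, (N ^ m) x.1 = c ^ m • x.1 := by
        intro m
        induction m with
        | zero => simp
        | succ m ih => rw [pow_succ', Module.End.mul_apply, ih, map_smul, hc', smul_smul, pow_succ]
      have h0 : c ^ k • x.1 = 0 := by rw [← hpow, hk]; rfl
      have hc0 : c = 0 := eq_zero_of_pow_eq_zero ((smul_eq_zero.mp h0).resolve_right fun h => hx (Subtype.ext h))
      obtain ⟨e, he⟩ := hspan ⟨N v, v, rfl⟩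
      rw [← show e • x.1 = N v from congrArg Subtype.val he, map_smul, hc', hc0, zero_smul, smul_zero]
    have hsum := Submodule.finrank_sup_add_finrank_inf_eq W I
    rw [hWI, finrank_bot] at hsum
    have hle := Submodule.finrank_mono (sup_le hWU hIU)
    obtain ⟨w, hw, hw0⟩ := (Submodule.ne_bot_iff W).mp hW0
    exact hw0 (hWfix w hw (fixes_small hF hrq g hg W hWg (by omega) w hw))

end Cfsg.Agent.Lib.KnownA.CentUnip
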