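import Mathlib
import Cfsg.Prelude.Def_Characters
import Cfsg.Agent.Lib.Characters

/-! General character tools used for the tables of `GL₂(q)` and `SL₂(q)`. -/

set_option autoImplicit false

namespace Cfsg.Agent.Lib.KnownA

open scoped ComplexConjugate
open Cfsg Cfsg.Agent.Lib.Characters

section general
variable {G : Type*} [Group G]

/-- Induction as a sum over a transversal. -/
theorem indFun_eq_sum_transversal [Fintype G] (H : Subgroup G) [Fintype H] (θ : H → ℂ)
    (hθ : IsClassFunction H θ) {ι : Type*} [Fintype ι] (e : ι → G)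
    (he : Function.Bijective (fun i => (e i : G ⧸ H))) (g : G) :
    indFun H θ g = ∑ i, extendByZero H θ ((e i)⁻¹ * g * e i) := by
  classical
  have hconj : ∀ (h : H) (k : G),
      extendByZero H θ ((h : G)⁻¹ * k * h) = extendByZero H θ k := by
    intro h k
    by_cases hk : k ∈ H
    · have hm : (h : G)⁻¹ * k * h ∈ H := mul_mem (mul_mem (inv_mem h.2) hk) h.2
      rw [extendByZero_of_mem H θ hm, extendByZero_of_mem H θ hk]
      have := hθ ⟨k, hk⟩ h⁻¹
      rw [← this]
      congr 1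
      ext
      simp
    · rw [extendByZero_of_not_mem H θ hk, extendByZero_of_not_mem]
      intro hm
      exact hk (by simpa [mul_assoc] using mul_mem (mul_mem h.2 hm) (inv_mem h.2))
  let f : ι × H → G := fun x => e x.1 * (x.2 : G)
  have hf : Function.Bijective f := by
    constructor
    · rintro ⟨i, h⟩ ⟨j, k⟩ hij
      have hij' : e i * (h : G) = e j * (k : G) := hij
      have hi : i = j := he.1 (QuotientGroup.eq.mpr (by
        have : (e i)⁻¹ * e j = (h : G) * (k : G)⁻¹ := by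
          rw [eq_mul_inv_iff_mul_eq, mul_assoc, ← hij', inv_mul_cancel_left]
        rw [this]
        exact mul_mem h.2 (inv_mem k.2)))
      subst hi
      exact Prod.ext rfl (Subtype.ext (mul_left_cancel hij'))
    · intro x
      obtain ⟨i, hi⟩ := he.2 (x : G ⧸ H)
      exact ⟨(i, ⟨(e i)⁻¹ * x, QuotientGroup.eq.mp hi⟩), by simp [f]⟩
  rw [indFun_apply, ← Fintype.sum_bijective f hf (fun x => extendByZero H θ ((f x)⁻¹ * g * f x))
    (fun x => extendByZero H θ (x⁻¹ * g * x)) (fun _ => rfl), Fintype.sum_prod_type]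
  have key : ∀ i (h : H), extendByZero H θ ((f (i, h))⁻¹ * g * f (i, h)) =
      extendByZero H θ ((e i)⁻¹ * g * e i) := fun i h => by
    rw [← hconj h ((e i)⁻¹ * g * e i)]
    congr 1
    simp [f, mul_assoc]
  simp only [key, Finset.sum_const, Finset.card_univ, nsmul_eq_mul, Nat.card_eq_fintype_card,
    ← Finset.mul_sum]
  rw [← mul_assoc, inv_mul_cancel₀ (Nat.cast_ne_zero.mpr Fintype.card_ne_zero), one_mul]

/-- A character of norm `2` is the sum of two distinct irreducible characters. -/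
theorem exists_two_irr [Fintype G] {φ : G → ℂ} (hφ : IsCharacter G φ) (h2 : classInner φ φ = 2) :
    ∃ χ₁ χ₂ : IrrCharacter G, χ₁ ≠ χ₂ ∧ φ = (χ₁ : G → ℂ) + (χ₂ : G → ℂ) := by
  classical
  haveI := Fintype.ofFinite (IrrCharacter G)
  obtain ⟨m, hm, -⟩ := IsCharacter.exists_nat_decomp hφ
  have hsum : ∑ χ : IrrCharacter G, m χ * m χ = 2 := by
    rw [hm, classInner_sum_sum] at h2
    simp only [map_natCast] at h2
    exact_mod_cast h2
  have hle : ∀ χ, m χ ≤ 1 := fun χ => by
    by_contra hc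
    have := Finset.single_le_sum (f := fun χ => m χ * m χ) (fun i _ => Nat.zero_le _) (Finset.mem_univ χ)
    have h4 : 4 ≤ m χ * m χ := Nat.mul_le_mul (not_le.mp hc) (not_le.mp hc)
    omega
  have hsq : ∀ χ, m χ * m χ = if m χ = 1 then 1 else 0 := fun χ => by
    have := hle χ
    rcases Nat.le_one_iff_eq_zero_or_eq_one.mp this with h | h <;> simp [h]
  simp only [hsq, Finset.sum_boole, Nat.cast_id] at hsum
  obtain ⟨a, b, hab, hs⟩ := Finset.card_eq_two.mp hsum
  refine ⟨a, b, hab, ?_⟩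
  have hmem : ∀ χ, χ ∈ ({a, b} : Finset (IrrCharacter G)) ↔ m χ = 1 := fun χ => by
    rw [← hs]; simp
  rw [hm, ← Finset.sum_subset (Finset.subset_univ ({a, b} : Finset (IrrCharacter G))),
    Finset.sum_pair hab, (hmem a).mp (by simp), (hmem b).mp (by simp)]
  · simp
  · intro χ _ hχ
    rcases Nat.le_one_iff_eq_zero_or_eq_one.mp (hle χ) with h | h
    · simp [h]
    · exact absurd ((hmem χ).mpr h) hχ

/-- Constituents of a sum of two irreducibles. -/
theorem eq_or_eq_of_classInner_ne_zero [Fintype G] (χ₁ χ₂ χ : IrrCharacter G)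
    (h : classInner ((χ₁ : G → ℂ) + (χ₂ : G → ℂ)) (χ : G → ℂ) ≠ 0) : χ = χ₁ ∨ χ = χ₂ := by
  by_contra hc
  push Not at hc
  apply h
  rw [classInner_add_left, IsIrrCharacter.classInner_ne χ₁.2 χ.2 (fun e => hc.1 (Subtype.ext e.symm)),
    IsIrrCharacter.classInner_ne χ₂.2 χ.2 (fun e => hc.2 (Subtype.ext e.symm)), add_zero]

theorem eq_of_classInner_ne_zero [Fintype G] {φ χ : G → ℂ} (hφ : IsIrrCharacter G φ)
    (hχ : IsIrrCharacter G χ) (h : classInner φ χ ≠ 0) : χ = φ := by
  by_contra hc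
  exact h (IsIrrCharacter.classInner_ne hφ hχ (Ne.symm hc))

/-- The other constituent. -/
theorem isIrr_sub_of_norm_two [Fintype G] {φ lam : G → ℂ} (hφ : IsCharacter G φ) (h2 : classInner φ φ = 2)
    (hl : IsIrrCharacter G lam) (h : classInner φ lam ≠ 0) :
    IsIrrCharacter G (φ - lam) ∧ φ - lam ≠ lam := by
  obtain ⟨a, b, hab, rfl⟩ := exists_two_irr hφ h2
  rcases eq_or_eq_of_classInner_ne_zero a b ⟨lam, hl⟩ h with e | e
  · have e' : lam = (a : G → ℂ) := congrArg Subtype.val e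
    subst e'
    rw [add_sub_cancel_left]
    exact ⟨b.2, fun e2 => hab (Subtype.ext e2.symm)⟩
  · have e' : lam = (b : G → ℂ) := congrArg Subtype.val e
    subst e'
    rw [add_sub_cancel_right]
    exact ⟨a.2, fun e2 => hab (Subtype.ext e2)⟩

/-- The degree of a constituent is at most the degree of the character. -/
theorem degree_le_of_constituent [Fintype G] {φ : G → ℂ} (hφ : IsCharacter G φ) (χ : IrrCharacter G)
    (h : classInner φ (χ : G → ℂ) ≠ 0) {a b : ℕ} (ha : (χ : G → ℂ) 1 = a) (hb : φ 1 = b) : a ≤ b := by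
  classical
  haveI := Fintype.ofFinite (IrrCharacter G)
  obtain ⟨m, hm, hm'⟩ := IsCharacter.exists_nat_decomp hφ
  have hmχ : m χ ≠ 0 := fun h0 => h (by rw [hm, classInner_irr_sum, h0, Nat.cast_zero])
  choose d hd0 hd using fun ψ : IrrCharacter G => IsIrrCharacter.exists_apply_one ψ.2
  have hb2 : (b : ℂ) = ((∑ ψ, m ψ * d ψ : ℕ) : ℂ) := by
    rw [← hb, hm]
    simp [hd]
  have hb3 : b = ∑ ψ, m ψ * d ψ := by exact_mod_cast hb2
  have hda : d χ = a := by
    have := (hd χ).symm.trans ha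
    exact_mod_cast this
  rw [hb3, ← hda]
  exact (Nat.le_mul_of_pos_left _ (Nat.pos_of_ne_zero hmχ)).trans
    (Finset.single_le_sum (f := fun ψ => m ψ * d ψ) (fun i _ => Nat.zero_le _) (Finset.mem_univ χ))

/-- An algebraic integer `x` with `n x = m` gives `n ∣ m`. -/
theorem exists_int_of_mul_eq {x : ℂ} (hx : IsIntegral ℤ x) {n : ℕ} (hn : n ≠ 0) {m : ℤ}
    (h : (n : ℂ) * x = m) : ∃ z : ℤ, x = z ∧ (n : ℤ) * z = m := by
  have hx' : x = (((m : ℚ) / n : ℚ) : ℂ) := by
    push_cast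
    rw [eq_div_iff (Nat.cast_ne_zero.mpr hn), mul_comm, h]
  obtain ⟨z, hz⟩ := exists_int_of_isIntegral_rat (hx' ▸ hx)
  have hxz : x = z := by rw [hx', hz]; push_cast; rfl
  refine ⟨z, hxz, ?_⟩
  rw [hxz] at h
  exact_mod_cast h

end general

section mulChar
variable {F : Type*} [Field F] [Fintype F]

noncomputable instance mulCharFintypeKnownA : Fintype (MulChar F ℂ) := Fintype.ofFinite _

theorem card_mulChar : Fintype.card (MulChar F ℂ) = Fintype.card F - 1 := by
  rw [← Nat.card_eq_fintype_card, MulChar.card_eq_card_units_of_hasEnoughRootsOfUnity, Nat.card_units,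
    Nat.card_eq_fintype_card]

theorem sum_mulChar_apply [DecidableEq F] (a : Fˣ) :
    ∑ α : MulChar F ℂ, α (a : F) = if a = 1 then ((Fintype.card F - 1 : ℕ) : ℂ) else 0 := by
  split_ifs with h
  · subst h
    simp [card_mulChar]
  · obtain ⟨β, hβ⟩ := MulChar.exists_apply_ne_one_of_hasEnoughRootsOfUnity F ℂ
      (a := (a : F)) (fun e => h (Units.ext e))
    have hsum : β (a : F) * ∑ α : MulChar F ℂ, α (a : F) = ∑ α : MulChar F ℂ, α (a : F) := by
      rw [Finset.mul_sum]
      exact Fintype.sum_equiv (Equiv.mulLeft β) _ _ fun α => (MulChar.mul_apply β α _).symm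
    exact eq_zero_of_mul_eq_self_left hβ hsum

theorem conj_mulChar (α : MulChar F ℂ) (a : F) : conj (α a) = α⁻¹ a :=
  MulChar.star_apply' α a

theorem sum_units_mulChar [DecidableEq F] (α β : MulChar F ℂ) :
    ∑ a : Fˣ, α (a : F) * conj (β (a : F)) =
      @ite ℂ (α = β) (Classical.propDecidable _) ((Fintype.card F - 1 : ℕ) : ℂ) 0 := by
  simp only [conj_mulChar, ← MulChar.mul_apply]
  split_ifs with h
  · subst h
    simp [← Fintype.card_units]
  · have hne : α * β⁻¹ ≠ 1 := fun e => h (by rwa [mul_inv_eq_one] at e)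
    have h0 := MulChar.sum_eq_zero_of_ne_one hne
    rw [← h0]
    refine Finset.sum_bij_ne_zero (fun a _ _ => (a : F)) (fun _ _ _ => Finset.mem_univ _)
      (fun _ _ _ _ _ _ e => Units.ext e) (fun b _ hb => ?_) (fun _ _ _ => rfl)
    have hb0 : b ≠ 0 := fun e => hb (by rw [e, MulChar.map_zero])
    exact ⟨Units.mk0 b hb0, Finset.mem_univ _, by simpa using hb, rfl⟩

theorem eq_zero_of_pairing [DecidableEq F] (f : Fˣ → ℂ)
    (h : ∀ α : MulChar F ℂ, ∑ a : Fˣ, f a * α (a : F) = 0) (b : Fˣ) : f b = 0 := by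
  have h1 : ∑ α : MulChar F ℂ, α ((b⁻¹ : Fˣ) : F) * ∑ a : Fˣ, f a * α (a : F) = 0 := by simp [h]
  simp only [Finset.mul_sum] at h1
  rw [Finset.sum_comm] at h1
  have h2 : ∀ a : Fˣ, ∑ α : MulChar F ℂ, α ((b⁻¹ : Fˣ) : F) * (f a * α (a : F)) =
      f a * if a = b then ((Fintype.card F - 1 : ℕ) : ℂ) else 0 := by
    intro a
    rw [show (if a = b then ((Fintype.card F - 1 : ℕ) : ℂ) else 0) =
      ∑ α : MulChar F ℂ, α (((b⁻¹ * a : Fˣ)) : F) by
        rw [sum_mulChar_apply]; simp [inv_mul_eq_one, eq_comm], Finset.mul_sum]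
    refine Finset.sum_congr rfl fun α _ => ?_
    rw [Units.val_mul, map_mul]; ring
  simp only [h2, mul_ite, mul_zero, Finset.sum_ite_eq', Finset.mem_univ, if_true] at h1
  exact (mul_eq_zero.mp h1).resolve_right
    (Nat.cast_ne_zero.mpr (by have := Fintype.one_lt_card (α := F); omega))

theorem eq_zero_of_pairing₂ [DecidableEq F] (f : Fˣ → Fˣ → ℂ)
    (h : ∀ α β : MulChar F ℂ, ∑ a : Fˣ, ∑ d : Fˣ, f a d * (α (a : F) * β (d : F)) = 0)
    (a d : Fˣ) : f a d = 0 := by
  refine eq_zero_of_pairing (f a) (fun β => ?_) d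
  refine eq_zero_of_pairing (fun x => ∑ d : Fˣ, f x d * β (d : F)) (fun α => ?_) a
  rw [← h α β]
  simp only [Finset.sum_mul]
  exact Finset.sum_congr rfl fun x _ => Finset.sum_congr rfl fun y _ => by ring

end mulChar

end Cfsg.Agent.Lib.KnownA
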