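import Mathlib
import Cfsg.Prelude.Def_Classical
import Cfsg.Agent.Lib.Classical.LinearSimple
import Cfsg.Agent.Lib.Classical.SUTwo

/-! Embeddings of `SL₂`, alternating groups and `GL_m` into the classical groups of the list. -/

set_option autoImplicit false

namespace Cfsg.Agent.Lib.KnownA

open Matrix
open scoped MatrixGroups

section block
variable {R : Type*} [CommRing R] {α β γ : Type*} [Fintype α] [DecidableEq α] [Fintype β] [DecidableEq β]
  [Fintype γ] [DecidableEq γ]

/-- `A ↦ (A 0; 0 1)`, reindexed. -/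
def blockMatHom (e : α ⊕ β ≃ γ) : Matrix α α R →* Matrix γ γ R where
  toFun A := (fromBlocks A 0 0 (1 : Matrix β β R)).submatrix e.symm e.symm
  map_one' := by simp
  map_mul' A B := by
    rw [Matrix.submatrix_mul_equiv, fromBlocks_multiply]
    simp

theorem blockMatHom_injective (e : α ⊕ β ≃ γ) : Function.Injective (blockMatHom (R := R) e) := by
  intro A B h
  ext i j
  simpa [blockMatHom] using congrFun (congrFun h (e (Sum.inl i))) (e (Sum.inl j))

theorem det_blockMatHom (e : α ⊕ β ≃ γ) (A : Matrix α α R) : (blockMatHom e A).det = A.det := by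
  simp [blockMatHom]

theorem transpose_blockMatHom (e : α ⊕ β ≃ γ) (A : Matrix α α R) :
    (blockMatHom e A)ᵀ = blockMatHom e Aᵀ := by
  simp [blockMatHom, fromBlocks_transpose]

theorem map_blockMatHom (e : α ⊕ β ≃ γ) (A : Matrix α α R) (f : R →+* R) :
    (blockMatHom e A).map f = blockMatHom e (A.map f) := by
  simp [blockMatHom, ← Matrix.submatrix_map, fromBlocks_map]

/-- `SL` into a bigger `SL`. -/
def blockSL (e : α ⊕ β ≃ γ) : SpecialLinearGroup α R →* SpecialLinearGroup γ R where
  toFun A := ⟨blockMatHom e (A : Matrix α α R), by rw [det_blockMatHom]; exact A.2⟩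
  map_one' := Subtype.ext (map_one (blockMatHom e))
  map_mul' A B := Subtype.ext (map_mul (blockMatHom e) _ _)

theorem blockSL_injective (e : α ⊕ β ≃ γ) : Function.Injective (blockSL (R := R) e) :=
  fun _ _ h => Subtype.ext (blockMatHom_injective e (congrArg Subtype.val h))

end block

section perm
variable (R : Type*) [CommRing R] (n : ℕ)

/-- Even permutations as matrices of determinant one. -/
def permSL : alternatingGroup (Fin n) →* SpecialLinearGroup (Fin n) R where
  toFun s := ⟨permMatrixHom (s : Equiv.Perm (Fin n)), by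
    rw [permMatrixHom_apply, det_permutation, Equiv.Perm.sign_inv, Equiv.Perm.mem_alternatingGroup.mp s.2]
    simp⟩
  map_one' := Subtype.ext (map_one permMatrixHom)
  map_mul' s t := Subtype.ext (map_mul permMatrixHom _ _)

theorem permSL_coe (s : alternatingGroup (Fin n)) :
    (permSL R n s : Matrix (Fin n) (Fin n) R) = (s : Equiv.Perm (Fin n))⁻¹.permMatrix R := rfl

theorem permSL_injective [Nontrivial R] : Function.Injective (permSL R n) := by
  intro s t h
  have h' := congrArg Subtype.val h
  change (s : Equiv.Perm (Fin n))⁻¹.permMatrix R = (t : Equiv.Perm (Fin n))⁻¹.permMatrix R at h'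
  refine Subtype.ext (inv_injective (Equiv.ext fun i => ?_))
  have h2 := congrFun (congrFun h' i) ((s : Equiv.Perm (Fin n))⁻¹ i)
  simp [Equiv.Perm.permMatrix, PEquiv.toMatrix_apply] at h2
  exact h2.symm

end perm

section unitary
variable {F : Type*} [Field F] [Fintype F] {q : ℕ}

open Cfsg.Agent.Lib.Classical

/-- Even permutations preserve the standard hermitian form. -/
theorem exists_alternating_to_SU (hF : Fintype.card F = q ^ 2) (n : ℕ) :
    ∃ φ : alternatingGroup (Fin n) →* Cfsg.SU n F q, Function.Injective φ := by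
  refine ⟨(permSL F n).codRestrict _ fun s => (mem_SU_iff hF _).mpr ?_,
    fun s t h => permSL_injective F n (congrArg Subtype.val h)⟩
  rw [permSL_coe]
  set σ : Equiv.Perm (Fin n) := (s : Equiv.Perm (Fin n))⁻¹
  have hmap : (σ.permMatrix F).map (conjHom hF) = σ.permMatrix F := by
    ext i j
    simp [Equiv.Perm.permMatrix, PEquiv.toMatrix_apply, apply_ite (conjHom hF)]
  rw [hmap, transpose_permMatrix, ← permMatrix_mul, mul_inv_cancel, permMatrix_one]

/-- `SL₂(q)` inside `SU_n(q)`. -/
theorem exists_SL2_to_SU (hF : Fintype.card F = q ^ 2) {K : Type*} [Field K] [Fintype K]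
    (hK : Fintype.card K = q) (r : ℕ) :
    ∃ φ : SpecialLinearGroup (Fin 2) K →* Cfsg.SU (2 + r) F q, Function.Injective φ := by
  obtain ⟨ψ⟩ := nonempty_SU2_mulEquiv_SL2 hF hK
  refine ⟨(((blockSL (finSumFinEquiv (m := 2) (n := r))).comp (Cfsg.SU 2 F q).subtype).codRestrict _
    fun A => (mem_SU_iff hF _).mpr ?_).comp ψ.symm.toMonoidHom, ?_⟩
  · have h := (mem_SU_iff hF (A : SpecialLinearGroup (Fin 2) F)).mp A.2
    change (blockMatHom finSumFinEquiv ((A : SpecialLinearGroup (Fin 2) F) : Matrix (Fin 2) (Fin 2) F))ᵀ *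
      (blockMatHom finSumFinEquiv ((A : SpecialLinearGroup (Fin 2) F) : Matrix (Fin 2) (Fin 2) F)).map
        (conjHom hF) = 1
    rw [transpose_blockMatHom, map_blockMatHom, ← map_mul, h, map_one]
  · intro a b h
    exact ψ.symm.injective (Subtype.ext (blockSL_injective _ (congrArg Subtype.val h)))

end unitary

section hyperbolic
variable (F : Type*) [Field F] (m : ℕ)

/-- `A ↦ (A 0; 0 A⁻ᵀ)`. -/
def hypHom : GL (Fin m) F →* Matrix (Fin m ⊕ Fin m) (Fin m ⊕ Fin m) F where
  toFun A := fromBlocks (A : Matrix (Fin m) (Fin m) F) 0 0 ((A⁻¹ : GL (Fin m) F) : Matrix (Fin m) (Fin m) F)ᵀ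
  map_one' := by simp
  map_mul' A B := by simp [fromBlocks_multiply, _root_.mul_inv_rev, Units.val_mul, transpose_mul]

theorem hypHom_injective : Function.Injective (hypHom F m) := by
  intro A B h
  refine Units.ext (Matrix.ext fun i j => ?_)
  simpa [hypHom] using congrFun (congrFun h (Sum.inl i)) (Sum.inl j)

theorem hypHom_preserves (A : GL (Fin m) F) (x y : Fin m → F) :
    ((A : Matrix (Fin m) (Fin m) F) *ᵥ x) ⬝ᵥ
      (((A⁻¹ : GL (Fin m) F) : Matrix (Fin m) (Fin m) F)ᵀ *ᵥ y) = x ⬝ᵥ y := by
  rw [Matrix.mulVec_transpose, dotProduct_comm, ← Matrix.dotProduct_mulVec, Matrix.mulVec_mulVec,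
    ← Units.val_mul, inv_mul_cancel, Units.val_one, Matrix.one_mulVec, dotProduct_comm]

theorem mulVec_hypHom (A : GL (Fin m) F) (v : Fin m ⊕ Fin m → F) :
    hypHom F m A *ᵥ v = Sum.elim ((A : Matrix (Fin m) (Fin m) F) *ᵥ (v ∘ Sum.inl))
      (((A⁻¹ : GL (Fin m) F) : Matrix (Fin m) (Fin m) F)ᵀ *ᵥ (v ∘ Sum.inr)) := by
  simp [hypHom, fromBlocks_mulVec]

theorem exists_GL_to_Sp : ∃ φ : GL (Fin m) F →* Matrix.symplecticGroup (Fin m) F, Function.Injective φ := by
  refine ⟨(hypHom F m).codRestrict _ fun A => ?_, fun A B h => hypHom_injective F m (congrArg Subtype.val h)⟩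
  rw [SymplecticGroup.mem_iff]
  simp [hypHom, Matrix.J, fromBlocks_multiply, fromBlocks_transpose]
  rw [← transpose_mul, ← Matrix.coe_units_inv, ← Units.val_mul, mul_inv_cancel, Units.val_one, transpose_one]

theorem exists_GL_to_O_plus :
    ∃ φ : GL (Fin m) F →* Cfsg.isometryGroup F (Cfsg.quadFormPlus m F), Function.Injective φ := by
  refine ⟨((hypHom F m).toHomUnits).codRestrict _ fun A u _ => ?_,
    fun A B h => hypHom_injective F m (congrArg Units.val (congrArg Subtype.val h))⟩
  change Cfsg.quadFormPlus m F (hypHom F m A *ᵥ u) = Cfsg.quadFormPlus m F u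
  rw [mulVec_hypHom]
  exact hypHom_preserves F m A (u ∘ Sum.inl) (u ∘ Sum.inr)

theorem exists_GL_to_O_odd :
    ∃ φ : GL (Fin m) F →* Cfsg.isometryGroup F (Cfsg.quadFormOdd m F), Function.Injective φ := by
  let h : GL (Fin m) F →* Matrix (Unit ⊕ (Fin m ⊕ Fin m)) (Unit ⊕ (Fin m ⊕ Fin m)) F :=
    (blockMatHom (Equiv.sumComm _ _)).comp (hypHom F m)
  have hval : ∀ A, h A = fromBlocks (1 : Matrix Unit Unit F) 0 0 (hypHom F m A) := fun A => by
    ext (i | i) (j | j) <;> simp [h, blockMatHom]
  refine ⟨h.toHomUnits.codRestrict _ fun A u _ => ?_,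
    fun A B e => hypHom_injective F m (blockMatHom_injective _
      (congrArg Units.val (congrArg Subtype.val e)))⟩
  change Cfsg.quadFormOdd m F (h A *ᵥ u) = Cfsg.quadFormOdd m F u
  rw [hval]
  simp only [Cfsg.quadFormOdd, fromBlocks_mulVec, Sum.elim_inl, Sum.elim_inr, Matrix.one_mulVec,
    Matrix.zero_mulVec, add_zero, zero_add, mulVec_hypHom, Function.comp_apply]
  exact congrArg _ (hypHom_preserves F m A _ _)

theorem exists_GL_to_O_minus (a b : F) :
    ∃ φ : GL (Fin m) F →* Cfsg.isometryGroup F (Cfsg.quadFormMinus m F a b), Function.Injective φ := by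
  let h : GL (Fin m) F →* Matrix ((Fin m ⊕ Fin m) ⊕ Fin 2) ((Fin m ⊕ Fin m) ⊕ Fin 2) F :=
    (blockMatHom (Equiv.refl _)).comp (hypHom F m)
  have hval : ∀ A, h A = fromBlocks (hypHom F m A) 0 0 (1 : Matrix (Fin 2) (Fin 2) F) := fun A => by
    simp [h, blockMatHom]
  refine ⟨h.toHomUnits.codRestrict _ fun A u _ => ?_,
    fun A B e => hypHom_injective F m (blockMatHom_injective _
      (congrArg Units.val (congrArg Subtype.val e)))⟩
  change Cfsg.quadFormMinus m F a b (h A *ᵥ u) = Cfsg.quadFormMinus m F a b u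
  rw [hval]
  simp only [Cfsg.quadFormMinus, fromBlocks_mulVec, Sum.elim_inl, Sum.elim_inr, Matrix.one_mulVec,
    Matrix.zero_mulVec, add_zero, zero_add, mulVec_hypHom, Function.comp_apply]
  exact congrArg (· + _) (hypHom_preserves F m A _ _)

variable {F m}

/-- An injective map on `GL_m` sends `SL_m` into the derived group of the target. -/
theorem exists_SL_to_commutator [Fintype F] (hm : 3 ≤ m) {X : Type*} [Group X] (φ : GL (Fin m) F →* X)
    (hφ : Function.Injective φ) :
    ∃ ψ : SpecialLinearGroup (Fin m) F →* commutator X, Function.Injective ψ := by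
  have hmem : ∀ A : SpecialLinearGroup (Fin m) F, φ (SpecialLinearGroup.toGL A) ∈ commutator X := by
    intro A
    have h1 : SpecialLinearGroup.toGL A ∈ commutator (GL (Fin m) F) := by
      rw [Cfsg.Agent.Lib.Classical.commutator_GL_eq_ker_det (fun h => absurd h (by rw [Fintype.card_fin]; omega))]
      exact Units.ext A.2
    have h2 : Subgroup.map φ (commutator (GL (Fin m) F)) ≤ commutator X := by
      rw [commutator_def, commutator_def, Subgroup.map_commutator]
      exact Subgroup.commutator_mono le_top le_top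
    exact h2 (Subgroup.mem_map_of_mem φ h1)
  exact ⟨(φ.comp SpecialLinearGroup.toGL).codRestrict _ hmem,
    fun A B h => SpecialLinearGroup.toGL_injective (hφ (congrArg Subtype.val h))⟩

end hyperbolic

end Cfsg.Agent.Lib.KnownA
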