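import Mathlib
import Cfsg.Prelude.Def_Sporadic
import Cfsg.Prelude.Def_Classical

set_option autoImplicit false

namespace Cfsg.Agent.Lib.KnownA

theorem cube_lt_two_part_of_check {n p a : ℕ} (hp : p.Prime) (hodd : p ≠ 2)
    (h3 : n.factorization p = 3) (hfac : n ∣ Nat.factorial 71 ^ 50) (h2 : 2 ^ a ∣ n)
    (hcheck : ∀ q < 72, q.Prime → q ≠ 2 → q ^ 3 ∣ n → ¬ q ^ 4 ∣ n → q ^ 3 < 2 ^ a) :
    p ^ 3 < 2 ^ n.factorization 2 := by
  have hn : n ≠ 0 := by rintro rfl; simp at h3
  have hp3 : p ^ 3 ∣ n := h3 ▸ Nat.ordProj_dvd n p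
  have hp4 : ¬ p ^ 4 ∣ n := by
    rw [hp.pow_dvd_iff_le_factorization hn, h3]; omega
  have hple : p ≤ 71 := hp.dvd_factorial.mp
    (hp.dvd_of_dvd_pow (((dvd_pow_self p (by norm_num : (3 : ℕ) ≠ 0)).trans hp3).trans hfac))
  refine lt_of_lt_of_le (hcheck p (by omega) hp hodd hp3 hp4) (Nat.pow_le_pow_right two_pos ?_)
  exact (Nat.prime_two.pow_dvd_iff_le_factorization hn).mp h2

theorem cube_lt_four_pow (p : ℕ) (hp : 5 ≤ p) : p ^ 3 < 2 ^ (2 * p - 2) := by
  induction p, hp using Nat.le_induction with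
  | base => norm_num
  | succ k hk ih =>
    rw [show 2 * (k + 1) - 2 = 2 * k - 2 + 2 by omega, pow_add]
    nlinarith [Nat.mul_le_mul_right (k * k) hk]

theorem factorization_two_factorial_ge (n : ℕ) :
    n / 2 + n / 2 / 2 ≤ (Nat.factorial n).factorization 2 := by
  haveI := Fact.mk Nat.prime_two
  have key : ∀ m : ℕ, m / 2 ≤ (Nat.factorial m).factorization 2 := fun m => by
    rw [Nat.factorization_def _ Nat.prime_two]
    conv_rhs => rw [← Nat.div_add_mod m 2]
    rw [padicValNat_factorial_mul_add _ (Nat.mod_lt _ two_pos), padicValNat_factorial_mul]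
    omega
  have := key (n / 2)
  rw [Nat.factorization_def _ Nat.prime_two] at this ⊢
  conv_rhs => rw [← Nat.div_add_mod n 2]
  rw [padicValNat_factorial_mul_add _ (Nat.mod_lt _ two_pos), padicValNat_factorial_mul]
  omega

theorem cube_lt_two_part_alternating (n p : ℕ) (hn : 2 ≤ n) (hp : p.Prime) (hodd : p ≠ 2)
    (h3 : (Nat.factorial n / 2).factorization p = 3) :
    p ^ 3 < 2 ^ (Nat.factorial n / 2).factorization 2 := by
  haveI := Fact.mk hp
  have h2n : 2 ∣ Nat.factorial n := Nat.dvd_factorial two_pos hn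
  have hfac : ∀ r, (Nat.factorial n / 2).factorization r =
      (Nat.factorial n).factorization r - (2 : ℕ).factorization r := fun r => by
    rw [Nat.factorization_div h2n]; rfl
  rw [hfac, Nat.prime_two.factorization, Finsupp.single_eq_of_ne hodd, Nat.sub_zero,
    Nat.factorization_def _ hp] at h3
  rw [hfac, Nat.prime_two.factorization, Finsupp.single_eq_same]
  rw [← Nat.div_add_mod n p, padicValNat_factorial_mul_add _ (Nat.mod_lt _ hp.pos),
    padicValNat_factorial_mul] at h3
  have hk : n / p ≤ 3 := by omega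
  have hp3 : 3 ≤ p := by have := hp.two_le; omega
  have hv : ∀ k, k < p → padicValNat p (Nat.factorial k) = 0 := fun k hk =>
    padicValNat.eq_zero_of_not_dvd (fun h => by have := hp.dvd_factorial.mp h; omega)
  have hk3 : n / p = 3 := by
    by_contra hne
    rw [hv _ (by omega)] at h3
    omega
  have hp5 : 5 ≤ p := by
    rcases Nat.eq_or_lt_of_le hp3 with rfl | h
    · rw [hk3] at h3
      have : 1 ≤ padicValNat 3 (Nat.factorial 3) :=
        one_le_padicValNat_of_dvd (Nat.factorial_ne_zero 3) (by norm_num [Nat.factorial])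
      omega
    · rcases Nat.eq_or_lt_of_le h with h4 | h4
      · exfalso; rw [← h4] at hp; norm_num at hp
      · omega
  refine lt_of_lt_of_le (cube_lt_four_pow p hp5) (Nat.pow_le_pow_right two_pos ?_)
  have h := factorization_two_factorial_ge n
  have hn3 : 3 * p ≤ n := by
    have := Nat.div_mul_le_self n p
    rw [hk3] at this
    exact this
  omega

end Cfsg.Agent.Lib.KnownA
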