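import Mathlib

/-! Elements generating a finite field as a ring. -/

set_option autoImplicit false

namespace Cfsg.Agent.Lib.KnownA

variable {F : Type*} [Field F] [Fintype F]

/-- A generator of the unit group generates the ring, and so does its square up to sign. -/
theorem exists_field_generator :
    ∃ ζ : F, ζ ≠ 0 ∧ (∀ x : F, x ≠ 0 → ∃ k : ℕ, ζ ^ k = x) ∧ orderOf ζ = Fintype.card F - 1 := by
  obtain ⟨g, hg⟩ := IsCyclic.exists_generator (α := Fˣ)
  refine ⟨(g : F), g.ne_zero, ?_, ?_⟩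
  · intro x hx
    obtain ⟨k, hk⟩ := (mem_powers_iff_mem_zpowers (x := g)).mpr (hg (Units.mk0 x hx))
    refine ⟨k, ?_⟩
    have h := congrArg Units.val hk
    simpa using h
  · rw [orderOf_units, orderOf_eq_card_of_forall_mem_zpowers hg, Nat.card_units, Nat.card_eq_fintype_card]

theorem closure_eq_top_of_powers {ζ : F} (h : ∀ x : F, x ≠ 0 → ∃ k : ℕ, ζ ^ k = x) :
    Subring.closure ({ζ} : Set F) = ⊤ := by
  refine eq_top_iff.mpr fun x _ => ?_
  by_cases hx : x = 0
  · subst hx; exact zero_mem _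
  obtain ⟨k, rfl⟩ := h x hx
  have hmem : ζ ∈ Subring.closure ({ζ} : Set F) := Subring.subset_closure (Set.mem_singleton ζ)
  exact pow_mem hmem k

theorem closure_signed_sq_eq_top {ζ : F} (h : ∀ x : F, x ≠ 0 → ∃ k : ℕ, ζ ^ k = x) (s : F)
    (hs : s = 1 ∨ s = -1) : Subring.closure ({s * (ζ * ζ)} : Set F) = ⊤ := by
  set L := Subring.closure ({s * (ζ * ζ)} : Set F) with hL
  have hm : ζ * ζ ∈ L := by
    have : s * (ζ * ζ) ∈ L := Subring.subset_closure (Set.mem_singleton _)
    rcases hs with rfl | rfl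
    · simpa using this
    · simpa using L.neg_mem this
  have hsq : ∀ y : F, y * y ∈ L := by
    intro y
    by_cases hy : y = 0
    · subst hy; rw [mul_zero]; exact zero_mem _
    obtain ⟨k, rfl⟩ := h y hy
    rw [← mul_pow]
    exact pow_mem hm k
  refine eq_top_iff.mpr fun x _ => ?_
  by_cases h2 : (2 : F) = 0
  · haveI : CharP F 2 := CharTwo.of_one_ne_zero_of_two_eq_zero one_ne_zero h2
    obtain ⟨y, hy⟩ := FiniteField.isSquare_of_char_two (ringChar.eq F 2) x
    rw [hy]; exact hsq y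
  · have e : x = (x + 1) / 2 * ((x + 1) / 2) - (x - 1) / 2 * ((x - 1) / 2) := by
      field_simp; ring
    rw [e]
    exact L.sub_mem (hsq _) (hsq _)

theorem inv_mem_subring (L : Subring F) {a : F} (ha : a ∈ L) : a⁻¹ ∈ L := by
  by_cases h0 : a = 0
  · subst h0; rw [inv_zero]; exact zero_mem _
  have h1 := FiniteField.pow_card_sub_one_eq_one a h0
  obtain ⟨k, hk⟩ : ∃ k, Fintype.card F - 1 = k + 1 := ⟨Fintype.card F - 2, by
    have := Fintype.one_lt_card (α := F); omega⟩
  rw [hk, pow_succ] at h1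
  rw [← eq_inv_of_mul_eq_one_left h1]
  exact pow_mem ha k

theorem sq_card_subring_le (L : Subring F) (hL : L ≠ ⊤) : Nat.card L ^ 2 ≤ Fintype.card F := by
  obtain ⟨y, hy⟩ : ∃ y, y ∉ L := by
    by_contra h
    push Not at h
    exact hL (eq_top_iff.mpr fun x _ => h x)
  have inj : Function.Injective (fun x : L × L => (x.1 : F) + (x.2 : F) * y) := by
    intro a b hab
    simp only at hab
    by_cases h2 : a.2 = b.2
    · rw [h2, add_left_inj] at hab
      exact Prod.ext (Subtype.ext hab) h2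
    · exfalso
      have hne : (a.2 : F) - b.2 ≠ 0 := sub_ne_zero.mpr fun e => h2 (Subtype.ext e)
      have : y = ((b.1 : F) - a.1) * ((a.2 : F) - b.2)⁻¹ := by
        rw [eq_mul_inv_iff_mul_eq₀ hne]; linear_combination hab
      exact hy (this ▸ L.mul_mem (L.sub_mem b.1.2 a.1.2) (inv_mem_subring L (L.sub_mem a.2.2 b.2.2)))
  have := Nat.card_le_card_of_injective _ inj
  rwa [Nat.card_prod, ← sq, Nat.card_eq_fintype_card (α := F)] at this

theorem pow_card_subring (L : Subring F) :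
    ∃ p n : ℕ, Nat.card L = p ^ n ∧ CharP F p ∧ p.Prime ∧ ∀ x ∈ L, x ^ Nat.card L = x := by
  classical
  haveI : Fintype L := Fintype.ofFinite _
  letI : Field L := Fintype.fieldOfDomain L
  obtain ⟨p, hp⟩ := CharP.exists F
  haveI := hp
  haveI : Fact p.Prime := ⟨CharP.char_is_prime F p⟩
  haveI : CharP L p := (RingHom.charP_iff L.subtype Subtype.val_injective p).mpr hp
  obtain ⟨n, -, hn⟩ := FiniteField.card L p
  refine ⟨p, n, by rw [Nat.card_eq_fintype_card, hn], hp, Fact.out, fun x hx => ?_⟩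
  have := congrArg Subtype.val (FiniteField.pow_card (⟨x, hx⟩ : L))
  rw [Nat.card_eq_fintype_card]
  exact this

/-- For `ζ` a generator of the units of a field of odd order, `ζ³ + ζ⁻³` generates the field. -/
theorem closure_cube_trace_eq_top (hodd : Odd (Fintype.card F)) {ζ : F}
    (hord : orderOf ζ = Fintype.card F - 1) (h0 : ζ ≠ 0) :
    Subring.closure ({ζ ^ 3 + (ζ ^ 3)⁻¹} : Set F) = ⊤ := by
  by_contra hne
  set L := Subring.closure ({ζ ^ 3 + (ζ ^ 3)⁻¹} : Set F) with hL
  obtain ⟨p, n, hr, hp, hpp, hfix⟩ := pow_card_subring L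
  haveI := hp
  haveI := Fact.mk hpp
  have hq := sq_card_subring_le L hne
  have hτ := hfix (ζ ^ 3 + (ζ ^ 3)⁻¹) (Subring.subset_closure (Set.mem_singleton _))
  rw [hr, add_pow_char_pow, inv_pow] at hτ
  set ρ := ζ ^ 3 with hρ
  have hρ0 : ρ ≠ 0 := pow_ne_zero 3 h0
  have hR : ρ ^ (p ^ n) ≠ 0 := pow_ne_zero _ hρ0
  have h : (ρ ^ (p ^ n) - ρ) * (ρ ^ (p ^ n) * ρ - 1) = 0 := by
    field_simp at hτ
    linear_combination hτ
  have hqmod := Nat.odd_iff.mp hodd
  obtain ⟨m, -, hm⟩ := FiniteField.card F p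
  have hp2 : p ≠ 2 := by
    rintro rfl
    rw [hm] at hqmod
    simp [Nat.pow_mod] at hqmod
  have hn0 : n ≠ 0 := by
    rintro rfl
    have h1 : Nat.card L = 1 := by rw [hr, pow_zero]
    haveI := (Nat.card_eq_one_iff_unique.mp h1).1
    exact one_ne_zero (congrArg Subtype.val (Subsingleton.elim (1 : L) 0))
  have hpn : 3 ≤ p ^ n := by
    have := hpp.two_le
    calc 3 ≤ p := by omega
      _ = p ^ 1 := (pow_one p).symm
      _ ≤ p ^ n := Nat.pow_le_pow_right hpp.pos (Nat.one_le_iff_ne_zero.mpr hn0)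
  rw [hr] at hq
  have hpdvd : p ∣ Fintype.card F := hm ▸ dvd_pow_self p m.ne_zero
  have hdiv : Fintype.card F - 1 ∣ 3 * (p ^ n - 1) ∨ Fintype.card F - 1 ∣ 3 * (p ^ n + 1) := by
    rcases mul_eq_zero.mp h with e | e
    · left
      rw [← hord]
      refine orderOf_dvd_of_pow_eq_one ?_
      rw [pow_mul, ← hρ]
      refine mul_right_cancel₀ hρ0 ?_
      rw [one_mul, ← pow_succ, show p ^ n - 1 + 1 = p ^ n by omega]
      linear_combination e
    · right
      rw [← hord]
      refine orderOf_dvd_of_pow_eq_one ?_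
      rw [pow_mul, ← hρ, pow_succ]
      linear_combination e
  obtain ⟨r, hr'⟩ : ∃ r, p ^ n = r := ⟨_, rfl⟩
  rw [hr'] at hdiv hq hpn
  have hle : Fintype.card F - 1 ≤ 3 * (r + 1) := by
    rcases hdiv with d | d <;> have := Nat.le_of_dvd (by omega) d <;> omega
  have hr5 : r < 5 := by
    by_contra hc
    push Not at hc
    have : 5 * r ≤ r ^ 2 := by rw [sq]; exact Nat.mul_le_mul_right r hc
    omega
  have hp5 : p = 3 ∧ r = 3 := by
    have h1 : p ≤ r := hr' ▸ Nat.le_self_pow hn0 p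
    have h2 : Odd r := hr' ▸ (hpp.odd_of_ne_two hp2).pow
    rw [Nat.odd_iff] at h2
    have := hpp.two_le
    have : p ≤ 4 := by omega
    refine ⟨?_, by omega⟩
    interval_cases p
    · exact absurd rfl hp2
    · rfl
    · norm_num at hpp
  obtain ⟨rfl, rfl⟩ := hp5
  have h9 : 9 ≤ Fintype.card F := hq
  have h13 : Fintype.card F ≤ 13 := by omega
  obtain ⟨Q, hQ⟩ : ∃ Q, Fintype.card F = Q := ⟨_, rfl⟩
  rw [hQ] at hdiv hpdvd hqmod h9 h13
  interval_cases Q <;> norm_num at *

end Cfsg.Agent.Lib.KnownA
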