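import Mathlib

set_option autoImplicit false

/-!
Criteria used for generating non-solvable subgroups by two elements of prime power order.
-/

namespace Cfsg.Agent.KnownA.FreePair

open scoped commutatorElement

/-- Two generators of `p`-power order, `p` odd, whose products `ab`, `ab⁻¹` have order prime to `p`
generate a non-solvable group. -/
theorem perfect_crit {K : Type*} [Group K] (a b : K) (p i j m m' : ℕ) (hp : p.Prime) (hp3 : 3 ≤ p)
    (hgen : Subgroup.closure ({a, b} : Set K) = ⊤) (ha : a ^ p ^ i = 1) (hb : b ^ p ^ j = 1)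
    (hab : (a * b) ^ m = 1) (hab' : (a * b⁻¹) ^ m' = 1) (hm : m.Coprime p) (hm' : m'.Coprime p)
    (hne : a ≠ 1) : ¬ Group.IsSolvable K := by
  intro hs
  let A := Abelianization.of (G := K)
  have e1 : A a * A b = 1 := by
    refine orderOf_eq_one_iff.mp (Nat.eq_one_of_dvd_coprimes
      (Nat.Coprime.pow_right (i + j) hm) ?_ ?_)
    · apply orderOf_dvd_of_pow_eq_one; rw [← map_mul, ← map_pow, hab, map_one]
    · apply orderOf_dvd_of_pow_eq_one
      rw [mul_pow, ← map_pow, ← map_pow, pow_add]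
      rw [pow_mul, ha, one_pow, mul_comm (p ^ i), pow_mul, hb, one_pow, map_one, one_mul]
  have e2 : A a * (A b)⁻¹ = 1 := by
    refine orderOf_eq_one_iff.mp (Nat.eq_one_of_dvd_coprimes
      (Nat.Coprime.pow_right (i + j) hm') ?_ ?_)
    · apply orderOf_dvd_of_pow_eq_one; rw [← map_inv, ← map_mul, ← map_pow, hab', map_one]
    · apply orderOf_dvd_of_pow_eq_one
      rw [mul_pow, inv_pow, ← map_pow, ← map_pow, pow_add]
      rw [pow_mul, ha, one_pow, mul_comm (p ^ i), pow_mul, hb, one_pow, map_one, inv_one, one_mul]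
  have eb : A b = A a := (inv_mul_eq_one.mp (by rw [mul_comm]; exact e2))
  have ea2 : (A a) ^ 2 = 1 := by rw [pow_two]; nth_rw 2 [← eb]; exact e1
  have ea : A a = 1 := by
    refine orderOf_eq_one_iff.mp (Nat.eq_one_of_dvd_coprimes
      (Nat.Coprime.pow_right i (?_ : Nat.Coprime 2 p)) (orderOf_dvd_of_pow_eq_one ea2) ?_)
    · exact (Nat.coprime_primes Nat.prime_two hp).mpr (by omega)
    · apply orderOf_dvd_of_pow_eq_one; rw [← map_pow, ha, map_one]
  have hker : (Subgroup.closure ({a, b} : Set K)) ≤ A.ker := by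
    rw [Subgroup.closure_le]
    intro x hx
    rcases hx with rfl | rfl
    · exact ea
    · exact eb.trans ea
  rw [hgen, Abelianization.ker_of] at hker
  have : Nontrivial K := ⟨⟨a, 1, hne⟩⟩
  have := hs
  exact absurd (top_le_iff.mp hker) (Group.IsSolvable.commutator_lt_top_of_nontrivial K).ne

/-- A transitive group of odd degree with an element fixing exactly two points and transitive
stabilisers is not solvable. -/
theorem affine_crit {β : Type*} [Fintype β] (H : Subgroup (Equiv.Perm β))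
    (htr : ∀ z z' : β, ∃ h ∈ H, h z = z') (hodd : Odd (Fintype.card β))
    (x y : β) (hxy : x ≠ y) (s : Equiv.Perm β) (hs : s ∈ H)
    (hfix : ∀ z, s z = z ↔ z = x ∨ z = y)
    (hst : ∀ z z', z ≠ x → z' ≠ x → ∃ h ∈ H, h x = x ∧ h z = z') :
    ¬ Group.IsSolvable H := by
  classical
  intro hsol
  have hne : ⊤ ≠ (⊥ : Subgroup H) := by
    intro h
    obtain ⟨h0, hh0, e⟩ := htr x y
    have : (⟨h0, hh0⟩ : H) = 1 := by
      have := Subgroup.mem_top (⟨h0, hh0⟩ : H); rw [h] at this; exact this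
    have : h0 = 1 := congrArg Subtype.val this
    exact hxy (by rw [← e, this]; rfl)
  obtain ⟨N, hN, hN1, hNab⟩ : ∃ N : Subgroup H, N.Normal ∧ N ≠ ⊥ ∧
      ∀ a ∈ N, ∀ b ∈ N, a * b = b * a := by
    obtain ⟨k, hk⟩ := (Group.isSolvable_def H).mp hsol
    induction k with
    | zero => exact absurd hk hne
    | succ k ih =>
      by_cases h : derivedSeries H k = ⊥
      · exact ih h
      · refine ⟨derivedSeries H k, derivedSeries_normal H k, h, ?_⟩
        intro a ha b hb
        have : ⁅a, b⁆ ∈ derivedSeries H (k + 1) := Subgroup.commutator_mem_commutator ha hb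
        rw [hk, Subgroup.mem_bot] at this
        exact commutatorElement_eq_one_iff_mul_comm.mp this
  have conjm : ∀ h ∈ H, ∀ n ∈ N, ∃ n' ∈ N, (n' : Equiv.Perm β) = h * n * h⁻¹ :=
    fun h hh n hn => ⟨⟨h, hh⟩ * n * ⟨h, hh⟩⁻¹, hN.conj_mem n hn ⟨h, hh⟩, rfl⟩
  have mvx : ∃ n ∈ N, (n : Equiv.Perm β) x ≠ x := by
    by_contra! hall
    apply hN1
    rw [Subgroup.eq_bot_iff_forall]
    intro n hn
    apply Subtype.ext
    ext z
    obtain ⟨h, hh, e⟩ := htr x z
    obtain ⟨n', hn', en⟩ := conjm h⁻¹ (H.inv_mem hh) n hn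
    have := hall n' hn'
    rw [en] at this
    simp only [Equiv.Perm.mul_apply, inv_inv, e] at this
    have := congrArg h this
    simp only [Equiv.Perm.coe_inv, Equiv.apply_symm_apply, e] at this
    simpa using this
  have ntr : ∀ z, ∃ n ∈ N, (n : Equiv.Perm β) x = z := by
    intro z
    by_cases hz : z = x
    · exact ⟨1, N.one_mem, by rw [hz]; rfl⟩
    obtain ⟨n, hn, hnx⟩ := mvx
    obtain ⟨h, hh, hx0, he⟩ := hst _ z hnx hz
    obtain ⟨n', hn', en⟩ := conjm h hh n hn
    refine ⟨n', hn', ?_⟩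
    rw [en]
    have : h⁻¹ x = x := by rw [Equiv.Perm.inv_eq_iff_eq, hx0]
    simp only [Equiv.Perm.mul_apply, this, he]
  have reg : ∀ n ∈ N, (n : Equiv.Perm β) x = x → n = 1 := by
    intro n hn e
    apply Subtype.ext
    ext z
    obtain ⟨m, hm, rfl⟩ := ntr z
    have := congrArg (fun g : H => (g : Equiv.Perm β) x) (hNab n hn m hm)
    simp only [Subgroup.coe_mul, Equiv.Perm.mul_apply] at this
    rw [this, e]
    rfl
  obtain ⟨n, hn, enx⟩ := ntr y
  obtain ⟨n', hn', en⟩ := conjm s hs n hn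
  have hsx : s x = x := (hfix x).mpr (Or.inl rfl)
  have hsy : s y = y := (hfix y).mpr (Or.inr rfl)
  have hsix : s⁻¹ x = x := by rw [Equiv.Perm.inv_eq_iff_eq, hsx]
  have hsiy : s⁻¹ y = y := by rw [Equiv.Perm.inv_eq_iff_eq, hsy]
  have e1 : (n' : Equiv.Perm β) x = y := by
    rw [en]; simp only [Equiv.Perm.mul_apply, hsix, enx, hsy]
  have e2 : n' = n := by
    have h1 := reg (n⁻¹ * n') (N.mul_mem (N.inv_mem hn) hn') (by
      simp only [Subgroup.coe_mul, Subgroup.coe_inv, Equiv.Perm.mul_apply, e1]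
      rw [Equiv.Perm.inv_eq_iff_eq, enx])
    exact (inv_mul_eq_one.mp h1).symm
  have e3 : s ((n : Equiv.Perm β) y) = (n : Equiv.Perm β) y := by
    have h4 : (n' : Equiv.Perm β) y = (n : Equiv.Perm β) y := by rw [e2]
    rw [en] at h4
    simpa only [Equiv.Perm.mul_apply, hsiy] using h4
  rcases (hfix _).mp e3 with h | h
  · have h2 : n ^ 2 = 1 := by
      refine reg _ (N.pow_mem hn 2) ?_
      simp only [pow_two, Subgroup.coe_mul, Equiv.Perm.mul_apply, enx, h]
    have hcard : Fintype.card β = Nat.card N := by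
      rw [← Nat.card_eq_fintype_card]
      symm
      apply Nat.card_eq_of_bijective (fun m : N => ((m : H) : Equiv.Perm β) x)
      constructor
      · intro a b e
        have := reg ((a : H)⁻¹ * b) (N.mul_mem (N.inv_mem a.2) b.2) (by
          simp only [Subgroup.coe_mul, Subgroup.coe_inv, Equiv.Perm.mul_apply]
          rw [Equiv.Perm.inv_eq_iff_eq]; exact e.symm)
        exact Subtype.ext (inv_mul_eq_one.mp this)
      · intro z; obtain ⟨m, hm, e⟩ := ntr z; exact ⟨⟨m, hm⟩, e⟩
    have hd : orderOf (⟨n, hn⟩ : N) ∣ Fintype.card β := hcard ▸ orderOf_dvd_natCard _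
    have hd2 : orderOf (⟨n, hn⟩ : N) ∣ 2 := orderOf_dvd_of_pow_eq_one (Subtype.ext h2)
    have : orderOf (⟨n, hn⟩ : N) = 1 := by
      rcases (Nat.dvd_prime Nat.prime_two).mp hd2 with h1 | h1
      · exact h1
      · rw [h1] at hd
        rw [Nat.odd_iff] at hodd
        omega
    have : n = 1 := congrArg Subtype.val (orderOf_eq_one_iff.mp this)
    apply hxy
    rw [← enx, this]; rfl
  · have h5 : (n : Equiv.Perm β) y = (n : Equiv.Perm β) x := by rw [h, enx]
    exact hxy ((n : Equiv.Perm β).injective h5).symm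

variable {α β : Type*}

/-- Restriction of two permutations to the range of an embedding invariant under both. -/
theorem transfer (e : β ↪ α) (u w : Equiv.Perm α) (u0 w0 : Equiv.Perm β)
    (hu : ∀ i, u (e i) = e (u0 i)) (hw : ∀ i, w (e i) = e (w0 i)) :
    (¬ Group.IsSolvable ↥(Subgroup.closure ({u0, w0} : Set (Equiv.Perm β))) →
      ¬ Group.IsSolvable ↥(Subgroup.closure ({u, w} : Set (Equiv.Perm α)))) ∧
    orderOf (u0 * w0) ∣ orderOf (u * w) := by
  classical
  let S : Subgroup (Equiv.Perm α) :=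
    { carrier := {h | ∃ h0 : Equiv.Perm β, ∀ i, h (e i) = e (h0 i)}
      one_mem' := ⟨1, fun _ => rfl⟩
      mul_mem' := by
        rintro a b ⟨a0, ha⟩ ⟨b0, hb⟩
        exact ⟨a0 * b0, fun i => by simp only [Equiv.Perm.mul_apply, hb, ha]⟩
      inv_mem' := by
        rintro a ⟨a0, ha⟩
        refine ⟨a0⁻¹, fun i => ?_⟩
        rw [Equiv.Perm.inv_eq_iff_eq, ha]
        simp }
  have uniq : ∀ (h : S) (h0 : Equiv.Perm β), (∀ i, (h : Equiv.Perm α) (e i) = e (h0 i)) →
      h.2.choose = h0 := fun h h0 hh => Equiv.ext fun i =>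
        e.injective ((h.2.choose_spec i).symm.trans (hh i))
  let r : S →* Equiv.Perm β := MonoidHom.mk' (fun h => h.2.choose) (fun a b => uniq _ _ (fun i => by
    simp only [Subgroup.coe_mul, Equiv.Perm.mul_apply]
    rw [b.2.choose_spec i, a.2.choose_spec]))
  have huS : u ∈ S := ⟨u0, hu⟩
  have hwS : w ∈ S := ⟨w0, hw⟩
  have hle : Subgroup.closure ({u, w} : Set (Equiv.Perm α)) ≤ S := by
    rw [Subgroup.closure_le]; rintro x (rfl | rfl) <;> assumption
  let φ := r.comp (Subgroup.inclusion hle)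
  have hφu : r ⟨u, huS⟩ = u0 := uniq _ _ hu
  have hφw : r ⟨w, hwS⟩ = w0 := uniq _ _ hw
  refine ⟨fun hns hs => hns ?_, ?_⟩
  · have hrange : φ.range = Subgroup.closure ({u0, w0} : Set (Equiv.Perm β)) := by
      apply le_antisymm
      · rintro _ ⟨⟨h, hh⟩, rfl⟩
        change r ⟨h, hle hh⟩ ∈ _
        induction hh using Subgroup.closure_induction with
        | mem x hx =>
          have hx' := Subgroup.subset_closure (k := ({u, w} : Set (Equiv.Perm α))) hx
          rcases hx with rfl | rfl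
          · rw [show r ⟨_, hle hx'⟩ = u0 from hφu]; exact Subgroup.subset_closure (by simp)
          · rw [show r ⟨_, hle hx'⟩ = w0 from hφw]; exact Subgroup.subset_closure (by simp)
        | one => rw [show r ⟨1, hle (one_mem _)⟩ = 1 from map_one r]; exact one_mem _
        | mul x y hx hy ihx ihy =>
          rw [show r ⟨x * y, hle (mul_mem hx hy)⟩ = r ⟨x, hle hx⟩ * r ⟨y, hle hy⟩ from
            map_mul r ⟨x, hle hx⟩ ⟨y, hle hy⟩]
          exact mul_mem ihx ihy
        | inv x hx ih =>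
          rw [show r ⟨x⁻¹, hle (inv_mem hx)⟩ = (r ⟨x, hle hx⟩)⁻¹ from map_inv r ⟨x, hle hx⟩]
          exact inv_mem ih
      · rw [Subgroup.closure_le]
        rintro x (rfl | rfl)
        · exact ⟨⟨u, Subgroup.subset_closure (by simp)⟩, hφu⟩
        · exact ⟨⟨w, Subgroup.subset_closure (by simp)⟩, hφw⟩
    have := hs
    rw [← hrange]
    exact Group.isSolvable_of_surjective φ.rangeRestrict_surjective
  · have h1 : r (⟨u, huS⟩ * ⟨w, hwS⟩) = u0 * w0 := by rw [map_mul, hφu, hφw]
    rw [← h1]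
    refine (orderOf_map_dvd r _).trans ?_
    rw [← Subgroup.orderOf_coe]; rfl

end Cfsg.Agent.KnownA.FreePair
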