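import Cfsg.Agent.Lib.KnownA.FreePairModel

set_option autoImplicit false

/-!
Selecting cycles of a permutation of prime power order with a prescribed total length.
-/

namespace Cfsg.Agent.KnownA.FreePair

universe u

variable {α : Type u} [Fintype α] [DecidableEq α]

theorem select {ι : Type*} [DecidableEq ι] (f : ι → ℕ) (S : Finset ι) :
    ∀ R : ℕ, (∀ i ∈ S, f i ∣ R) → (∀ i ∈ S, ∀ j ∈ S, f i ≤ f j → f i ∣ f j) →
      R ≤ ∑ i ∈ S, f i → ∃ T ⊆ S, ∑ i ∈ T, f i = R := by
  induction S using Finset.strongInduction with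
  | H S ih =>
    intro R hR hch hsum
    by_cases h0 : R = 0
    · exact ⟨∅, Finset.empty_subset _, by simp [h0]⟩
    have hne : S.Nonempty := by
      by_contra h
      rw [Finset.not_nonempty_iff_eq_empty.mp h, Finset.sum_empty] at hsum
      omega
    obtain ⟨m, hm, hmax⟩ := Finset.exists_max_image S f hne
    have hmR : f m ≤ R := Nat.le_of_dvd (Nat.pos_of_ne_zero h0) (hR m hm)
    obtain ⟨T, hT, hTs⟩ := ih (S.erase m) (Finset.erase_ssubset hm) (R - f m)
      (fun i hi => Nat.dvd_sub (hR i (Finset.mem_of_mem_erase hi))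
        (hch i (Finset.mem_of_mem_erase hi) m hm (hmax i (Finset.mem_of_mem_erase hi))))
      (fun i hi j hj => hch i (Finset.mem_of_mem_erase hi) j (Finset.mem_of_mem_erase hj))
      (by
        have := Finset.add_sum_erase S f hm
        omega)
    refine ⟨insert m T, Finset.insert_subset hm (hT.trans (Finset.erase_subset _ _)), ?_⟩
    rw [Finset.sum_insert (fun h => Finset.notMem_erase m S (hT h)), hTs]
    omega

/-- Three transpositions interchanging two cycles of length three. -/
theorem exists_odd_comm_of_two_cycles (w : Equiv.Perm α) (q q' : α) (h : w (w (w q)) = q)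
    (h' : w (w (w q')) = q') :
    ∀ _ : q ≠ q', ∃ k : Equiv.Perm α, k.sign = -1 ∧
      ((w q ≠ q ∧ w q' ≠ q' ∧ w q' ≠ q ∧ w q' ≠ w (w q) ∧ w (w q) ≠ q' ∧ w q ≠ q' ∧ w q ≠ w (w q') ∧ w (w q') ≠ q) →
        k * w = w * k) := by
  intro hne
  refine ⟨Equiv.swap q q' * Equiv.swap (w q) (w q') * Equiv.swap (w (w q)) (w (w q')), ?_, ?_⟩
  · have h1 : w q ≠ w q' := fun e => hne (w.injective e)
    have h2 : w (w q) ≠ w (w q') := fun e => h1 (w.injective e)
    simp [map_mul, Equiv.Perm.sign_swap hne, Equiv.Perm.sign_swap h1, Equiv.Perm.sign_swap h2]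
  · rintro ⟨b1, b2, a1, a2, a3, a4, a5, a6⟩
    set A := Equiv.swap q q'
    set B := Equiv.swap (w q) (w q')
    set C := Equiv.swap (w (w q)) (w (w q'))
    have eA : w * A * w⁻¹ = B := (Equiv.swap_apply_apply w q q').symm
    have eB : w * B * w⁻¹ = C := (Equiv.swap_apply_apply w (w q) (w q')).symm
    have eC : w * C * w⁻¹ = A := by
      have := (Equiv.swap_apply_apply w (w (w q)) (w (w q'))).symm
      rwa [h, h'] at this
    have e : w * (A * B * C) * w⁻¹ = A * B * C := by
      calc w * (A * B * C) * w⁻¹ = (w * A * w⁻¹) * (w * B * w⁻¹) * (w * C * w⁻¹) := by group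
        _ = B * C * A := by rw [eA, eB, eC]
        _ = A * B * C := by
          have cAB : Commute A B := (Equiv.Perm.disjoint_iff_disjoint_support.mpr (by
            rw [Equiv.Perm.support_swap hne, Equiv.Perm.support_swap (fun e => hne (w.injective e))]
            simp only [Finset.disjoint_left, Finset.mem_insert, Finset.mem_singleton]
            rintro z (rfl | rfl) (e | e)
            · exact b1 e.symm
            · exact a1 e.symm
            · exact a4 e.symm
            · exact b2 e.symm)).commute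
          have cAC : Commute A C := (Equiv.Perm.disjoint_iff_disjoint_support.mpr (by
            rw [Equiv.Perm.support_swap hne, Equiv.Perm.support_swap
              (fun e => hne (w.injective (w.injective e)))]
            simp only [Finset.disjoint_left, Finset.mem_insert, Finset.mem_singleton]
            rintro z (rfl | rfl) (e | e)
            · exact b1 ((congrArg w e).trans h)
            · exact a6 e.symm
            · exact a3 e.symm
            · exact b2 ((congrArg w e).trans h'))).commute
          rw [mul_assoc A B C]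
          exact ((cAB.mul_right cAC).eq).symm
    exact (mul_inv_eq_iff_eq_mul.mp e).symm

-- Orbit representatives and periods. -/
theorem exists_cycle_list (w : Equiv.Perm α) :
    ∃ (Ω : Type u) (_ : Fintype Ω) (r : Ω → α)
      (e : ((q : Ω) × Fin (Function.minimalPeriod w (r q))) ≃ α),
      (∀ q i, e ⟨q, i⟩ = (w ^ (i : ℕ)) (r q)) ∧
      ∑ q : Ω, Function.minimalPeriod w (r q) = Fintype.card α ∧
      ∀ x : α, ∃ q, Function.minimalPeriod w (r q) = Function.minimalPeriod w x := by
  classical
  let st := Equiv.Perm.SameCycle.setoid w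
  let Ω := Quotient st
  let r : Ω → α := Quotient.out
  have hpos : ∀ x, 0 < Function.minimalPeriod w x := fun x =>
    Function.IsPeriodicPt.minimalPeriod_pos (orderOf_pos w)
      (show w^[orderOf w] x = x by rw [← Equiv.Perm.coe_pow, pow_orderOf_eq_one]; rfl)
  let e : ((q : Ω) × Fin (Function.minimalPeriod w (r q))) → α := fun z => (w ^ (z.2 : ℕ)) (r z.1)
  have hsame : ∀ x, w.SameCycle (r (Quotient.mk st x)) x := fun x => Quotient.mk_out (s := st) x
  have hbij : Function.Bijective e := by
    constructor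
    · rintro ⟨q, i⟩ ⟨q', i'⟩ h
      have hq : q = q' := by
        rw [← Quotient.out_equiv_out]
        change w.SameCycle (r q) (r q')
        have h1 : w.SameCycle (r q) ((w ^ (i : ℕ)) (r q)) := ⟨(i : ℤ), by simp⟩
        have h2 : w.SameCycle (r q') ((w ^ (i' : ℕ)) (r q')) := ⟨(i' : ℤ), by simp⟩
        simp only [e] at h
        rw [h] at h1
        exact h1.trans h2.symm
      subst hq
      simp only [e, Equiv.Perm.coe_pow] at h
      congr 1
      exact Fin.ext ((Function.iterate_eq_iterate_iff_of_lt_minimalPeriod i.2 i'.2).mp h)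
    · intro x
      obtain ⟨k, -, hk⟩ := (hsame x).exists_pow_eq'
      refine ⟨⟨Quotient.mk st x, ⟨k % _, Nat.mod_lt _ (hpos _)⟩⟩, ?_⟩
      simp only [e, Equiv.Perm.coe_pow] at hk ⊢
      rw [Function.iterate_mod_minimalPeriod_eq]
      exact hk
  refine ⟨Ω, inferInstance, r, Equiv.ofBijective e hbij, fun _ _ => rfl, ?_, fun x => ?_⟩
  · rw [← Fintype.card_of_bijective hbij, Fintype.card_sigma]
    simp
  · refine ⟨Quotient.mk st x, ?_⟩
    obtain ⟨k, -, hk⟩ := (hsame x).exists_pow_eq'
    rw [Equiv.Perm.coe_pow] at hk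
    calc Function.minimalPeriod w (r (Quotient.mk st x))
        = Function.minimalPeriod w (w^[k] (r (Quotient.mk st x))) :=
          (Function.minimalPeriod_apply_iterate (Function.minimalPeriod_pos_iff_mem_periodicPts.mp
            (hpos _)) k).symm
      _ = _ := by rw [hk]

omit [Fintype α] [DecidableEq α] in
theorem period_pow {w : Equiv.Perm α} {p : ℕ} (hp : p.Prime) (hw : ∃ k, orderOf w = p ^ k) (x : α) :
    ∃ i, Function.minimalPeriod w x = p ^ i := by
  obtain ⟨k, hk⟩ := hw
  have : w^[p ^ k] x = x := by rw [← Equiv.Perm.coe_pow, ← hk, pow_orderOf_eq_one]; rfl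
  obtain ⟨i, -, hi⟩ := (Nat.dvd_prime_pow hp).mp (Function.IsPeriodicPt.minimalPeriod_dvd this)
  exact ⟨i, hi⟩

/-- Cycles of `w` of total length `A`, listed forwards. -/
theorem blocks (w : Equiv.Perm α) {p a A : ℕ} [NeZero A] (hp : p.Prime) (hp3 : 3 ≤ p)
    (hA : A = p ^ a) (hA5 : 5 ≤ A) (hw : ∃ k, orderOf w = p ^ k) (hw1 : w ≠ 1)
    (hper : ∀ x, Function.minimalPeriod w x ≤ A) (hn : A ≤ Fintype.card α) :
    ∃ (f : Fin A ↪ α) (v : Equiv.Perm (Fin A)) (B : ℕ) (l : List ℕ),
      (∀ i, w (f i) = f (v i)) ∧ Fwd v (B :: l) 0 ∧ 3 ≤ B ∧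
      (B = 3 → ∃ h : Equiv.Perm α, h.sign = -1 ∧ h * w = w * h) := by
  classical
  obtain ⟨Ω, _, r, e, he, hsum, hall⟩ := exists_cycle_list w
  let per : Ω → ℕ := fun q => Function.minimalPeriod w (r q)
  have hpp : ∀ q, ∃ i, per q = p ^ i := fun q => period_pow hp hw (r q)
  have hodd : ∀ q, Odd (per q) := fun q => by
    obtain ⟨i, hi⟩ := hpp q
    rw [hi]; exact (hp.odd_of_ne_two (by omega)).pow
  have hcyc : ∀ q (j : ℕ), (w ^ per q) (r q) = r q := fun q _ => by
    rw [Equiv.Perm.coe_pow]; exact Function.iterate_minimalPeriod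
  obtain ⟨x1, hx1⟩ : ∃ x, w x ≠ x := by
    by_contra! h
    exact hw1 (Equiv.ext h)
  obtain ⟨q0', hq0'⟩ := hall x1
  obtain ⟨q0, -, hmax⟩ := Finset.exists_max_image Finset.univ per ⟨q0', Finset.mem_univ _⟩
  set B := per q0 with hBdef
  have hB3 : 3 ≤ B := by
    refine le_trans ?_ (hmax q0' (Finset.mem_univ _))
    obtain ⟨i, hi⟩ := period_pow hp hw x1
    change 3 ≤ per q0'
    rw [show per q0' = p ^ i from hq0'.trans hi]
    rcases Nat.eq_zero_or_pos i with rfl | hi0
    · exact absurd (Function.minimalPeriod_eq_one_iff_isFixedPt.mp (by simpa using hi)) hx1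
    · exact hp3.trans (Nat.le_self_pow (by omega) p)
  have hdvd : ∀ q q', per q ≤ per q' → per q ∣ per q' := by
    intro q q' h
    obtain ⟨i, hi⟩ := hpp q
    obtain ⟨j, hj⟩ := hpp q'
    rw [hi, hj] at h ⊢
    exact pow_dvd_pow p ((Nat.pow_le_pow_iff_right hp.one_lt).mp h)
  have hdvdA : ∀ q, per q ∣ A := by
    intro q
    obtain ⟨i, hi⟩ := hpp q
    have := hper (r q)
    rw [show Function.minimalPeriod w (r q) = p ^ i from hi, hA] at this
    rw [hi, hA]
    exact pow_dvd_pow p ((Nat.pow_le_pow_iff_right hp.one_lt).mp this)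
  have hBA : B ≤ A := hper _
  obtain ⟨T, hT, hTs⟩ := select per (Finset.univ.erase q0) (A - B)
    (fun q _ => Nat.dvd_sub (hdvdA q) (hdvd q q0 (hmax q (Finset.mem_univ _))))
    (fun q _ q' _ => hdvd q q') (by
      have h2 := Finset.add_sum_erase Finset.univ per (Finset.mem_univ q0)
      have h3 : ∑ q : Ω, per q = Fintype.card α := hsum
      omega)
  have hq0T : q0 ∉ T := fun h => Finset.notMem_erase q0 _ (hT h)
  let ql := q0 :: T.toList
  let Lf : List Ω → List α := fun ql => (ql.sigma fun q => List.finRange (per q)).map e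
  have hqnd : ql.Nodup := List.nodup_cons.mpr ⟨by simpa using hq0T, T.nodup_toList⟩
  have hLnd : (Lf ql).Nodup :=
    (List.Nodup.sigma hqnd fun q => List.nodup_finRange _).map e.injective
  have hLlen : ∀ ql : List Ω, (Lf ql).length = (ql.map per).sum := by
    intro ql; simp [Lf, List.length_sigma]
  have hlen : (Lf ql).length = A := by
    rw [hLlen]
    simp only [ql, List.map_cons, List.sum_cons, Finset.sum_map_toList, hTs]
    omega
  let f : Fin A ↪ α := ⟨fun i => (Lf ql)[i.val]'(by omega), fun i j h =>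
    Fin.ext ((List.Nodup.getElem_inj_iff hLnd).mp h)⟩
  have hfmem : ∀ i, f i ∈ Lf ql := fun i => List.getElem_mem _
  have hinv : ∀ i, ∃ j, w (f i) = f j := by
    intro i
    have h := hfmem i
    simp only [Lf, List.mem_map, List.mem_sigma, Sigma.exists, List.mem_finRange, and_true] at h
    obtain ⟨q, j, hq, hj⟩ := h
    have hmem : w (f i) ∈ Lf ql := by
      simp only [Lf, List.mem_map, List.mem_sigma, Sigma.exists, List.mem_finRange, and_true]
      refine ⟨q, ⟨((j : ℕ) + 1) % per q, Nat.mod_lt _ (hodd q).pos⟩, hq, ?_⟩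
      rw [← hj, he, he, ← Equiv.Perm.mul_apply, ← pow_succ', Equiv.Perm.coe_pow, Equiv.Perm.coe_pow]
      exact Function.iterate_mod_minimalPeriod_eq
    obtain ⟨k, hk, hk'⟩ := List.mem_iff_getElem.mp hmem
    exact ⟨⟨k, by omega⟩, hk'.symm⟩
  choose vf hvf using hinv
  have hvinj : Function.Injective vf := fun i j h =>
    f.injective (w.injective (by rw [hvf, hvf, h]))
  let v : Equiv.Perm (Fin A) := Equiv.ofBijective vf (Finite.injective_iff_bijective.mp hvinj)
  have hwf : ∀ i, w (f i) = f (v i) := hvf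
  have hf : ∀ k (hk : k < A), f (pt A k) = (Lf ql)[k]'(by omega) := by
    intro k hk
    change (Lf ql)[(pt A k).val]'_ = _
    simp only [pt, Nat.mod_eq_of_lt hk]
  have fwd : ∀ (l : List Ω) (a0 : ℕ), a0 + (Lf l).length = A →
      (∀ i (hi : i < (Lf l).length), f (pt A (a0 + i)) = (Lf l)[i]) → Fwd v (l.map per) a0 := by
    intro l
    induction l with
    | nil => intro a0 h _; simpa [Fwd, Lf] using h
    | cons q l ih =>
      intro a0 h hget
      have hsplit : Lf (q :: l) = ((List.finRange (per q)).map fun j => e ⟨q, j⟩) ++ Lf l := by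
        simp [Lf, List.sigma, List.map_append, Function.comp_def]
      have hll : (Lf (q :: l)).length = per q + (Lf l).length := by simp [hLlen]
      have hblock : ∀ j, j < per q → f (pt A (a0 + j)) = (w ^ j) (r q) := by
        intro j hj
        rw [hget j (by omega)]
        simp only [hsplit]
        rw [List.getElem_append_left (by simpa using hj)]
        simp [he]
      refine ⟨hodd q, ?_, ?_, ih (a0 + per q) (by omega) ?_⟩
      · intro j hj
        apply f.injective
        rw [← hwf, hblock j (by omega), show a0 + j + 1 = a0 + (j + 1) by omega,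
          hblock (j + 1) hj, pow_succ', Equiv.Perm.mul_apply]
      · have hp0 : 0 < per q := (hodd q).pos
        apply f.injective
        rw [← hwf, show a0 + per q - 1 = a0 + (per q - 1) by omega, hblock _ (by omega)]
        have h0 := hblock 0 hp0
        simp only [Nat.add_zero] at h0
        rw [h0, ← Equiv.Perm.mul_apply, ← pow_succ', show per q - 1 + 1 = per q by omega, hcyc q 0]
        rfl
      · intro i hi
        rw [show a0 + per q + i = a0 + (per q + i) by omega, hget (per q + i) (by omega)]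
        simp only [hsplit]
        rw [List.getElem_append_right (by simp)]
        simp
  refine ⟨f, v, B, T.toList.map per, hwf, ?_, hB3, ?_⟩
  · exact fwd ql 0 (by omega) (fun i hi => by simpa using hf i (by omega))
  intro hB
  have hle : ∀ q, per q ≤ 3 := fun q => hB ▸ hmax q (Finset.mem_univ _)
  have hwfix : ∀ q, per q = 1 → w (r q) = r q := fun q h =>
    Function.minimalPeriod_eq_one_iff_isFixedPt.mp h
  by_cases h3 : ∃ q ∈ T, per q = 3
  · obtain ⟨q, hq, hq3⟩ := h3
    have hne : q0 ≠ q := fun h => hq0T (h ▸ hq)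
    have e3 : ∀ q, per q = 3 → w (w (w (r q))) = r q := by
      intro q h
      have := hcyc q 0
      rw [h] at this
      exact this
    have self : ∀ q, per q = 3 → w (r q) ≠ r q := by
      intro q h h'
      have := Function.minimalPeriod_eq_one_iff_isFixedPt.mpr h'
      rw [show Function.minimalPeriod w (r q) = 3 from h] at this
      omega
    have diff : ∀ (i : Fin (per q0)) (j : Fin (per q)), (w ^ (i : ℕ)) (r q0) ≠ (w ^ (j : ℕ)) (r q) := by
      intro i j h
      rw [← he, ← he] at h
      exact hne (congrArg Sigma.fst (e.injective h))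
    obtain ⟨k, hk, hk'⟩ := exists_odd_comm_of_two_cycles w (r q0) (r q) (e3 q0 hB) (e3 q hq3)
      (diff ⟨0, by omega⟩ ⟨0, by omega⟩)
    exact ⟨k, hk, hk' ⟨self q0 hB, self q hq3, (diff ⟨0, by omega⟩ ⟨1, by omega⟩).symm, (diff ⟨2, by omega⟩ ⟨1, by omega⟩).symm,
      diff ⟨2, by omega⟩ ⟨0, by omega⟩, diff ⟨1, by omega⟩ ⟨0, by omega⟩,
      diff ⟨1, by omega⟩ ⟨2, by omega⟩, (diff ⟨0, by omega⟩ ⟨2, by omega⟩).symm⟩⟩
  · push Not at h3
    have h1 : ∀ q ∈ T, per q = 1 := by
      intro q hq
      obtain ⟨i, hi⟩ := hodd q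
      have := hle q
      have := h3 q hq
      omega
    have hcard : 1 < T.card := by
      have := Finset.sum_congr rfl h1
      rw [hTs, Finset.sum_const, smul_eq_mul, mul_one] at this
      omega
    obtain ⟨q, hq, q', hq', hne⟩ := Finset.one_lt_card.mp hcard
    have hne' : r q ≠ r q' := by
      intro h
      have hh := he q ⟨0, (hodd q).pos⟩
      have hh' := he q' ⟨0, (hodd q').pos⟩
      simp only [pow_zero, Equiv.Perm.one_apply] at hh hh'
      exact hne (congrArg Sigma.fst (e.injective (hh.trans (h.trans hh'.symm))))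
    refine ⟨Equiv.swap (r q) (r q'), Equiv.Perm.sign_swap hne', ?_⟩
    have := Equiv.swap_apply_apply w (r q) (r q')
    rw [hwfix q (h1 q hq), hwfix q' (h1 q' hq')] at this
    exact mul_inv_eq_iff_eq_mul.mp this.symm |>.symm

end Cfsg.Agent.KnownA.FreePair
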