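import Cfsg.Agent.Lib.KnownA.FreePairExtract

set_option autoImplicit false

/-!
Assembly: for `p`-elements `u, w` of the alternating group some conjugate `w'` of `w` has `u w'`
not a `p`-element and generates a non-solvable group with `u`.
-/

namespace Cfsg.Agent.KnownA.FreePair

variable {α : Type*} [Fintype α] [DecidableEq α]

/-- A conjugating element for the pair. -/
def Works (p : ℕ) (u w g : Equiv.Perm α) : Prop :=
  (¬ ∃ k : ℕ, orderOf (u * (g * w * g⁻¹)) = p ^ k) ∧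
    ¬ Group.IsSolvable ↥(Subgroup.closure ({u, g * w * g⁻¹} : Set (Equiv.Perm α)))

/-- An even conjugating element for the pair. -/
def Good (p : ℕ) (u w : Equiv.Perm α) : Prop := ∃ g : Equiv.Perm α, g.sign = 1 ∧ Works p u w g

omit [Fintype α] [DecidableEq α] in
theorem not_solvable_conj (h a b : Equiv.Perm α)
    (hns : ¬ Group.IsSolvable ↥(Subgroup.closure ({a, b} : Set (Equiv.Perm α)))) :
    ¬ Group.IsSolvable
      ↥(Subgroup.closure ({h * a * h⁻¹, h * b * h⁻¹} : Set (Equiv.Perm α))) := by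
  intro hs
  refine hns ?_
  have e : Subgroup.closure ({h * a * h⁻¹, h * b * h⁻¹} : Set (Equiv.Perm α)) =
      (Subgroup.closure ({a, b} : Set (Equiv.Perm α))).map (MulAut.conj h).toMonoidHom := by
    rw [MonoidHom.map_closure, Set.image_pair]
    rfl
  rw [e] at hs
  have := hs
  exact Group.isSolvable_of_isSolvable_injective (f :=
    (Subgroup.equivMapOfInjective _ (MulAut.conj h).toMonoidHom (MulAut.conj h).injective).toMonoidHom) (MulEquiv.injective _)

omit [Fintype α] [DecidableEq α] in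
theorem orderOf_conj' (h a : Equiv.Perm α) : orderOf (h * a * h⁻¹) = orderOf a :=
  orderOf_injective (MulAut.conj h).toMonoidHom (MulAut.conj h).injective a

theorem Works.fix_parity {p : ℕ} {u w g : Equiv.Perm α} (hg : Works p u w g)
    (hh : ∃ h : Equiv.Perm α, h.sign = -1 ∧ (h * u = u * h ∨ h * w = w * h)) : Good p u w := by
  rcases Int.units_eq_one_or g.sign with hs | hs
  · exact ⟨g, hs, hg⟩
  obtain ⟨h, hh1, hh2 | hh2⟩ := hh
  · refine ⟨h * g, by simp [hs, hh1], ?_⟩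
    have eu : h * u * h⁻¹ = u := by rw [hh2, mul_inv_cancel_right]
    have e : h * g * w * (h * g)⁻¹ = h * (g * w * g⁻¹) * h⁻¹ := by group
    refine ⟨?_, ?_⟩
    · have : u * (h * g * w * (h * g)⁻¹) = h * (u * (g * w * g⁻¹)) * h⁻¹ := by
        rw [e]; nth_rw 1 [← eu]; group
      rw [this, orderOf_conj']
      exact hg.1
    · rw [e]
      have := not_solvable_conj h _ _ hg.2
      rwa [eu] at this
  · refine ⟨g * h, by simp [hs, hh1], ?_⟩
    have ew : h * w * h⁻¹ = w := by rw [hh2, mul_inv_cancel_right]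
    have e : g * h * w * (g * h)⁻¹ = g * w * g⁻¹ := by
      rw [show g * h * w * (g * h)⁻¹ = g * (h * w * h⁻¹) * g⁻¹ by group, ew]
    unfold Works
    rw [e]
    exact hg

theorem Good.symm {p : ℕ} {u w : Equiv.Perm α} (hg : Good p u w) : Good p w u := by
  obtain ⟨g, hs, h1, h2⟩ := hg
  refine ⟨g⁻¹, by simp [hs], ?_, ?_⟩
  · have : w * (g⁻¹ * u * g⁻¹⁻¹) = (g⁻¹ * u⁻¹) * (u * (g * w * g⁻¹)) * (g⁻¹ * u⁻¹)⁻¹ := by group
    rw [this, orderOf_conj']
    exact h1
  · have := not_solvable_conj g⁻¹ _ _ h2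
    rw [show g⁻¹ * (g * w * g⁻¹) * g⁻¹⁻¹ = w by group, Set.pair_comm] at this
    exact this

omit [DecidableEq α] in
theorem exists_extend {β : Type*} [Fintype β] (f e : β ↪ α) :
    ∃ g : Equiv.Perm α, ∀ i, g (f i) = e i := by
  classical
  exact ⟨(((Equiv.ofInjective f f.injective).symm.trans (Equiv.ofInjective e e.injective))).extendSubtype,
    fun i => by
      rw [Equiv.extendSubtype_apply_of_mem _ _ (Set.mem_range_self i)]
      simp⟩

omit [Fintype α] [DecidableEq α] in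
theorem works_of_model {β : Type*} {p : ℕ} (hp : p.Prime) {u w g : Equiv.Perm α} (e : β ↪ α)
    (u0 w0 : Equiv.Perm β) (hu : ∀ i, u (e i) = e (u0 i))
    (hw : ∀ i, (g * w * g⁻¹) (e i) = e (w0 i))
    (hns : ¬ Group.IsSolvable ↥(Subgroup.closure ({u0, w0} : Set (Equiv.Perm β))))
    (hord : ¬ ∃ k : ℕ, orderOf (u0 * w0) = p ^ k) : Works p u w g := by
  obtain ⟨h1, h2⟩ := transfer e u (g * w * g⁻¹) u0 w0 hu hw
  refine ⟨?_, h1 hns⟩
  rintro ⟨k, hk⟩
  rw [hk] at h2
  obtain ⟨i, -, hi⟩ := (Nat.dvd_prime_pow hp).mp h2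
  exact hord ⟨i, hi⟩

theorem model_small {β : Type*} {p : ℕ} (hp : p = 3) (u0 w0 : Equiv.Perm β) (m m' : ℕ)
    (hu : u0 ^ 3 = 1) (hw : w0 ^ 3 = 1) (hm : (u0 * w0) ^ m = 1) (hm' : (u0 * w0⁻¹) ^ m' = 1)
    (hc : m.Coprime 3) (hc' : m'.Coprime 3) (hu1 : u0 ≠ 1) (huw : u0 * w0 ≠ 1) :
    ¬ Group.IsSolvable ↥(Subgroup.closure ({u0, w0} : Set (Equiv.Perm β))) ∧
    ¬ ∃ k : ℕ, orderOf (u0 * w0) = p ^ k := by
  subst hp
  refine ⟨?_, ?_⟩
  · set H := Subgroup.closure ({u0, w0} : Set (Equiv.Perm β))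
    let a : H := ⟨u0, Subgroup.subset_closure (by simp)⟩
    let b : H := ⟨w0, Subgroup.subset_closure (by simp)⟩
    refine perfect_crit a b 3 1 1 m m' Nat.prime_three le_rfl ?_ (Subtype.ext (by simpa using hu))
      (Subtype.ext (by simpa using hw)) (Subtype.ext (by simpa using hm))
      (Subtype.ext (by simpa using hm')) hc hc' (fun h => hu1 (congrArg Subtype.val h))
    have : (({a, b} : Set H)) = Subtype.val ⁻¹' ({u0, w0} : Set (Equiv.Perm β)) := by
      ext x
      simp [a, b, Subtype.ext_iff]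
    rw [this]
    exact Subgroup.closure_closure_coe_preimage
  · rintro ⟨k, hk⟩
    have hd : orderOf (u0 * w0) ∣ m := orderOf_dvd_of_pow_eq_one hm
    rw [hk] at hd
    have : 3 ^ k = 1 := Nat.eq_one_of_dvd_coprimes (Nat.Coprime.pow_right k hc) hd dvd_rfl
    rw [this] at hk
    exact huw (orderOf_eq_one_iff.mp hk)

omit [Fintype α] [DecidableEq α] in
theorem fin_pow_semi {A : ℕ} [NeZero A] (u : Equiv.Perm α) (x : α)
    (hA : Function.minimalPeriod u x = A) :
    ∃ e : Fin A ↪ α, ∀ i, u (e i) = e (finRotate A i) := by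
  refine ⟨⟨fun i => (u ^ (i : ℕ)) x, fun i j h => ?_⟩, fun i => ?_⟩
  · simp only [Equiv.Perm.coe_pow] at h
    exact Fin.ext ((Function.iterate_eq_iterate_iff_of_lt_minimalPeriod (hA ▸ i.2) (hA ▸ j.2)).mp h)
  · change u ((u ^ (i : ℕ)) x) = (u ^ ((finRotate A i : Fin A) : ℕ)) x
    conv_rhs => rw [show i = pt A i.val from (pt_val i).symm, rot_pt]
    rw [← Equiv.Perm.mul_apply, ← pow_succ', Equiv.Perm.coe_pow, Equiv.Perm.coe_pow]
    simp only [pt]
    have h2 := Function.iterate_mod_minimalPeriod_eq (f := u) (x := x) (n := (i : ℕ) + 1)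
    rw [hA] at h2
    exact h2.symm

/-- The case of a longest cycle of length at least five. -/
theorem good_large {p a : ℕ} (hp : p.Prime) (hp3 : 3 ≤ p) (u w : Equiv.Perm α) (x : α)
    (hx : Function.minimalPeriod u x = p ^ a) (h5 : 5 ≤ p ^ a) (hw : ∃ k, orderOf w = p ^ k)
    (hw1 : w ≠ 1) (hper : ∀ y, Function.minimalPeriod w y ≤ p ^ a) : Good p u w := by
  classical
  set A := p ^ a with hA
  have : NeZero A := ⟨by omega⟩
  have ha0 : a ≠ 0 := by rintro rfl; simp [hA] at h5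
  obtain ⟨e, he⟩ := fin_pow_semi u x hx
  have hn : A ≤ Fintype.card α := by simpa using Fintype.card_le_of_embedding e
  obtain ⟨f, v, B, l, hf, hfwd, hB, hB3⟩ := blocks w hp hp3 hA h5 hw hw1 hper hn
  obtain ⟨g0, hg0⟩ := exists_extend f e
  have hgw : ∀ i, (g0 * w * g0⁻¹) (e i) = e (v i) := by
    intro i
    rw [Equiv.Perm.mul_apply, Equiv.Perm.mul_apply, Equiv.Perm.inv_eq_iff_eq.mpr (hg0 i).symm, hf, hg0]
  -- composing with an involution preserving the range
  have comp : ∀ (G : Equiv.Perm α) (σ : Equiv.Perm (Fin A)), σ * σ = 1 →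
      (∀ i, G (e i) = e (σ i)) →
      (¬ Group.IsSolvable
        ↥(Subgroup.closure ({finRotate A, σ * v * σ} : Set (Equiv.Perm (Fin A)))) ∧
      ¬ ∃ k : ℕ, orderOf (finRotate A * (σ * v * σ)) = p ^ k) → Works p u w (G * g0) := by
    intro G σ hσ hG hmodel
    refine works_of_model hp e (finRotate A) (σ * v * σ) he (fun i => ?_) hmodel.1 hmodel.2
    have hσ' : σ (σ i) = i := by rw [← Equiv.Perm.mul_apply, hσ]; rfl
    have hGi : G⁻¹ (e i) = e (σ i) := by rw [Equiv.Perm.inv_eq_iff_eq, hG, hσ']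
    have := hgw (σ i)
    simp only [Equiv.Perm.mul_apply] at this
    rw [mul_inv_rev]
    simp only [Equiv.Perm.mul_apply, hGi, this, hG]
  have hswap : ∀ i j k, Equiv.swap (e i) (e j) (e k) = e (Equiv.swap i j k) :=
    fun i j k => (e.injective.swap_apply i j k)
  have hne : ∀ i j, i < A → j < A → i ≠ j → e (pt A i) ≠ e (pt A j) :=
    fun i j hi hj h h' => h (pt_inj hi hj (e.injective h'))
  have w1 := comp (Equiv.swap (e (pt A 0)) (e (pt A 2))) _ (Equiv.swap_mul_self _ _)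
    (fun i => hswap _ _ i) (model_one h5 hp hp3 ha0 hA v B l hB hfwd)
  rcases Int.units_eq_one_or g0.sign with hs | hs
  · by_cases hB' : B = 3
    · obtain ⟨h, hh, hh'⟩ := hB3 hB'
      exact w1.fix_parity ⟨h, hh, Or.inr hh'⟩
    · have hB5 : 5 ≤ B := by
        obtain ⟨r, hr⟩ := hfwd.1
        omega
      have hBA : B ≤ A := by have := Fwd.le hfwd.2.2.2; omega
      refine ⟨Equiv.swap (e (pt A 1)) (e (pt A 2)) * Equiv.swap (e (pt A 3)) (e (pt A 4)) * g0, ?_,
        comp _ (Equiv.swap (pt A 1) (pt A 2) * Equiv.swap (pt A 3) (pt A 4)) ?_ (fun i => ?_)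
          (model_two h5 hp hp3 ha0 hA v B l hB5 hfwd)⟩
      · simp [hs, Equiv.Perm.sign_swap (hne 1 2 (by omega) (by omega) (by omega)),
          Equiv.Perm.sign_swap (hne 3 4 (by omega) (by omega) (by omega))]
      · have hd : Commute (Equiv.swap (pt A 1) (pt A 2)) (Equiv.swap (pt A 3) (pt A 4)) := by
          apply Equiv.Perm.Disjoint.commute
          rw [Equiv.Perm.disjoint_iff_disjoint_support,
            Equiv.Perm.support_swap (fun h => by have := pt_inj (by omega) (by omega) h; omega),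
            Equiv.Perm.support_swap (fun h => by have := pt_inj (by omega) (by omega) h; omega)]
          simp only [Finset.disjoint_left, Finset.mem_insert, Finset.mem_singleton]
          rintro z (rfl | rfl) (h | h) <;>
            · have := pt_inj (by omega) (by omega) h
              omega
        rw [hd.symm.mul_mul_mul_comm, Equiv.swap_mul_self, one_mul, Equiv.swap_mul_self]
      · simp only [Equiv.Perm.mul_apply, hswap]
  · exact ⟨_, by simp [hs, Equiv.Perm.sign_swap (hne 0 2 (by omega) (by omega) (by omega))], w1⟩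

section Small

/-- `(0 1 2)` on five points. -/
def five0 : Equiv.Perm (Fin 5) := ⟨![1, 2, 0, 3, 4], ![2, 0, 1, 3, 4], by decide, by decide⟩

/-- `(2 3 4)` on five points. -/
def five1 : Equiv.Perm (Fin 5) := ⟨![0, 1, 3, 4, 2], ![0, 1, 4, 2, 3], by decide, by decide⟩

/-- `(0 1 2)(3 4 5)`. -/
def six0 : Equiv.Perm (Fin 6) := ⟨![1, 2, 0, 4, 5, 3], ![2, 0, 1, 5, 3, 4], by decide, by decide⟩

/-- `(0 3 1)`. -/
def six1 : Equiv.Perm (Fin 6) := ⟨![3, 0, 2, 1, 4, 5], ![1, 3, 2, 0, 4, 5], by decide, by decide⟩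

/-- `(0 1 3)(2 5 4)`. -/
def six2 : Equiv.Perm (Fin 6) := ⟨![1, 3, 5, 0, 2, 4], ![3, 0, 4, 1, 5, 2], by decide, by decide⟩

variable {u : Equiv.Perm α}

omit [Fintype α] [DecidableEq α] in
theorem three_cycle_ne (h3 : ∀ y, u (u (u y)) = y) {x : α} (hx : u x ≠ x) :
    u (u x) ≠ x ∧ u (u x) ≠ u x :=
  ⟨fun h => hx ((congrArg u h).symm.trans (h3 x)), fun h => hx (u.injective h)⟩

omit [Fintype α] [DecidableEq α] in
theorem other_cycle (h3 : ∀ y, u (u (u y)) = y) {x x' : α}
    (h' : x' ≠ x ∧ x' ≠ u x ∧ x' ≠ u (u x)) :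
    (u x' ≠ x ∧ u x' ≠ u x ∧ u x' ≠ u (u x)) ∧
      (u (u x') ≠ x ∧ u (u x') ≠ u x ∧ u (u x') ≠ u (u x)) := by
  refine ⟨⟨fun h => h'.2.2 ?_, fun h => h'.1 (u.injective h), fun h => h'.2.1 (u.injective h)⟩,
    ⟨fun h => h'.2.1 ?_, fun h => h'.2.2 ?_, fun h => h'.1 (u.injective (u.injective h))⟩⟩
  · rw [← h, h3]
  · rw [← h, h3]
  · rw [← h, h3]

theorem inj5 {γ : Type*} {a b c d e : γ} (h1 : a ≠ b) (h2 : a ≠ c) (h3 : a ≠ d) (h4 : a ≠ e)
    (h5 : b ≠ c) (h6 : b ≠ d) (h7 : b ≠ e) (h8 : c ≠ d) (h9 : c ≠ e) (h10 : d ≠ e) :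
    Function.Injective ![a, b, c, d, e] := by
  intro i j h
  fin_cases i <;> fin_cases j <;> simp_all [eq_comm]

theorem inj6 {γ : Type*} {a b c d e f : γ} (h1 : a ≠ b) (h2 : a ≠ c) (h3 : a ≠ d) (h4 : a ≠ e)
    (h5 : b ≠ c) (h6 : b ≠ d) (h7 : b ≠ e) (h8 : c ≠ d) (h9 : c ≠ e) (h10 : d ≠ e)
    (k1 : a ≠ f) (k2 : b ≠ f) (k3 : c ≠ f) (k4 : d ≠ f) (k5 : e ≠ f) :
    Function.Injective ![a, b, c, d, e, f] := by
  intro i j h
  fin_cases i <;> fin_cases j <;> simp_all [eq_comm]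

end Small

omit [DecidableEq α] in
theorem works_of_embeddings {β : Type*} [Fintype β] {u w : Equiv.Perm α} (e f : β ↪ α)
    (u0 w0 : Equiv.Perm β) (hu : ∀ i, u (e i) = e (u0 i)) (hw : ∀ i, w (f i) = f (w0 i))
    (h : ¬ Group.IsSolvable ↥(Subgroup.closure ({u0, w0} : Set (Equiv.Perm β))) ∧
      ¬ ∃ k : ℕ, orderOf (u0 * w0) = 3 ^ k) : ∃ g, Works 3 u w g := by
  classical
  obtain ⟨g, hg⟩ := exists_extend f e
  refine ⟨g, works_of_model Nat.prime_three e u0 w0 hu (fun i => ?_) h.1 h.2⟩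
  rw [Equiv.Perm.mul_apply, Equiv.Perm.mul_apply, Equiv.Perm.inv_eq_iff_eq.mpr (hg i).symm, hw, hg]

/-- Six points: `u` has two three-cycles. -/
theorem good_six (hn : 5 ≤ Fintype.card α) (u w : Equiv.Perm α) (hu : u ≠ 1) (hw : w ≠ 1)
    (hu3 : ∀ y, u (u (u y)) = y) (hw3 : ∀ y, w (w (w y)) = y)
    (hfew : ¬ ∃ a b, a ≠ b ∧ u a = a ∧ u b = b) : Good 3 u w := by
  classical
  obtain ⟨x, hx⟩ : ∃ x, u x ≠ x := by by_contra! h; exact hu (Equiv.ext h)
  obtain ⟨y, hy⟩ : ∃ y, w y ≠ y := by by_contra! h; exact hw (Equiv.ext h)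
  push Not at hfew
  obtain ⟨x', hx', hxo⟩ : ∃ x', u x' ≠ x' ∧ (x' ≠ x ∧ x' ≠ u x ∧ x' ≠ u (u x)) := by
    by_contra! hc
    have hsub : (Finset.univ : Finset α) ⊆
        {x, u x, u (u x)} ∪ Finset.univ.filter (fun z => u z = z) := by
      intro z _
      by_cases hz : u z = z
      · simp [hz]
      · simp only [Finset.mem_union, Finset.mem_insert, Finset.mem_singleton]
        by_contra! hz'
        exact hz'.1.2.2 (hc z hz hz'.1.1 hz'.1.2.1)
    have h1 := (Finset.card_le_card hsub).trans (Finset.card_union_le _ _)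
    have h2 : (Finset.univ.filter (fun z => u z = z)).card ≤ 1 := by
      rw [Finset.card_le_one]
      intro a ha b hb
      by_contra hne
      exact hfew a b hne (Finset.mem_filter.mp ha).2 (Finset.mem_filter.mp hb).2
    have h3 := Finset.card_le_three (a := x) (b := u x) (c := u (u x))
    rw [Finset.card_univ] at h1
    omega
  obtain ⟨o1, o2⟩ := other_cycle hu3 hxo
  obtain ⟨p1, p2⟩ := three_cycle_ne hu3 hx
  obtain ⟨q1, q2⟩ := three_cycle_ne hu3 hx'
  have he : Function.Injective ![x, u x, u (u x), x', u x', u (u x')] :=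
    inj6 hx.symm p1.symm hxo.1.symm o1.1.symm p2.symm hxo.2.1.symm o1.2.1.symm hxo.2.2.symm
      o1.2.2.symm hx'.symm o2.1.symm o2.2.1.symm o2.2.2.symm q1.symm q2.symm
  let e : Fin 6 ↪ α := ⟨_, he⟩
  have heu : ∀ i, u (e i) = e (six0 i) := by
    intro i; fin_cases i <;> simp [e, six0, hu3]
  have hodd : ∃ h : Equiv.Perm α, h.sign = -1 ∧ (h * u = u * h ∨ h * w = w * h) := by
    obtain ⟨k, hk, hk'⟩ := exists_odd_comm_of_two_cycles u x x' (hu3 x) (hu3 x') hxo.1.symm
    exact ⟨k, hk, Or.inl (hk' ⟨hx, hx', o1.1, o1.2.2, hxo.2.2.symm, hxo.2.1.symm,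
      o2.2.1.symm, o2.1⟩)⟩
  obtain ⟨r1, r2⟩ := three_cycle_ne hw3 hy
  have hn6 : 6 ≤ Fintype.card α := by simpa using Fintype.card_le_of_embedding e
  by_cases hsec : ∃ y', w y' ≠ y' ∧ (y' ≠ y ∧ y' ≠ w y ∧ y' ≠ w (w y))
  · obtain ⟨y', hy', hyo⟩ := hsec
    obtain ⟨s1, s2⟩ := other_cycle hw3 hyo
    obtain ⟨t1, t2⟩ := three_cycle_ne hw3 hy'
    have hf : Function.Injective ![y, w y, y', w (w y), w (w y'), w y'] :=
      inj6 hy.symm hyo.1.symm r1.symm s2.1.symm hyo.2.1.symm r2.symm s2.2.1.symm hyo.2.2 t1.symm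
        s2.2.2.symm s1.1.symm s1.2.1.symm hy'.symm s1.2.2.symm t2
    obtain ⟨g, hg⟩ := works_of_embeddings (w := w) e ⟨_, hf⟩ six0 six2 heu
      (fun i => by fin_cases i <;> simp [six2, hw3])
      (model_small rfl six0 six2 5 5 (by decide) (by decide) (by decide) (by decide) (by decide)
        (by decide) (by decide) (by decide))
    exact hg.fix_parity hodd
  · push Not at hsec
    have hfix : ∀ z, z ∉ ({y, w y, w (w y)} : Finset α) → w z = z := by
      intro z hz
      simp only [Finset.mem_insert, Finset.mem_singleton, not_or] at hz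
      by_contra h
      exact hz.2.2 (hsec z h hz.1 hz.2.1)
    have hcard : 2 < (Finset.univ \ ({y, w y, w (w y)} : Finset α)).card := by
      rw [Finset.card_sdiff, Finset.inter_univ, Finset.card_univ]
      have := Finset.card_le_three (a := y) (b := w y) (c := w (w y))
      omega
    obtain ⟨a, ha, b, hb, c, hc, hab, hac, hbc⟩ := Finset.two_lt_card.mp hcard
    simp only [Finset.mem_sdiff, Finset.mem_univ, true_and] at ha hb hc
    have fa := hfix a ha
    have fb := hfix b hb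
    have fc := hfix c hc
    simp only [Finset.mem_insert, Finset.mem_singleton, not_or] at ha hb hc
    have hf : Function.Injective ![y, w (w y), a, w y, b, c] :=
      inj6 r1.symm (Ne.symm ha.1) hy.symm (Ne.symm hb.1) (Ne.symm ha.2.2) r2 (Ne.symm hb.2.2) ha.2.1
        hab (Ne.symm hb.2.1) (Ne.symm hc.1) (Ne.symm hc.2.2) hac (Ne.symm hc.2.1) hbc
    obtain ⟨g, hg⟩ := works_of_embeddings (w := w) e ⟨_, hf⟩ six0 six1 heu
      (fun i => by fin_cases i <;> simp [six1, hw3, fa, fb, fc])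
      (model_small rfl six0 six1 5 4 (by decide) (by decide) (by decide) (by decide) (by decide)
        (by decide) (by decide) (by decide))
    exact hg.fix_parity hodd

/-- All cycles have length three. -/
theorem good_three (hn : 5 ≤ Fintype.card α) (u w : Equiv.Perm α) (hu : u ≠ 1) (hw : w ≠ 1)
    (hu3 : ∀ y, u (u (u y)) = y) (hw3 : ∀ y, w (w (w y)) = y) : Good 3 u w := by
  by_cases hua : ∃ a b, a ≠ b ∧ u a = a ∧ u b = b
  swap
  · exact good_six hn u w hu hw hu3 hw3 hua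
  by_cases hwa : ∃ a b, a ≠ b ∧ w a = a ∧ w b = b
  swap
  · exact (good_six hn w u hw hu hw3 hu3 hwa).symm
  obtain ⟨a, b, hab, ha, hb⟩ := hua
  obtain ⟨c, d, hcd, hc, hd⟩ := hwa
  obtain ⟨x, hx⟩ : ∃ x, u x ≠ x := by by_contra! h; exact hu (Equiv.ext h)
  obtain ⟨y, hy⟩ : ∃ y, w y ≠ y := by by_contra! h; exact hw (Equiv.ext h)
  obtain ⟨p1, p2⟩ := three_cycle_ne hu3 hx
  obtain ⟨r1, r2⟩ := three_cycle_ne hw3 hy
  have nu : ∀ z, u z = z → x ≠ z ∧ u x ≠ z ∧ u (u x) ≠ z := fun z hz =>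
    ⟨fun h => hx (h ▸ hz), fun h => p2 (by rw [h, hz]), fun h => p1 (by
      have h2 := congrArg u h
      rw [hu3, hz] at h2
      exact h.trans h2.symm)⟩
  have nw : ∀ z, w z = z → z ≠ y ∧ z ≠ w y ∧ z ≠ w (w y) := fun z hz =>
    ⟨fun h => hy (h ▸ hz), fun h => r2 (by rw [← h, hz]), fun h => r1 (by
      have h2 := congrArg w h.symm
      rw [hw3, hz] at h2
      exact h.symm.trans h2.symm)⟩
  have he : Function.Injective ![x, u x, u (u x), a, b] :=
    inj5 hx.symm p1.symm (nu a ha).1 (nu b hb).1 p2.symm (nu a ha).2.1 (nu b hb).2.1 (nu a ha).2.2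
      (nu b hb).2.2 hab
  have hf : Function.Injective ![c, d, y, w y, w (w y)] :=
    inj5 hcd (nw c hc).1 (nw c hc).2.1 (nw c hc).2.2 (nw d hd).1 (nw d hd).2.1 (nw d hd).2.2
      hy.symm r1.symm r2.symm
  obtain ⟨g, hg⟩ := works_of_embeddings (u := u) (w := w) ⟨_, he⟩ ⟨_, hf⟩ five0 five1
    (fun i => by fin_cases i <;> simp [five0, hu3, ha, hb])
    (fun i => by fin_cases i <;> simp [five1, hw3, hc, hd])
    (model_small rfl five0 five1 5 5 (by decide) (by decide) (by decide) (by decide) (by decide)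
      (by decide) (by decide) (by decide))
  refine hg.fix_parity ⟨Equiv.swap a b, Equiv.Perm.sign_swap hab, Or.inl ?_⟩
  have := Equiv.swap_apply_apply u a b
  rw [ha, hb] at this
  exact (mul_inv_eq_iff_eq_mul.mp this.symm).symm

/-- The main statement in the symmetric group. -/
theorem main {p : ℕ} (hp : p.Prime) (hp3 : 3 ≤ p) (hn : 5 ≤ Fintype.card α) (u w : Equiv.Perm α)
    (hu : ∃ k, orderOf u = p ^ k) (hw : ∃ k, orderOf w = p ^ k) (hu1 : u ≠ 1) (hw1 : w ≠ 1) :
    Good p u w := by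
  classical
  have : Nonempty α := Fintype.card_pos_iff.mp (by omega)
  obtain ⟨x, -, hx⟩ := Finset.exists_max_image Finset.univ (fun z => Function.minimalPeriod u z)
    Finset.univ_nonempty
  obtain ⟨y, -, hy⟩ := Finset.exists_max_image Finset.univ (fun z => Function.minimalPeriod w z)
    Finset.univ_nonempty
  obtain ⟨a, ha⟩ := period_pow hp hu x
  obtain ⟨b, hb⟩ := period_pow hp hw y
  have hux : ∀ z, Function.minimalPeriod u z ≤ p ^ a := fun z => ha ▸ hx z (Finset.mem_univ z)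
  have hwy : ∀ z, Function.minimalPeriod w z ≤ p ^ b := fun z => hb ▸ hy z (Finset.mem_univ z)
  by_cases h5 : 5 ≤ p ^ a ∨ 5 ≤ p ^ b
  · rcases le_total (p ^ b) (p ^ a) with h | h
    · exact good_large hp hp3 u w x ha (by omega) hw hw1 (fun z => (hwy z).trans h)
    · exact (good_large hp hp3 w u y hb (by omega) hu hu1 (fun z => (hux z).trans h)).symm
  push Not at h5
  obtain ⟨z, hz⟩ : ∃ z, u z ≠ z := by by_contra! h; exact hu1 (Equiv.ext h)
  obtain ⟨i, hi⟩ := period_pow hp hu z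
  have hi0 : i ≠ 0 := by
    rintro rfl
    exact hz (Function.minimalPeriod_eq_one_iff_isFixedPt.mp (by simpa using hi))
  have hp' : p = 3 := by
    have h1 := Nat.le_self_pow hi0 p
    have h2 := hux z
    rw [hi] at h2
    rcases (show p = 3 ∨ p = 4 by omega) with h | h
    · exact h
    · subst h; exact absurd hp (by decide)
  subst hp'
  have cube : ∀ (s : Equiv.Perm α), (∃ k, orderOf s = 3 ^ k) →
      (∀ z, Function.minimalPeriod s z < 5) → ∀ z, s (s (s z)) = z := by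
    intro s hs hlt z
    obtain ⟨j, hj⟩ := period_pow Nat.prime_three hs z
    have hj1 : j ≤ 1 := by
      by_contra hc
      have := hlt z
      rw [hj] at this
      have := Nat.pow_le_pow_right (show 0 < 3 by norm_num) (show 2 ≤ j by omega)
      omega
    have : Function.IsPeriodicPt s 3 z := Function.isPeriodicPt_iff_minimalPeriod_dvd.mpr (by
      rw [hj]; exact dvd_trans (pow_dvd_pow 3 hj1) (by simp))
    exact this
  exact good_three hn u w hu1 hw1 (cube u hu fun z => lt_of_le_of_lt (hux z) h5.1)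
    (cube w hw fun z => lt_of_le_of_lt (hwy z) h5.2)

end Cfsg.Agent.KnownA.FreePair
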