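import Cfsg.Agent.Lib.KnownA.FreePairBasic

set_option autoImplicit false

/-!
The model: a cycle of prime power length `A` times a permutation made of consecutive cycles.
-/

namespace Cfsg.Agent.KnownA.FreePair

variable {A : ℕ} [NeZero A]

/-- The residue of `k` as a point of `Fin A`. -/
def pt (A : ℕ) [NeZero A] (k : ℕ) : Fin A := ⟨k % A, Nat.mod_lt _ (Nat.pos_of_ne_zero (NeZero.ne A))⟩

theorem pt_inj {a b : ℕ} (ha : a < A) (hb : b < A) (h : pt A a = pt A b) : a = b := by
  have := congrArg Fin.val h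
  simpa [pt, Nat.mod_eq_of_lt ha, Nat.mod_eq_of_lt hb] using this

theorem pt_val (z : Fin A) : pt A z.val = z := Fin.ext (Nat.mod_eq_of_lt z.isLt)

theorem rot_pt (k : ℕ) : finRotate A (pt A k) = pt A (k + 1) := by
  rw [finRotate_apply]
  ext
  simp [pt, Fin.val_add, Nat.add_mod]

theorem swap_pt {a b k : ℕ} (ha : a < A) (hb : b < A) (hk : k < A) :
    Equiv.swap (pt A a) (pt A b) (pt A k) = pt A (if k = a then b else if k = b then a else k) := by
  split_ifs with h1 h2
  · subst h1; exact Equiv.swap_apply_left _ _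
  · subst h2; exact Equiv.swap_apply_right _ _
  · exact Equiv.swap_apply_of_ne_of_ne (fun h => h1 (pt_inj hk ha h)) (fun h => h2 (pt_inj hk hb h))

/-- `v` permutes forward the consecutive intervals of odd lengths `l` starting at `a`. -/
def Fwd (v : Equiv.Perm (Fin A)) : List ℕ → ℕ → Prop
  | [], a => a = A
  | b :: l, a => Odd b ∧ (∀ j, j + 1 < b → v (pt A (a + j)) = pt A (a + j + 1)) ∧
      v (pt A (a + b - 1)) = pt A a ∧ Fwd v l (a + b)

theorem Fwd.le {v : Equiv.Perm (Fin A)} : ∀ {l : List ℕ} {a : ℕ}, Fwd v l a → a ≤ A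
  | [], _, h => le_of_eq h
  | _ :: _, _, h => by have := Fwd.le h.2.2.2; omega

/-- Some power of `s` carries `k` to `0`. -/
def Reach (s : Equiv.Perm (Fin A)) (k : ℕ) : Prop := ∃ n : ℕ, (s ^ n) (pt A k) = pt A 0

theorem Reach.step {s : Equiv.Perm (Fin A)} {k k' : ℕ} (h : s (pt A k) = pt A k')
    (h' : Reach s k') : Reach s k := by
  obtain ⟨n, hn⟩ := h'
  exact ⟨n + 1, by rw [pow_succ, Equiv.Perm.mul_apply, h, hn]⟩

theorem Reach.chain {s : Equiv.Perm (Fin A)} {x m : ℕ}
    (h : ∀ i, i < m → s (pt A (x + 2 * i)) = pt A (x + 2 * i + 2))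
    (hend : Reach s (x + 2 * m)) : ∀ i, i ≤ m → Reach s (x + 2 * i) := by
  intro i hi
  induction m generalizing i with
  | zero => obtain rfl : i = 0 := by omega
            exact hend
  | succ m ih =>
    have hm : Reach s (x + 2 * m) := Reach.step (h m (by omega)) (by
      rw [show x + 2 * m + 2 = x + 2 * (m + 1) by omega]; exact hend)
    by_cases he : i = m + 1
    · exact he ▸ hend
    · exact ih (fun i hi => h i (by omega)) hm i (by omega)

theorem reach_zero (s : Equiv.Perm (Fin A)) : Reach s A := ⟨0, by simp [pt]⟩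

/-- The forward intervals all connect to `0`. -/
theorem reach_fwd {v v1 : Equiv.Perm (Fin A)} {B : ℕ}
    (hv1 : ∀ k k', B ≤ k → k < A → B ≤ k' → k' < A → v (pt A k) = pt A k' → v1 (pt A k) = pt A k') :
    ∀ (l : List ℕ) (a : ℕ), B ≤ a → Fwd v l a → ∀ k, a ≤ k → k ≤ A → Reach (finRotate A * v1) k
  | [], a, _, h, k, h1, h2 => by
    obtain rfl : k = A := by simp only [Fwd] at h; omega
    exact reach_zero _
  | b :: l, a, hB, h, k, h1, h2 => by
    obtain ⟨⟨r, hr⟩, hj, hlast, hrest⟩ := h
    have hle := Fwd.le hrest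
    have ih := reach_fwd hv1 l (a + b) (by omega) hrest
    set s := finRotate A * v1
    have hs1 : ∀ j, j + 1 < b → s (pt A (a + j)) = pt A (a + j + 2) := by
      intro j hjb
      simp only [s, Equiv.Perm.mul_apply,
        hv1 _ _ (by omega) (by omega) (by omega) (by omega) (hj j hjb), rot_pt]
    have hs2 : s (pt A (a + b - 1)) = pt A (a + 1) := by
      simp only [s, Equiv.Perm.mul_apply,
        hv1 _ _ (by omega) (by omega) (by omega) (by omega) hlast, rot_pt]
    have hodd : ∀ i, i ≤ r → Reach s (a + 1 + 2 * i) := by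
      apply Reach.chain
      · intro i hi
        have := hs1 (1 + 2 * i) (by omega)
        rwa [← add_assoc a 1 (2 * i)] at this
      · rw [show a + 1 + 2 * r = a + b by omega]; exact ih _ le_rfl hle
    have hlastR : Reach s (a + b - 1) := Reach.step hs2 (hodd 0 (Nat.zero_le r))
    have heven : ∀ i, i ≤ r → Reach s (a + 2 * i) := by
      apply Reach.chain
      · exact fun i hi => hs1 (2 * i) (by omega)
      · rw [show a + 2 * r = a + b - 1 by omega]; exact hlastR
    by_cases hk : a + b ≤ k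
    · exact ih k hk h2
    obtain ⟨i, hi | hi⟩ : ∃ i, k - a = 2 * i ∨ k - a = 2 * i + 1 :=
      ⟨(k - a) / 2, by omega⟩
    · rw [show k = a + 2 * i by omega]; exact heven i (by omega)
    · rw [show k = a + 1 + 2 * i by omega]; exact hodd i (by omega)

/-- From two fixed points and one further orbit to the two required properties. -/
theorem model_core (hA5 : 5 ≤ A) {p a : ℕ} (hp : p.Prime) (hp3 : 3 ≤ p) (ha : a ≠ 0) (hA : A = p ^ a)
    (v1 : Equiv.Perm (Fin A)) (x y : ℕ) (hx : x < A) (hy : y < A) (hxy : x ≠ y) (h0x : x ≠ 0)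
    (h0y : y ≠ 0)
    (hsx : (finRotate A * v1) (pt A x) = pt A x) (hsy : (finRotate A * v1) (pt A y) = pt A y)
    (hreach : ∀ k, k < A → k ≠ x → k ≠ y → Reach (finRotate A * v1) k) :
    ¬ Group.IsSolvable ↥(Subgroup.closure ({finRotate A, v1} : Set (Equiv.Perm (Fin A)))) ∧
    ¬ ∃ k : ℕ, orderOf (finRotate A * v1) = p ^ k := by
  classical
  set s := finRotate A * v1 with hs
  set H := Subgroup.closure ({finRotate A, v1} : Set (Equiv.Perm (Fin A)))
  have hsH : s ∈ H := H.mul_mem (Subgroup.subset_closure (by simp)) (Subgroup.subset_closure (by simp))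
  have hrH : finRotate A ∈ H := Subgroup.subset_closure (by simp)
  have hne : pt A x ≠ pt A y := fun h => hxy (pt_inj hx hy h)
  have hR : ∀ z, z ≠ pt A x → z ≠ pt A y → ∃ n : ℕ, (s ^ n) z = pt A 0 := by
    intro z h1 h2
    obtain ⟨n, hn⟩ := hreach z.val z.isLt (fun h => h1 (by rw [← h, pt_val]))
      (fun h => h2 (by rw [← h, pt_val]))
    exact ⟨n, by rw [← pt_val z]; exact hn⟩
  have rotpow : ∀ n k : ℕ, (finRotate A ^ n) (pt A k) = pt A (k + n) := by
    intro n
    induction n with
    | zero => intro k; rfl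
    | succ n ih => intro k; rw [pow_succ, Equiv.Perm.mul_apply, rot_pt, ih]; congr 1; omega
  have hfix : ∀ z, s z = z ↔ z = pt A x ∨ z = pt A y := by
    intro z
    refine ⟨fun h => ?_, ?_⟩
    · by_contra hc
      push Not at hc
      obtain ⟨n, hn⟩ := hR z hc.1 hc.2
      have hz : ∀ n : ℕ, (s ^ n) z = z := fun n => by
        induction n with
        | zero => rfl
        | succ n ih => rw [pow_succ, Equiv.Perm.mul_apply, h, ih]
      rw [hz] at hn
      have hall : ∀ w, w ≠ pt A x → w ≠ pt A y → w = pt A 0 := by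
        intro w h1 h2
        obtain ⟨m, hm⟩ := hR w h1 h2
        have := hz m
        rw [hn] at this
        exact (s ^ m).injective (hm.trans this.symm)
      have hsurj : (Finset.univ : Finset (Fin A)) ⊆ {pt A x, pt A y, pt A 0} := by
        intro w _
        by_cases h1 : w = pt A x
        · simp [h1]
        by_cases h2 : w = pt A y
        · simp [h2]
        simp [hall w h1 h2]
      have h3 := (Finset.card_le_card hsurj).trans Finset.card_le_three
      simp only [Finset.card_univ, Fintype.card_fin] at h3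
      omega
    · rintro (rfl | rfl) <;> assumption
  have htr : ∀ z z' : Fin A, ∃ h ∈ H, h z = z' := by
    intro z z'
    refine ⟨finRotate A ^ (z'.val + (A - z.val)), H.pow_mem hrH _, ?_⟩
    rw [← pt_val z, rotpow]
    ext
    simp only [pt]
    have := z.isLt
    rw [show z.val % A = z.val from Nat.mod_eq_of_lt z.isLt] at *
    rw [show z.val + (z'.val + (A - z.val)) = z'.val + A by omega, Nat.add_mod_right,
      Nat.mod_eq_of_lt z'.isLt]
  have hodd : Odd A := hA ▸ ((hp.odd_of_ne_two (by omega)).pow)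
  refine ⟨affine_crit H htr (by simpa using hodd) (pt A x) (pt A y) hne s hsH hfix ?_, ?_⟩
  · have step : ∀ z, z ≠ pt A x → ∃ h ∈ H, h (pt A x) = pt A x ∧ h z = pt A 0 := by
      intro z hz
      by_cases hzy : z = pt A y
      · subst hzy
        obtain ⟨k, hkH, hk, hkx⟩ : ∃ k ∈ H, k (pt A y) = pt A x ∧ k (pt A x) ≠ pt A y := by
          refine ⟨finRotate A ^ (x + A - y), H.pow_mem hrH _, ?_, ?_⟩
          · rw [rotpow]
            apply Fin.ext
            simp only [pt]
            rw [show y + (x + A - y) = x + A by omega, Nat.add_mod_right]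
          · rw [rotpow]
            intro h
            have h' := congrArg Fin.val h
            simp only [pt] at h'
            rw [Nat.mod_eq_of_lt hy] at h'
            have hd := Nat.div_add_mod (x + (x + A - y)) A
            rw [h'] at hd
            obtain ⟨t, ht⟩ := hodd
            have hq : (x + (x + A - y)) / A < 3 := (Nat.div_lt_iff_lt_mul (by omega)).mpr (by omega)
            interval_cases hq' : (x + (x + A - y)) / A <;> omega
        have hk' : k⁻¹ (pt A x) = pt A y := by rw [Equiv.Perm.inv_eq_iff_eq, hk]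
        set s' := k * s * k⁻¹
        have hs'x : s' (pt A x) = pt A x := by
          simp only [s', Equiv.Perm.mul_apply, hk', hsy, hk]
        have hs'y : s' (pt A y) ≠ pt A y := by
          intro h
          have h5 : s (k⁻¹ (pt A y)) = k⁻¹ (pt A y) := by
            apply k.injective
            simpa [s'] using h
          rcases (hfix _).mp h5 with h6 | h6
          · rw [Equiv.Perm.inv_eq_iff_eq] at h6; exact hkx h6.symm
          · rw [Equiv.Perm.inv_eq_iff_eq, hk] at h6
            exact hne h6.symm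
        obtain ⟨n, hn⟩ := hR (s' (pt A y)) (fun h => hne (s'.injective (hs'x.trans h.symm)))
          hs'y
        refine ⟨s ^ n * s', H.mul_mem (H.pow_mem hsH n)
          (H.mul_mem (H.mul_mem hkH hsH) (H.inv_mem hkH)), ?_, ?_⟩
        · rw [Equiv.Perm.mul_apply, hs'x]; exact Equiv.Perm.pow_apply_eq_self_of_apply_eq_self hsx n
        · rw [Equiv.Perm.mul_apply, hn]
      · obtain ⟨n, hn⟩ := hR z hz hzy
        exact ⟨s ^ n, H.pow_mem hsH n, Equiv.Perm.pow_apply_eq_self_of_apply_eq_self hsx n, hn⟩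
    intro z z' hz hz'
    obtain ⟨h, hh, h1, h2⟩ := step z hz
    obtain ⟨h', hh', h1', h2'⟩ := step z' hz'
    refine ⟨h'⁻¹ * h, H.mul_mem (H.inv_mem hh') hh, ?_, ?_⟩
    · rw [Equiv.Perm.mul_apply, h1, Equiv.Perm.inv_eq_iff_eq, h1']
    · rw [Equiv.Perm.mul_apply, h2, Equiv.Perm.inv_eq_iff_eq, h2']
  · rintro ⟨k, hk⟩
    have : Fact p.Prime := ⟨hp⟩
    have hP : IsPGroup p ↥(Subgroup.zpowers s) :=
      IsPGroup.of_card (by rw [Nat.card_zpowers, hk])
    have hm := hP.card_modEq_card_fixedPoints (Fin A)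
    have hset : MulAction.fixedPoints ↥(Subgroup.zpowers s) (Fin A) = {pt A x, pt A y} := by
      ext z
      simp only [Set.mem_insert_iff, Set.mem_singleton_iff, MulAction.mem_fixedPoints]
      rw [← hfix]
      refine ⟨fun h => h ⟨s, Subgroup.mem_zpowers s⟩, fun h g => ?_⟩
      obtain ⟨_, i, rfl⟩ := g
      exact Equiv.Perm.zpow_apply_eq_self_of_apply_eq_self h i
    rw [hset, Nat.card_fin, Nat.card_coe_set_eq, Set.ncard_pair hne, hA] at hm
    unfold Nat.ModEq at hm
    rw [Nat.mod_eq_zero_of_dvd (dvd_pow_self p ha), Nat.mod_eq_of_lt (by omega : 2 < p)] at hm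
    omega

/-- The conjugate of `v` with the points `0` and `2` exchanged. -/
theorem model_one (hA5 : 5 ≤ A) {p a : ℕ} (hp : p.Prime) (hp3 : 3 ≤ p) (ha : a ≠ 0) (hA : A = p ^ a)
    (v : Equiv.Perm (Fin A)) (B : ℕ) (l : List ℕ) (hB : 3 ≤ B) (h : Fwd v (B :: l) 0) :
    let σ := Equiv.swap (pt A 0) (pt A 2)
    ¬ Group.IsSolvable ↥(Subgroup.closure ({finRotate A, σ * v * σ} : Set (Equiv.Perm (Fin A)))) ∧
    ¬ ∃ k : ℕ, orderOf (finRotate A * (σ * v * σ)) = p ^ k := by
  intro σ
  obtain ⟨⟨r, hr⟩, hj, hlast, hrest⟩ := h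
  simp only [Nat.zero_add] at hj hlast hrest
  have hle := Fwd.le hrest
  set v1 := σ * v * σ with hv1
  set s := finRotate A * v1 with hs
  have sw : ∀ k, k < A → σ (pt A k) = pt A (if k = 0 then 2 else if k = 2 then 0 else k) :=
    fun k hk => swap_pt (by omega) (by omega) hk
  have ev : ∀ k i m : ℕ, k < A → (if k = 0 then 2 else if k = 2 then 0 else k) = i →
      v (pt A i) = pt A m → m < A →
      s (pt A k) = pt A ((if m = 0 then 2 else if m = 2 then 0 else m) + 1) := by
    intro k i m hk hi hv hm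
    simp only [hs, hv1, Equiv.Perm.mul_apply, sw k hk, hi, hv, sw m hm, rot_pt]
  have s1 : s (pt A 1) = pt A 1 := by
    have := ev 1 1 2 (by omega) (by simp) (hj 1 (by omega)) (by omega)
    simpa using this
  have s2 : s (pt A 2) = pt A 2 := by
    have := ev 2 0 1 (by omega) (by simp) (hj 0 (by omega)) (by omega)
    simpa using this
  refine model_core hA5 hp hp3 ha hA v1 1 2 (by omega) (by omega) (by omega) (by omega) (by omega)
    s1 s2 ?_
  intro k hk hk1 hk2
  by_cases hkB : B ≤ k
  · refine reach_fwd (v := v) (B := B) ?_ l B le_rfl hrest k hkB hk.le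
    intro x x' hx hxA hx' hx'A hv
    simp only [hv1, Equiv.Perm.mul_apply, sw x hxA, if_neg (show x ≠ 0 by omega),
      if_neg (show x ≠ 2 by omega), hv, sw x' hx'A, if_neg (show x' ≠ 0 by omega),
      if_neg (show x' ≠ 2 by omega)]
  · by_cases hk0 : k = 0
    · subst hk0; exact ⟨0, rfl⟩
    have h3 : 3 ≤ k := by omega
    have hB5 : 5 ≤ B := by omega
    have hexit : Reach s B := by
      refine reach_fwd (v := v) (B := B) ?_ l B le_rfl hrest B le_rfl hle
      intro x x' hx hxA hx' hx'A hv
      simp only [hv1, Equiv.Perm.mul_apply, sw x hxA, if_neg (show x ≠ 0 by omega),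
        if_neg (show x ≠ 2 by omega), hv, sw x' hx'A, if_neg (show x' ≠ 0 by omega),
        if_neg (show x' ≠ 2 by omega)]
    have hmid : ∀ j, 3 ≤ j → j + 1 < B → s (pt A j) = pt A (j + 2) := by
      intro j h3 hjB
      have := ev j j (j + 1) (by omega)
        (by rw [if_neg (show j ≠ 0 by omega), if_neg (show j ≠ 2 by omega)]) (hj j hjB) (by omega)
      rwa [if_neg (show j + 1 ≠ 0 by omega), if_neg (show j + 1 ≠ 2 by omega)] at this
    have hodd : ∀ i, i ≤ r - 1 → Reach s (3 + 2 * i) := by
      apply Reach.chain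
      · exact fun i hi => hmid _ (by omega) (by omega)
      · rw [show 3 + 2 * (r - 1) = B by omega]; exact hexit
    have hlastR : Reach s (B - 1) := by
      refine Reach.step (k' := 3) ?_ (hodd 0 (Nat.zero_le _))
      have := ev (B - 1) (B - 1) 0 (by omega)
        (by rw [if_neg (show B - 1 ≠ 0 by omega), if_neg (show B - 1 ≠ 2 by omega)]) hlast (by omega)
      simpa using this
    have heven : ∀ i, i ≤ r - 2 → Reach s (4 + 2 * i) := by
      apply Reach.chain
      · exact fun i hi => hmid _ (by omega) (by omega)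
      · rw [show 4 + 2 * (r - 2) = B - 1 by omega]; exact hlastR
    obtain ⟨i, hi | hi⟩ : ∃ i, k - 3 = 2 * i ∨ k - 3 = 2 * i + 1 := ⟨(k - 3) / 2, by omega⟩
    · rw [show k = 3 + 2 * i by omega]; exact hodd i (by omega)
    · rw [show k = 4 + 2 * i by omega]; exact heven i (by omega)

/-- The conjugate of `v` with `1, 2` and `3, 4` exchanged. -/
theorem model_two (hA5 : 5 ≤ A) {p a : ℕ} (hp : p.Prime) (hp3 : 3 ≤ p) (ha : a ≠ 0) (hA : A = p ^ a)
    (v : Equiv.Perm (Fin A)) (B : ℕ) (l : List ℕ) (hB : 5 ≤ B) (h : Fwd v (B :: l) 0) :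
    let σ := Equiv.swap (pt A 1) (pt A 2) * Equiv.swap (pt A 3) (pt A 4)
    ¬ Group.IsSolvable ↥(Subgroup.closure ({finRotate A, σ * v * σ} : Set (Equiv.Perm (Fin A)))) ∧
    ¬ ∃ k : ℕ, orderOf (finRotate A * (σ * v * σ)) = p ^ k := by
  intro σ
  obtain ⟨⟨r, hr⟩, hj, hlast, hrest⟩ := h
  simp only [Nat.zero_add] at hj hlast hrest
  have hle := Fwd.le hrest
  set v1 := σ * v * σ with hv1
  set s := finRotate A * v1 with hs
  let g : ℕ → ℕ := fun k =>
    if k = 1 then 2 else if k = 2 then 1 else if k = 3 then 4 else if k = 4 then 3 else k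
  have sw : ∀ k, k < A → σ (pt A k) = pt A (g k) := by
    intro k hk
    simp only [σ, Equiv.Perm.mul_apply]
    rw [swap_pt (by omega) (by omega) hk, swap_pt (by omega) (by omega) (by split_ifs <;> omega)]
    congr 1
    simp only [g]
    split_ifs <;> omega
  have ev : ∀ k i m : ℕ, k < A → g k = i → v (pt A i) = pt A m → m < A →
      s (pt A k) = pt A (g m + 1) := by
    intro k i m hk hi hv hm
    simp only [hs, hv1, Equiv.Perm.mul_apply, sw k hk, hi, hv, sw m hm, rot_pt]
  have g5 : ∀ j, 5 ≤ j → g j = j := fun j hj => by simp only [g]; split_ifs <;> omega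
  have s2 : s (pt A 2) = pt A 2 := by
    have := ev 2 1 2 (by omega) rfl (hj 1 (by omega)) (by omega)
    simpa [g] using this
  have s4 : s (pt A 4) = pt A 4 := by
    have := ev 4 3 4 (by omega) rfl (hj 3 (by omega)) (by omega)
    simpa [g] using this
  have hfw : ∀ x x', B ≤ x → x < A → B ≤ x' → x' < A → v (pt A x) = pt A x' →
      v1 (pt A x) = pt A x' := by
    intro x x' hx hxA hx' hx'A hv
    simp only [hv1, Equiv.Perm.mul_apply, sw x hxA, g5 x (by omega), hv, sw x' hx'A,
      g5 x' (by omega)]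
  refine model_core hA5 hp hp3 ha hA v1 2 4 (by omega) (by omega) (by omega) (by omega) (by omega)
    s2 s4 ?_
  intro k hk hk1 hk2
  by_cases hkB : B ≤ k
  · exact reach_fwd hfw l B le_rfl hrest k hkB hk.le
  have hexit : Reach s B := reach_fwd hfw l B le_rfl hrest B le_rfl hle
  by_cases hk0 : k = 0
  · subst hk0; exact ⟨0, rfl⟩
  have hmid : ∀ j, 5 ≤ j → j + 1 < B → s (pt A j) = pt A (j + 2) := by
    intro j h5 hjB
    have := ev j j (j + 1) (by omega) (g5 j h5) (hj j hjB) (by omega)
    rwa [g5 (j + 1) (by omega)] at this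
  have hodd : ∀ i, i ≤ r - 2 → Reach s (5 + 2 * i) := by
    apply Reach.chain
    · exact fun i hi => hmid _ (by omega) (by omega)
    · rw [show 5 + 2 * (r - 2) = B by omega]; exact hexit
  have r1 : Reach s 1 := by
    refine Reach.step (k' := 5) ?_ (hodd 0 (Nat.zero_le _))
    have := ev 1 2 3 (by omega) rfl (hj 2 (by omega)) (by omega)
    simpa [g] using this
  by_cases hk11 : k = 1
  · exact hk11 ▸ r1
  rcases Nat.lt_or_ge B 7 with hB7 | hB7
  · obtain rfl : k = 3 := by omega
    refine Reach.step (k' := 1) ?_ r1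
    have := ev 3 4 0 (by omega) rfl (by simpa [show B - 1 = 4 by omega] using hlast) (by omega)
    exact this
  have hlastR : Reach s (B - 1) := by
    refine Reach.step (k' := 1) ?_ r1
    have := ev (B - 1) (B - 1) 0 (by omega) (g5 _ (by omega)) hlast (by omega)
    simpa [g] using this
  have heven : ∀ i, i ≤ r - 3 → Reach s (6 + 2 * i) := by
    apply Reach.chain
    · exact fun i hi => hmid _ (by omega) (by omega)
    · rw [show 6 + 2 * (r - 3) = B - 1 by omega]; exact hlastR
  by_cases hk3 : k = 3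
  · subst hk3
    refine Reach.step (k' := 6) ?_ (heven 0 (Nat.zero_le _))
    have := ev 3 4 5 (by omega) rfl (hj 4 (by omega)) (by omega)
    exact this
  obtain ⟨i, hi | hi⟩ : ∃ i, k - 5 = 2 * i ∨ k - 5 = 2 * i + 1 := ⟨(k - 5) / 2, by omega⟩
  · rw [show k = 5 + 2 * i by omega]; exact hodd i (by omega)
  · rw [show k = 6 + 2 * i by omega]; exact heven i (by omega)

end Cfsg.Agent.KnownA.FreePair
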