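import Mathlib

/-! Conjugacy in `GL₂` and `SL₂` over a field, through the binary quadratic form `v ↦ det [v, g v]`. -/

set_option autoImplicit false

namespace Cfsg.Agent.Lib.KnownA

open Matrix

section
variable {F : Type*} [Field F]

/-- The value `det [v, M v]` at `v = (x, y)`. -/
def qv (M : Matrix (Fin 2) (Fin 2) F) (x y : F) : F :=
  M 1 0 * x * x + (M 1 1 - M 0 0) * x * y - M 0 1 * y * y

/-- The matrix with columns `v`, `M v`. -/
def frame (M : Matrix (Fin 2) (Fin 2) F) (x y : F) : Matrix (Fin 2) (Fin 2) F :=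
  !![x, M 0 0 * x + M 0 1 * y; y, M 1 0 * x + M 1 1 * y]

/-- The companion matrix of `X² - tX + d`. -/
def comp (t d : F) : Matrix (Fin 2) (Fin 2) F := !![0, -d; 1, t]

/-- `M` is scalar. -/
def IsScal (M : Matrix (Fin 2) (Fin 2) F) : Prop := M 0 1 = 0 ∧ M 1 0 = 0 ∧ M 0 0 = M 1 1

theorem det_frame (M : Matrix (Fin 2) (Fin 2) F) (x y : F) : (frame M x y).det = qv M x y := by
  simp only [frame, Matrix.det_fin_two_of, qv]; ring

theorem mul_frame (M : Matrix (Fin 2) (Fin 2) F) (x y : F) :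
    M * frame M x y = frame M x y * comp M.trace M.det := by
  ext i j
  fin_cases i <;> fin_cases j <;>
    simp [frame, comp, Matrix.mul_apply, Fin.sum_univ_two, Matrix.trace_fin_two, Matrix.det_fin_two] <;> ring

theorem exists_qv_ne_zero {M : Matrix (Fin 2) (Fin 2) F} (h : ¬ IsScal M) :
    ∃ x y : F, qv M x y ≠ 0 := by
  by_contra hcon
  push Not at hcon
  apply h
  have h1 := hcon 1 0
  have h2 := hcon 0 1
  have h3 := hcon 1 1
  simp [qv] at h1 h2 h3
  refine ⟨h2, h1, ?_⟩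
  linear_combination -h3 + h1 - h2

theorem isScal_iff {M : Matrix (Fin 2) (Fin 2) F} :
    IsScal M ↔ ∃ c : F, M = c • (1 : Matrix (Fin 2) (Fin 2) F) := by
  constructor
  · rintro ⟨h1, h2, h3⟩
    refine ⟨M 0 0, ?_⟩
    ext i j
    fin_cases i <;> fin_cases j <;> simp [h1, h2, h3]
  · rintro ⟨c, rfl⟩
    simp [IsScal]

theorem qv_norm (M : Matrix (Fin 2) (Fin 2) F) (x y a b : F) :
    qv M (a * x + b * (M 0 0 * x + M 0 1 * y)) (a * y + b * (M 1 0 * x + M 1 1 * y)) =
      (a * a + a * b * M.trace + b * b * M.det) * qv M x y := by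
  simp only [qv, Matrix.trace_fin_two, Matrix.det_fin_two]; ring

theorem qv_conj {S M N : Matrix (Fin 2) (Fin 2) F} (h : N * S = S * M) (x y : F) :
    qv N (S 0 0 * x + S 0 1 * y) (S 1 0 * x + S 1 1 * y) = S.det * qv M x y := by
  rw [← det_frame, ← det_frame, ← Matrix.det_mul]
  congr 1
  have e00 := congrFun (congrFun h 0) 0
  have e01 := congrFun (congrFun h 0) 1
  have e10 := congrFun (congrFun h 1) 0
  have e11 := congrFun (congrFun h 1) 1
  simp [Matrix.mul_apply, Fin.sum_univ_two] at e00 e01 e10 e11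
  ext i j
  fin_cases i <;> fin_cases j <;> simp [frame, Matrix.mul_apply, Fin.sum_univ_two]
  · linear_combination x * e00 + y * e01
  · linear_combination x * e10 + y * e11

/-- Two matrices with the same characteristic data are conjugate by the quotient of their frames. -/
theorem exists_conj_matrix {M N : Matrix (Fin 2) (Fin 2) F} (ht : M.trace = N.trace)
    (hd : M.det = N.det) {x y x' y' : F} (h : qv M x y ≠ 0) :
    ∃ S : Matrix (Fin 2) (Fin 2) F, S.det = qv N x' y' / qv M x y ∧ N * S = S * M := by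
  have hu : IsUnit (frame M x y).det := by rw [det_frame]; exact isUnit_iff_ne_zero.mpr h
  refine ⟨frame N x' y' * (frame M x y)⁻¹, ?_, ?_⟩
  · rw [Matrix.det_mul, Matrix.det_nonsing_inv, det_frame, Ring.inverse_eq_inv, det_frame, div_eq_mul_inv]
  · have hM : M * frame M x y = frame M x y * comp N.trace N.det := by rw [mul_frame, ht, hd]
    calc N * (frame N x' y' * (frame M x y)⁻¹)
        = frame N x' y' * comp N.trace N.det * (frame M x y)⁻¹ := by rw [← mul_assoc, mul_frame]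
      _ = frame N x' y' * ((frame M x y)⁻¹ * frame M x y) * comp N.trace N.det * (frame M x y)⁻¹ := by
          rw [Matrix.nonsing_inv_mul _ hu, mul_one]
      _ = frame N x' y' * (frame M x y)⁻¹ * (M * frame M x y) * (frame M x y)⁻¹ := by
          rw [hM]; simp only [mul_assoc]
      _ = frame N x' y' * (frame M x y)⁻¹ * M := by
          rw [mul_assoc, mul_assoc M, Matrix.mul_nonsing_inv _ hu, mul_one]

theorem isConj_GL2 {g h : GL (Fin 2) F} (hg : ¬ IsScal (g : Matrix (Fin 2) (Fin 2) F))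
    (hh : ¬ IsScal (h : Matrix (Fin 2) (Fin 2) F))
    (ht : (g : Matrix (Fin 2) (Fin 2) F).trace = (h : Matrix (Fin 2) (Fin 2) F).trace)
    (hd : (g : Matrix (Fin 2) (Fin 2) F).det = (h : Matrix (Fin 2) (Fin 2) F).det) : IsConj g h := by
  obtain ⟨x, y, hxy⟩ := exists_qv_ne_zero hg
  obtain ⟨x', y', hxy'⟩ := exists_qv_ne_zero hh
  obtain ⟨S, hS, hSM⟩ := exists_conj_matrix ht hd (x' := x') (y' := y') hxy
  have hS0 : S.det ≠ 0 := by rw [hS]; exact div_ne_zero hxy' hxy
  refine isConj_iff.mpr ⟨Matrix.GeneralLinearGroup.mkOfDetNeZero S hS0, ?_⟩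
  rw [mul_inv_eq_iff_eq_mul]
  exact Units.ext hSM.symm

theorem isConj_SL2 {g h : Matrix.SpecialLinearGroup (Fin 2) F}
    (ht : (g : Matrix (Fin 2) (Fin 2) F).trace = (h : Matrix (Fin 2) (Fin 2) F).trace) {x y x' y' : F}
    (hxy : qv (g : Matrix (Fin 2) (Fin 2) F) x y ≠ 0)
    (hab : ∃ a b : F, (a * a + a * b * (g : Matrix (Fin 2) (Fin 2) F).trace + b * b) *
      qv (g : Matrix (Fin 2) (Fin 2) F) x y = qv (h : Matrix (Fin 2) (Fin 2) F) x' y')
    (hxy' : qv (h : Matrix (Fin 2) (Fin 2) F) x' y' ≠ 0) : IsConj g h := by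
  obtain ⟨a, b, hab⟩ := hab
  have hn := qv_norm (g : Matrix (Fin 2) (Fin 2) F) x y a b
  rw [g.det_coe, mul_one, hab] at hn
  obtain ⟨S, hS, hSM⟩ := exists_conj_matrix (M := (g : Matrix (Fin 2) (Fin 2) F))
    (N := (h : Matrix (Fin 2) (Fin 2) F)) ht (by simp) (x' := x') (y' := y') (hn.trans_ne hxy')
  rw [hn, div_self hxy'] at hS
  let S' : Matrix.SpecialLinearGroup (Fin 2) F := ⟨S, hS⟩
  refine isConj_iff.mpr ⟨S', ?_⟩
  rw [mul_inv_eq_iff_eq_mul]
  exact Subtype.ext hSM.symm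

theorem qv_invariant_SL2 {g h : Matrix.SpecialLinearGroup (Fin 2) F} (hc : IsConj g h) (x y : F) :
    ∃ x' y' : F, qv (h : Matrix (Fin 2) (Fin 2) F) x' y' = qv (g : Matrix (Fin 2) (Fin 2) F) x y := by
  obtain ⟨S, hS⟩ := isConj_iff.mp hc
  rw [mul_inv_eq_iff_eq_mul] at hS
  have hS' : (h : Matrix (Fin 2) (Fin 2) F) * (S : Matrix (Fin 2) (Fin 2) F) =
      (S : Matrix (Fin 2) (Fin 2) F) * (g : Matrix (Fin 2) (Fin 2) F) := by
    rw [← Matrix.SpecialLinearGroup.coe_mul, ← Matrix.SpecialLinearGroup.coe_mul, hS]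
  exact ⟨_, _, by rw [qv_conj hS', S.det_coe, one_mul]⟩

theorem isScal_of_isConj_GL2 {g h : GL (Fin 2) F} (hc : IsConj g h)
    (hg : IsScal (g : Matrix (Fin 2) (Fin 2) F)) : g = h := by
  obtain ⟨c, hc'⟩ := isConj_iff.mp hc
  obtain ⟨s, hs⟩ := isScal_iff.mp hg
  rw [← hc', mul_inv_eq_iff_eq_mul.mpr]
  apply Units.ext
  simp [hs]

theorem isScal_of_isConj_SL2 {g h : Matrix.SpecialLinearGroup (Fin 2) F} (hc : IsConj g h)
    (hg : IsScal (g : Matrix (Fin 2) (Fin 2) F)) : g = h := by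
  obtain ⟨c, hc'⟩ := isConj_iff.mp hc
  obtain ⟨s, hs⟩ := isScal_iff.mp hg
  rw [← hc', mul_inv_eq_iff_eq_mul.mpr]
  apply Subtype.ext
  simp [hs]

theorem trace_eq_of_isConj_SL2 {g h : Matrix.SpecialLinearGroup (Fin 2) F} (hc : IsConj g h) :
    (g : Matrix (Fin 2) (Fin 2) F).trace = (h : Matrix (Fin 2) (Fin 2) F).trace := by
  obtain ⟨c, rfl⟩ := isConj_iff.mp hc
  rw [Matrix.SpecialLinearGroup.coe_mul, Matrix.trace_mul_comm, ← Matrix.SpecialLinearGroup.coe_mul,
    inv_mul_cancel_left]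

theorem commute_eq_add_smul {M K : Matrix (Fin 2) (Fin 2) F} (hM : ¬ IsScal M) (h : K * M = M * K) :
    ∃ a b : F, K = a • (1 : Matrix (Fin 2) (Fin 2) F) + b • M := by
  have e00 := congrFun (congrFun h 0) 0
  have e01 := congrFun (congrFun h 0) 1
  have e10 := congrFun (congrFun h 1) 0
  simp [Matrix.mul_apply, Fin.sum_univ_two] at e00 e01 e10
  by_cases h1 : M 1 0 = 0
  · by_cases h2 : M 0 1 = 0
    · have h3 : M 0 0 - M 1 1 ≠ 0 := sub_ne_zero.mpr fun e => hM ⟨h2, h1, e⟩
      simp [h1, h2] at e01 e10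
      have k10 : K 1 0 = 0 := mul_right_cancel₀ h3 (by linear_combination e10)
      have k01 : K 0 1 = 0 := mul_right_cancel₀ h3 (by linear_combination -e01)
      refine ⟨K 0 0 - (K 0 0 - K 1 1) / (M 0 0 - M 1 1) * M 0 0, (K 0 0 - K 1 1) / (M 0 0 - M 1 1), ?_⟩
      ext i j
      fin_cases i <;> fin_cases j <;> simp [h1, h2, k10, k01] <;> field_simp <;> ring
    · have k10 : K 1 0 = 0 := by
        exact (mul_eq_zero.mp (show M 0 1 * K 1 0 = 0 by linear_combination -e00 + K 0 1 * h1)).resolve_left h2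
      refine ⟨K 0 0 - K 0 1 / M 0 1 * M 0 0, K 0 1 / M 0 1, ?_⟩
      ext i j
      fin_cases i <;> fin_cases j <;> simp [h1, k10] <;> field_simp <;> try ring
      linear_combination -e01
  · refine ⟨K 0 0 - K 1 0 / M 1 0 * M 0 0, K 1 0 / M 1 0, ?_⟩
    ext i j
    fin_cases i <;> fin_cases j <;> simp <;> field_simp <;> try ring
    · linear_combination e00
    · linear_combination e10

theorem add_smul_injective {M : Matrix (Fin 2) (Fin 2) F} (hM : ¬ IsScal M) {a b a' b' : F}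
    (h : a • (1 : Matrix (Fin 2) (Fin 2) F) + b • M = a' • 1 + b' • M) : a = a' ∧ b = b' := by
  have e00 := congrFun (congrFun h 0) 0
  have e01 := congrFun (congrFun h 0) 1
  have e10 := congrFun (congrFun h 1) 0
  have e11 := congrFun (congrFun h 1) 1
  simp at e00 e01 e10 e11
  by_cases hb : b = b'
  · subst hb; exact ⟨add_right_cancel e00, rfl⟩
  · exfalso
    rcases e01 with e01 | e01
    · exact hb e01
    rcases e10 with e10 | e10
    · exact hb e10
    exact hM ⟨e01, e10, mul_left_cancel₀ (sub_ne_zero.mpr hb) (by linear_combination e00 - e11)⟩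

theorem det_add_smul (M : Matrix (Fin 2) (Fin 2) F) (a b : F) :
    (a • (1 : Matrix (Fin 2) (Fin 2) F) + b • M).det =
      a * a + a * b * M.trace + b * b * M.det := by
  simp [Matrix.det_fin_two, Matrix.trace_fin_two]; ring

theorem commute_add_smul (M : Matrix (Fin 2) (Fin 2) F) (a b : F) :
    (a • (1 : Matrix (Fin 2) (Fin 2) F) + b • M) * M = M * (a • 1 + b • M) := by
  simp [add_mul, mul_add]

theorem card_centralizer_GL2 {g : GL (Fin 2) F} (hg : ¬ IsScal (g : Matrix (Fin 2) (Fin 2) F)) :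
    Nat.card (Subgroup.centralizer ({g} : Set (GL (Fin 2) F))) =
      Nat.card {v : F × F // v.1 * v.1 + v.1 * v.2 * (g : Matrix (Fin 2) (Fin 2) F).trace +
        v.2 * v.2 * (g : Matrix (Fin 2) (Fin 2) F).det ≠ 0} := by
  let f : {v : F × F // v.1 * v.1 + v.1 * v.2 * (g : Matrix (Fin 2) (Fin 2) F).trace +
      v.2 * v.2 * (g : Matrix (Fin 2) (Fin 2) F).det ≠ 0} → Subgroup.centralizer ({g} : Set (GL (Fin 2) F)) :=
    fun v => ⟨Matrix.GeneralLinearGroup.mkOfDetNeZero (v.1.1 • 1 + v.1.2 • (g : Matrix (Fin 2) (Fin 2) F))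
      (by rw [det_add_smul]; exact v.2), Subgroup.mem_centralizer_singleton_iff.mpr
        (Units.ext (commute_add_smul _ _ _))⟩
  refine (Nat.card_congr (Equiv.ofBijective f ⟨fun v w hvw => ?_, fun k => ?_⟩)).symm
  · obtain ⟨h1, h2⟩ := add_smul_injective hg (congrArg (fun k => ((k.1 : GL (Fin 2) F) : Matrix (Fin 2) (Fin 2) F)) hvw)
    exact Subtype.ext (Prod.ext h1 h2)
  · have hk := congrArg (fun k : GL (Fin 2) F => (k : Matrix (Fin 2) (Fin 2) F))
      (Subgroup.mem_centralizer_singleton_iff.mp k.2)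
    obtain ⟨a, b, hab⟩ := commute_eq_add_smul hg hk
    refine ⟨⟨(a, b), ?_⟩, Subtype.ext (Units.ext hab.symm)⟩
    rw [← det_add_smul, ← hab]
    exact ((k.1 : GL (Fin 2) F).isUnit.map Matrix.detMonoidHom).ne_zero

theorem card_centralizer_SL2 {g : Matrix.SpecialLinearGroup (Fin 2) F}
    (hg : ¬ IsScal (g : Matrix (Fin 2) (Fin 2) F)) :
    Nat.card (Subgroup.centralizer ({g} : Set (Matrix.SpecialLinearGroup (Fin 2) F))) =
      Nat.card {v : F × F // v.1 * v.1 + v.1 * v.2 * (g : Matrix (Fin 2) (Fin 2) F).trace + v.2 * v.2 = 1} := by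
  let f : {v : F × F // v.1 * v.1 + v.1 * v.2 * (g : Matrix (Fin 2) (Fin 2) F).trace + v.2 * v.2 = 1} →
      Subgroup.centralizer ({g} : Set (Matrix.SpecialLinearGroup (Fin 2) F)) :=
    fun v => ⟨⟨v.1.1 • 1 + v.1.2 • (g : Matrix (Fin 2) (Fin 2) F),
      by rw [det_add_smul, g.det_coe, mul_one]; exact v.2⟩, Subgroup.mem_centralizer_singleton_iff.mpr
        (Subtype.ext (commute_add_smul _ _ _))⟩
  refine (Nat.card_congr (Equiv.ofBijective f ⟨fun v w hvw => ?_, fun k => ?_⟩)).symm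
  · obtain ⟨h1, h2⟩ := add_smul_injective hg
      (congrArg (fun k => ((k.1 : Matrix.SpecialLinearGroup (Fin 2) F) : Matrix (Fin 2) (Fin 2) F)) hvw)
    exact Subtype.ext (Prod.ext h1 h2)
  · have hk := congrArg (fun k : Matrix.SpecialLinearGroup (Fin 2) F => (k : Matrix (Fin 2) (Fin 2) F))
      (Subgroup.mem_centralizer_singleton_iff.mp k.2)
    obtain ⟨a, b, hab⟩ := commute_eq_add_smul hg hk
    refine ⟨⟨(a, b), ?_⟩, Subtype.ext (Subtype.ext hab.symm)⟩
    have := (k.1 : Matrix.SpecialLinearGroup (Fin 2) F).det_coe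
    rw [hab, det_add_smul, g.det_coe, mul_one] at this
    exact this

theorem card_SL2 [Fintype F] :
    Nat.card (Matrix.SpecialLinearGroup (Fin 2) F) = Fintype.card F * (Fintype.card F ^ 2 - 1) := by
  classical
  let f : Matrix.SpecialLinearGroup (Fin 2) F →* GL (Fin 2) F := Matrix.SpecialLinearGroup.toGL
  have hf : Function.Injective f := Matrix.SpecialLinearGroup.toGL_injective
  have hker : (Matrix.GeneralLinearGroup.det (n := Fin 2) (R := F)).ker = f.range := by
    ext g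
    constructor
    · intro hg
      exact ⟨⟨g, congrArg Units.val hg⟩, Units.ext rfl⟩
    · rintro ⟨s, rfl⟩
      exact Units.ext s.det_coe
  have hsurj : Function.Surjective (Matrix.GeneralLinearGroup.det (n := Fin 2) (R := F)) := fun c =>
    ⟨Matrix.GeneralLinearGroup.mkOfDetNeZero !![(c : F), 0; 0, 1] (by simp), Units.ext (by simp)⟩
  have h1 := Subgroup.card_mul_index (Matrix.GeneralLinearGroup.det (n := Fin 2) (R := F)).ker
  rw [Subgroup.index_ker, MonoidHom.range_eq_top.mpr hsurj, Subgroup.card_top, Nat.card_units, hker,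
    ← Nat.card_congr (MonoidHom.ofInjective hf).toEquiv, Matrix.card_GL_field,
    Nat.card_eq_fintype_card (α := F)] at h1
  simp [Fin.prod_univ_two, -Nat.card_eq_fintype_card] at h1
  have hq : 2 ≤ Fintype.card F := Fintype.one_lt_card
  apply Nat.eq_of_mul_eq_mul_right (show 0 < Fintype.card F - 1 by omega)
  rw [h1, mul_comm (Fintype.card F), mul_assoc, mul_comm (Fintype.card F) (_ - 1)]
  congr 1
  rw [Nat.sub_mul, one_mul, sq]

theorem card_class_mul {G : Type*} [Group G] (g : G) :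
    Nat.card (ConjClasses.mk g).carrier * Nat.card (Subgroup.centralizer ({g} : Set G)) = Nat.card G := by
  rw [← ConjAct.orbit_eq_carrier_conjClasses,
    ← Nat.card_congr (MulAction.orbitProdStabilizerEquivGroup (ConjAct G) g |>.trans
      ConjAct.ofConjAct.toEquiv), Nat.card_prod]
  congr 1
  rw [ConjAct.stabilizer_eq_centralizer]
  exact Nat.card_congr (Equiv.refl _)

end

end Cfsg.Agent.Lib.KnownA
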