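import Mathlib

set_option autoImplicit false

namespace Cfsg.Agent.Lib.KnownA

variable {F : Type*} [Field F] (p : ℕ) [Fact p.Prime] [CharP F p] {d : ℕ}

theorem sub_one_pow_eq_zero_of_nilpotent (M : Matrix (Fin d) (Fin d) F)
    (hM : IsNilpotent M) : M ^ d = 0 := by
  have h := (Matrix.isNilpotent_charpoly_sub_pow_of_isNilpotent hM).eq_zero
  rw [sub_eq_zero] at h
  have h2 := Matrix.aeval_self_charpoly M
  rw [h, map_pow, Polynomial.aeval_X, Fintype.card_fin] at h2
  exact h2

theorem matrix_sub_one_pow_char (u : Matrix (Fin d) (Fin d) F) (k : ℕ) :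
    (u - 1) ^ p ^ k = u ^ p ^ k - 1 := by
  rcases Nat.eq_zero_or_pos d with rfl | hd
  · exact Subsingleton.elim _ _
  · haveI : Nonempty (Fin d) := ⟨⟨0, hd⟩⟩
    haveI : CharP (Matrix (Fin d) (Fin d) F) p := inferInstance
    rw [sub_pow_char_pow_of_commute _ _ (Commute.one_right u), one_pow]

theorem orderOf_unipotent_le [Finite F] (u : GL (Fin d) F)
    (hu : IsNilpotent ((u : Matrix (Fin d) (Fin d) F) - 1)) :
    orderOf u ≤ p ^ Nat.clog p d ∧
    (((u : Matrix (Fin d) (Fin d) F) - 1) ^ (d - 1) ≠ 0 → orderOf u = p ^ Nat.clog p d) := by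
  have hp : p.Prime := Fact.out
  have hpow : u ^ p ^ Nat.clog p d = 1 := by
    apply Units.ext
    have h : ((u : Matrix (Fin d) (Fin d) F) - 1) ^ p ^ Nat.clog p d = 0 :=
      pow_eq_zero_of_le (Nat.le_pow_clog hp.one_lt d) (sub_one_pow_eq_zero_of_nilpotent _ hu)
    rw [matrix_sub_one_pow_char] at h
    rw [Units.val_pow_eq_pow_val, Units.val_one]
    exact sub_eq_zero.mp h
  refine ⟨Nat.le_of_dvd (pow_pos hp.pos _) (orderOf_dvd_of_pow_eq_one hpow), fun hne => ?_⟩
  obtain ⟨j, hj, hju⟩ := (Nat.dvd_prime_pow hp).mp (orderOf_dvd_of_pow_eq_one hpow)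
  rcases hj.lt_or_eq with hlt | rfl
  · exfalso
    apply hne
    have h1 : (u : Matrix (Fin d) (Fin d) F) ^ p ^ j = 1 := by
      rw [← Units.val_pow_eq_pow_val, ← hju, pow_orderOf_eq_one, Units.val_one]
    have h2 : ((u : Matrix (Fin d) (Fin d) F) - 1) ^ p ^ j = 0 := by
      rw [matrix_sub_one_pow_char, h1, sub_self]
    have h3 : p ^ j < d := by
      by_contra h
      exact absurd (Nat.clog_le_of_le_pow (not_lt.mp h)) (not_le.mpr hlt)
    exact pow_eq_zero_of_le (by omega) h2
  · exact hju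

/-- A single Jordan block of size `d`, as an invertible matrix. -/
def superDiag (d : ℕ) : Matrix (Fin d) (Fin d) F :=
  Matrix.of fun i j => if j.val = i.val + 1 then 1 else 0

theorem superDiag_pow_apply (k : ℕ) : ∀ i j : Fin d,
    (superDiag d ^ k : Matrix (Fin d) (Fin d) F) i j = if j.val = i.val + k then 1 else 0 := by
  induction k with
  | zero => intro i j; simp [Matrix.one_apply, Fin.ext_iff, eq_comm]
  | succ k ih =>
    intro i j
    rw [pow_succ', Matrix.mul_apply]
    by_cases h : i.val + 1 < d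
    · rw [Finset.sum_eq_single ⟨i.val + 1, h⟩]
      · rw [ih]
        simp [superDiag, add_assoc, add_comm 1 k]
      · intro b _ hb
        rw [superDiag, Matrix.of_apply, if_neg (fun e => hb (Fin.ext e)), zero_mul]
      · simp
    · rw [Finset.sum_eq_zero, if_neg (by omega)]
      intro b _
      rw [superDiag, Matrix.of_apply, if_neg (by omega), zero_mul]

theorem superDiag_isNilpotent : IsNilpotent (superDiag d : Matrix (Fin d) (Fin d) F) := by
  refine ⟨d, ?_⟩
  ext i j
  rw [superDiag_pow_apply, if_neg (by omega)]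
  rfl

end Cfsg.Agent.Lib.KnownA
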