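import Mathlib
import Cfsg.Agent.Lib.KnownA.GL2
import Cfsg.Agent.Lib.KnownA.UnipotentOrder

/-! Unipotent classes of `SL₂`, class numbers of `GL₂` and `SL₂`, fixed lines. -/

set_option autoImplicit false

namespace Cfsg.Agent.Lib.KnownA

open Matrix

section
variable {F : Type*} [Field F]

/-- The transvection `(1 b; 0 1)` in `SL₂`. -/
def uni (b : F) : Matrix.SpecialLinearGroup (Fin 2) F := ⟨!![1, b; 0, 1], by simp⟩

theorem uni_coe (b : F) : (uni b : Matrix (Fin 2) (Fin 2) F) = !![1, b; 0, 1] := rfl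

theorem qv_upper (M : Matrix (Fin 2) (Fin 2) F) (h00 : M 0 0 = M 1 1) (h10 : M 1 0 = 0) (x y : F) :
    qv M x y = -M 0 1 * (y * y) := by
  simp [qv, h00, h10]; ring

theorem unipotent_data (p : ℕ) [Fact p.Prime] [CharP F p] {M : Matrix (Fin 2) (Fin 2) F}
    (hM : M ^ p = 1) (h1 : M ≠ 1) : M.trace = 2 ∧ M.det = 1 ∧ ¬ IsScal M := by
  have hN : IsNilpotent (M - 1) := ⟨p, by
    have h := matrix_sub_one_pow_char (d := 2) p M 1
    rw [pow_one] at h
    rw [h, hM, sub_self]⟩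
  have htr : (M - 1).trace = 0 := (Matrix.isNilpotent_trace_of_isNilpotent hN).eq_zero
  have hdet : (M - 1).det = 0 := by
    obtain ⟨k, hk⟩ := hN
    exact eq_zero_of_pow_eq_zero (n := k) (by rw [← Matrix.det_pow, hk, Matrix.det_zero])
  simp [Matrix.trace_fin_two] at htr
  simp [Matrix.det_fin_two] at hdet
  refine ⟨?_, ?_, fun hs => h1 ?_⟩
  · rw [Matrix.trace_fin_two]; linear_combination htr
  · rw [Matrix.det_fin_two]; linear_combination hdet + htr
  · obtain ⟨h01, h10, h⟩ := hs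
    rw [h01, h10, h] at hdet
    have h11 : M 1 1 = 1 := by
      have : (M 1 1 - 1) * (M 1 1 - 1) = 0 := by linear_combination hdet
      exact sub_eq_zero.mp (mul_self_eq_zero.mp this)
    ext i j
    fin_cases i <;> fin_cases j <;> simp [h01, h10, h, h11]

theorem unipotent_data_SL (p : ℕ) [Fact p.Prime] [CharP F p] {g : Matrix.SpecialLinearGroup (Fin 2) F}
    (hg : orderOf g = p) : (g : Matrix (Fin 2) (Fin 2) F).trace = 2 ∧
      ¬ IsScal (g : Matrix (Fin 2) (Fin 2) F) := by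
  have h := unipotent_data p (M := (g : Matrix (Fin 2) (Fin 2) F))
    (by rw [← Matrix.SpecialLinearGroup.coe_pow, ← hg, pow_orderOf_eq_one]; simp)
    (fun h1 => (Fact.out : p.Prime).one_lt.ne' (by
      rw [← hg, orderOf_eq_one_iff]; exact Subtype.ext h1))
  exact ⟨h.1, h.2.2⟩

theorem not_isScal_uni {b : F} (hb : b ≠ 0) : ¬ IsScal (uni b : Matrix (Fin 2) (Fin 2) F) :=
  fun h => hb (by simpa [uni_coe] using h.1)

theorem trace_uni (b : F) : (uni b : Matrix (Fin 2) (Fin 2) F).trace = 2 := by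
  simp [uni_coe, Matrix.trace_fin_two, one_add_one_eq_two]

theorem uni_pow (b : F) (k : ℕ) : uni b ^ k = uni ((k : F) * b) := by
  induction k with
  | zero => ext i j; fin_cases i <;> fin_cases j <;> simp [uni_coe]
  | succ k ih =>
    rw [pow_succ, ih]
    ext i j
    rw [Matrix.SpecialLinearGroup.coe_mul]
    fin_cases i <;> fin_cases j <;> simp [uni_coe, Matrix.mul_apply, Fin.sum_univ_two] <;> ring

theorem orderOf_uni (p : ℕ) [Fact p.Prime] [CharP F p] {b : F} (hb : b ≠ 0) : orderOf (uni b) = p := by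
  refine orderOf_eq_prime ?_ ?_
  · rw [uni_pow, CharP.cast_eq_zero, zero_mul]
    ext i j; fin_cases i <;> fin_cases j <;> simp [uni_coe]
  · intro h
    have := congrArg (fun g : Matrix.SpecialLinearGroup (Fin 2) F => (g : Matrix (Fin 2) (Fin 2) F) 0 1) h
    simp [uni_coe] at this
    exact hb this

theorem isConj_upper_iff {g h : Matrix.SpecialLinearGroup (Fin 2) F}
    (g00 : (g : Matrix (Fin 2) (Fin 2) F) 0 0 = 1) (g11 : (g : Matrix (Fin 2) (Fin 2) F) 1 1 = 1)
    (g10 : (g : Matrix (Fin 2) (Fin 2) F) 1 0 = 0) (g01 : (g : Matrix (Fin 2) (Fin 2) F) 0 1 ≠ 0)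
    (h00 : (h : Matrix (Fin 2) (Fin 2) F) 0 0 = 1) (h11 : (h : Matrix (Fin 2) (Fin 2) F) 1 1 = 1)
    (h10 : (h : Matrix (Fin 2) (Fin 2) F) 1 0 = 0) (h01 : (h : Matrix (Fin 2) (Fin 2) F) 0 1 ≠ 0) :
    IsConj g h ↔ IsSquare ((g : Matrix (Fin 2) (Fin 2) F) 0 1 * (h : Matrix (Fin 2) (Fin 2) F) 0 1) := by
  have qg := qv_upper (g : Matrix (Fin 2) (Fin 2) F) (g00.trans g11.symm) g10
  have qh := qv_upper (h : Matrix (Fin 2) (Fin 2) F) (h00.trans h11.symm) h10
  constructor
  · intro hc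
    obtain ⟨x, y, hxy⟩ := qv_invariant_SL2 hc 0 1
    rw [qg, qh] at hxy
    exact ⟨(h : Matrix (Fin 2) (Fin 2) F) 0 1 * y, by linear_combination (-(h : Matrix (Fin 2) (Fin 2) F) 0 1) * (-hxy)⟩
  · rintro ⟨r, hr⟩
    refine isConj_SL2 (by simp [Matrix.trace_fin_two, g00, g11, h00, h11]) (x := 0) (y := 1) (x' := 0) (y' := 1)
      (by rw [qg]; simpa using g01) ⟨r / (g : Matrix (Fin 2) (Fin 2) F) 0 1, 0, ?_⟩ (by rw [qh]; simpa using h01)
    rw [qg, qh]
    field_simp
    linear_combination hr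

theorem isConj_SL2_of_trace_two {g : Matrix.SpecialLinearGroup (Fin 2) F}
    (ht : (g : Matrix (Fin 2) (Fin 2) F).trace = 2) (hs : ¬ IsScal (g : Matrix (Fin 2) (Fin 2) F)) :
    ∃ b : F, b ≠ 0 ∧ IsConj g (uni b) := by
  obtain ⟨x, y, hxy⟩ := exists_qv_ne_zero hs
  have hq := qv_upper (uni (-qv (g : Matrix (Fin 2) (Fin 2) F) x y) : Matrix (Fin 2) (Fin 2) F)
    (by simp [uni_coe]) (by simp [uni_coe]) 0 1
  refine ⟨-qv (g : Matrix (Fin 2) (Fin 2) F) x y, neg_ne_zero.mpr hxy,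
    isConj_SL2 (by rw [ht, trace_uni]) (x' := 0) (y' := 1) hxy ⟨1, 0, ?_⟩ ?_⟩
  all_goals rw [hq]
  all_goals simp [uni_coe, hxy]

theorem isConj_uni {b c : F} (hb : b ≠ 0) (hc : c ≠ 0) :
    IsConj (uni b) (uni c) ↔ IsSquare (b * c) := by
  simpa [uni_coe] using isConj_upper_iff (g := uni b) (h := uni c) (by simp [uni_coe]) (by simp [uni_coe])
    (by simp [uni_coe]) (by simpa [uni_coe] using hb) (by simp [uni_coe]) (by simp [uni_coe]) (by simp [uni_coe])
    (by simpa [uni_coe] using hc)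

theorem card_centralizer_trace_two [Fintype F] {g : Matrix.SpecialLinearGroup (Fin 2) F}
    (ht : (g : Matrix (Fin 2) (Fin 2) F).trace = 2) (hs : ¬ IsScal (g : Matrix (Fin 2) (Fin 2) F)) :
    Nat.card (Subgroup.centralizer ({g} : Set (Matrix.SpecialLinearGroup (Fin 2) F))) =
      Nat.card {s : F // s * s = 1} * Fintype.card F := by
  rw [card_centralizer_SL2 hs, ht, ← Nat.card_eq_fintype_card (α := F), ← Nat.card_prod]
  refine Nat.card_congr
    { toFun := fun v => (⟨v.1.1 + v.1.2, by linear_combination v.2⟩, v.1.2)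
      invFun := fun w => ⟨(w.1.1 - w.2, w.2), by linear_combination w.1.2⟩
      left_inv := fun v => by ext <;> simp
      right_inv := fun w => by ext <;> simp }

theorem card_sqrt_one_odd [Fintype F] (h2 : (2 : F) ≠ 0) : Nat.card {s : F // s * s = 1} = 2 := by
  classical
  rw [Nat.card_eq_fintype_card, Fintype.card_subtype]
  have : (Finset.univ.filter fun s : F => s * s = 1) = {1, -1} := by
    ext s; simp [mul_self_eq_one_iff]
  rw [this, Finset.card_pair]
  intro h
  exact h2 (by linear_combination h)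

theorem card_sqrt_one_two [CharP F 2] : Nat.card {s : F // s * s = 1} = 1 := by
  rw [Nat.card_eq_one_iff_unique]
  refine ⟨⟨fun a b => ?_⟩, ⟨⟨1, one_mul 1⟩⟩⟩
  ext
  rcases mul_self_eq_one_iff.mp a.2 with h | h <;> rcases mul_self_eq_one_iff.mp b.2 with h' | h' <;>
    simp [h, h', CharTwo.neg_eq]

theorem isSquare_mul_or [Fintype F] (h2 : ringChar F ≠ 2) {ν b : F} (hν : ¬ IsSquare ν) (hb : ¬ IsSquare b) :
    IsSquare (ν * b) := by
  classical
  have hν0 : ν ≠ 0 := fun h => hν (h ▸ IsSquare.zero)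
  have hb0 : b ≠ 0 := fun h => hb (h ▸ IsSquare.zero)
  refine (quadraticChar_one_iff_isSquare (mul_ne_zero hν0 hb0)).mp ?_
  rw [map_mul, quadraticChar_neg_one_iff_not_isSquare.mpr hν, quadraticChar_neg_one_iff_not_isSquare.mpr hb]
  norm_num

theorem two_ne_zero_of_odd [Fintype F] (hodd : Odd (Fintype.card F)) : (2 : F) ≠ 0 := by
  intro h
  have := FiniteField.even_card_iff_char_two (F := F)
  have h2 : ringChar F = 2 := by
    haveI : CharP F 2 := CharTwo.of_one_ne_zero_of_two_eq_zero one_ne_zero h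
    exact ringChar.eq F 2
  have := this.mp h2
  rw [Nat.odd_iff] at hodd
  omega

theorem ringChar_ne_two [Fintype F] (hodd : Odd (Fintype.card F)) : ringChar F ≠ 2 := by
  intro h
  have := FiniteField.even_card_iff_char_two.mp h
  rw [Nat.odd_iff] at hodd
  omega

end

end Cfsg.Agent.Lib.KnownA
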