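import Mathlib
import Cfsg.Agent.Lib.KnownA.GL2Classes
import Cfsg.Prelude.Def_ParabolicCharacters

/-! Class numbers of `GL₂`, `SL₂`; fixed lines and centralizers in `GL₂`. -/

set_option autoImplicit false

namespace Cfsg.Agent.Lib.KnownA

open Matrix

section
variable {F : Type*} [Field F]

/-- The companion matrix in `GL₂`. -/
def compGL (t : F) (d : Fˣ) : GL (Fin 2) F :=
  Matrix.GeneralLinearGroup.mkOfDetNeZero (comp t (d : F)) (by simp [comp])

/-- The companion matrix in `SL₂`, twisted by `ν`. -/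
def compSL (t ν : F) (hν : ν ≠ 0) : Matrix.SpecialLinearGroup (Fin 2) F :=
  ⟨!![0, -ν; ν⁻¹, t], by simp [hν]⟩

/-- The scalar `s` with `s² = 1` in `SL₂`. -/
def scalSL (s : {s : F // s * s = 1}) : Matrix.SpecialLinearGroup (Fin 2) F :=
  ⟨!![s.1, 0; 0, s.1], by simp [s.2]⟩

theorem compSL_coe (t ν : F) (hν : ν ≠ 0) :
    (compSL t ν hν : Matrix (Fin 2) (Fin 2) F) = !![0, -ν; ν⁻¹, t] := rfl

theorem scalSL_coe (s : {s : F // s * s = 1}) :
    (scalSL s : Matrix (Fin 2) (Fin 2) F) = !![s.1, 0; 0, s.1] := rfl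

theorem qv_compSL (t ν : F) (hν : ν ≠ 0) (x y : F) :
    qv (compSL t ν hν : Matrix (Fin 2) (Fin 2) F) x y = ν⁻¹ * (x * x + x * (ν * y) * t + (ν * y) * (ν * y)) := by
  rw [compSL_coe]; simp [qv]; field_simp

theorem trace_compSL (t ν : F) (hν : ν ≠ 0) : (compSL t ν hν : Matrix (Fin 2) (Fin 2) F).trace = t := by
  simp [compSL_coe, Matrix.trace_fin_two]

theorem not_isScal_compSL (t ν : F) (hν : ν ≠ 0) : ¬ IsScal (compSL t ν hν : Matrix (Fin 2) (Fin 2) F) :=
  fun h => hν (by simpa [compSL_coe] using h.1)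

/-- Class number of `GL₂`. -/
theorem card_conjClasses_GL2 [Fintype F] :
    Nat.card (ConjClasses (GL (Fin 2) F)) = Fintype.card F ^ 2 - 1 := by
  classical
  let f : F × Fˣ ⊕ Fˣ → ConjClasses (GL (Fin 2) F) :=
    Sum.elim (fun p => ConjClasses.mk (compGL p.1 p.2))
      (fun c => ConjClasses.mk (Matrix.GeneralLinearGroup.scalar (Fin 2) c))
  have hns : ∀ p : F × Fˣ, ¬ IsScal (compGL p.1 p.2 : Matrix (Fin 2) (Fin 2) F) := by
    intro p h
    have := h.2.1
    simp [compGL, comp] at this
  have hsc : ∀ c : Fˣ, IsScal (Matrix.GeneralLinearGroup.scalar (Fin 2) c : Matrix (Fin 2) (Fin 2) F) := by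
    intro c
    simp [IsScal, Matrix.GeneralLinearGroup.scalar]
  have hdata : ∀ {g h : GL (Fin 2) F}, IsConj g h →
      (g : Matrix (Fin 2) (Fin 2) F).trace = (h : Matrix (Fin 2) (Fin 2) F).trace ∧
      (g : Matrix (Fin 2) (Fin 2) F).det = (h : Matrix (Fin 2) (Fin 2) F).det := by
    intro g h hc
    obtain ⟨c, rfl⟩ := isConj_iff.mp hc
    constructor
    · rw [Units.val_mul, Matrix.trace_mul_comm, ← Units.val_mul, inv_mul_cancel_left]
    · rw [Units.val_mul, Units.val_mul, Matrix.det_units_conj]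
  have hbij : Function.Bijective f := by
    constructor
    · rintro (⟨t, d⟩ | c) (⟨t', d'⟩ | c') h <;>
        simp only [f, Sum.elim_inl, Sum.elim_inr, ConjClasses.mk_eq_mk_iff_isConj] at h
      · obtain ⟨h1, h2⟩ := hdata h
        simp [compGL, comp, Matrix.trace_fin_two] at h1 h2
        rw [h1, Units.ext h2]
      · exact absurd (isScal_of_isConj_GL2 h.symm (hsc _) ▸ hsc _) (hns (t, d))
      · exact absurd (isScal_of_isConj_GL2 h (hsc _) ▸ hsc _) (hns (t', d'))
      · have := congrArg (fun g : GL (Fin 2) F => (g : Matrix (Fin 2) (Fin 2) F) 0 0) (isScal_of_isConj_GL2 h (hsc _))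
        simp [Matrix.GeneralLinearGroup.scalar] at this
        rw [Units.ext this]
    · intro C
      obtain ⟨g, rfl⟩ := ConjClasses.mk_surjective C
      by_cases hg : IsScal (g : Matrix (Fin 2) (Fin 2) F)
      · obtain ⟨c, hc⟩ := isScal_iff.mp hg
        have hc0 : c ≠ 0 := by
          rintro rfl
          exact g.ne_zero (by rw [hc, zero_smul])
        refine ⟨Sum.inr (Units.mk0 c hc0), congrArg ConjClasses.mk (Units.ext ?_)⟩
        rw [hc]
        ext i j
        fin_cases i <;> fin_cases j <;> simp [Matrix.GeneralLinearGroup.scalar]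
      · refine ⟨Sum.inl ((g : Matrix (Fin 2) (Fin 2) F).trace, Matrix.GeneralLinearGroup.det g),
          ConjClasses.mk_eq_mk_iff_isConj.mpr (isConj_GL2 (hns _) hg ?_ ?_)⟩
        · simp [compGL, comp, Matrix.trace_fin_two]
        · simp [compGL, comp]
  rw [← Nat.card_congr (Equiv.ofBijective f hbij), Nat.card_sum, Nat.card_prod, Nat.card_units,
    Nat.card_eq_fintype_card]
  have hq : 2 ≤ Fintype.card F := Fintype.one_lt_card
  rw [← Nat.succ_mul, Nat.mul_sub_one, sq]
  have : Fintype.card F ≤ Fintype.card F * Fintype.card F := Nat.le_mul_self _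
  rw [Nat.succ_mul]
  omega

theorem norm_represents [Fintype F] (t c : F) (h : (ringChar F = 2) ∨ (t ≠ 2 ∧ t ≠ -2)) :
    ∃ a b : F, a * a + a * b * t + b * b = c := by
  by_cases h2 : ringChar F = 2
  · obtain ⟨r, hr⟩ := FiniteField.isSquare_of_char_two h2 c
    exact ⟨r, 0, by rw [hr]; ring⟩
  · obtain ⟨ht1, ht2⟩ := h.resolve_left h2
    have hodd : Fintype.card F % 2 = 1 := FiniteField.odd_card_of_char_ne_two h2
    have h2' : (2 : F) ≠ 0 := two_ne_zero_of_odd (Nat.odd_iff.mpr hodd)
    have hk : (4 - t * t : F) ≠ 0 := by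
      intro h0
      have : (t - 2) * (t + 2) = 0 := by linear_combination -h0
      rcases mul_eq_zero.mp this with h' | h'
      · exact ht1 (sub_eq_zero.mp h')
      · exact ht2 (eq_neg_of_add_eq_zero_left h')
    obtain ⟨u, v, huv⟩ := FiniteField.exists_root_sum_quadratic
      (f := Polynomial.X ^ 2) (g := Polynomial.C (4 - t * t) * Polynomial.X ^ 2 - Polynomial.C (4 * c))
      (by simp) (by
        rw [Polynomial.degree_sub_eq_left_of_degree_lt, Polynomial.degree_C_mul_X_pow 2 hk]
        · rfl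
        · rw [Polynomial.degree_C_mul_X_pow 2 hk]
          exact lt_of_le_of_lt Polynomial.degree_C_le (by norm_num)) hodd
    simp at huv
    refine ⟨(u - v * t) / 2, v, ?_⟩
    field_simp
    linear_combination huv

/-- Class number of `SL₂`, as an equivalence with explicit representatives: the general case. -/
theorem card_conjClasses_SL2_eq [Fintype F] (ν : F) (hν : ν ≠ 0) (T : Set F)
    (hT : ∀ t ∈ T, t = 2 ∨ t = -2)
    (hTν : T.Nonempty → ¬ IsSquare ν)
    (hrep : ∀ t : F, t ∉ T → ∀ c : F, ∃ a b : F, a * a + a * b * t + b * b = c)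
    (hsq : ∀ b : F, ¬ IsSquare b → IsSquare (ν * b)) :
    Nat.card (ConjClasses (Matrix.SpecialLinearGroup (Fin 2) F)) =
      Fintype.card F + Nat.card {s : F // s * s = 1} + Nat.card T := by
  classical
  let f : F ⊕ {s : F // s * s = 1} ⊕ T → ConjClasses (Matrix.SpecialLinearGroup (Fin 2) F) :=
    Sum.elim (fun t => ConjClasses.mk (compSL t 1 one_ne_zero))
      (Sum.elim (fun s => ConjClasses.mk (scalSL s)) (fun t => ConjClasses.mk (compSL t.1 ν hν)))
  have hsc : ∀ s : {s : F // s * s = 1}, IsScal (scalSL s : Matrix (Fin 2) (Fin 2) F) := by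
    intro s; simp [IsScal, scalSL_coe]
  have hne : ∀ (s : {s : F // s * s = 1}) (t μ : F) (hμ : μ ≠ 0), ¬ IsConj (scalSL s : Matrix.SpecialLinearGroup (Fin 2) F) (compSL t μ hμ) :=
    fun s t μ hμ h => not_isScal_compSL t μ hμ (isScal_of_isConj_SL2 h (hsc s) ▸ hsc s)
  have hne2 : ∀ t (t' : T), ¬ IsConj (compSL t 1 one_ne_zero) (compSL t'.1 ν hν) := by
    intro t t' h
    have htt : t = t'.1 := by simpa [trace_compSL] using trace_eq_of_isConj_SL2 h
    subst htt
    obtain ⟨x, y, hxy⟩ := qv_invariant_SL2 h 1 0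
    rw [qv_compSL, qv_compSL] at hxy
    simp at hxy
    apply hTν ⟨_, t'.2⟩
    rw [inv_mul_eq_iff_eq_mul₀ hν, mul_one] at hxy
    rcases hT _ t'.2 with h2 | h2 <;> rw [h2] at hxy
    · exact ⟨x + ν * y, by linear_combination -hxy⟩
    · exact ⟨x - ν * y, by linear_combination -hxy⟩
  have hbij : Function.Bijective f := by
    constructor
    · rintro (t | s | t) (t' | s' | t') h <;>
        simp only [f, Sum.elim_inl, Sum.elim_inr, ConjClasses.mk_eq_mk_iff_isConj] at h
      · rw [show t = t' by simpa [trace_compSL] using trace_eq_of_isConj_SL2 h]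
      · exact absurd h.symm (hne _ _ _ _)
      · exact absurd h (hne2 _ _)
      · exact absurd h (hne _ _ _ _)
      · have := congrArg (fun g : Matrix.SpecialLinearGroup (Fin 2) F => (g : Matrix (Fin 2) (Fin 2) F) 0 0)
          (isScal_of_isConj_SL2 h (hsc _))
        simp [scalSL_coe] at this
        rw [Subtype.ext this]
      · exact absurd h (hne _ _ _ _)
      · exact absurd h.symm (hne2 _ _)
      · exact absurd h.symm (hne _ _ _ _)
      · rw [Subtype.ext (show t.1 = t'.1 by simpa [trace_compSL] using trace_eq_of_isConj_SL2 h)]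
    · intro C
      obtain ⟨g, rfl⟩ := ConjClasses.mk_surjective C
      by_cases hg : IsScal (g : Matrix (Fin 2) (Fin 2) F)
      · obtain ⟨c, hc⟩ := isScal_iff.mp hg
        have hcc : c * c = 1 := by
          have := g.det_coe
          rw [hc] at this
          simpa [Matrix.det_fin_two, mul_self_eq_one_iff] using this
        refine ⟨Sum.inr (Sum.inl ⟨c, hcc⟩), congrArg ConjClasses.mk (Subtype.ext ?_)⟩
        change (scalSL ⟨c, hcc⟩ : Matrix (Fin 2) (Fin 2) F) = (g : Matrix (Fin 2) (Fin 2) F)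
        rw [hc]
        ext i j
        fin_cases i <;> fin_cases j <;> simp [scalSL_coe]
      · obtain ⟨x, y, hxy⟩ := exists_qv_ne_zero hg
        set t := (g : Matrix (Fin 2) (Fin 2) F).trace
        set c := qv (g : Matrix (Fin 2) (Fin 2) F) x y
        have main : ∀ μ (hμ : μ ≠ 0), (∃ a b : F, a * a + a * b * t + b * b = μ * c) →
            IsConj (compSL t μ hμ) g := by
          intro μ hμ ⟨a, b, hab⟩
          refine isConj_SL2 (trace_compSL t μ hμ) (x := 1) (y := 0) (x' := x) (y' := y)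
            (by simp [qv_compSL, hμ]) ⟨a, b, ?_⟩ hxy
          rw [trace_compSL, hab, qv_compSL]
          field_simp
          ring
        by_cases ht : t ∈ T
        · by_cases hs : IsSquare c
          · obtain ⟨r, hr⟩ := hs
            exact ⟨Sum.inl t, ConjClasses.mk_eq_mk_iff_isConj.mpr (main 1 one_ne_zero ⟨r, 0, by rw [hr]; ring⟩)⟩
          · obtain ⟨r, hr⟩ := hsq c hs
            exact ⟨Sum.inr (Sum.inr ⟨t, ht⟩), ConjClasses.mk_eq_mk_iff_isConj.mpr
              (main ν hν ⟨r, 0, by rw [hr]; ring⟩)⟩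
        · exact ⟨Sum.inl t, ConjClasses.mk_eq_mk_iff_isConj.mpr (main 1 one_ne_zero (hrep t ht _))⟩
  rw [← Nat.card_congr (Equiv.ofBijective f hbij), Nat.card_sum, Nat.card_sum, Nat.card_eq_fintype_card,
    add_assoc]

theorem card_conjClasses_SL2_odd [Fintype F] (hodd : Odd (Fintype.card F)) :
    Nat.card (ConjClasses (Matrix.SpecialLinearGroup (Fin 2) F)) = Fintype.card F + 4 := by
  classical
  have h2 := two_ne_zero_of_odd hodd
  have hrc := ringChar_ne_two hodd
  obtain ⟨ν, hν⟩ := FiniteField.exists_nonsquare hrc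
  have hν0 : ν ≠ 0 := fun h => hν (h ▸ IsSquare.zero)
  rw [card_conjClasses_SL2_eq ν hν0 ({2, -2} : Set F) (fun t ht => by simpa using ht) (fun _ => hν)
    (fun t ht c => norm_represents t c (Or.inr (by simpa using ht)))
    (fun b hb => isSquare_mul_or hrc hν hb), card_sqrt_one_odd h2, Nat.card_coe_set_eq, Set.ncard_pair]
  intro h
  exact h2 (mul_left_cancel₀ h2 (by linear_combination h))

theorem card_conjClasses_SL2_two [Fintype F] [CharP F 2] :
    Nat.card (ConjClasses (Matrix.SpecialLinearGroup (Fin 2) F)) = Fintype.card F + 1 := by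
  rw [card_conjClasses_SL2_eq (1 : F) one_ne_zero (∅ : Set F) (fun t ht => absurd ht (Set.notMem_empty t))
    (fun h => absurd h Set.not_nonempty_empty) (fun t _ c => norm_represents t c (Or.inl (ringChar.eq F 2)))
    (fun b _ => FiniteField.isSquare_of_char_two (ringChar.eq F 2) _), card_sqrt_one_two]
  simp

theorem card_centralizer_diag [Fintype F] {g : GL (Fin 2) F} (h01 : (g : Matrix (Fin 2) (Fin 2) F) 0 1 = 0)
    (h10 : (g : Matrix (Fin 2) (Fin 2) F) 1 0 = 0)
    (hne : (g : Matrix (Fin 2) (Fin 2) F) 0 0 ≠ (g : Matrix (Fin 2) (Fin 2) F) 1 1) :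
    Nat.card (Subgroup.centralizer ({g} : Set (GL (Fin 2) F))) = (Fintype.card F - 1) ^ 2 := by
  classical
  rw [card_centralizer_GL2 (fun h => hne h.2.2), Matrix.trace_fin_two, Matrix.det_fin_two, h01, h10, sq,
    ← Nat.card_eq_fintype_card, ← Nat.card_units, ← Nat.card_prod]
  set l := (g : Matrix (Fin 2) (Fin 2) F) 0 0
  set m := (g : Matrix (Fin 2) (Fin 2) F) 1 1
  have hlm : l - m ≠ 0 := sub_ne_zero.mpr hne
  refine Nat.card_congr
    { toFun := fun v => (Units.mk0 (v.1.1 + v.1.2 * l) (fun h => v.2 (by linear_combination (v.1.1 + v.1.2 * m) * h)),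
        Units.mk0 (v.1.1 + v.1.2 * m) (fun h => v.2 (by linear_combination (v.1.1 + v.1.2 * l) * h)))
      invFun := fun w => ⟨((w.1 : F) - ((w.1 : F) - w.2) / (l - m) * l, ((w.1 : F) - w.2) / (l - m)), by
        have : ((w.1 : F)) * w.2 ≠ 0 := mul_ne_zero w.1.ne_zero w.2.ne_zero
        refine fun h => this ?_
        rw [← h]
        field_simp
        ring⟩
      left_inv := fun v => by ext <;> simp <;> field_simp <;> ring
      right_inv := fun w => by ext <;> simp <;> field_simp <;> ring }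

theorem qv_ne_zero_of_noEigen {M : Matrix (Fin 2) (Fin 2) F}
    (h : ∀ (c : F) (v : Fin 2 → F), v ≠ 0 → M.mulVec v ≠ c • v) : M 1 0 ≠ 0 ∧ ∀ x : F, qv M x 1 ≠ 0 := by
  refine ⟨fun h10 => h (M 0 0) ![1, 0] (fun e => by simpa using congrFun e 0) ?_, fun x hx => ?_⟩
  · ext i
    fin_cases i <;> simp [Matrix.mulVec, dotProduct, Fin.sum_univ_two, h10]
  · refine h (M 1 0 * x + M 1 1) ![x, 1] (fun e => by simpa using congrFun e 1) ?_
    simp [qv] at hx
    ext i
    fin_cases i <;> simp [Matrix.mulVec, dotProduct, Fin.sum_univ_two]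
    linear_combination -hx

theorem card_centralizer_noEigen [Fintype F] {g : GL (Fin 2) F}
    (h : ∀ (c : F) (v : Fin 2 → F), v ≠ 0 → (g : Matrix (Fin 2) (Fin 2) F).mulVec v ≠ c • v) :
    Nat.card (Subgroup.centralizer ({g} : Set (GL (Fin 2) F))) = Fintype.card F ^ 2 - 1 := by
  classical
  obtain ⟨h10, -⟩ := qv_ne_zero_of_noEigen h
  rw [card_centralizer_GL2 (fun hs => h10 hs.2.1), sq, ← Fintype.card_prod,
    ← Fintype.card_subtype_eq ((0, 0) : F × F), ← Fintype.card_subtype_compl, Nat.card_eq_fintype_card]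
  refine Fintype.card_congr (Equiv.subtypeEquivRight fun v => ⟨fun hv hv0 => hv (by rw [hv0]; ring), fun hv hQ => ?_⟩)
  obtain ⟨a, b⟩ := v
  rw [← det_add_smul, ← Matrix.exists_mulVec_eq_zero_iff] at hQ
  obtain ⟨w, hw, hw0⟩ := hQ
  rw [Matrix.add_mulVec, Matrix.smul_mulVec, Matrix.smul_mulVec, Matrix.one_mulVec] at hw0
  by_cases hb : b = 0
  · subst hb
    simp at hw0
    exact hv (by rw [hw0.resolve_right hw])
  · refine h (-a / b) w hw ?_
    have := eq_neg_of_add_eq_zero_right hw0
    rw [div_eq_inv_mul, mul_smul, neg_smul, ← this, smul_smul, inv_mul_cancel₀ hb, one_smul]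

/-- Coset representatives of the Borel subgroup. -/
def lineRep : Option F → GL (Fin 2) F
  | none => 1
  | some x => Matrix.GeneralLinearGroup.mkOfDetNeZero !![x, 1; 1, 0] (by simp)

theorem mem_upper_iff (k : GL (Fin 2) F) :
    k ∈ Cfsg.upperTriangularGL 2 F ↔ (k : Matrix (Fin 2) (Fin 2) F) 1 0 = 0 := by
  constructor
  · intro h
    exact h (show id (0 : Fin 2) < id 1 by decide)
  · intro h i j hij
    fin_cases i <;> fin_cases j <;> first | exact h | simp at hij

theorem inv_lineRep_some (x : F) :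
    (((lineRep (some x))⁻¹ : GL (Fin 2) F) : Matrix (Fin 2) (Fin 2) F) = !![0, 1; 1, -x] := by
  rw [Matrix.coe_units_inv]
  refine Matrix.inv_eq_right_inv ?_
  ext i j
  fin_cases i <;> fin_cases j <;> simp [lineRep, Matrix.mul_apply, Fin.sum_univ_two]

theorem lineRep_bijective :
    Function.Bijective (fun o : Option F => (lineRep o : GL (Fin 2) F ⧸ Cfsg.upperTriangularGL 2 F)) := by
  constructor
  · rintro (_ | x) (_ | y) h <;> simp only [QuotientGroup.eq, mem_upper_iff] at h
    · rfl
    · exfalso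
      simp [lineRep] at h
    · exfalso
      rw [Units.val_mul, inv_lineRep_some] at h
      simp [lineRep] at h
    · rw [Units.val_mul, inv_lineRep_some] at h
      simp [lineRep, Matrix.mul_apply, Fin.sum_univ_two] at h
      rw [show y = x by linear_combination h]
  · intro C
    induction C using QuotientGroup.induction_on with
    | _ k =>
      by_cases h : (k : Matrix (Fin 2) (Fin 2) F) 1 0 = 0
      · exact ⟨none, QuotientGroup.eq.mpr (by simpa [lineRep, mem_upper_iff] using h)⟩
      · refine ⟨some ((k : Matrix (Fin 2) (Fin 2) F) 0 0 / (k : Matrix (Fin 2) (Fin 2) F) 1 0),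
          QuotientGroup.eq.mpr ?_⟩
        rw [mem_upper_iff, Units.val_mul, inv_lineRep_some]
        simp [Matrix.mul_apply, Fin.sum_univ_two]
        field_simp
        ring

theorem card_fixed_cosets [Fintype F] (g : GL (Fin 2) F) :
    Nat.card (MulAction.fixedBy (GL (Fin 2) F ⧸ Cfsg.upperTriangularGL 2 F) g) =
      Nat.card {o : Option F // match o with
        | none => (g : Matrix (Fin 2) (Fin 2) F) 1 0 = 0
        | some x => qv (g : Matrix (Fin 2) (Fin 2) F) x 1 = 0} := by
  refine (Nat.card_congr (Equiv.subtypeEquiv (Equiv.ofBijective _ lineRep_bijective) fun o => ?_)).symm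
  rw [MulAction.mem_fixedBy, Equiv.ofBijective_apply, eq_comm (a := g • _), MulAction.Quotient.smul_coe,
    QuotientGroup.eq, mem_upper_iff]
  rcases o with _ | x
  · simp [lineRep]
  · rw [Units.val_mul, inv_lineRep_some]
    simp only [lineRep, smul_eq_mul, Units.val_mul]
    simp [Matrix.mul_apply, Fin.sum_univ_two, qv]
    constructor <;> intro h <;> linear_combination -h

end

end Cfsg.Agent.Lib.KnownA
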