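import Mathlib
import Cfsg.Agent.Lib.KnownA.GL2Count
import Cfsg.Agent.Lib.KnownA.CharAux

/-! Characters of `GL₂(q)` induced from the Borel subgroup. -/

set_option autoImplicit false

namespace Cfsg.Agent.Lib.KnownA

open scoped ComplexConjugate
open Matrix Cfsg Cfsg.Agent.Lib.Characters

section
variable {F : Type*} [Field F]

/-- The upper triangular matrix `(a c; 0 d)`. -/
def bGL (a d : Fˣ) (c : F) : GL (Fin 2) F :=
  Matrix.GeneralLinearGroup.mkOfDetNeZero !![(a : F), c; 0, (d : F)] (by simp)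

theorem bGL_coe (a d : Fˣ) (c : F) :
    (bGL a d c : Matrix (Fin 2) (Fin 2) F) = !![(a : F), c; 0, (d : F)] := rfl

theorem upper_diag_ne_zero (b : Cfsg.upperTriangularGL 2 F) :
    ((b : GL (Fin 2) F) : Matrix (Fin 2) (Fin 2) F) 0 0 ≠ 0 ∧
      ((b : GL (Fin 2) F) : Matrix (Fin 2) (Fin 2) F) 1 1 ≠ 0 := by
  have h := ((b : GL (Fin 2) F).isUnit.map Matrix.detMonoidHom).ne_zero
  simp only [Matrix.coe_detMonoidHom, Matrix.det_fin_two, (mem_upper_iff _).mp b.2, mul_zero, sub_zero] at h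
  exact ⟨left_ne_zero_of_mul h, right_ne_zero_of_mul h⟩

/-- `Fˣ × Fˣ × F` parametrises the Borel subgroup. -/
noncomputable def borelEquivGL : (Fˣ × Fˣ) × F ≃ Cfsg.upperTriangularGL 2 F :=
  Equiv.ofBijective (fun x => ⟨bGL x.1.1 x.1.2 x.2, (mem_upper_iff _).mpr (by simp [bGL_coe])⟩) (by
    constructor
    · rintro ⟨⟨a, d⟩, c⟩ ⟨⟨a', d'⟩, c'⟩ h
      have h' : bGL a d c = bGL a' d' c' := congrArg Subtype.val h
      have e00 := congrArg (fun k : GL (Fin 2) F => (k : Matrix (Fin 2) (Fin 2) F) 0 0) h'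
      have e01 := congrArg (fun k : GL (Fin 2) F => (k : Matrix (Fin 2) (Fin 2) F) 0 1) h'
      have e11 := congrArg (fun k : GL (Fin 2) F => (k : Matrix (Fin 2) (Fin 2) F) 1 1) h'
      simp [bGL_coe] at e00 e01 e11
      rw [Units.ext e00, Units.ext e11, e01]
    · intro b
      refine ⟨((Units.mk0 _ (upper_diag_ne_zero b).1, Units.mk0 _ (upper_diag_ne_zero b).2),
        ((b : GL (Fin 2) F) : Matrix (Fin 2) (Fin 2) F) 0 1), Subtype.ext (Units.ext ?_)⟩
      ext i j
      fin_cases i <;> fin_cases j <;> simp [bGL_coe, (mem_upper_iff _).mp b.2])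

theorem borelEquivGL_coe (x : (Fˣ × Fˣ) × F) :
    ((borelEquivGL x : Cfsg.upperTriangularGL 2 F) : GL (Fin 2) F) = bGL x.1.1 x.1.2 x.2 := rfl

/-- The linear character `b ↦ α(b₀₀) β(b₁₁)` of the Borel subgroup. -/
noncomputable def borelHomGL (α β : MulChar F ℂ) : Cfsg.upperTriangularGL 2 F →* ℂ where
  toFun b := α (((b : GL (Fin 2) F) : Matrix (Fin 2) (Fin 2) F) 0 0) *
    β (((b : GL (Fin 2) F) : Matrix (Fin 2) (Fin 2) F) 1 1)
  map_one' := by simp
  map_mul' a b := by
    have ha := (mem_upper_iff _).mp a.2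
    have hb := (mem_upper_iff _).mp b.2
    rw [Subgroup.coe_mul, Units.val_mul]
    simp only [Matrix.mul_apply, Fin.sum_univ_two, ha, hb, mul_zero, zero_mul, add_zero, zero_add, map_mul]
    ring

/-- The induced function in the statements. -/
noncomputable def indGL [Fintype F] [DecidableEq F] (α β : MulChar F ℂ) : GL (Fin 2) F → ℂ :=
  Cfsg.indFun (Cfsg.upperTriangularGL 2 F)
    (fun b => α (((b : GL (Fin 2) F) : Matrix (Fin 2) (Fin 2) F) 0 0) *
      β (((b : GL (Fin 2) F) : Matrix (Fin 2) (Fin 2) F) 1 1))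

variable [Fintype F] [DecidableEq F]

theorem isCharacter_borelHomGL (α β : MulChar F ℂ) :
    IsCharacter (Cfsg.upperTriangularGL 2 F) (fun b => α (((b : GL (Fin 2) F) : Matrix (Fin 2) (Fin 2) F) 0 0) *
      β (((b : GL (Fin 2) F) : Matrix (Fin 2) (Fin 2) F) 1 1)) :=
  IsIrrCharacter.isCharacter (isIrrCharacter_monoidHom (borelHomGL α β))

theorem isCharacter_indGL (α β : MulChar F ℂ) : IsCharacter (GL (Fin 2) F) (indGL α β) :=
  IsCharacter.indFun _ (isCharacter_borelHomGL α β)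

theorem conj_coset_entries (g : GL (Fin 2) F) (x : F) :
    (((lineRep (some x))⁻¹ * g * lineRep (some x) : GL (Fin 2) F) : Matrix (Fin 2) (Fin 2) F) 1 0 =
        -qv (g : Matrix (Fin 2) (Fin 2) F) x 1 ∧
    (((lineRep (some x))⁻¹ * g * lineRep (some x) : GL (Fin 2) F) : Matrix (Fin 2) (Fin 2) F) 0 0 =
        (g : Matrix (Fin 2) (Fin 2) F) 1 1 + x * (g : Matrix (Fin 2) (Fin 2) F) 1 0 ∧
    (((lineRep (some x))⁻¹ * g * lineRep (some x) : GL (Fin 2) F) : Matrix (Fin 2) (Fin 2) F) 1 1 =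
        (g : Matrix (Fin 2) (Fin 2) F) 0 0 - x * (g : Matrix (Fin 2) (Fin 2) F) 1 0 := by
  simp only [Units.val_mul, inv_lineRep_some]
  refine ⟨?_, ?_, ?_⟩ <;>
    simp [lineRep, Matrix.mul_apply, Matrix.vecMul, dotProduct, Fin.sum_univ_two, qv] <;> ring

theorem indGL_apply (α β : MulChar F ℂ) (g : GL (Fin 2) F) :
    indGL α β g =
      (if (g : Matrix (Fin 2) (Fin 2) F) 1 0 = 0 then
        α ((g : Matrix (Fin 2) (Fin 2) F) 0 0) * β ((g : Matrix (Fin 2) (Fin 2) F) 1 1) else 0) +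
      ∑ x : F, if qv (g : Matrix (Fin 2) (Fin 2) F) x 1 = 0 then
        α ((g : Matrix (Fin 2) (Fin 2) F) 1 1 + x * (g : Matrix (Fin 2) (Fin 2) F) 1 0) *
          β ((g : Matrix (Fin 2) (Fin 2) F) 0 0 - x * (g : Matrix (Fin 2) (Fin 2) F) 1 0) else 0 := by
  classical
  have hval : ∀ k : GL (Fin 2) F, extendByZero (Cfsg.upperTriangularGL 2 F)
      (fun b => α (((b : GL (Fin 2) F) : Matrix (Fin 2) (Fin 2) F) 0 0) *
        β (((b : GL (Fin 2) F) : Matrix (Fin 2) (Fin 2) F) 1 1)) k =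
      if (k : Matrix (Fin 2) (Fin 2) F) 1 0 = 0 then
        α ((k : Matrix (Fin 2) (Fin 2) F) 0 0) * β ((k : Matrix (Fin 2) (Fin 2) F) 1 1) else 0 := by
    intro k
    split_ifs with h
    · exact extendByZero_of_mem _ _ ((mem_upper_iff k).mpr h)
    · exact extendByZero_of_not_mem _ _ (fun hk => h ((mem_upper_iff k).mp hk))
  rw [indGL, indFun_eq_sum_transversal _ _ (IsCharacter.isClassFunction (isCharacter_borelHomGL α β))
    lineRep lineRep_bijective, Fintype.sum_option]
  simp only [hval]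
  congr 1
  · simp [lineRep]
  · refine Finset.sum_congr rfl fun x _ => ?_
    obtain ⟨h1, h2, h3⟩ := conj_coset_entries g x
    simp only [h1, h2, h3, neg_eq_zero]

theorem card_roots_line (u : F) : ∑ c : F, ∑ x : F, (if u * x = c then (1 : ℂ) else 0) = Fintype.card F := by
  rw [Finset.sum_comm]
  simp

/-- The sum of a function over the elements `(a *; 0 d)`. -/
noncomputable def csum (φ : GL (Fin 2) F → ℂ) (a d : Fˣ) : ℂ := ∑ c : F, φ (bGL a d c)

theorem csum_sub (φ ψ : GL (Fin 2) F → ℂ) (a d : Fˣ) : csum (φ - ψ) a d = csum φ a d - csum ψ a d := by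
  simp [csum, Finset.sum_sub_distrib]

theorem csum_indGL (α β : MulChar F ℂ) (a d : Fˣ) :
    csum (indGL α β) a d =
      (Fintype.card F : ℂ) * (α (a : F) * β (d : F) + α (d : F) * β (a : F)) := by
  have h : ∀ c : F, indGL α β (bGL a d c) = α (a : F) * β (d : F) +
      (α (d : F) * β (a : F)) * ∑ x : F, (if ((d : F) - a) * x = c then (1 : ℂ) else 0) := by
    intro c
    rw [indGL_apply, Finset.mul_sum]
    simp only [bGL_coe]
    simp only [qv]
    simp [sub_eq_zero]
  rw [csum]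
  simp only [h]
  rw [Finset.sum_add_distrib, Finset.sum_const, Finset.card_univ, nsmul_eq_mul, ← Finset.mul_sum,
    card_roots_line]
  ring

theorem classInner_indGL_left (α β : MulChar F ℂ) {φ : GL (Fin 2) F → ℂ}
    (hφ : IsClassFunction (GL (Fin 2) F) φ) :
    classInner (indGL α β) φ = (((Fintype.card F - 1) * (Fintype.card F - 1) * Fintype.card F : ℕ) : ℂ)⁻¹ *
      ∑ a : Fˣ, ∑ d : Fˣ, α (a : F) * β (d : F) * conj (csum φ a d) := by
  classical
  rw [indGL, classInner_indFun _ _ hφ, classInner, ← Nat.card_congr (borelEquivGL (F := F)),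
    ← borelEquivGL.sum_comp, Nat.card_eq_fintype_card, Fintype.card_prod, Fintype.card_prod,
    Fintype.card_units]
  congr 1
  rw [Fintype.sum_prod_type, Fintype.sum_prod_type]
  refine Finset.sum_congr rfl fun a _ => Finset.sum_congr rfl fun d _ => ?_
  simp only [borelEquivGL_coe, csum, map_sum, Finset.mul_sum]
  simp [bGL_coe]

theorem pair_norm_aux {q c : ℂ} (P Q R S : Prop) [Decidable P] [Decidable Q] [Decidable R] [Decidable S]
    (hq : q ≠ 0) (hc : c ≠ 0) :
    (c * c * q)⁻¹ * (q * ((if P then c else 0) * (if Q then c else 0))) +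
      (c * c * q)⁻¹ * (q * ((if R then c else 0) * (if S then c else 0))) =
    (if P ∧ Q then (1 : ℂ) else 0) + (if R ∧ S then (1 : ℂ) else 0) := by
  by_cases P <;> by_cases Q <;> by_cases R <;> by_cases S <;> simp [*] <;> field_simp <;> ring

theorem classInner_indGL_indGL (α β α' β' : MulChar F ℂ) :
    classInner (indGL α β) (indGL α' β') =
      @ite ℂ (α = α' ∧ β = β') (Classical.propDecidable _) 1 0 +
      @ite ℂ (α = β' ∧ β = α') (Classical.propDecidable _) 1 0 := by
  classical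
  rw [classInner_indGL_left _ _ (IsCharacter.isClassFunction (isCharacter_indGL α' β'))]
  simp only [csum_indGL, map_mul, map_add, map_natCast, mul_add, Finset.sum_add_distrib]
  have key : ∀ (γ δ : MulChar F ℂ),
      ∑ a : Fˣ, ∑ d : Fˣ, α (a : F) * β (d : F) * ((Fintype.card F : ℂ) * (conj (γ (a : F)) * conj (δ (d : F)))) =
      (Fintype.card F : ℂ) * ((∑ a : Fˣ, α (a : F) * conj (γ (a : F))) * ∑ d : Fˣ, β (d : F) * conj (δ (d : F))) := by
    intro γ δ
    rw [Finset.sum_mul, Finset.mul_sum]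
    refine Finset.sum_congr rfl fun a _ => ?_
    rw [Finset.mul_sum, Finset.mul_sum]
    exact Finset.sum_congr rfl fun d _ => by ring
  have key2 : ∑ a : Fˣ, ∑ d : Fˣ, α (a : F) * β (d : F) * ((Fintype.card F : ℂ) * (conj (α' (d : F)) * conj (β' (a : F)))) =
      ∑ a : Fˣ, ∑ d : Fˣ, α (a : F) * β (d : F) * ((Fintype.card F : ℂ) * (conj (β' (a : F)) * conj (α' (d : F)))) :=
    Finset.sum_congr rfl fun a _ => Finset.sum_congr rfl fun d _ => by ring
  rw [key, key2, key, sum_units_mulChar, sum_units_mulChar, sum_units_mulChar, sum_units_mulChar]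
  have hq : ((Fintype.card F : ℕ) : ℂ) ≠ 0 := Nat.cast_ne_zero.mpr Fintype.card_ne_zero
  have hq1 : ((Fintype.card F - 1 : ℕ) : ℂ) ≠ 0 :=
    Nat.cast_ne_zero.mpr (by have := Fintype.one_lt_card (α := F); omega)
  push_cast
  convert pair_norm_aux (α = α') (β = β') (α = β') (β = α') hq hq1

theorem not_isScal_bGL {a d : Fˣ} {c : F} (h : a ≠ d ∨ c ≠ 0) :
    ¬ IsScal (bGL a d c : Matrix (Fin 2) (Fin 2) F) := by
  rintro ⟨h1, -, h3⟩
  simp [bGL_coe] at h1 h3
  rcases h with h | h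
  · exact h (Units.ext h3)
  · exact h h1

theorem csum_of_ne {φ : GL (Fin 2) F → ℂ} (hφ : IsClassFunction (GL (Fin 2) F) φ) {a d : Fˣ} (h : a ≠ d) :
    csum φ a d = (Fintype.card F : ℂ) * φ (bGL a d 0) := by
  have : ∀ c : F, φ (bGL a d c) = φ (bGL a d 0) := fun c =>
    IsClassFunction.eq_of_isConj hφ (isConj_GL2 (not_isScal_bGL (Or.inl h)) (not_isScal_bGL (Or.inl h))
      (by simp [bGL_coe, Matrix.trace_fin_two]) (by simp [bGL_coe]))
  simp [csum, this]

theorem csum_symm {φ : GL (Fin 2) F → ℂ} (hφ : IsClassFunction (GL (Fin 2) F) φ) (a d : Fˣ) :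
    csum φ a d = csum φ d a := by
  by_cases h : a = d
  · rw [h]
  · rw [csum_of_ne hφ h, csum_of_ne hφ (Ne.symm h)]
    congr 1
    exact IsClassFunction.eq_of_isConj hφ (isConj_GL2 (not_isScal_bGL (Or.inl h)) (not_isScal_bGL (Or.inl (Ne.symm h)))
      (by simp [bGL_coe, Matrix.trace_fin_two, add_comm]) (by simp [bGL_coe, mul_comm]))

theorem indGL_comm (α β : MulChar F ℂ) : indGL α β = indGL β α := by
  haveI := Fintype.ofFinite (IrrCharacter (GL (Fin 2) F))
  refine ext_classInner (IsCharacter.isClassFunction (isCharacter_indGL α β))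
    (IsCharacter.isClassFunction (isCharacter_indGL β α)) fun χ => ?_
  rw [classInner_indGL_left _ _ (irr_isClassFunction χ), classInner_indGL_left _ _ (irr_isClassFunction χ)]
  congr 1
  conv_rhs => rw [Finset.sum_comm]
  exact Finset.sum_congr rfl fun a _ => Finset.sum_congr rfl fun d _ => by
    rw [csum_symm (irr_isClassFunction χ) d a]; ring

theorem indGL_one (α β : MulChar F ℂ) : indGL α β 1 = (Fintype.card F : ℂ) + 1 := by
  rw [indGL_apply]
  simp [qv, add_comm]

end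

end Cfsg.Agent.Lib.KnownA
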