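import Mathlib
import Cfsg.Agent.Lib.KnownA.GL2Ind

/-! The irreducible characters of `GL₂(q)`: linear, Steinberg twists, principal series, and the
others (`cuspidal`), all of degree `q - 1`. -/

set_option autoImplicit false

namespace Cfsg.Agent.Lib.KnownA

open scoped ComplexConjugate
open Matrix Cfsg Cfsg.Agent.Lib.Characters

section
variable {F : Type*} [Field F] [Fintype F] [DecidableEq F]

/-- `α ∘ det`. -/
noncomputable def glDetChar (α : MulChar F ℂ) : GL (Fin 2) F → ℂ :=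
  fun g => α ((g : Matrix (Fin 2) (Fin 2) F).det)

/-- The Steinberg character twisted by `α ∘ det`. -/
noncomputable def stein (α : MulChar F ℂ) : GL (Fin 2) F → ℂ := indGL α α - glDetChar α

theorem isIrr_detChar (α : MulChar F ℂ) : IsIrrCharacter (GL (Fin 2) F) (glDetChar α) :=
  isIrrCharacter_monoidHom
    (α.toMonoidHom.comp (Matrix.detMonoidHom.comp (Units.coeHom (Matrix (Fin 2) (Fin 2) F))))

theorem csum_detChar (α : MulChar F ℂ) (a d : Fˣ) :
    csum (glDetChar α) a d = (Fintype.card F : ℂ) * (α (a : F) * α (d : F)) := by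
  simp [csum, glDetChar, bGL_coe]

theorem classInner_indGL_detChar (α : MulChar F ℂ) : classInner (indGL α α) (glDetChar α) ≠ 0 := by
  intro h
  have h2 := classInner_indGL_indGL α α α α
  rw [classInner_indGL_left _ _ (IsCharacter.isClassFunction (isCharacter_indGL α α))] at h2
  rw [classInner_indGL_left _ _ (IsCharacter.isClassFunction (IsIrrCharacter.isCharacter (isIrr_detChar α)))] at h
  have e : ∀ a d : Fˣ, α (a : F) * α (d : F) * conj (csum (indGL α α) a d) =
      2 * (α (a : F) * α (d : F) * conj (csum (glDetChar α) a d)) := fun a d => by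
    rw [csum_indGL, csum_detChar, show α (a : F) * α (d : F) + α (d : F) * α (a : F) =
      2 * (α (a : F) * α (d : F)) by ring]
    simp only [map_mul, map_natCast, map_ofNat]
    ring
  simp only [e, ← Finset.mul_sum] at h2
  rw [mul_left_comm, h, mul_zero] at h2
  norm_num at h2

theorem isIrr_stein (α : MulChar F ℂ) : IsIrrCharacter (GL (Fin 2) F) (stein α) :=
  (isIrr_sub_of_norm_two (isCharacter_indGL α α) (by rw [classInner_indGL_indGL]; norm_num)
    (isIrr_detChar α) (classInner_indGL_detChar α)).1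

theorem isIrr_indGL {α β : MulChar F ℂ} (h : α ≠ β) : IsIrrCharacter (GL (Fin 2) F) (indGL α β) := by
  rw [IsCharacter.isIrr_iff (isCharacter_indGL α β), classInner_indGL_indGL]
  simp [h]

theorem detChar_one (α : MulChar F ℂ) : glDetChar α 1 = 1 := by simp [glDetChar]

theorem stein_one (α : MulChar F ℂ) : stein α 1 = (Fintype.card F : ℂ) := by
  rw [stein, Pi.sub_apply, indGL_one, detChar_one, add_sub_cancel_right]

theorem csum_stein (α : MulChar F ℂ) (a d : Fˣ) :
    csum (stein α) a d = (Fintype.card F : ℂ) * (α (a : F) * α (d : F)) := by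
  rw [stein, csum_sub, csum_indGL, csum_detChar]; ring

theorem indGL_eq_iff (α β α' β' : MulChar F ℂ) :
    indGL α β = indGL α' β' ↔ (α = α' ∧ β = β') ∨ (α = β' ∧ β = α') := by
  classical
  constructor
  · intro h
    have h1 := classInner_indGL_indGL α β α' β'
    rw [← h, classInner_indGL_indGL] at h1
    by_contra hc
    push Not at hc
    simp only [and_self, if_true, if_neg (not_and.mpr hc.1), if_neg (not_and.mpr hc.2), add_zero] at h1
    split_ifs at h1 <;> norm_num at h1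
  · rintro (⟨rfl, rfl⟩ | ⟨rfl, rfl⟩)
    · rfl
    · exact indGL_comm α β

/-- No constituent of an induced character from the Borel subgroup. -/
def CuspGL (χ : GL (Fin 2) F → ℂ) : Prop := ∀ a d : Fˣ, csum χ a d = 0

theorem card_F_ne_zero : ((Fintype.card F : ℕ) : ℂ) ≠ 0 := Nat.cast_ne_zero.mpr Fintype.card_ne_zero

theorem classification_GL2 {χ : GL (Fin 2) F → ℂ} (hχ : IsIrrCharacter (GL (Fin 2) F) χ) :
    CuspGL χ ∨ (∃ α, χ = glDetChar α) ∨ (∃ α, χ = stein α) ∨ (∃ α β, α ≠ β ∧ χ = indGL α β) := by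
  classical
  by_cases hc : CuspGL χ
  · exact Or.inl hc
  right
  have : ∃ α β, classInner (indGL α β) χ ≠ 0 := by
    by_contra hcon
    push Not at hcon
    apply hc
    intro a d
    have := eq_zero_of_pairing₂ (fun a d => conj (csum χ a d)) (fun α β => by
      have h := hcon α β
      rw [classInner_indGL_left _ _ (IsCharacter.isClassFunction (IsIrrCharacter.isCharacter hχ))] at h
      have hN : (((Fintype.card F - 1) * (Fintype.card F - 1) * Fintype.card F : ℕ) : ℂ)⁻¹ ≠ 0 := by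
        have := Fintype.one_lt_card (α := F)
        apply inv_ne_zero
        apply Nat.cast_ne_zero.mpr
        have : 0 < (Fintype.card F - 1) * (Fintype.card F - 1) * Fintype.card F :=
          Nat.mul_pos (Nat.mul_pos (by omega) (by omega)) (by omega)
        omega
      rw [← (mul_eq_zero.mp h).resolve_left hN]
      exact Finset.sum_congr rfl fun a _ => Finset.sum_congr rfl fun d _ => mul_comm _ _) a d
    simpa using this
  obtain ⟨α, β, h⟩ := this
  by_cases hab : α = β
  · subst hab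
    obtain ⟨a, b, -, he⟩ := exists_two_irr (isCharacter_indGL α α) (by rw [classInner_indGL_indGL]; norm_num)
    by_cases hdet : χ = glDetChar α
    · exact Or.inl ⟨α, hdet⟩
    refine Or.inr (Or.inl ⟨α, eq_of_classInner_ne_zero (isIrr_stein α) hχ ?_⟩)
    rw [stein, classInner_sub_left,
      IsIrrCharacter.classInner_ne (isIrr_detChar α) hχ (Ne.symm hdet), sub_zero]
    exact h
  · exact Or.inr (Or.inr ⟨α, β, hab, eq_of_classInner_ne_zero (isIrr_indGL hab) hχ h⟩)

/-- Index type of the non-cuspidal characters. -/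
abbrev GLIdx (F : Type*) [Field F] : Type _ :=
  MulChar F ℂ ⊕ MulChar F ℂ ⊕ {s : Sym2 (MulChar F ℂ) // ¬ s.IsDiag}

/-- The non-cuspidal characters. -/
noncomputable def glList : GLIdx F → IrrCharacter (GL (Fin 2) F)
  | Sum.inl α => ⟨glDetChar α, isIrr_detChar α⟩
  | Sum.inr (Sum.inl α) => ⟨stein α, isIrr_stein α⟩
  | Sum.inr (Sum.inr s) => ⟨Sym2.lift ⟨indGL, indGL_comm⟩ s.1, by
      obtain ⟨s, hs⟩ := s
      induction s using Sym2.inductionOn with
      | _ α β => exact isIrr_indGL (by simpa using hs)⟩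

theorem glList_one : ∀ i : GLIdx F, (glList i : GL (Fin 2) F → ℂ) 1 =
    Sum.elim (fun _ => 1) (Sum.elim (fun _ => (Fintype.card F : ℂ)) (fun _ => (Fintype.card F : ℂ) + 1)) i
  | Sum.inl α => detChar_one α
  | Sum.inr (Sum.inl α) => stein_one α
  | Sum.inr (Sum.inr ⟨s, hs⟩) => by
      induction s using Sym2.inductionOn with
      | _ α β => exact indGL_one α β

theorem mulChar_eq_of_csum {α β : MulChar F ℂ}
    (h : ∀ a : Fˣ, (Fintype.card F : ℂ) * (α (a : F) * α ((1 : Fˣ) : F)) =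
      (Fintype.card F : ℂ) * (β (a : F) * β ((1 : Fˣ) : F))) : α = β := by
  refine MulChar.ext fun a => ?_
  simpa [card_F_ne_zero] using h a

theorem glList_injective : Function.Injective (glList : GLIdx F → IrrCharacter (GL (Fin 2) F)) := by
  intro i j hij
  have h1 : (glList i : GL (Fin 2) F → ℂ) 1 = (glList j : GL (Fin 2) F → ℂ) 1 := by rw [hij]
  rw [glList_one, glList_one] at h1
  have hq : ((Fintype.card F : ℕ) : ℂ) ≠ 1 := by
    have := Fintype.one_lt_card (α := F)
    exact_mod_cast (by omega : Fintype.card F ≠ 1)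
  rcases i with α | α | ⟨s, hs⟩ <;> rcases j with β | β | ⟨t, ht⟩ <;>
    simp only [Sum.elim_inl, Sum.elim_inr] at h1
  · have h : glDetChar α = glDetChar β := congrArg Subtype.val hij
    exact congrArg Sum.inl (mulChar_eq_of_csum fun a => by rw [← csum_detChar, h, csum_detChar])
  · exact absurd h1.symm hq
  · exact absurd (add_right_cancel ((zero_add (1 : ℂ)).trans h1)).symm card_F_ne_zero
  · exact absurd h1 hq
  · have h : stein α = stein β := congrArg Subtype.val hij
    exact congrArg (Sum.inr ∘ Sum.inl) (mulChar_eq_of_csum fun a => by rw [← csum_stein, h, csum_stein])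
  · exact absurd (left_eq_add.mp h1) one_ne_zero
  · exact absurd (add_right_cancel (h1.trans (zero_add (1 : ℂ)).symm)) card_F_ne_zero
  · exact absurd (left_eq_add.mp h1.symm) one_ne_zero
  · have h : Sym2.lift ⟨indGL, indGL_comm⟩ s = Sym2.lift ⟨indGL, indGL_comm⟩ t := congrArg Subtype.val hij
    simp only [Sum.inr.injEq, Subtype.mk.injEq]
    revert h
    induction s using Sym2.inductionOn with
    | _ α β => induction t using Sym2.inductionOn with
      | _ γ δ => intro h; rw [Sym2.eq_iff]; exact (indGL_eq_iff α β γ δ).mp h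

theorem not_cusp_iff (χ : IrrCharacter (GL (Fin 2) F)) :
    ¬ CuspGL (χ : GL (Fin 2) F → ℂ) ↔ χ ∈ Set.range (glList : GLIdx F → _) := by
  constructor
  · intro h
    rcases classification_GL2 χ.2 with hc | ⟨α, e⟩ | ⟨α, e⟩ | ⟨α, β, hab, e⟩
    · exact absurd hc h
    · exact ⟨Sum.inl α, Subtype.ext e.symm⟩
    · exact ⟨Sum.inr (Sum.inl α), Subtype.ext e.symm⟩
    · exact ⟨Sum.inr (Sum.inr ⟨s(α, β), by simpa using hab⟩), Subtype.ext e.symm⟩
  · rintro ⟨i, rfl⟩ h
    have h1 := h 1 1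
    rcases i with α | α | ⟨s, hs⟩
    · simp only [glList, csum_detChar] at h1
      simp [card_F_ne_zero] at h1
    · simp only [glList, csum_stein] at h1
      simp [card_F_ne_zero] at h1
    · revert h1
      induction s using Sym2.inductionOn with
      | _ α β =>
        simp only [glList, Sym2.lift_mk, csum_indGL]
        simp [card_F_ne_zero]

theorem card_offDiag_mulChar :
    Nat.card {s : Sym2 (MulChar F ℂ) // ¬ s.IsDiag} = (Fintype.card F - 1) * (Fintype.card F - 2) / 2 := by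
  classical
  rw [Nat.card_eq_fintype_card, Sym2.card_subtype_not_diag, Nat.choose_two_right, card_mulChar,
    show Fintype.card F - 1 - 1 = Fintype.card F - 2 by omega]

theorem card_cusp_GL2 :
    Nat.card {χ : IrrCharacter (GL (Fin 2) F) // CuspGL (χ : GL (Fin 2) F → ℂ)} =
      Fintype.card F * (Fintype.card F - 1) / 2 := by
  classical
  haveI := Fintype.ofFinite (IrrCharacter (GL (Fin 2) F))
  have h1 : Nat.card {χ : IrrCharacter (GL (Fin 2) F) // ¬ CuspGL (χ : GL (Fin 2) F → ℂ)} =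
      Nat.card (GLIdx F) :=
    (Nat.card_congr (Equiv.subtypeEquivRight fun χ => not_cusp_iff χ)).trans
      (Nat.card_congr (Equiv.ofInjective _ glList_injective).symm)
  have h2 := card_irrCharacter (G := GL (Fin 2) F)
  rw [card_conjClasses_GL2, ← Nat.card_congr (Equiv.sumCompl fun χ : IrrCharacter (GL (Fin 2) F) => CuspGL (χ : GL (Fin 2) F → ℂ)),
    Nat.card_sum, h1, Nat.card_sum, Nat.card_sum, card_offDiag_mulChar, Nat.card_eq_fintype_card (α := MulChar F ℂ),
    card_mulChar] at h2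
  have hq := Fintype.one_lt_card (α := F)
  obtain ⟨k, hk⟩ : ∃ k, Fintype.card F = k + 2 := ⟨Fintype.card F - 2, by omega⟩
  rw [hk] at h2 ⊢
  simp only [Nat.add_sub_cancel, show k + 2 - 1 = k + 1 by omega] at h2 ⊢
  have e1 : (k + 2) ^ 2 = (k + 1) * k + 3 * (k + 1) + 1 := by ring
  have e2 : (k + 2) * (k + 1) = (k + 1) * k + 2 * (k + 1) := by ring
  obtain ⟨r, hr⟩ := (Nat.even_mul_succ_self k).two_dvd
  rw [mul_comm] at hr
  rw [e1] at h2
  rw [e2]
  omega

theorem cusp_data {χ : GL (Fin 2) F → ℂ} (hχ : IsIrrCharacter (GL (Fin 2) F) χ) (hc : CuspGL χ) :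
    χ 1 + ((Fintype.card F - 1 : ℕ) : ℂ) * χ (bGL 1 1 1) = 0 := by
  classical
  have h := hc 1 1
  rw [csum, ← Finset.add_sum_erase _ _ (Finset.mem_univ (0 : F))] at h
  have h0 : bGL (1 : Fˣ) 1 (0 : F) = 1 := by
    apply Units.ext
    ext i j
    fin_cases i <;> fin_cases j <;> simp [bGL_coe]
  have hne : ∀ c ∈ Finset.univ.erase (0 : F), χ (bGL 1 1 c) = χ (bGL 1 1 1) := fun c hc =>
    IsClassFunction.eq_of_isConj (IsCharacter.isClassFunction (IsIrrCharacter.isCharacter hχ))
      (isConj_GL2 (not_isScal_bGL (Or.inr (Finset.ne_of_mem_erase hc))) (not_isScal_bGL (Or.inr one_ne_zero))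
        (by simp [bGL_coe, Matrix.trace_fin_two]) (by simp [bGL_coe]))
  rw [Finset.sum_congr rfl hne, h0, Finset.sum_const, Finset.card_erase_of_mem (Finset.mem_univ _),
    Finset.card_univ, nsmul_eq_mul] at h
  exact h

/-- Every cuspidal character has degree `q - 1`. -/
theorem cusp_degree {χ : GL (Fin 2) F → ℂ} (hχ : IsIrrCharacter (GL (Fin 2) F) χ) (hc : CuspGL χ) :
    χ 1 = ((Fintype.card F - 1 : ℕ) : ℂ) := by
  classical
  haveI := Fintype.ofFinite (IrrCharacter (GL (Fin 2) F))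
  have hq := Fintype.one_lt_card (α := F)
  have hm : ∀ ψ : {ψ : IrrCharacter (GL (Fin 2) F) // CuspGL (ψ : GL (Fin 2) F → ℂ)},
      ∃ m : ℕ, 1 ≤ m ∧ (ψ.1 : GL (Fin 2) F → ℂ) 1 = ((m * (Fintype.card F - 1) : ℕ) : ℂ) := by
    intro ψ
    obtain ⟨d, hd0, hd⟩ := IsIrrCharacter.exists_apply_one ψ.1.2
    have h := cusp_data ψ.1.2 ψ.2
    rw [hd] at h
    obtain ⟨z, -, hz2⟩ := exists_int_of_mul_eq
      (IsCharacter.isIntegral (irr_isCharacter ψ.1) (bGL 1 1 1))
      (n := Fintype.card F - 1) (by omega) (m := -(d : ℤ)) (by push_cast; linear_combination h)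
    have hdvd : Fintype.card F - 1 ∣ d := by
      have : ((Fintype.card F - 1 : ℕ) : ℤ) ∣ (d : ℤ) := ⟨-z, by linear_combination hz2⟩
      exact_mod_cast this
    obtain ⟨m, hm⟩ := hdvd
    refine ⟨m, Nat.pos_of_ne_zero fun h0 => ?_, by rw [hd, hm, mul_comm]⟩
    subst h0; simp at hm; omega
  choose m hm1 hm2 using hm
  have hsum := sum_degree_sq (G := GL (Fin 2) F)
  rw [← Fintype.sum_subtype_add_sum_subtype (fun ψ : IrrCharacter (GL (Fin 2) F) => CuspGL (ψ : GL (Fin 2) F → ℂ))] at hsum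
  have hnon : ∑ ψ : {ψ : IrrCharacter (GL (Fin 2) F) // ¬ CuspGL (ψ : GL (Fin 2) F → ℂ)},
      (ψ.1 : GL (Fin 2) F → ℂ) 1 ^ 2 = ((Fintype.card F - 1 : ℕ) : ℂ) + ((Fintype.card F - 1 : ℕ) : ℂ) * (Fintype.card F : ℂ) ^ 2 +
        ((Fintype.card F - 1) * (Fintype.card F - 2) / 2 : ℕ) * ((Fintype.card F : ℂ) + 1) ^ 2 := by
    rw [← Fintype.sum_equiv ((Equiv.ofInjective _ glList_injective).trans
      (Equiv.subtypeEquivRight fun χ => (not_cusp_iff χ).symm)) (fun i => (glList i : GL (Fin 2) F → ℂ) 1 ^ 2)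
      _ (fun i => rfl)]
    simp only [glList_one, Fintype.sum_sum_type, Sum.elim_inl, Sum.elim_inr, Finset.sum_const,
      Finset.card_univ, card_mulChar, nsmul_eq_mul, one_pow, mul_one, ← Nat.card_eq_fintype_card (α := {s : Sym2 (MulChar F ℂ) // ¬ s.IsDiag}),
      card_offDiag_mulChar]
    ring
  rw [hnon, Nat.card_eq_fintype_card (α := GL (Fin 2) F)] at hsum
  simp only [hm2] at hsum
  have hnat : (∑ ψ, (m ψ * (Fintype.card F - 1)) ^ 2) + ((Fintype.card F - 1) + (Fintype.card F - 1) * Fintype.card F ^ 2 +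
      (Fintype.card F - 1) * (Fintype.card F - 2) / 2 * (Fintype.card F + 1) ^ 2) = Fintype.card (GL (Fin 2) F) := by
    exact_mod_cast hsum
  have hGL : Fintype.card (GL (Fin 2) F) = (Fintype.card F ^ 2 - 1) * (Fintype.card F ^ 2 - Fintype.card F) := by
    rw [← Nat.card_eq_fintype_card, Matrix.card_GL_field]
    simp [Fin.prod_univ_two]
  rw [hGL] at hnat
  set N := Fintype.card F * (Fintype.card F - 1) / 2 with hN
  have hcard : Fintype.card {ψ : IrrCharacter (GL (Fin 2) F) // CuspGL (ψ : GL (Fin 2) F → ℂ)} = N := by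
    rw [← Nat.card_eq_fintype_card, card_cusp_GL2]
  have hS : ∑ ψ, m ψ * m ψ = N := by
    obtain ⟨k, hk⟩ : ∃ k, Fintype.card F = k + 2 := ⟨Fintype.card F - 2, by omega⟩
    rw [hN]
    rw [hk] at hnat ⊢
    simp only [Nat.add_sub_cancel, show k + 2 - 1 = k + 1 by omega] at hnat ⊢
    obtain ⟨r, hr⟩ := (Nat.even_mul_succ_self k).two_dvd
    rw [show (k + 1) * k = 2 * r by rw [mul_comm]; exact hr, Nat.mul_div_cancel_left _ two_pos,
      show (k + 2) ^ 2 - 1 = (k + 1) * (k + 3) from Nat.sub_eq_of_eq_add (by ring),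
      show (k + 2) ^ 2 - (k + 2) = (k + 2) * (k + 1) from Nat.sub_eq_of_eq_add (by ring)] at hnat
    have e : ∑ ψ, (m ψ * (k + 1)) ^ 2 = (∑ ψ, m ψ * m ψ) * (k + 1) ^ 2 := by
      rw [Finset.sum_mul]; exact Finset.sum_congr rfl fun _ _ => by ring
    rw [e] at hnat
    rw [show (k + 2) * (k + 1) = 2 * (r + k + 1) by linear_combination hr, Nat.mul_div_cancel_left _ two_pos]
    apply Nat.eq_of_mul_eq_mul_right (show 0 < (k + 1) ^ 2 by positivity)
    apply Nat.eq_of_mul_eq_mul_left two_pos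
    zify at hnat hr ⊢
    linear_combination 2 * hnat + (((k : ℤ) + 3) ^ 2 + ((k : ℤ) + 1) ^ 2) * hr
  have hall : ∀ ψ, m ψ = 1 := by
    intro ψ
    by_contra hne
    have hlt : ∑ _ψ : {ψ : IrrCharacter (GL (Fin 2) F) // CuspGL (ψ : GL (Fin 2) F → ℂ)}, 1 < ∑ ψ, m ψ * m ψ := by
      refine Finset.sum_lt_sum (fun i _ => Nat.mul_pos (hm1 i) (hm1 i)) ⟨ψ, Finset.mem_univ _, ?_⟩
      have h2 : 2 ≤ m ψ := by have := hm1 ψ; omega
      exact lt_of_lt_of_le (by norm_num : 1 < 2 * 2) (Nat.mul_le_mul h2 h2)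
    rw [Finset.sum_const, Finset.card_univ, smul_eq_mul, mul_one, hcard, hS] at hlt
    omega
  have := hm2 ⟨⟨χ, hχ⟩, hc⟩
  rwa [hall, one_mul] at this

/-- The four kinds, with their degrees. -/
theorem kinds_GL2 {χ : GL (Fin 2) F → ℂ} (hχ : IsIrrCharacter (GL (Fin 2) F) χ) :
    (CuspGL χ ∧ χ 1 = (Fintype.card F : ℂ) - 1) ∨ ((∃ α, χ = glDetChar α) ∧ χ 1 = 1) ∨
      ((∃ α, χ = stein α) ∧ χ 1 = (Fintype.card F : ℂ)) ∨
      ((∃ α β, α ≠ β ∧ χ = indGL α β) ∧ χ 1 = (Fintype.card F : ℂ) + 1) := by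
  rcases classification_GL2 hχ with hc | ⟨α, rfl⟩ | ⟨α, rfl⟩ | ⟨α, β, hab, rfl⟩
  · refine Or.inl ⟨hc, ?_⟩
    rw [cusp_degree hχ hc, Nat.cast_sub Fintype.one_lt_card.le, Nat.cast_one]
  · exact Or.inr (Or.inl ⟨⟨α, rfl⟩, detChar_one α⟩)
  · exact Or.inr (Or.inr (Or.inl ⟨⟨α, rfl⟩, stein_one α⟩))
  · exact Or.inr (Or.inr (Or.inr ⟨⟨α, β, hab, rfl⟩, indGL_one α β⟩))

end

end Cfsg.Agent.Lib.KnownA
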