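import Mathlib
import Cfsg.Agent.Lib.KnownA.GL2Irr

/-! Values of the irreducible characters of `GL₂(q)`. -/

set_option autoImplicit false

namespace Cfsg.Agent.Lib.KnownA

open scoped ComplexConjugate
open Matrix Cfsg Cfsg.Agent.Lib.Characters

section
variable {F : Type*} [Field F] [Fintype F] [DecidableEq F]

theorem bGL_of_diag {g : GL (Fin 2) F} (h01 : (g : Matrix (Fin 2) (Fin 2) F) 0 1 = 0)
    (h10 : (g : Matrix (Fin 2) (Fin 2) F) 1 0 = 0) :
    ∃ a d : Fˣ, g = bGL a d 0 ∧ (a : F) = (g : Matrix (Fin 2) (Fin 2) F) 0 0 ∧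
      (d : F) = (g : Matrix (Fin 2) (Fin 2) F) 1 1 := by
  have h := upper_diag_ne_zero ⟨g, (mem_upper_iff g).mpr h10⟩
  refine ⟨Units.mk0 _ h.1, Units.mk0 _ h.2, Units.ext ?_, rfl, rfl⟩
  ext i j
  fin_cases i <;> fin_cases j <;> simp [bGL_coe, h01, h10]

theorem cusp_diag {χ : GL (Fin 2) F → ℂ} (hχ : IsIrrCharacter (GL (Fin 2) F) χ) (hc : CuspGL χ)
    {g : GL (Fin 2) F} (h01 : (g : Matrix (Fin 2) (Fin 2) F) 0 1 = 0)
    (h10 : (g : Matrix (Fin 2) (Fin 2) F) 1 0 = 0)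
    (hne : (g : Matrix (Fin 2) (Fin 2) F) 0 0 ≠ (g : Matrix (Fin 2) (Fin 2) F) 1 1) : χ g = 0 := by
  obtain ⟨a, d, rfl, ha, hd⟩ := bGL_of_diag h01 h10
  have had : a ≠ d := fun e => hne (by rw [← ha, ← hd, e])
  have h := hc a d
  rw [csum_of_ne (IsCharacter.isClassFunction (IsIrrCharacter.isCharacter hχ)) had] at h
  exact (mul_eq_zero.mp h).resolve_left card_F_ne_zero

theorem indGL_diag (α β : MulChar F ℂ) (a d : Fˣ) (h : a ≠ d) :
    indGL α β (bGL a d 0) = α (a : F) * β (d : F) + α (d : F) * β (a : F) := by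
  have h1 := csum_indGL α β a d
  rw [csum_of_ne (IsCharacter.isClassFunction (isCharacter_indGL α β)) h] at h1
  exact mul_left_cancel₀ card_F_ne_zero h1

theorem indGL_noEigen (α β : MulChar F ℂ) {g : GL (Fin 2) F}
    (h : ∀ (c : F) (v : Fin 2 → F), v ≠ 0 → (g : Matrix (Fin 2) (Fin 2) F).mulVec v ≠ c • v) :
    indGL α β g = 0 := by
  obtain ⟨h10, hx⟩ := qv_ne_zero_of_noEigen h
  rw [indGL_apply, if_neg h10, zero_add]
  exact Finset.sum_eq_zero fun x _ => if_neg (hx x)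

theorem indGL_transvection (α β : MulChar F ℂ) {u : GL (Fin 2) F}
    (hu : (u : Matrix (Fin 2) (Fin 2) F) = !![1, 1; 0, 1]) : indGL α β u = 1 := by
  rw [indGL_apply, hu]
  simp [qv]

theorem cusp_transvection {χ : GL (Fin 2) F → ℂ} (hχ : IsIrrCharacter (GL (Fin 2) F) χ) (hc : CuspGL χ)
    {u : GL (Fin 2) F} (hu : (u : Matrix (Fin 2) (Fin 2) F) = !![1, 1; 0, 1]) : χ u = -1 := by
  have h := cusp_data hχ hc
  rw [show bGL (1 : Fˣ) 1 (1 : F) = u from Units.ext (by rw [hu, bGL_coe]; simp), cusp_degree hχ hc] at h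
  have hq1 : ((Fintype.card F - 1 : ℕ) : ℂ) ≠ 0 :=
    Nat.cast_ne_zero.mpr (by have := Fintype.one_lt_card (α := F); omega)
  exact mul_left_cancel₀ hq1 (by linear_combination h)

theorem norm_mulChar_apply (α : MulChar F ℂ) {a : F} (ha : a ≠ 0) : ‖α a‖ = 1 := by
  have h : α a * conj (α a) = 1 := by
    rw [conj_mulChar, ← MulChar.mul_apply, mul_inv_cancel, MulChar.one_apply ha.isUnit]
  rw [Complex.mul_conj, Complex.normSq_eq_norm_sq] at h
  have h2 : ‖α a‖ ^ 2 = 1 := by exact_mod_cast h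
  exact (sq_eq_one_iff.mp h2).resolve_right (by have := norm_nonneg (α a); linarith)

end

end Cfsg.Agent.Lib.KnownA
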