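import Mathlib
import Cfsg.Agent.Lib.Similar.Orders
import Cfsg.Agent.Lib.Similar.Star

/-!
Element orders in isometry groups of nondegenerate bilinear forms over finite fields.
-/

set_option autoImplicit false
set_option linter.unusedSectionVars false

namespace Cfsg.Agent.Lib.KnownA.IsometryOrders

open Polynomial Cfsg.Agent.Lib.Similar

/-- The exponent attached to a key. -/
def val (q : ℕ) (κ : ℕ × Bool) : ℕ := if κ.2 then q ^ κ.1 + 1 else q ^ κ.1 - 1

theorem sum_two_pow (V : ℕ) : ∑ v ∈ Finset.range V, 2 ^ v + 1 = 2 ^ V := by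
  induction V with
  | zero => simp
  | succ V ih => rw [Finset.sum_range_succ, pow_succ]; omega

theorem prod_cyc_le {q : ℕ} (hq : 2 ≤ q) (T : Finset ℕ) :
    (q - 1) * ∏ v ∈ T, (q ^ 2 ^ v + 1) ≤ q ^ (∑ v ∈ T, 2 ^ v + 1) := by
  obtain ⟨V, hV⟩ : ∃ V, T ⊆ Finset.range V := ⟨T.sup id + 1, fun v hv => Finset.mem_range.2 (Nat.lt_succ_of_le (Finset.le_sup (f := id) hv))⟩
  have h1 : ∀ W, (q - 1) * ∏ v ∈ Finset.range W, (q ^ 2 ^ v + 1) + 1 = q ^ 2 ^ W := by
    intro W
    induction W with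
    | zero => simp; omega
    | succ W ih =>
      have e : ∀ A C P : ℕ, A * P + 1 = C → A * (P * (C + 1)) + 1 = C * C := by
        rintro A C P rfl; ring
      rw [Finset.prod_range_succ, e _ _ _ ih, ← pow_add, pow_succ, mul_two]
  have h2 : (∏ v ∈ T, (q ^ 2 ^ v + 1)) * ∏ v ∈ Finset.range V \ T, q ^ 2 ^ v ≤ ∏ v ∈ Finset.range V, (q ^ 2 ^ v + 1) := by
    rw [← Finset.prod_sdiff hV, mul_comm]
    exact Nat.mul_le_mul_right _ (Finset.prod_le_prod (fun v _ => Nat.zero_le _) (fun v _ => Nat.le_succ _))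
  have h3 : (q - 1) * (∏ v ∈ T, (q ^ 2 ^ v + 1)) * q ^ (∑ v ∈ Finset.range V \ T, 2 ^ v) ≤
      q ^ (∑ v ∈ T, 2 ^ v + 1) * q ^ (∑ v ∈ Finset.range V \ T, 2 ^ v) := by
    rw [← pow_add, show ∑ v ∈ T, 2 ^ v + 1 + ∑ v ∈ Finset.range V \ T, 2 ^ v = 2 ^ V by
      rw [← sum_two_pow V, ← Finset.sum_sdiff hV]; ring, ← h1 V, mul_assoc, ← Finset.prod_pow_eq_pow_sum]
    exact (Nat.mul_le_mul_left _ h2).trans (Nat.le_succ _)
  exact Nat.le_of_mul_le_mul_right h3 (pow_pos (by omega) _)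

theorem exists_lcm_bound {q : ℕ} (hq : 2 ≤ q) (S : Finset (ℕ × Bool)) (hS : ∀ κ ∈ S, 0 < κ.1) :
    ∃ L, 0 < L ∧ (∀ κ ∈ S, val q κ ∣ L) ∧ (q - 1) * L ≤ q ^ (∑ κ ∈ S, κ.1 + 1) ∧
      (Odd q → S.Nonempty → 2 ∣ L) := by
  suffices h : ∃ (T : Finset ℕ) (Q : ℕ), 0 < Q ∧ (∀ κ ∈ S, val q κ ∣ (∏ v ∈ T, (q ^ 2 ^ v + 1)) * Q) ∧
      Q * q ^ (∑ v ∈ T, 2 ^ v) ≤ q ^ (∑ κ ∈ S, κ.1) by
    obtain ⟨T, Q, hQ, hd, hle⟩ := h
    refine ⟨_, Nat.mul_pos (Finset.prod_pos fun v _ => Nat.succ_pos _) hQ, hd, ?_, fun ho hne => ?_⟩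
    · calc (q - 1) * ((∏ v ∈ T, (q ^ 2 ^ v + 1)) * Q) ≤ q ^ (∑ v ∈ T, 2 ^ v + 1) * Q := by
            rw [← mul_assoc]; exact Nat.mul_le_mul_right _ (prod_cyc_le hq T)
        _ = q * (Q * q ^ (∑ v ∈ T, 2 ^ v)) := by ring
        _ ≤ q * q ^ (∑ κ ∈ S, κ.1) := Nat.mul_le_mul_left _ hle
        _ = _ := by ring
    · obtain ⟨κ, hκ⟩ := hne
      refine Nat.dvd_trans ?_ (hd κ hκ)
      have : Odd (q ^ κ.1) := ho.pow
      unfold val
      split
      · exact even_iff_two_dvd.1 (this.add_one)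
      · exact even_iff_two_dvd.1 (Nat.Odd.sub_odd this odd_one)
  induction S using Finset.induction_on with
  | empty => exact ⟨∅, 1, one_pos, by simp, by simp⟩
  | @insert κ S hκ ih =>
    obtain ⟨T, Q, hQ, hd, hle⟩ := ih fun x hx => hS x (Finset.mem_insert_of_mem hx)
    obtain ⟨k, b⟩ := κ
    have hk : 0 < k := hS (k, b) (Finset.mem_insert_self _ _)
    rw [Finset.sum_insert hκ, pow_add]
    cases b with
    | false =>
      refine ⟨T, Q * (q ^ k - 1), Nat.mul_pos hQ ?_, ?_, ?_⟩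
      · exact Nat.sub_pos_of_lt (Nat.one_lt_pow hk.ne' (by omega))
      · intro x hx
        rcases Finset.mem_insert.1 hx with rfl | hx
        · exact Dvd.intro_left _ (mul_assoc _ _ _)
        · rw [← mul_assoc]; exact dvd_mul_of_dvd_left (hd x hx) _
      · calc Q * (q ^ k - 1) * q ^ (∑ v ∈ T, 2 ^ v) = (q ^ k - 1) * (Q * q ^ (∑ v ∈ T, 2 ^ v)) := by ring
          _ ≤ _ := Nat.mul_le_mul (Nat.sub_le _ _) hle
    | true =>
      obtain ⟨v, o, ho, rfl⟩ : ∃ v o, Odd o ∧ k = 2 ^ v * o := Nat.exists_eq_two_pow_mul_odd hk.ne'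
      obtain ⟨r, hr⟩ : q ^ 2 ^ v + 1 ∣ q ^ (2 ^ v * o) + 1 := by
        have := ho.nat_add_dvd_pow_add_pow (q ^ 2 ^ v) 1
        rwa [one_pow, ← pow_mul] at this
      have hr0 : 0 < r := by
        rcases Nat.eq_zero_or_pos r with rfl | h
        · simp at hr
        · exact h
      have hr1 : q ^ 2 ^ v * r ≤ q ^ (2 ^ v * o) := by rw [add_mul, one_mul] at hr; omega
      have hv1 : (∏ w ∈ T, (q ^ 2 ^ w + 1)) ∣ ∏ w ∈ insert v T, (q ^ 2 ^ w + 1) :=
        Finset.prod_dvd_prod_of_subset _ _ _ (Finset.subset_insert _ _)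
      refine ⟨insert v T, Q * r, Nat.mul_pos hQ hr0, ?_, ?_⟩
      · intro x hx
        rcases Finset.mem_insert.1 hx with rfl | hx
        · rw [val, if_pos rfl, hr, ← mul_assoc, mul_comm _ Q, mul_comm _ r, mul_comm (Q * _) r]
          exact mul_dvd_mul_left r (dvd_mul_of_dvd_right (Finset.dvd_prod_of_mem _ (Finset.mem_insert_self v T)) Q)
        · rw [← mul_assoc]
          exact dvd_mul_of_dvd_left ((hd x hx).trans (mul_dvd_mul_right hv1 Q)) _
      · by_cases hv : v ∈ T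
        · rw [Finset.insert_eq_self.2 hv]
          calc Q * r * q ^ (∑ w ∈ T, 2 ^ w) = r * (Q * q ^ (∑ w ∈ T, 2 ^ w)) := by ring
            _ ≤ _ := Nat.mul_le_mul ((Nat.le_mul_of_pos_left _ (pow_pos (by omega) _)).trans hr1) hle
        · rw [Finset.sum_insert hv, pow_add]
          calc Q * r * (q ^ 2 ^ v * q ^ (∑ w ∈ T, 2 ^ w)) = (q ^ 2 ^ v * r) * (Q * q ^ (∑ w ∈ T, 2 ^ w)) := by ring
            _ ≤ _ := Nat.mul_le_mul hr1 hle

/-- The unipotent exponent is small. -/
theorem pow_clog_le {p q e R : ℕ} (hp : p.Prime) (hpq : p ≤ q) (he : e ≤ 2 * R + 1) (h2 : p = 2 → e ≤ 2 * R) :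
    p ^ Nat.clog p e ≤ q ^ R := by
  rcases Nat.lt_or_ge e 2 with h | h
  · rw [Nat.clog_of_right_le_one (by omega), pow_zero]
    exact Nat.one_le_pow _ _ (by have := hp.two_le; omega)
  have hlt := Nat.pow_pred_clog_lt_self hp.one_lt (x := e) (by omega)
  have hc := Nat.clog_pos hp.one_lt (show 2 ≤ e by omega)
  obtain ⟨c, hc'⟩ : ∃ c, Nat.clog p e = c + 1 := ⟨Nat.clog p e - 1, by omega⟩
  rw [hc', Nat.pred_succ] at hlt
  rw [hc']
  obtain ⟨r, rfl⟩ : ∃ r, R = r + 1 := ⟨R - 1, by omega⟩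
  rcases eq_or_ne p 2 with rfl | hp2
  · have hr : 2 * (r + 1) ≤ 2 ^ (r + 1) := by
      clear he h2 hpq hc hc' hlt
      induction r with
      | zero => norm_num
      | succ r ih => rw [pow_succ]; omega
    have : 2 ^ c < 2 ^ (r + 1) := lt_of_lt_of_le hlt ((h2 rfl).trans hr)
    rw [Nat.pow_lt_pow_iff_right (by omega)] at this
    exact (Nat.pow_le_pow_right (by omega) (by omega : c + 1 ≤ r + 1)).trans (Nat.pow_le_pow_left hpq _)
  · have hodd : Odd (p ^ c) := (hp.odd_of_ne_two hp2).pow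
    have h3 : 2 * r + 1 ≤ 3 ^ r := by
      clear he h2 hc hc' hlt hodd
      induction r with
      | zero => norm_num
      | succ r ih => rw [pow_succ]; omega
    have h4 : p ^ c ≤ 2 * r + 1 := by
      obtain ⟨j, hj⟩ := hodd
      omega
    rw [pow_succ, pow_succ]
    exact Nat.mul_le_mul (h4.trans (h3.trans (Nat.pow_le_pow_left (by have := hp.two_le; omega) _))) hpq

theorem X_pow_dvd {R : Type*} [CommRing R] {a b : ℕ} (h : a ∣ b) (x : R) : x ^ a - 1 ∣ x ^ b - 1 := by
  obtain ⟨c, rfl⟩ := h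
  rw [pow_mul]
  exact sub_one_dvd_pow_sub_one _ _

theorem small_check (q m : ℕ) (hq : 3 ≤ q) (hm : 3 ≤ m) : (q - 1) * (2 * (2 * m - 1)) ≤ q ^ m := by
  induction m, hm using Nat.le_induction with
  | base =>
    obtain ⟨t, rfl⟩ : ∃ t, q = t + 3 := ⟨q - 3, by omega⟩
    rw [show t + 3 - 1 = t + 2 by omega, show (t + 3) ^ 3 = t ^ 3 + 9 * t ^ 2 + 27 * t + 27 by ring]
    omega
  | succ m hm ih =>
    rw [pow_succ]
    calc (q - 1) * (2 * (2 * (m + 1) - 1)) ≤ (q - 1) * (2 * (2 * m - 1)) * 3 := by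
          rw [mul_assoc]; exact Nat.mul_le_mul_left _ (by omega)
      _ ≤ _ := Nat.mul_le_mul ih hq

variable {F : Type*} [Field F] [Fintype F] [DecidableEq F]

omit [DecidableEq F] in
/-- A self-reciprocal irreducible polynomial has even degree. -/
theorem dvd_of_starP_eq {f : F[X]} (hf : Irreducible f) (hm : f.Monic) (h0 : f.coeff 0 ≠ 0)
    (hfix : starP (RingHom.id F) f = f) (hsq : ¬ f ∣ X ^ 2 - 1) :
    ∃ k, 0 < k ∧ f.natDegree = 2 * k ∧ f ∣ X ^ (Fintype.card F ^ k + 1) - 1 := by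
  classical
  have : Fact (Irreducible f) := ⟨hf⟩
  obtain ⟨r, hr⟩ : ∃ r, r = AdjoinRoot.root f := ⟨_, rfl⟩
  have : Module.Finite F (AdjoinRoot f) := (AdjoinRoot.powerBasis hm.ne_zero).finite
  have : Finite (AdjoinRoot f) := Module.finite_of_finite F
  have hr2 : r * r ≠ 1 := by
    intro h
    apply hsq
    rw [← AdjoinRoot.mk_eq_zero, map_sub, map_pow, map_one, AdjoinRoot.mk_X, pow_two, ← hr, h, sub_self]
  have hr0 : r ≠ 0 := by
    intro h
    apply h0
    have h1 : AdjoinRoot.mk f X = 0 := by rw [AdjoinRoot.mk_X, ← hr, h]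
    have h2 : (X : F[X]) ∣ f := (hf.associated_of_dvd irreducible_X (AdjoinRoot.mk_eq_zero.1 h1)).symm.dvd
    exact X_dvd_iff.1 h2
  have hrev : aeval r⁻¹ f = 0 := by
    have h1 : aeval r f = 0 := by rw [hr, AdjoinRoot.aeval_eq, AdjoinRoot.mk_self]
    have h2 : aeval r⁻¹ f.reverse = 0 := by
      haveI := invertibleOfNonzero hr0
      have e := eval₂_reverse_mul_pow (algebraMap F (AdjoinRoot f)) r f
      rw [invOf_eq_inv, ← aeval_def, ← aeval_def, h1] at e
      exact (mul_eq_zero.1 e).resolve_right (pow_ne_zero _ hr0)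
    refine (congrArg (aeval r⁻¹) hfix).symm.trans ?_
    rw [starP, map_mul, Polynomial.map_id, h2, mul_zero]
  let σ : AdjoinRoot f →ₐ[F] AdjoinRoot f := AdjoinRoot.liftAlgHom f (Algebra.ofId F (AdjoinRoot f)) r⁻¹ hrev
  have hσ : σ r = r⁻¹ := by rw [hr]; exact (AdjoinRoot.liftAlgHom_root _ _ _ _).trans (by rw [hr])
  obtain ⟨⟨i, hid⟩, hi⟩ := (FiniteField.bijective_frobeniusAlgHom_pow F (AdjoinRoot f)).2 σ
  have hfr : ∀ (j : ℕ) (x : AdjoinRoot f), (FiniteField.frobeniusAlgHom F (AdjoinRoot f) ^ j) x = x ^ Fintype.card F ^ j := by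
    intro j x
    induction j generalizing x with
    | zero => simp
    | succ j ih => rw [pow_succ, AlgHom.mul_apply, FiniteField.coe_frobeniusAlgHom, ih, pow_succ, ← pow_mul, mul_comm]
  have hri : r ^ Fintype.card F ^ i = r⁻¹ := by rw [← hfr, ← hσ, ← hi]
  have hdeg : Module.finrank F (AdjoinRoot f) = f.natDegree := by
    rw [(AdjoinRoot.powerBasis hm.ne_zero).finrank, AdjoinRoot.powerBasis_dim]
  have hii : FiniteField.frobeniusAlgHom F (AdjoinRoot f) ^ (i + i) = 1 := by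
    refine AdjoinRoot.algHom_ext ?_
    rw [hfr, AlgHom.one_apply, ← hr, pow_add, pow_mul, hri, inv_pow, hri, inv_inv]
  have hdvd := orderOf_dvd_of_pow_eq_one hii
  rw [FiniteField.orderOf_frobeniusAlgHom, hdeg] at hdvd
  have hi0 : 0 < i := by
    rcases Nat.eq_zero_or_pos i with rfl | h
    · rw [pow_zero, pow_one] at hri
      exact absurd (by nth_rewrite 1 [hri]; exact inv_mul_cancel₀ hr0) hr2
    · exact h
  have hid' : i < f.natDegree := hdeg ▸ hid
  obtain ⟨c, hc⟩ := hdvd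
  have hc1 : c = 1 := by
    rcases c with _ | _ | c
    · omega
    · rfl
    · have : f.natDegree * 2 ≤ f.natDegree * (c + 1 + 1) := Nat.mul_le_mul_left _ (by omega)
      omega
  subst hc1
  refine ⟨i, hi0, by omega, ?_⟩
  rw [← AdjoinRoot.mk_eq_zero, map_sub, map_pow, map_one, AdjoinRoot.mk_X, ← hr, pow_succ, hri, inv_mul_cancel₀ hr0, sub_self]

/-- An element of an isometry group has a small power equal to `1` or `-1`. -/
theorem exists_pow_small_fin {N m : ℕ} (hN : N ≤ 2 * m + 1) (hm : 2 ≤ m) (hm2 : m = 2 → N ≤ 4)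
    (hev : Even (Fintype.card F) → N ≤ 2 * m) (g B : GL (Fin N) F)
    (h : (g : Matrix (Fin N) (Fin N) F).transpose * (B : Matrix (Fin N) (Fin N) F) * (g : Matrix (Fin N) (Fin N) F) = B) :
    ∃ k, 0 < k ∧ (Fintype.card F - 1) * k ≤ Fintype.card F ^ (m + 1) ∧
      ((g : Matrix (Fin N) (Fin N) F) ^ k = 1 ∨ (g : Matrix (Fin N) (Fin N) F) ^ k = -1) := by
  classical
  obtain ⟨p, hp⟩ := CharP.exists F
  have hpp : p.Prime := CharP.char_is_prime F p
  have : Fact p.Prime := ⟨hpp⟩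
  obtain ⟨f', -, hcard⟩ := FiniteField.card F p
  obtain ⟨q, hq⟩ : ∃ q, q = Fintype.card F := ⟨_, rfl⟩
  have hq2 : 2 ≤ q := hq ▸ Fintype.one_lt_card
  have hpq : p ≤ q := by rw [hq, hcard]; exact Nat.le_self_pow f'.pos.ne' p
  have hqp : p = 2 → Even q := fun e => by rw [hq, hcard, e]; exact (even_two).pow_of_ne_zero f'.pos.ne'
  have hodd : p ≠ 2 → Odd q := fun e => by rw [hq, hcard]; exact (hpp.odd_of_ne_two e).pow
  rw [← hq] at hev ⊢
  have h' : Matrix.transpose (g : Matrix (Fin N) (Fin N) F) *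
      ((B * g * B⁻¹ : GL (Fin N) F) : Matrix (Fin N) (Fin N) F) = 1 := by
    rw [Units.val_mul, Units.val_mul, ← mul_assoc, ← mul_assoc, h, Units.mul_inv]
  have hsym : starM (RingHom.id F) (matInv (g : Matrix (Fin N) (Fin N) F)) = matInv (g : Matrix (Fin N) (Fin N) F) := by
    have ht := matInv_twist (σ := RingHom.id F) (fun _ => rfl) g (B * g * B⁻¹) (by
      show _ * ((g : Matrix (Fin N) (Fin N) F).map (RingHom.id F)).transpose = 1
      rw [RingHom.coe_id, Matrix.map_id]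
      exact mul_eq_one_comm.1 h')
    have hc : ConjClasses.mk (B * g * B⁻¹) = ConjClasses.mk g :=
      ConjClasses.mk_eq_mk_iff_isConj.2 (isConj_iff.2 ⟨B⁻¹, by group⟩)
    have := congrArg classInv hc
    rw [classInv_mk, classInv_mk, ht] at this
    exact this
  obtain ⟨M, hM⟩ : ∃ M, M = matInv (g : Matrix (Fin N) (Fin N) F) := ⟨_, rfl⟩
  rw [← hM] at hsym
  obtain ⟨hsp, hsum⟩ := matInv_spec g
  rw [← hM] at hsp hsum
  rw [Fintype.card_fin] at hsum
  let w : F[X] × ℕ → ℕ := fun z => z.2 * z.1.natDegree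
  let U : Finset (F[X] × ℕ) := M.toFinset.filter fun z => ¬ z.1 ∣ X ^ 2 - 1
  let key : F[X] × ℕ → ℕ × Bool := fun z =>
    if starP (RingHom.id F) z.1 = z.1 then (z.1.natDegree / 2, true) else (z.1.natDegree, false)
  let S := U.image key
  have hUmem : ∀ z ∈ U, z ∈ M ∧ ¬ z.1 ∣ X ^ 2 - 1 := fun z hz =>
    ⟨Multiset.mem_toFinset.1 (Finset.mem_filter.1 hz).1, (Finset.mem_filter.1 hz).2⟩
  have hkey : ∀ z ∈ U, 0 < (key z).1 ∧ z.1 ∣ X ^ val q (key z) - 1 := by
    intro z hz
    obtain ⟨hzM, hz2⟩ := hUmem z hz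
    obtain ⟨k1, k2, k3, -⟩ := hsp z hzM
    simp only [key]
    split_ifs with hs
    · obtain ⟨k, hk0, hkd, hkdvd⟩ := dvd_of_starP_eq k2 k1 k3 hs hz2
      rw [hkd, Nat.mul_div_cancel_left _ (by norm_num)]
      exact ⟨hk0, by simpa [val, hq] using hkdvd⟩
    · exact ⟨k2.natDegree_pos, by simpa [val, hq] using dvd_X_pow_card_sub_one k2 k3⟩
  have hfib : ∀ z ∈ U, 2 * (key z).1 * z.2 ≤ ∑ x ∈ U.filter (fun x => key x = key z), w x := by
    intro z hz
    obtain ⟨hzM, hz2⟩ := hUmem z hz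
    obtain ⟨k1, k2, k3, -⟩ := hsp z hzM
    by_cases hs : starP (RingHom.id F) z.1 = z.1
    · obtain ⟨k, -, hkd, -⟩ := dvd_of_starP_eq k2 k1 k3 hs hz2
      refine le_trans (le_of_eq ?_) (Finset.single_le_sum (f := w) (fun _ _ => Nat.zero_le _) (Finset.mem_filter.2 ⟨hz, rfl⟩))
      simp only [key, if_pos hs, w, hkd, Nat.mul_div_cancel_left _ (show 0 < 2 by norm_num)]
      ring
    · obtain ⟨z', hz'⟩ : ∃ z' : F[X] × ℕ, z' = (starP (RingHom.id F) z.1, z.2) := ⟨_, rfl⟩
      have hz'M : z' ∈ M := by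
        rw [← hsym, hz']
        exact Multiset.mem_map.2 ⟨z, hzM, rfl⟩
      have hstar : starP (RingHom.id F) z'.1 = z.1 := by
        rw [hz']; exact starP_starP (fun _ => rfl) k1 k3
      have hz'2 : ¬ z'.1 ∣ X ^ 2 - 1 := by
        intro hd
        apply hs
        obtain ⟨k1', k2', k3', -⟩ := hsp z' hz'M
        have hfac : (X ^ 2 - 1 : F[X]) = (X - C 1) * (X - C (-1)) := by simp; ring
        rw [hfac] at hd
        have hfix : starP (RingHom.id F) z'.1 = z'.1 := by
          have hcase : ∀ a : F, a * a = 1 → z'.1 ∣ X - C a → starP (RingHom.id F) z'.1 = z'.1 := by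
            intro a ha hda
            rw [eq_of_monic_of_associated k1' (monic_X_sub_C a) (k2'.associated_of_dvd (irreducible_X_sub_C a) hda)]
            have ha0 : a ≠ 0 := fun e => by rw [e, mul_zero] at ha; exact zero_ne_one ha
            rw [starP, Polynomial.map_id]
            have hrev : (X - C a).reverse = 1 - C a * X := by
              rw [sub_eq_add_neg, ← C_neg, reverse_add_C, natDegree_X, pow_one, ← one_mul (X : F[X]), reverse_mul_X, ← C_1, reverse_C]
              rw [C_neg]; ring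
            rw [hrev]
            simp only [RingHom.id_apply, coeff_sub, coeff_X_zero, coeff_C_zero, zero_sub, inv_neg, map_neg]
            have e : C a⁻¹ = C a := congrArg C (inv_eq_of_mul_eq_one_left ha)
            rw [e]
            have e2 : C a * C a = (1 : F[X]) := by rw [← C_mul, ha, C_1]
            linear_combination X * e2
          rcases k2'.prime.dvd_or_dvd hd with hd | hd
          · exact hcase 1 (one_mul 1) hd
          · exact hcase (-1) (by ring) hd
        rw [hstar, hz'] at hfix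
        exact hfix.symm
      have hz'U : z' ∈ U := Finset.mem_filter.2 ⟨Multiset.mem_toFinset.2 hz'M, hz'2⟩
      have hne : z' ≠ z := fun e => hs (by rw [hz'] at e; exact congrArg Prod.fst e)
      have hdz : z'.1.natDegree = z.1.natDegree := by rw [hz']; exact natDegree_starP k3
      have hkz : key z' = key z := by
        simp only [key]
        rw [if_neg hs, if_neg (fun e => hs (by
          have e2 := hstar.symm.trans e
          rw [hz'] at e2; exact e2.symm)), hdz]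
      refine le_trans (le_of_eq ?_) (Finset.sum_le_sum_of_subset (f := w)
        (show ({z', z} : Finset (F[X] × ℕ)) ⊆ U.filter (fun x => key x = key z) by
          intro x hx
          rcases Finset.mem_insert.1 hx with rfl | hx
          · exact Finset.mem_filter.2 ⟨hz'U, hkz⟩
          · rw [Finset.mem_singleton.1 hx]; exact Finset.mem_filter.2 ⟨hz, rfl⟩))
      rw [Finset.sum_pair hne]
      simp only [key, if_neg hs, w]
      rw [hdz, show z'.2 = z.2 by rw [hz']]
      ring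
  have hT : ∀ T : Finset (F[X] × ℕ), T ⊆ M.toFinset → ∑ x ∈ T, w x ≤ N := by
    intro T hT
    refine le_trans (Finset.sum_le_sum_of_subset (f := w) hT) ?_
    rw [← hsum]
    show (M.toFinset.val.map w).sum ≤ (M.map w).sum
    obtain ⟨R, hR⟩ := Multiset.le_iff_exists_add.1 (show M.toFinset.val ≤ M from Multiset.dedup_le M)
    conv_rhs => rw [hR, Multiset.map_add, Multiset.sum_add]
    exact Nat.le_add_right _ _
  have hUsub : U ⊆ M.toFinset := Finset.filter_subset _ _
  have hUtot : 2 * ∑ κ ∈ S, κ.1 ≤ ∑ x ∈ U, w x := by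
    rw [Finset.mul_sum, ← Finset.sum_fiberwise_of_maps_to (g := key) (t := S) fun x hx => Finset.mem_image_of_mem _ hx]
    refine Finset.sum_le_sum fun κ hκ => ?_
    obtain ⟨z, hz, rfl⟩ := Finset.mem_image.1 hκ
    exact (Nat.le_mul_of_pos_right _ (hsp z (hUmem z hz).1).2.2.2).trans (hfib z hz)
  have hkill : ∀ L c, (∀ z ∈ M, z.1 ∣ X ^ L - 1 ∧ z.2 ≤ p ^ c) →
      (g : Matrix (Fin N) (Fin N) F) ^ (L * p ^ c) = 1 := by
    intro L c hall
    rw [← Units.val_pow_eq_pow_val, (pow_eq_one_iff_matInv g _).2 fun z hz => ?_, Units.val_one]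
    obtain ⟨h1, h2⟩ := hall z (hM ▸ hz)
    refine (pow_dvd_pow _ h2).trans ((pow_dvd_pow_of_dvd h1 _).trans (dvd_of_eq ?_))
    rw [sub_pow_char_pow, one_pow, ← pow_mul]
  have hMne : M.toFinset.Nonempty ∨ N = 0 := by
    rcases Multiset.empty_or_exists_mem M with hM0 | ⟨z, hz⟩
    · right; rw [hM0] at hsum; simpa using hsum.symm
    · exact Or.inl ⟨z, Multiset.mem_toFinset.2 hz⟩
  rcases hMne with hMne | hN0
  swap
  · subst hN0
    exact ⟨1, one_pos, by rw [mul_one]; exact (Nat.sub_le _ _).trans (Nat.le_self_pow (by omega) _),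
      Or.inl (Subsingleton.elim _ _)⟩
  obtain ⟨y, hy, hmax⟩ := M.toFinset.exists_max_image Prod.snd hMne
  have hyM : y ∈ M := Multiset.mem_toFinset.1 hy
  obtain ⟨y1, y2, y3, y4⟩ := hsp y hyM
  have hmax' : ∀ z ∈ M, z.2 ≤ p ^ Nat.clog p y.2 := fun z hz =>
    (hmax z (Multiset.mem_toFinset.2 hz)).trans (Nat.le_pow_clog hpp.one_lt _)
  have hN2 : p = 2 → N ≤ 2 * m := fun e => hev (hqp e)
  have hyw : y.2 ≤ w y := Nat.le_mul_of_pos_right _ y2.natDegree_pos
  rcases Finset.eq_empty_or_nonempty U with hU | hU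
  · -- only the eigenvalues `1` and `-1`
    have hall : ∀ z ∈ M, z.1 = X - C 1 ∨ z.1 = X - C (-1) := by
      intro z hz
      have hz2 : z.1 ∣ X ^ 2 - 1 := by
        by_contra hn
        exact Finset.notMem_empty z (hU ▸ Finset.mem_filter.2 ⟨Multiset.mem_toFinset.2 hz, hn⟩)
      obtain ⟨k1, k2, -, -⟩ := hsp z hz
      rw [show (X ^ 2 - 1 : F[X]) = (X - C 1) * (X - C (-1)) by simp; ring] at hz2
      rcases k2.prime.dvd_or_dvd hz2 with hd | hd
      · exact Or.inl (eq_of_monic_of_associated k1 (monic_X_sub_C _) (k2.associated_of_dvd (irreducible_X_sub_C _) hd))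
      · exact Or.inr (eq_of_monic_of_associated k1 (monic_X_sub_C _) (k2.associated_of_dvd (irreducible_X_sub_C _) hd))
    have hyN : y.2 ≤ N := le_trans hyw (by simpa using hT {y} (by simpa using hy))
    have hbound : p ^ Nat.clog p y.2 ≤ q ^ m := pow_clog_le hpp hpq (by omega) (fun e => hyN.trans (hN2 e))
    have hbound2 : (q - 1) * p ^ Nat.clog p y.2 ≤ q ^ (m + 1) := by
      rw [pow_succ' q m]; exact Nat.mul_le_mul (Nat.sub_le _ _) hbound
    by_cases h1 : ∀ z ∈ M, z.1 = X - C 1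
    · refine ⟨_, pow_pos hpp.pos _, hbound2, Or.inl ?_⟩
      have := hkill 1 (Nat.clog p y.2) fun z hz => ⟨by rw [h1 z hz, C_1, pow_one], hmax' z hz⟩
      rwa [one_mul] at this
    by_cases h2 : ∀ z ∈ M, z.1 = X - C (-1)
    · refine ⟨_, pow_pos hpp.pos _, hbound2, Or.inr ?_⟩
      have h3 := (aeval_eq_zero_iff_matInv (g : Matrix (Fin N) (Fin N) F) (X ^ p ^ Nat.clog p y.2 + 1)).2 fun z hz => by
        refine (pow_dvd_pow _ (hmax' z (hM ▸ hz))).trans (dvd_of_eq ?_)
        rw [h2 z (hM ▸ hz), map_neg, C_1, sub_neg_eq_add, add_pow_char_pow, one_pow]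
      rw [map_add, map_pow, aeval_X, map_one, ← map_pow, ← map_one (Matrix.toLinAlgEquiv' (R := F) (n := Fin N))] at h3
      have h4 : (Matrix.toLinAlgEquiv' (R := F) (n := Fin N)) ((g : Matrix (Fin N) (Fin N) F) ^ p ^ Nat.clog p y.2 + 1) = 0 := by
        rw [map_add]; exact h3
      exact eq_neg_of_add_eq_zero_left ((map_eq_zero_iff _ (Matrix.toLinAlgEquiv' (R := F) (n := Fin N)).injective).1 h4)
    -- mixed
    push Not at h1 h2
    obtain ⟨z1, hz1, hz1'⟩ := h1
    obtain ⟨z2, hz2, hz2'⟩ := h2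
    have hp2 : p ≠ 2 := by
      rintro rfl
      exact hz1' ((hall z1 hz1).resolve_right fun e => hz1' (by rw [e, CharTwo.neg_eq]))
    obtain ⟨z, hzM, hzne⟩ : ∃ z ∈ M, z ≠ y := by
      by_contra hno
      push Not at hno
      rw [hno z1 hz1] at hz1'
      rw [hno z2 hz2] at hz2'
      exact (hall y hyM).elim hz1' hz2'
    have hyN1 : y.2 + 1 ≤ N := by
      have := hT {z, y} (by
        intro x hx
        rcases Finset.mem_insert.1 hx with rfl | hx
        · exact Multiset.mem_toFinset.2 hzM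
        · rw [Finset.mem_singleton.1 hx]; exact hy)
      rw [Finset.sum_pair hzne] at this
      have hwz : 1 ≤ w z := Nat.mul_pos (hsp z hzM).2.2.2 (hsp z hzM).2.1.natDegree_pos
      omega
    refine ⟨2 * p ^ Nat.clog p y.2, by have := hpp.pos; positivity, ?_, Or.inl (hkill 2 _ fun z hz => ⟨?_, hmax' z hz⟩)⟩
    · rcases Nat.lt_or_ge y.2 2 with he | he
      · rw [Nat.clog_of_right_le_one (by omega), pow_zero, mul_one, show q ^ (m + 1) = q ^ m * q from pow_succ q m, mul_comm]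
        exact Nat.mul_le_mul ((hq2).trans (Nat.le_self_pow (by omega) _)) (Nat.sub_le _ _)
      obtain ⟨c, hc'⟩ : ∃ c, Nat.clog p y.2 = c + 1 := ⟨Nat.clog p y.2 - 1, by have := Nat.clog_pos hpp.one_lt he; omega⟩
      have hlt := Nat.pow_pred_clog_lt_self hpp.one_lt (x := y.2) (by omega)
      rw [hc', Nat.pred_succ] at hlt
      rw [hc', pow_succ' p c]
      obtain ⟨j, hj⟩ : Odd (p ^ c) := (hpp.odd_of_ne_two hp2).pow
      have hq3 : 3 ≤ q := by have := hpp.two_le; omega
      rcases Nat.lt_or_ge m 3 with hm3 | hm3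
      · have := hm2 (by omega)
        rw [show p ^ c = 1 by omega, show m + 1 = 3 by omega]
        calc (q - 1) * (2 * (p * 1)) ≤ q * (q * q) :=
              Nat.mul_le_mul (Nat.sub_le _ _) (Nat.mul_le_mul (by omega) (by omega))
          _ = q ^ 3 := by ring
      · rw [pow_succ q m]
        calc (q - 1) * (2 * (p * p ^ c)) = ((q - 1) * (2 * p ^ c)) * p := by ring
          _ ≤ _ := Nat.mul_le_mul ((Nat.mul_le_mul_left _ (by omega)).trans (small_check q m hq3 hm3)) hpq
    · rcases hall z hz with e | e <;> rw [e]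
      · exact ⟨X + 1, by rw [C_1]; ring⟩
      · exact ⟨X - 1, by rw [map_neg, C_1]; ring⟩
  · obtain ⟨L, hL0, hLdvd, hLle, hLev⟩ := exists_lcm_bound hq2 S (by
      intro κ hκ
      obtain ⟨z, hz, rfl⟩ := Finset.mem_image.1 hκ
      exact (hkey z hz).1)
    obtain ⟨s, hs⟩ : ∃ s, s = ∑ κ ∈ S, κ.1 := ⟨_, rfl⟩
    rw [← hs] at hLle hUtot
    have hsm : s ≤ m := by have := hT U hUsub; omega
    have hR : p ^ Nat.clog p y.2 ≤ q ^ (m - s) := by
      by_cases hyU : y ∈ U
      · have h2 : 2 * ((key y).1 * (y.2 - 1) + s) ≤ ∑ x ∈ U, w x := by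
          have e : 2 * ((key y).1 * (y.2 - 1) + s) = ∑ κ ∈ S, (2 * κ.1 + if κ = key y then 2 * κ.1 * (y.2 - 1) else 0) := by
            rw [Finset.sum_add_distrib, Finset.sum_ite_eq', if_pos (Finset.mem_image_of_mem _ hyU), ← Finset.mul_sum, ← hs]
            ring
          rw [e, ← Finset.sum_fiberwise_of_maps_to (g := key) (t := S) fun x hx => Finset.mem_image_of_mem _ hx]
          refine Finset.sum_le_sum fun κ hκ => ?_
          split_ifs with hκy
          · subst hκy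
            refine le_trans (le_of_eq ?_) (hfib y hyU)
            rw [Nat.mul_sub, mul_one]
            have := Nat.le_mul_of_pos_right (2 * (key y).1) y4
            omega
          · obtain ⟨z, hz, rfl⟩ := Finset.mem_image.1 hκ
            exact (Nat.le_mul_of_pos_right _ (hsp z (hUmem z hz).1).2.2.2).trans (hfib z hz)
        have hkU := hT U hUsub
        have hk1 := Nat.le_mul_of_pos_left (y.2 - 1) (hkey y hyU).1
        have hle : y.2 - 1 ≤ m - s := by omega
        rcases Nat.lt_or_ge y.2 2 with he | he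
        · rw [Nat.clog_of_right_le_one (by omega), pow_zero]
          exact Nat.one_le_pow _ _ (by omega)
        · exact pow_clog_le hpp hpq (by omega) (fun _ => by omega)
      · have h2 : ∑ x ∈ U, w x + w y ≤ N := by
          have := hT (insert y U) (Finset.insert_subset hy hUsub)
          rwa [Finset.sum_insert hyU, add_comm] at this
        exact pow_clog_le hpp hpq (by omega) (fun e => by have := hN2 e; omega)
    refine ⟨L * p ^ Nat.clog p y.2, Nat.mul_pos hL0 (pow_pos hpp.pos _), ?_, Or.inl (hkill L _ fun z hz => ⟨?_, hmax' z hz⟩)⟩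
    · rw [← mul_assoc]
      refine (Nat.mul_le_mul hLle hR).trans (le_of_eq ?_)
      rw [← pow_add]; congr 1; omega
    · by_cases hzU : z.1 ∣ X ^ 2 - 1
      · rcases eq_or_ne p 2 with rfl | hp2
        · have e : (X ^ 2 - 1 : F[X]) = (X - 1) ^ 2 := by rw [CharTwo.sub_eq_add, CharTwo.sub_eq_add, CharTwo.add_sq, one_pow]
          rw [e] at hzU
          exact ((hsp z hz).2.1.prime.dvd_of_dvd_pow hzU).trans (sub_one_dvd_pow_sub_one X L)
        · exact hzU.trans (X_pow_dvd (hLev (hodd hp2) (hU.image key)) X)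
      · have hzU' : z ∈ U := Finset.mem_filter.2 ⟨Multiset.mem_toFinset.2 hz, hzU⟩
        exact (hkey z hzU').2.trans (X_pow_dvd (hLdvd _ (Finset.mem_image_of_mem _ hzU')) X)

/-- The same for an arbitrary index type. -/
theorem exists_pow_small {ι : Type} [Fintype ι] [DecidableEq ι] {m : ℕ} (hN : Fintype.card ι ≤ 2 * m + 1) (hm : 2 ≤ m)
    (hm2 : m = 2 → Fintype.card ι ≤ 4) (hev : Even (Fintype.card F) → Fintype.card ι ≤ 2 * m)
    (G B : Matrix ι ι F) (hB : IsUnit B.det) (h : G.transpose * B * G = B) :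
    ∃ k, 0 < k ∧ (Fintype.card F - 1) * k ≤ Fintype.card F ^ (m + 1) ∧ (G ^ k = 1 ∨ G ^ k = -1) := by
  classical
  let e := Matrix.reindexAlgEquiv F F (Fintype.equivFin ι)
  have hdet : G.det ≠ 0 := by
    intro h0
    have := congrArg Matrix.det h
    rw [Matrix.det_mul, Matrix.det_mul, h0, mul_zero] at this
    exact hB.ne_zero this.symm
  obtain ⟨k, h1, h2, h3⟩ := exists_pow_small_fin (N := Fintype.card ι) hN hm hm2 hev
    (Matrix.GeneralLinearGroup.mkOfDetNeZero (e G) (by rw [Matrix.det_reindexAlgEquiv]; exact hdet))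
    (Matrix.GeneralLinearGroup.mkOfDetNeZero (e B) (by rw [Matrix.det_reindexAlgEquiv]; exact hB.ne_zero))
    (by
      show (e G).transpose * e B * e G = e B
      rw [show (e G).transpose = e G.transpose from by simp [e], ← map_mul, ← map_mul, h])
  refine ⟨k, h1, h2, ?_⟩
  rcases h3 with h3 | h3
  · exact Or.inl (e.injective (by rw [map_pow, map_one]; exact h3))
  · exact Or.inr (e.injective (by rw [map_pow, map_neg, map_one]; exact h3))

end Cfsg.Agent.Lib.KnownA.IsometryOrders
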