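import Mathlib
import Cfsg.Agent.Lib.Classical.LinearSimple

/-! Elementary transvections inside a subgroup of `SL_n`: a calculus for proving generation. -/

set_option autoImplicit false

namespace Cfsg.Agent.Lib.KnownA

open Matrix
open scoped commutatorElement

variable {ι : Type*} [Fintype ι] [DecidableEq ι] {F : Type*} [Field F]

/-- The subgroup `H` contains the elementary transvection `x_{ij}(c)`. -/
def InR (H : Subgroup (SpecialLinearGroup ι F)) (i j : ι) (c : F) : Prop :=
  ∀ h : i ≠ j, SpecialLinearGroup.transvection h c ∈ H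

/-- The subgroup `H` contains the transvection `1 + a φ`. -/
def InT (H : Subgroup (SpecialLinearGroup ι F)) (a φ : ι → F) : Prop :=
  ∃ g ∈ H, (g : Matrix ι ι F) = 1 + vecMulVec a φ

variable {H : Subgroup (SpecialLinearGroup ι F)}

theorem slmul (A B : SpecialLinearGroup ι F) :
    ((A * B : SpecialLinearGroup ι F) : Matrix ι ι F) = (A : Matrix ι ι F) * (B : Matrix ι ι F) := rfl

theorem slone : ((1 : SpecialLinearGroup ι F) : Matrix ι ι F) = 1 := rfl

theorem InT.zero (a : ι → F) : InT H a 0 := ⟨1, H.one_mem, by simp⟩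

theorem InT.conj {k : SpecialLinearGroup ι F} (hk : k ∈ H) {a φ a' φ' : ι → F} (h : InT H a φ)
    (ha : (k : Matrix ι ι F) *ᵥ a = a') (hφ : φ' ᵥ* (k : Matrix ι ι F) = φ) : InT H a' φ' := by
  obtain ⟨g, hg, hgm⟩ := h
  refine ⟨k * g * k⁻¹, H.mul_mem (H.mul_mem hk hg) (H.inv_mem hk), ?_⟩
  have h1 : (k : Matrix ι ι F) * (g : Matrix ι ι F) = (1 + vecMulVec a' φ') * (k : Matrix ι ι F) := by
    rw [hgm, mul_add, mul_one, add_mul, one_mul, mul_vecMulVec, vecMulVec_mul, ha, hφ]
  have h2 : (k : Matrix ι ι F) * ((k⁻¹ : SpecialLinearGroup ι F) : Matrix ι ι F) = 1 := by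
    rw [← slmul, mul_inv_cancel, slone]
  rw [slmul, slmul, h1, mul_assoc, h2, mul_one]

theorem InT.add_axis {a φ ψ : ι → F} (h1 : InT H a φ) (h2 : InT H a ψ) (h : φ ⬝ᵥ a = 0) :
    InT H a (φ + ψ) := by
  obtain ⟨g, hg, hgm⟩ := h1
  obtain ⟨g', hg', hgm'⟩ := h2
  refine ⟨g * g', H.mul_mem hg hg', ?_⟩
  rw [slmul, hgm, hgm', add_mul, mul_add, mul_add, one_mul, one_mul, mul_one,
    vecMulVec_mul_vecMulVec, h, zero_smul, vecMulVec_zero, vecMulVec_add]
  abel

theorem InT.add_centre {a b φ : ι → F} (h1 : InT H a φ) (h2 : InT H b φ) (h : φ ⬝ᵥ b = 0) :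
    InT H (a + b) φ := by
  obtain ⟨g, hg, hgm⟩ := h1
  obtain ⟨g', hg', hgm'⟩ := h2
  refine ⟨g * g', H.mul_mem hg hg', ?_⟩
  rw [slmul, hgm, hgm', add_mul, mul_add, mul_add, one_mul, one_mul, mul_one,
    vecMulVec_mul_vecMulVec, h, zero_smul, vecMulVec_zero, add_vecMulVec]
  abel

theorem InT.neg {a φ : ι → F} (h1 : InT H a φ) (h : φ ⬝ᵥ a = 0) : InT H a (-φ) := by
  obtain ⟨g, hg, hgm⟩ := h1
  refine ⟨g⁻¹, H.inv_mem hg, ?_⟩
  have h2 : ((g⁻¹ : SpecialLinearGroup ι F) : Matrix ι ι F) * (g : Matrix ι ι F) = 1 := by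
    rw [← slmul, inv_mul_cancel, slone]
  have h3 : (g : Matrix ι ι F) * (1 + vecMulVec a (-φ)) = 1 := by
    rw [hgm, add_mul, mul_add, mul_add, one_mul, one_mul, mul_one, vecMulVec_mul_vecMulVec, h,
      zero_smul, vecMulVec_zero, vecMulVec_neg]
    abel
  exact left_inv_eq_right_inv h2 h3

theorem InT.neg_centre {a φ : ι → F} (h1 : InT H a φ) (h : φ ⬝ᵥ a = 0) : InT H (-a) φ := by
  obtain ⟨g, hg, hgm⟩ := InT.neg h1 h
  exact ⟨g, hg, by rw [hgm, neg_vecMulVec, vecMulVec_neg]⟩

/-- The commutator of two transvections whose product pairing vanishes on one side. -/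
theorem InT.comm {a φ b ψ : ι → F} (h1 : InT H a φ) (h2 : InT H b ψ) (hφa : φ ⬝ᵥ a = 0)
    (hψb : ψ ⬝ᵥ b = 0) (hψa : ψ ⬝ᵥ a = 0) : InT H a ((φ ⬝ᵥ b) • ψ) := by
  obtain ⟨g, hg, hgm⟩ := h1
  obtain ⟨g', hg', hgm'⟩ := h2
  refine ⟨⁅g, g'⁆, ?_, ?_⟩
  · rw [commutatorElement_def]
    exact H.mul_mem (H.mul_mem (H.mul_mem hg hg') (H.inv_mem hg)) (H.inv_mem hg')
  have key : (1 + vecMulVec a ((φ ⬝ᵥ b) • ψ)) * ((g' * g : SpecialLinearGroup ι F) : Matrix ι ι F) =
      ((g * g' : SpecialLinearGroup ι F) : Matrix ι ι F) := by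
    simp only [slmul, hgm, hgm', add_mul, mul_add, one_mul, mul_one,
      vecMulVec_mul_vecMulVec, vecMulVec_smul, Matrix.smul_mul, hψa, hψb, zero_smul, vecMulVec_zero,
      smul_zero, add_zero]
    abel
  have h2 : ((g' * g : SpecialLinearGroup ι F) : Matrix ι ι F) *
      (((g' * g)⁻¹ : SpecialLinearGroup ι F) : Matrix ι ι F) = 1 := by
    rw [← slmul, mul_inv_cancel, slone]
  rw [commutatorElement_def, show g * g' * g⁻¹ * g'⁻¹ = g * g' * (g' * g)⁻¹ by group,
    slmul, ← key, mul_assoc, h2, mul_one]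

theorem inR_iff {i j : ι} (h : i ≠ j) {c : F} :
    InR H i j c ↔ InT H (Pi.single i 1) (Pi.single j c) := by
  have hm : (SpecialLinearGroup.transvection h c : Matrix ι ι F) =
      1 + vecMulVec (Pi.single i 1) (Pi.single j c) := by
    rw [SpecialLinearGroup.transvection_coe]
    congr 1
    ext a b
    simp only [vecMulVec_apply, Pi.single_apply, Matrix.single, Matrix.of_apply, ite_mul, one_mul, zero_mul]
    grind
  refine ⟨fun hr => ⟨_, hr h, hm⟩, fun ⟨g, hg, hgm⟩ _ => ?_⟩
  rwa [show SpecialLinearGroup.transvection h c = g from Subtype.ext (hm.trans hgm.symm)]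

theorem inR_mk {i j : ι} {c : F} (h : InT H (Pi.single i 1) (Pi.single j c)) : InR H i j c :=
  fun hij => (inR_iff hij).mpr h hij

theorem InR.zero (i j : ι) : InR H i j 0 := fun h => by
  rw [SpecialLinearGroup.transvection_coeff_zero]; exact H.one_mem

theorem InR.neg {i j : ι} {c : F} (h : InR H i j c) : InR H i j (-c) := fun hij => by
  rw [← SpecialLinearGroup.transvection_inv]; exact H.inv_mem (h hij)

theorem InR.add {i j : ι} {c d : F} (h : InR H i j c) (h' : InR H i j d) : InR H i j (c + d) := fun hij => by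
  refine (inR_iff hij).mpr ?_ hij
  rw [Pi.single_add]
  exact InT.add_axis ((inR_iff hij).mp h) ((inR_iff hij).mp h') (by simp [hij.symm])

theorem InR.mul {i k j : ι} (hik : i ≠ k) (hkj : k ≠ j) {c d : F} (h : InR H i k c) (h' : InR H k j d) :
    InR H i j (c * d) := fun hij => by
  rw [← Cfsg.Agent.Lib.Classical.commutator_transvection hik hkj hij c d, commutatorElement_def]
  exact H.mul_mem (H.mul_mem (H.mul_mem (h hik) (h' hkj)) (H.inv_mem (h hik))) (H.inv_mem (h' hkj))

theorem exists_third (hn : 3 ≤ Fintype.card ι) (i j : ι) : ∃ k, k ≠ i ∧ k ≠ j := by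
  by_contra hcon
  push Not at hcon
  have : (Finset.univ : Finset ι) ⊆ {i, j} := fun x _ => by
    by_cases hx : x = i
    · simp [hx]
    · simp [hcon x hx]
  have := (Finset.card_le_card this).trans Finset.card_le_two
  rw [Finset.card_univ] at this
  omega

theorem eq_top_of_inR (h : ∀ i j c, InR H i j c) : H = ⊤ :=
  Cfsg.Agent.Lib.Classical.SL_eq_top_of_transvection_mem fun i j hij c => h i j c hij

/-- The coefficients available in every position form a subring. -/
def commonRing (hn : 3 ≤ Fintype.card ι) (h1 : ∀ i j, InR H i j 1) : Subring F where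
  carrier := {c | ∀ i j, InR H i j c}
  one_mem' := h1
  zero_mem' := InR.zero
  add_mem' ha hb i j := InR.add (ha i j) (hb i j)
  neg_mem' ha i j := InR.neg (ha i j)
  mul_mem' := fun {a b} ha hb i j hij => by
    obtain ⟨k, hki, hkj⟩ := exists_third hn i j
    exact InR.mul hki.symm hkj (ha i k) (hb k j) hij

/-- All `x_{ij}(1)` and one more coefficient generating the field give everything. -/
theorem eq_top_of_ones (hn : 3 ≤ Fintype.card ι) (h1 : ∀ i j, InR H i j 1) {k l : ι} (hkl : k ≠ l)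
    {θ : F} (hθ : InR H k l θ) (gen : Subring.closure ({θ} : Set F) = ⊤) : H = ⊤ := by
  have hrow : ∀ j, InR H k j θ := fun j hkj => by
    by_cases hlj : l = j
    · subst hlj; exact hθ hkj
    · exact (mul_one θ ▸ InR.mul hkl hlj hθ (h1 l j)) hkj
  have hoff : ∀ i j, j ≠ k → InR H i j θ := fun i j hjk hij => by
    by_cases hik : i = k
    · subst hik; exact hrow j hij
    · exact (one_mul θ ▸ InR.mul hik (Ne.symm hjk) (h1 i k) (hrow j)) hij
  have hall : θ ∈ commonRing hn h1 := fun i j hij => by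
    by_cases hjk : j = k
    · obtain ⟨m, hmi, hmj⟩ := exists_third hn i j
      exact (mul_one θ ▸ InR.mul hmi.symm hmj (hoff i m (hjk ▸ hmj)) (h1 m j)) hij
    · exact hoff i j hjk hij
  refine eq_top_of_inR fun i j c => ?_
  have : c ∈ commonRing hn h1 := by
    have hle : Subring.closure ({θ} : Set F) ≤ commonRing hn h1 :=
      Subring.closure_le.mpr (Set.singleton_subset_iff.mpr hall)
    exact hle (by rw [gen]; trivial)
  exact this i j

end Cfsg.Agent.Lib.KnownA
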