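import Mathlib
import Cfsg.Agent.Lib.KnownA.RootClosure

/-! A subgroup of `SL_n` containing the full Jordan block and both long root elements contains every
`x_{ij}(1)`. -/

set_option autoImplicit false

namespace Cfsg.Agent.Lib.KnownA

open Matrix

variable {F : Type*} [Field F] {n : ℕ}

/-- The upper unitriangular Jordan block. -/
def jordan (F : Type*) [Field F] (n : ℕ) : Matrix (Fin n) (Fin n) F :=
  Matrix.of fun i j => if (j : ℕ) = i ∨ (j : ℕ) = i + 1 then 1 else 0

theorem jordan_apply (i j : Fin n) :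
    jordan F n i j = if (j : ℕ) = i ∨ (j : ℕ) = i + 1 then 1 else 0 := rfl

theorem vecMul_jordan (φ : Fin n → F) (j : Fin n) :
    (φ ᵥ* jordan F n) j = φ j + if h : 0 < (j : ℕ) then φ ⟨(j : ℕ) - 1, by omega⟩ else 0 := by
  simp only [Matrix.vecMul, dotProduct, jordan_apply, mul_ite, mul_one, mul_zero]
  split_ifs with h
  · rw [Finset.sum_eq_add j ⟨(j : ℕ) - 1, by omega⟩]
    · simp; omega
    · intro e; simp [Fin.ext_iff] at e; omega
    · intro c _ hc
      rw [if_neg]
      simp [Fin.ext_iff] at hc ⊢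
      omega
    all_goals simp
  · rw [Finset.sum_eq_single j]
    · simp
    · intro c _ hc
      rw [if_neg]
      simp [Fin.ext_iff] at hc ⊢
      omega
    · simp

theorem jordan_mulVec_single (j : Fin n) :
    jordan F n *ᵥ Pi.single j 1 = fun i => jordan F n i j := by
  ext i; simp

theorem transvection_mulVec' {i j : Fin n} (h : i ≠ j) (c : F) (v : Fin n → F) :
    (SpecialLinearGroup.transvection h c : Matrix (Fin n) (Fin n) F) *ᵥ v = v + Pi.single i (c * v j) := by
  rw [SpecialLinearGroup.transvection_coe, add_mulVec, one_mulVec, single_mulVec_eq]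
  ext k
  rcases eq_or_ne k i with rfl | hk <;> simp [*]

theorem transvection_vecMul' {i j : Fin n} (h : i ≠ j) (c : F) (φ : Fin n → F) :
    φ ᵥ* (SpecialLinearGroup.transvection h c : Matrix (Fin n) (Fin n) F) = φ + Pi.single j (φ i * c) := by
  rw [SpecialLinearGroup.transvection_coe, vecMul_add, vecMul_one]
  congr 1
  ext k
  simp only [Matrix.vecMul, dotProduct, Matrix.single, Matrix.of_apply, Pi.single_apply, mul_ite, mul_zero]
  rcases eq_or_ne k j with rfl | hk
  · simp
  · simp [hk, Ne.symm hk]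

theorem ones_of_plane_aux (hn : 3 ≤ n) {H : Subgroup (SpecialLinearGroup (Fin n) F)}
    {u : SpecialLinearGroup (Fin n) F} (hu : u ∈ H) (hum : (u : Matrix (Fin n) (Fin n) F) = jordan F n)
    (f l p o : Fin n) (hf : (f : ℕ) = 0) (hl : (l : ℕ) = n - 1) (hp : (p : ℕ) = n - 2) (ho : (o : ℕ) = 1)
    (ht : InR H f l 1) (hs : InR H l f 1) : ∀ i j, InR H i j 1 := by
  have hfl : f ≠ l := by simp [hf, hl, Fin.ext_iff]; omega
  have hfp : f ≠ p := by simp [hf, hp, Fin.ext_iff]; omega
  have hpl : p ≠ l := by simp [hp, hl, Fin.ext_iff]; omega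
  let ψ : Fin n → F := fun j => (-1) ^ (j : ℕ)
  have hψJ : ψ ᵥ* jordan F n = Pi.single f 1 := by
    ext j
    rw [vecMul_jordan]
    rcases eq_or_ne j f with rfl | hj
    · simp [ψ, hf]
    · have hj' : 0 < (j : ℕ) := by
        simp [hf, Fin.ext_iff] at hj; omega
      rw [dif_pos hj', Pi.single_eq_of_ne hj]
      simp only [ψ]
      obtain ⟨k, hk⟩ := Nat.exists_eq_add_one_of_ne_zero hj'.ne'
      rw [hk]
      simp [pow_succ]
  have hψp : ψ p + ψ l = 0 := by
    simp only [ψ, hp, hl]
    rw [show n - 1 = n - 2 + 1 by omega, pow_succ]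
    ring
  have hJl : jordan F n *ᵥ Pi.single l 1 = Pi.single p 1 + Pi.single l 1 := by
    rw [jordan_mulVec_single]
    ext i
    simp only [jordan_apply, Pi.add_apply, Pi.single_apply, Fin.ext_iff]
    split_ifs <;> first | (simp; done) | (exfalso; omega)
  -- the conjugate of the lower long root element
  have T : InT H (Pi.single p 1 + Pi.single l 1) ψ :=
    InT.conj hu ((inR_iff hfl.symm).mp hs) (by rw [hum, hJl]) (by rw [hum, hψJ])
  have hdot : ∀ (v : Fin n → F) (i : Fin n), v ⬝ᵥ Pi.single i 1 = v i := fun v i => by simp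
  have T1 : InT H (Pi.single p 1 + Pi.single l 1 + Pi.single f 1) (ψ + Pi.single l (-1)) := by
    refine InT.conj (ht hfl) T ?_ ?_
    · rw [transvection_mulVec']
      simp [Ne.symm hpl, hfl, hfl.symm]
    · rw [transvection_vecMul']
      ext k
      simp [Pi.single_apply, hfl, ψ, hf]
      split_ifs <;> ring
  have hε : ψ l = 1 ∨ ψ l = -1 := neg_one_pow_eq_or F _
  have T2 : InT H (Pi.single p 1 + Pi.single f 1) (ψ + Pi.single l (-1) + Pi.single f (ψ l - 1)) := by
    refine InT.conj ((InR.neg hs) hfl.symm) T1 ?_ ?_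
    · rw [transvection_mulVec']
      ext k
      simp [Pi.single_apply, hpl.symm, hfl.symm]
      split_ifs <;> ring
    · rw [transvection_vecMul']
      ext k
      simp [Pi.single_apply, hfl, hfl.symm]
      split_ifs <;> ring
  have hpl1 : InR H p l 1 := by
    have c := InT.comm T2 ((inR_iff hfl).mp ht)
      (by simp [dotProduct_add, Pi.single_apply, hfl, hfp, hfp.symm, hpl, hpl.symm, hfl.symm, hψp, ψ, hf])
      (by simp [hfl]) (by simp [dotProduct_add, hfl, hfl.symm, hpl, hpl.symm])
    rw [hdot, show (ψ + Pi.single l (-1) + Pi.single f (ψ l - 1) : Fin n → F) f = ψ l by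
      simp [Pi.single_apply, hfl, ψ, hf]] at c
    have hz : (Pi.single l (1 : F) : Fin n → F) ⬝ᵥ (Pi.single p 1 + Pi.single f 1) = 0 := by
      simp [dotProduct_add, hfl, hfl.symm, hpl, hpl.symm]
    have c1 : InT H (Pi.single p 1 + Pi.single f 1) (Pi.single l 1) := by
      rcases hε with e | e <;> rw [e] at c
      · simpa using c
      · have := InT.neg c (by simp [dotProduct_add, hfl, hfl.symm, hpl, hpl.symm])
        simpa using this
    have := InT.add_centre c1 (InT.neg_centre ((inR_iff hfl).mp ht) (by simp [hfl]))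
      (by simp [hfl])
    exact inR_mk (by simpa using this)
  have hJrow : (Pi.single l (1 : F)) ᵥ* jordan F n = Pi.single l 1 := by
    ext j
    rw [vecMul_jordan]
    by_cases h : 0 < (j : ℕ)
    · have hne : (⟨(j : ℕ) - 1, by omega⟩ : Fin n) ≠ l := by simp [Fin.ext_iff, hl]; omega
      rw [dif_pos h, Pi.single_eq_of_ne hne, add_zero]
    · rw [dif_neg h, add_zero]
  have hcol : ∀ k : ℕ, ∀ j : Fin n, (j : ℕ) + k + 2 = n → InR H j l 1 := by
    intro k
    induction k with
    | zero =>
      intro j hj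
      have : j = p := by simp [hp, Fin.ext_iff]; omega
      exact this ▸ hpl1
    | succ k ih =>
      intro j hj
      have h1 : InR H (⟨(j : ℕ) + 1, by omega⟩ : Fin n) l 1 := ih _ (by simp; omega)
      set j' : Fin n := ⟨(j : ℕ) + 1, by omega⟩ with hj'
      have hne : j' ≠ l := by simp [hj', hl, Fin.ext_iff]; omega
      have hne0 : j ≠ l := by simp [hl, Fin.ext_iff]; omega
      have hJ : jordan F n *ᵥ Pi.single j' 1 = Pi.single j 1 + Pi.single j' 1 := by
        rw [jordan_mulVec_single]
        ext i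
        simp only [jordan_apply, Pi.add_apply, Pi.single_apply, hj', Fin.ext_iff]
        split_ifs <;> first | (simp; done) | (exfalso; omega)
      have h2 : InT H (Pi.single j 1 + Pi.single j' 1) (Pi.single l 1) :=
        InT.conj hu ((inR_iff hne).mp h1) (by rw [hum, hJ]) (by rw [hum, hJrow])
      have := InT.add_centre h2 (InT.neg_centre ((inR_iff hne).mp h1) (by simp [hne.symm]))
        (by simp [hne, hne.symm])
      exact inR_mk (by simpa using this)
  have hjl : ∀ j, InR H j l 1 := fun j h => by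
    refine hcol (n - 2 - j) j ?_ h
    simp [hl, Fin.ext_iff] at h
    omega
  have hjf : ∀ j, InR H j f 1 := fun j h => by
    by_cases e : j = l
    · subst e; exact hs h
    · exact (mul_one (1 : F) ▸ InR.mul e hfl.symm (hjl j) hs) h
  -- the other side
  have T' : InT H (Pi.single l 1) (ψ + Pi.single l (ψ p)) := by
    refine InT.conj ((InR.neg hpl1) hpl) T ?_ ?_
    · rw [transvection_mulVec']
      simp [hpl.symm]
      ext k
      simp [Pi.single_apply]
      split_ifs <;> ring
    · rw [transvection_vecMul']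
      ext k
      simp [Pi.single_apply, hpl]
      split_ifs <;> ring
  set m : Fin n → F := ψ + Pi.single l (ψ p) + Pi.single f (-1) with hm
  have hml : m l = 0 := by
    simp [hm, Pi.single_apply, hfl.symm]
    linear_combination hψp
  have hmf : m f = 0 := by simp [hm, Pi.single_apply, hfl, ψ, hf]
  have T'' : InT H (Pi.single l 1) m := by
    refine InT.add_axis T' ?_ (by rw [hdot]; simp [Pi.single_apply]; linear_combination hψp)
    have := InT.neg ((inR_iff hfl.symm).mp hs) (by simp [hfl.symm])
    simpa [← Pi.single_neg] using this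
  have A0 : InT H (Pi.single f 1) m := by
    have := InT.comm ((inR_iff hfl).mp ht) T'' (by simp [hfl.symm]) (by rw [hdot, hml]) (by rw [hdot, hmf])
    simpa using this
  have hAJ : ∀ φ, InT H (Pi.single f 1) φ → InT H (Pi.single f 1) (φ ᵥ* jordan F n) := by
    intro φ hφ
    have hi : ((u⁻¹ : SpecialLinearGroup (Fin n) F) : Matrix (Fin n) (Fin n) F) * jordan F n = 1 := by
      rw [← hum, ← slmul, inv_mul_cancel, slone]
    have hi' : jordan F n * ((u⁻¹ : SpecialLinearGroup (Fin n) F) : Matrix (Fin n) (Fin n) F) = 1 := by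
      rw [← hum, ← slmul, mul_inv_cancel, slone]
    have hJf : jordan F n *ᵥ Pi.single f 1 = Pi.single f 1 := by
      rw [jordan_mulVec_single]
      ext i
      simp [jordan_apply, Pi.single_apply, hf, Fin.ext_iff, eq_comm]
    refine InT.conj (H.inv_mem hu) hφ ?_ ?_
    · nth_rewrite 1 [← hJf]
      rw [mulVec_mulVec, hi, one_mulVec]
    · rw [vecMul_vecMul, hi', vecMul_one]
  have hmJ : m ᵥ* jordan F n = Pi.single o (-1) + Pi.single l (ψ p) := by
    ext j
    rw [vecMul_jordan]
    by_cases h0 : (j : ℕ) = 0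
    · have : f = j := Fin.ext (hf.trans h0.symm)
      subst this
      rw [dif_neg (by simp [hf]), hmf, Pi.add_apply, Pi.single_eq_of_ne (by simp [ho, hf, Fin.ext_iff]),
        Pi.single_eq_of_ne hfl]
    rw [dif_pos (by omega)]
    by_cases h1 : (j : ℕ) = 1
    · have : o = j := Fin.ext (ho.trans h1.symm)
      subst this
      have : (⟨(o : ℕ) - 1, by omega⟩ : Fin n) = f := Fin.ext (by simp [ho, hf])
      rw [this, hmf]
      have hol : o ≠ l := by simp [ho, hl, Fin.ext_iff]; omega
      have hof : o ≠ f := by simp [ho, hf, Fin.ext_iff]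
      simp [hm, Pi.single_apply, hol, hof, ψ, ho]
    by_cases h2 : (j : ℕ) = n - 1
    · have : l = j := Fin.ext (hl.trans h2.symm)
      subst this
      have : (⟨(l : ℕ) - 1, by omega⟩ : Fin n) = p := Fin.ext (by simp [hl, hp]; omega)
      rw [this, hml]
      simp [hm, Pi.single_apply, hpl, hfp.symm, show l ≠ o by simp [ho, hl, Fin.ext_iff]; omega]
    · have e1 : j ≠ l := fun e => h2 ((congrArg Fin.val e).trans hl)
      have e2 : j ≠ f := fun e => h0 ((congrArg Fin.val e).trans hf)
      have e3 : j ≠ o := fun e => h1 ((congrArg Fin.val e).trans ho)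
      have e4 : (⟨(j : ℕ) - 1, by omega⟩ : Fin n) ≠ l := by simp [hl, Fin.ext_iff]; omega
      have e5 : (⟨(j : ℕ) - 1, by omega⟩ : Fin n) ≠ f := by simp [hf, Fin.ext_iff]; omega
      simp [hm, Pi.single_apply, e1, e2, e3, e4, e5, ψ]
      obtain ⟨k, hk⟩ := Nat.exists_eq_add_one_of_ne_zero h0
      rw [hk]
      simp [pow_succ]
  have hfo : InR H f o 1 := by
    have hof : o ≠ f := by simp [ho, hf, Fin.ext_iff]
    have hA := hAJ m A0
    rw [hmJ] at hA
    have h1 : InT H (Pi.single f 1) (Pi.single l (ψ p)) := by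
      refine (inR_iff hfl).mp ?_
      rcases neg_one_pow_eq_or F (p : ℕ) with e | e
      · simp only [ψ]; rw [e]; exact ht
      · simp only [ψ]; rw [e]; exact InR.neg ht
    have h2 := InT.add_axis hA (InT.neg h1 (by simp [hfl.symm])) (by simp [hof, hfl.symm])
    rw [← sub_eq_add_neg, add_sub_cancel_right] at h2
    have h3 := InT.neg h2 (by simp [hof])
    rw [← Pi.single_neg, neg_neg] at h3
    exact inR_mk h3
  have hrow : ∀ k : ℕ, ∀ j : Fin n, (j : ℕ) = k + 1 → InR H f j 1 := by
    intro k
    induction k with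
    | zero =>
      intro j hj
      have : j = o := Fin.ext (hj.trans ho.symm)
      exact this ▸ hfo
    | succ k ih =>
      intro j hj
      set j' : Fin n := ⟨k + 1, by omega⟩ with hj'
      have hne : f ≠ j' := by simp [hf, hj', Fin.ext_iff]
      have hne0 : f ≠ j := by simp [hf, Fin.ext_iff]; omega
      have hJ : (Pi.single j' (1 : F)) ᵥ* jordan F n = Pi.single j 1 + Pi.single j' 1 := by
        ext i
        rw [vecMul_jordan]
        simp only [Pi.add_apply, Pi.single_apply, hj', Fin.ext_iff]
        split_ifs <;> simp <;> omega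
      have h2 := hAJ _ ((inR_iff hne).mp (ih j' rfl))
      rw [hJ] at h2
      have := InT.add_axis h2 (InT.neg ((inR_iff hne).mp (ih j' rfl)) (by simp [hne.symm]))
        (by simp [hne.symm, hne0.symm])
      exact inR_mk (by simpa using this)
  intro i j hij
  by_cases hi : i = f
  · subst hi
    refine hrow ((j : ℕ) - 1) j ?_ hij
    simp [hf, Fin.ext_iff] at hij
    omega
  by_cases hj : j = f
  · subst hj; exact hjf i hij
  exact (mul_one (1 : F) ▸ InR.mul hi (Ne.symm hj) (hjf i)
    (fun h => hrow ((j : ℕ) - 1) j (by simp [hf, Fin.ext_iff] at hj; omega) h)) hij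

theorem ones_of_plane (hn : 3 ≤ n) {H : Subgroup (SpecialLinearGroup (Fin n) F)}
    {u : SpecialLinearGroup (Fin n) F} (hu : u ∈ H) (hum : (u : Matrix (Fin n) (Fin n) F) = jordan F n)
    (ht : InR H (⟨0, by omega⟩ : Fin n) ⟨n - 1, by omega⟩ 1)
    (hs : InR H (⟨n - 1, by omega⟩ : Fin n) ⟨0, by omega⟩ 1) : ∀ i j, InR H i j 1 :=
  ones_of_plane_aux hn hu hum _ _ ⟨n - 2, by omega⟩ ⟨1, by omega⟩ rfl rfl rfl rfl ht hs

end Cfsg.Agent.Lib.KnownA
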