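import Cfsg.Agent.Lib.Solvable.Schmidt
import Mathlib

/-!
The order of a nilpotent permutation group.
-/

set_option autoImplicit false
set_option linter.unusedSectionVars false

namespace Cfsg.Agent.Lib.KnownA.NilpotentBound

open scoped Pointwise

/-- The exponent of two in `n!`. -/
def ee (n : ℕ) : ℕ := padicValNat 2 n.factorial

/-- The weight of the residue. -/
def ww : ℕ → ℕ
  | 0 => 1
  | 1 => 1
  | 2 => 2
  | _ => 3

/-- The bound. -/
def bb (n : ℕ) : ℕ := 2 ^ (3 * (n / 4) + ee (n / 4)) * ww (n % 4)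

theorem ee_four (a r : ℕ) (hr : r < 4) : ee (4 * a + r) = 3 * a + ee a + r / 2 := by
  have h1 : 4 * a + r = 2 * (2 * a + r / 2) + r % 2 := by omega
  unfold ee
  rw [h1, padicValNat_factorial_mul_add _ (Nat.mod_lt _ two_pos), padicValNat_factorial_mul,
    padicValNat_factorial_mul_add _ (show r / 2 < 2 by omega), padicValNat_factorial_mul]
  omega

theorem ee_add (a b : ℕ) : ee a + ee b ≤ ee (a + b) := by
  unfold ee
  rw [← padicValNat.mul a.factorial_ne_zero b.factorial_ne_zero]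
  exact (padicValNat_dvd_iff_le (a + b).factorial_ne_zero).mp
    (pow_padicValNat_dvd.trans (Nat.factorial_mul_factorial_dvd_factorial_add a b))

theorem ee_mono {a b : ℕ} (h : a ≤ b) : ee a ≤ ee b := by
  obtain ⟨c, rfl⟩ := Nat.exists_eq_add_of_le h
  exact (Nat.le_add_right _ _).trans (ee_add a c)

theorem bb_add (m k : ℕ) : bb m * bb k ≤ bb (m + k) := by
  have hw : ∀ r < 4, ∀ r' < 4, ww r * ww r' ≤ 2 ^ (3 * ((r + r') / 4)) * ww ((r + r') % 4) := by decide
  have h1 := hw _ (Nat.mod_lt m (by norm_num)) _ (Nat.mod_lt k (by norm_num))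
  have hd : (m + k) / 4 = m / 4 + k / 4 + (m % 4 + k % 4) / 4 := by omega
  have hr : (m + k) % 4 = (m % 4 + k % 4) % 4 := by omega
  unfold bb
  rw [hr]
  set c := (m % 4 + k % 4) / 4
  have he : ee (m / 4) + ee (k / 4) ≤ ee ((m + k) / 4) :=
    (ee_add _ _).trans (ee_mono (by omega))
  calc 2 ^ (3 * (m / 4) + ee (m / 4)) * ww (m % 4) * (2 ^ (3 * (k / 4) + ee (k / 4)) * ww (k % 4))
      = 2 ^ (3 * (m / 4) + ee (m / 4) + (3 * (k / 4) + ee (k / 4))) * (ww (m % 4) * ww (k % 4)) := by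
        rw [pow_add 2 (3 * (m / 4) + ee (m / 4))]; ring
    _ ≤ 2 ^ (3 * (m / 4) + ee (m / 4) + (3 * (k / 4) + ee (k / 4))) * (2 ^ (3 * c) * ww ((m % 4 + k % 4) % 4)) :=
        Nat.mul_le_mul_left _ h1
    _ = 2 ^ (3 * (m / 4) + ee (m / 4) + (3 * (k / 4) + ee (k / 4)) + 3 * c) * ww ((m % 4 + k % 4) % 4) := by
        rw [pow_add 2 _ (3 * c), mul_assoc]
    _ ≤ _ := Nat.mul_le_mul_right _ (Nat.pow_le_pow_right two_pos (by omega))

theorem one_le_bb (n : ℕ) : 1 ≤ bb n := by
  have : 1 ≤ ww (n % 4) := by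
    rcases (show n % 4 = 0 ∨ n % 4 = 1 ∨ n % 4 = 2 ∨ n % 4 = 3 by omega) with h | h | h | h <;> simp [h, ww]
  exact Nat.one_le_iff_ne_zero.mpr (Nat.mul_ne_zero (by positivity) (by omega))

theorem bb_mono {m k : ℕ} (h : m ≤ k) : bb m ≤ bb k := by
  obtain ⟨c, rfl⟩ := Nat.exists_eq_add_of_le h
  exact (Nat.le_mul_of_pos_right _ (one_le_bb c)).trans (bb_add m c)

theorem bb_eq_of_ne {n : ℕ} (h : n % 4 ≠ 3) : bb n = 2 ^ ee n := by
  have h1 := ee_four (n / 4) (n % 4) (Nat.mod_lt _ (by norm_num))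
  rw [Nat.div_add_mod] at h1
  unfold bb
  rw [h1]
  rcases (show n % 4 = 0 ∨ n % 4 = 1 ∨ n % 4 = 2 by omega) with e | e | e <;> simp [e, ww, pow_add]

theorem two_pow_ee_le (n : ℕ) : 2 ^ ee n * 3 ≤ 3 * bb n ∧ 2 * bb n ≤ 3 * 2 ^ ee n := by
  by_cases h : n % 4 = 3
  · have h1 := ee_four (n / 4) (n % 4) (Nat.mod_lt _ (by norm_num))
    rw [Nat.div_add_mod] at h1
    unfold bb
    rw [h1, h, pow_add _ _ (3 / 2)]
    constructor <;> simp [ww] <;> omega
  · rw [bb_eq_of_ne h]; constructor <;> omega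

/-- Computable values. -/
def eFast : ℕ → ℕ → ℕ
  | 0, _ => 0
  | k + 1, n => n / 2 + eFast k (n / 2)

theorem eFast_eq : ∀ k n, n < 2 ^ k → eFast k n = ee n := by
  intro k
  induction k with
  | zero => intro n hn; obtain rfl : n = 0 := by omega
            simp [eFast, ee]
  | succ k ih =>
    intro n hn
    show n / 2 + eFast k (n / 2) = ee n
    rw [ih _ (by omega)]
    unfold ee
    conv_rhs => rw [← Nat.div_add_mod n 2, padicValNat_factorial_mul_add _ (Nat.mod_lt _ two_pos),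
      padicValNat_factorial_mul]
    omega

theorem small_values : ∀ n < 32, 8 ≤ n → 3 ^ (n - 1) ≤ (2 ^ (3 * (n / 4) + eFast 3 (n / 4)) * ww (n % 4)) ^ 2 := by
  decide

theorem three_pow_step (a r : ℕ) (hr : r < 4) (ha : 8 ≤ a) (h1 : 3 ^ (a - 1) ≤ bb a ^ 2) :
    4 * 3 ^ (4 * a + r - 1) ≤ bb (4 * a + r) ^ 2 := by
  have h2 : 4 * bb a ^ 2 ≤ 9 * (2 ^ ee a) ^ 2 := by
    have h := Nat.pow_le_pow_left (two_pow_ee_le a).2 2
    calc 4 * bb a ^ 2 = (2 * bb a) ^ 2 := by ring
      _ ≤ (3 * 2 ^ ee a) ^ 2 := h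
      _ = _ := by ring
  unfold bb
  rw [show (4 * a + r) / 4 = a by omega, show (4 * a + r) % 4 = r by omega]
  have hw : 1 ≤ ww r := by interval_cases r <;> decide
  have h64 : (2 : ℕ) ^ (3 * a) = 8 ^ a := by rw [pow_mul]; norm_num
  rw [pow_add, h64]
  obtain ⟨b, rfl⟩ : ∃ b, a = b + 1 := ⟨a - 1, by omega⟩
  have h3 : 3 ^ (4 * (b + 1) + r - 1) ≤ 81 ^ (b + 1) * 9 := by
    calc 3 ^ (4 * (b + 1) + r - 1) ≤ 3 ^ (4 * (b + 1) + 2) := Nat.pow_le_pow_right (by norm_num) (by omega)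
      _ = _ := by rw [pow_add, pow_mul]; norm_num
  have h5 : 81 ^ (b + 1) * 324 ≤ 64 ^ (b + 1) * (4 * 3 ^ b) := by
    have hb : 7 ≤ b := by omega
    clear * - hb
    induction b, hb using Nat.le_induction with
    | base => norm_num
    | succ b _ ih =>
      calc 81 ^ (b + 1 + 1) * 324 = 81 ^ (b + 1) * 324 * 81 := by rw [pow_succ 81 (b + 1)]; ring
        _ ≤ 64 ^ (b + 1) * (4 * 3 ^ b) * 192 := Nat.mul_le_mul ih (by norm_num)
        _ = _ := by rw [pow_succ 64 (b + 1), pow_succ 3 b]; ring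
  rw [show b + 1 - 1 = b by omega] at h1
  calc 4 * 3 ^ (4 * (b + 1) + r - 1) ≤ 4 * (81 ^ (b + 1) * 9) := Nat.mul_le_mul_left _ h3
    _ ≤ 64 ^ (b + 1) * (2 ^ ee (b + 1)) ^ 2 := by
        have h6 : 64 ^ (b + 1) * (4 * 3 ^ b) ≤ 64 ^ (b + 1) * (9 * (2 ^ ee (b + 1)) ^ 2) :=
          Nat.mul_le_mul_left _ ((Nat.mul_le_mul_left 4 h1).trans h2)
        have := h5.trans h6
        nlinarith
    _ = (8 ^ (b + 1) * 2 ^ ee (b + 1) * 1) ^ 2 := by
        rw [mul_one, mul_pow, ← pow_mul 8, mul_comm (b + 1) 2, pow_mul 8]; norm_num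
    _ ≤ _ := Nat.pow_le_pow_left (Nat.mul_le_mul_left _ hw) 2

theorem three_pow_le : ∀ n, 8 ≤ n → 3 ^ (n - 1) ≤ bb n ^ 2 := by
  intro n
  induction n using Nat.strongRecOn with
  | ind n ih =>
    intro hn
    by_cases hs : n < 32
    · have := small_values n hs hn
      rw [eFast_eq 3 _ (show n / 4 < 2 ^ 3 by omega)] at this
      exact this
    obtain ⟨a, r, hr, rfl⟩ : ∃ a r, r < 4 ∧ n = 4 * a + r := ⟨n / 4, n % 4, Nat.mod_lt _ (by norm_num), (Nat.div_add_mod n 4).symm⟩
    exact (Nat.le_mul_of_pos_left _ (by norm_num)).trans (three_pow_step a r hr (by omega) (ih a (by omega) (by omega)))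

/-- The finite check for odd prime powers. -/
def evenCheck (n p j k : ℕ) : Bool :=
  decide (p < 3) || decide (n ≤ (p - 1) * j) || decide (n < 7) || decide (n = 9) || decide (n ≠ p ^ k) ||
    decide (2 * p ^ j ≤ 2 ^ (3 * (n / 4) + eFast 3 (n / 4)) * ww (n % 4))

theorem small_check : ((List.range 32).all fun n => (List.range 32).all fun p => (List.range 16).all fun j =>
    (List.range 5).all fun k => evenCheck n p j k) = true := by
  decide +kernel

theorem small_even (n : ℕ) (h1 : n < 32) (p : ℕ) (h2 : p < 32) (j : ℕ) (h3 : j < 16) (k : ℕ) (h4 : k < 5)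
    (hp : 3 ≤ p) (hv : (p - 1) * j < n) (h7 : 7 ≤ n) (h9 : n ≠ 9) (hk : n = p ^ k) :
    2 * p ^ j ≤ 2 ^ (3 * (n / 4) + eFast 3 (n / 4)) * ww (n % 4) := by
  have h := List.all_eq_true.mp (List.all_eq_true.mp (List.all_eq_true.mp (List.all_eq_true.mp small_check
    n (List.mem_range.mpr h1)) p (List.mem_range.mpr h2)) j (List.mem_range.mpr h3)) k (List.mem_range.mpr h4)
  simp only [evenCheck, Bool.or_eq_true, decide_eq_true_eq] at h
  rcases h with ((((h | h) | h) | h) | h) | h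
  · omega
  · omega
  · omega
  · exact absurd h h9
  · exact absurd hk h
  · exact h

/-- A `p`-group of degree a power of `p`. -/
theorem pgroup_bound {p : ℕ} [hp : Fact p.Prime] {k n : ℕ} (hn : n = p ^ k) (hk : k ≠ 0) {c : ℕ}
    (hc : ∃ j, c = p ^ j) (hdvd : c ∣ n.factorial) : c ≤ bb n := by
  obtain ⟨j, rfl⟩ := hc
  have hj : j ≤ padicValNat p n.factorial := (padicValNat_dvd_iff_le n.factorial_ne_zero).mp hdvd
  by_cases h2 : p = 2
  · subst h2
    refine le_trans (Nat.pow_le_pow_right two_pos hj) ?_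
    have := (two_pow_ee_le n).1
    show 2 ^ ee n ≤ bb n
    omega
  have hn0 : n ≠ 0 := by rw [hn]; exact pow_ne_zero _ hp.out.ne_zero
  have hv : (p - 1) * j < n :=
    lt_of_le_of_lt (Nat.mul_le_mul_left _ hj) (sub_one_mul_padicValNat_factorial_lt_of_ne_zero p hn0)
  have hp3 : 3 ≤ p := by have := hp.out.two_le; omega
  by_cases h8 : 8 ≤ n
  · have hsq : p ^ 2 ≤ 3 ^ (p - 1) := by
      have : ∀ t, (t + 3) ^ 2 ≤ 3 ^ (t + 2) := by
        intro t
        induction t with
        | zero => norm_num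
        | succ t ih =>
          calc (t + 1 + 3) ^ 2 ≤ (t + 3) ^ 2 * 3 := by ring_nf; omega
            _ ≤ 3 ^ (t + 2) * 3 := Nat.mul_le_mul_right 3 ih
            _ = _ := (pow_succ 3 (t + 2)).symm
      have := this (p - 3)
      rwa [show p - 3 + 3 = p by omega, show p - 3 + 2 = p - 1 by omega] at this
    have h1 : (p ^ j) ^ 2 ≤ bb n ^ 2 := by
      calc (p ^ j) ^ 2 = (p ^ 2) ^ j := by rw [← pow_mul, ← pow_mul, mul_comm]
        _ ≤ (3 ^ (p - 1)) ^ j := Nat.pow_le_pow_left hsq j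
        _ = 3 ^ ((p - 1) * j) := by rw [← pow_mul]
        _ ≤ 3 ^ (n - 1) := Nat.pow_le_pow_right (by norm_num) (by omega)
        _ ≤ _ := three_pow_le n h8
    exact Nat.pow_le_pow_iff_left two_ne_zero |>.mp h1
  · have hpn : p ≤ n := by rw [hn]; exact Nat.le_self_pow hk p
    have hk1 : k = 1 := by
      by_contra h
      have : p ^ 2 ≤ p ^ k := Nat.pow_le_pow_right hp.out.pos (by omega)
      nlinarith
    rw [hk1, pow_one] at hn
    subst hn
    have hj1 : j ≤ 1 := by
      by_contra h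
      have : (n - 1) * 2 ≤ (n - 1) * j := Nat.mul_le_mul_left _ (by omega)
      omega
    refine le_trans ((Nat.pow_le_pow_right hp.out.pos hj1).trans (pow_one n).le) ?_
    unfold bb
    have : n = 3 ∨ n = 5 ∨ n = 7 := by
      have := hp.out
      interval_cases n <;> first | omega | (norm_num at this)
    rcases this with rfl | rfl | rfl <;>
      (rw [← eFast_eq 3 _ (by norm_num)]; decide)

/-- The degrees without the factor two for even groups. -/
def exc : List ℕ := [0, 1, 3, 5, 6, 9]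

theorem pgroup_even {p : ℕ} [hp : Fact p.Prime] {k n : ℕ} (hn : n = p ^ k) (hp3 : 3 ≤ p) (hx : n ∉ exc) (hn1 : n ≠ 1)
    {j : ℕ} (hdvd : p ^ j ∣ n.factorial) : 2 * p ^ j ≤ bb n := by
  simp only [exc, List.mem_cons, List.not_mem_nil, or_false, not_or] at hx
  have hn0 : n ≠ 0 := hx.1
  have hv : (p - 1) * j < n :=
    lt_of_le_of_lt (Nat.mul_le_mul_left _ ((padicValNat_dvd_iff_le n.factorial_ne_zero).mp hdvd))
      (sub_one_mul_padicValNat_factorial_lt_of_ne_zero p hn0)
  have hk : k ≠ 0 := fun h => hn1 (by rw [hn, h, pow_zero])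
  have hpn : p ≤ n := by rw [hn]; exact Nat.le_self_pow hk p
  have hodd : n % 2 = 1 := by
    rw [hn, Nat.pow_mod, (hp.out.eq_two_or_odd).resolve_left (by omega), one_pow, Nat.one_mod]
  have h7 : 7 ≤ n := by omega
  by_cases h32 : n < 32
  · have hk5 : k < 5 := by
      by_contra h
      have : 3 ^ 5 ≤ p ^ k := (Nat.pow_le_pow_left hp3 5).trans (Nat.pow_le_pow_right hp.out.pos (by omega))
      rw [← hn] at this
      norm_num at this
      omega
    have hj : j < 16 := by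
      have : 2 * j ≤ (p - 1) * j := Nat.mul_le_mul_right j (by omega)
      omega
    have := small_even n h32 p (by omega) j hj k hk5 hp3 hv h7 (by omega) hn
    rw [eFast_eq 3 _ (show n / 4 < 2 ^ 3 by omega)] at this
    exact this
  · have hsq : p ^ 2 ≤ 3 ^ (p - 1) := by
      have : ∀ t, (t + 3) ^ 2 ≤ 3 ^ (t + 2) := by
        intro t
        induction t with
        | zero => norm_num
        | succ t ih =>
          calc (t + 1 + 3) ^ 2 ≤ (t + 3) ^ 2 * 3 := by ring_nf; omega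
            _ ≤ 3 ^ (t + 2) * 3 := Nat.mul_le_mul_right 3 ih
            _ = _ := (pow_succ 3 (t + 2)).symm
      have := this (p - 3)
      rwa [show p - 3 + 3 = p by omega, show p - 3 + 2 = p - 1 by omega] at this
    have h1 : (2 * p ^ j) ^ 2 ≤ bb n ^ 2 := by
      calc (2 * p ^ j) ^ 2 = 4 * (p ^ 2) ^ j := by rw [mul_pow, ← pow_mul, ← pow_mul, mul_comm j 2]; norm_num
        _ ≤ 4 * (3 ^ (p - 1)) ^ j := Nat.mul_le_mul_left _ (Nat.pow_le_pow_left hsq j)
        _ = 4 * 3 ^ ((p - 1) * j) := by rw [← pow_mul]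
        _ ≤ 4 * 3 ^ (n - 1) := Nat.mul_le_mul_left _ (Nat.pow_le_pow_right (by norm_num) (by omega))
        _ = 4 * 3 ^ (4 * (n / 4) + n % 4 - 1) := by rw [Nat.div_add_mod]
        _ ≤ _ := (three_pow_step (n / 4) (n % 4) (Nat.mod_lt _ (by norm_num)) (by omega) (three_pow_le _ (by omega))).trans
            (le_of_eq (by rw [Nat.div_add_mod]))
    exact Nat.pow_le_pow_iff_left two_ne_zero |>.mp h1

/-- A `2`-group of even permutations. -/
theorem two_group_even {α : Type} [Fintype α] [DecidableEq α] (N : Subgroup (Equiv.Perm α)) (hN : IsPGroup 2 N)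
    (hev : ∀ g ∈ N, Equiv.Perm.sign g = 1) (h2 : 2 ≤ Fintype.card α) :
    2 * Nat.card N ≤ bb (Fintype.card α) := by
  obtain ⟨S, hS⟩ := hN.exists_le_sylow
  have hlt : N ≠ (S : Subgroup (Equiv.Perm α)) := by
    intro h
    obtain ⟨x, y, hxy⟩ := Fintype.exists_pair_of_one_lt_card h2
    have hsw : IsPGroup 2 (Subgroup.zpowers (Equiv.swap x y)) := by
      refine IsPGroup.of_card (n := 1) ?_
      rw [Nat.card_zpowers, pow_one]
      exact orderOf_eq_prime (by rw [pow_two]; exact Equiv.swap_mul_self x y) (Equiv.swap_eq_one_iff.not.mpr hxy)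
    obtain ⟨T, hT⟩ := hsw.exists_le_sylow
    obtain ⟨g, hg⟩ := MulAction.exists_smul_eq (Equiv.Perm α) S T
    have h1 : Equiv.swap x y ∈ (g • S : Sylow 2 (Equiv.Perm α)) := hg ▸ hT (Subgroup.mem_zpowers _)
    change Equiv.swap x y ∈ MulAut.conj g • (S : Subgroup (Equiv.Perm α)) at h1
    rw [Subgroup.mem_pointwise_smul_iff_inv_smul_mem, ← h] at h1
    have h2 := hev _ h1
    rw [MulAut.smul_def, MulAut.conj_inv_apply, map_mul, map_mul, Equiv.Perm.sign_swap hxy, map_inv] at h2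
    simp at h2
  obtain ⟨i, hi⟩ := IsPGroup.iff_card.mp hN
  obtain ⟨l, hl⟩ := IsPGroup.iff_card.mp S.2
  have hil : i < l := by
    by_contra hcon
    refine hlt (Subgroup.eq_of_le_of_card_ge hS ?_)
    rw [hi, hl]; exact Nat.pow_le_pow_right two_pos (not_lt.mp hcon)
  have hl' : l ≤ ee (Fintype.card α) := by
    refine (padicValNat_dvd_iff_le (Nat.factorial_ne_zero _)).mp ?_
    rw [← hl, ← Fintype.card_perm, ← Nat.card_eq_fintype_card]
    exact Subgroup.card_subgroup_dvd_card _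
  have h3 := (two_pow_ee_le (Fintype.card α)).1
  have h4 : 2 * 2 ^ i ≤ 2 ^ ee (Fintype.card α) := by
    rw [← pow_succ']; exact Nat.pow_le_pow_right two_pos (by omega)
  rw [hi]; omega

/-- Even nilpotent groups on six points. -/
theorem six_even {α : Type} [Fintype α] [DecidableEq α] (h6 : Fintype.card α = 6) (N : Subgroup (Equiv.Perm α))
    (hN : Group.IsNilpotent N) (hev : ∀ g ∈ N, Equiv.Perm.sign g = 1) (hle : Nat.card N ≤ bb 6) :
    Nat.card N ≤ 12 := by
  have hb : bb 6 = 16 := by unfold bb; rw [← eFast_eq 3 _ (by norm_num)]; decide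
  have hd : Nat.card N ∣ 360 := by
    have hsub : N ≤ alternatingGroup α := fun g hg => Equiv.Perm.mem_alternatingGroup.mpr (hev g hg)
    haveI : Nontrivial α := Fintype.one_lt_card_iff_nontrivial.mp (by omega)
    refine (Subgroup.card_dvd_of_le hsub).trans (dvd_of_eq ?_)
    rw [nat_card_alternatingGroup, Nat.card_eq_fintype_card, h6]; rfl
  have h15 : Nat.card N ≠ 15 := by
    intro h
    haveI := hN
    haveI : Fact (Nat.Prime 3) := ⟨by norm_num⟩
    haveI : Fact (Nat.Prime 5) := ⟨by norm_num⟩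
    obtain ⟨x, hx⟩ := exists_prime_orderOf_dvd_card' (G := N) 3 (h ▸ (by norm_num : 3 ∣ 15))
    obtain ⟨y, hy⟩ := exists_prime_orderOf_dvd_card' (G := N) 5 (h ▸ (by norm_num : 5 ∣ 15))
    have hc := Subgroup.mem_centralizer_iff.mp (Lib.Solvable.Schmidt.commute_of_coprime_orderOf
      (p := 3) (q := 5) (by norm_num) (IsPGroup.of_card (n := 1) (by rw [Nat.card_zpowers, hx, pow_one]) : IsPGroup 3 (Subgroup.zpowers x))
      (IsPGroup.of_card (n := 1) (by rw [Nat.card_zpowers, hy, pow_one]) : IsPGroup 5 (Subgroup.zpowers y))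
      (Subgroup.mem_zpowers x)) y (Subgroup.mem_zpowers y)
    have hxy : orderOf (x * y) = 15 := by
      rw [(show Commute x y from hc.symm).orderOf_mul_eq_mul_orderOf_of_coprime (by rw [hx, hy]; norm_num), hx, hy]
    have key : ∀ s : Equiv.Perm (Fin 6), s ^ 15 = 1 → s ^ 3 = 1 ∨ s ^ 5 = 1 := by decide +kernel
    let E := (Fintype.equivFinOfCardEq h6).permCongrHom
    have ho : orderOf (E ((x * y : N) : Equiv.Perm α)) = 15 := by
      rw [E.orderOf_eq, Subgroup.orderOf_coe, hxy]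
    rcases key _ (ho ▸ pow_orderOf_eq_one _) with h' | h' <;>
    · have := Nat.le_of_dvd (by norm_num) (orderOf_dvd_of_pow_eq_one h')
      omega
  rw [hb] at hle
  generalize Nat.card N = c at hd hle h15
  interval_cases c <;> omega

theorem exc_lt : ∀ m ∈ exc, m < 16 := by decide

theorem exc_pairs : ∀ m ∈ exc, ∀ k ∈ exc, 1 ≤ m → 1 ≤ k → m + k ∉ exc →
    2 * ((if m = 6 then 12 else 2 ^ (3 * (m / 4) + eFast 3 (m / 4)) * ww (m % 4)) *
      (if k = 6 then 12 else 2 ^ (3 * (k / 4) + eFast 3 (k / 4)) * ww (k % 4))) ≤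
      2 ^ (3 * ((m + k) / 4) + eFast 3 ((m + k) / 4)) * ww ((m + k) % 4) := by
  decide

theorem nilpotent_bounds : ∀ (n : ℕ) (α : Type) [Fintype α] [DecidableEq α], Fintype.card α = n →
    ∀ N : Subgroup (Equiv.Perm α), Group.IsNilpotent N → Nat.card N ≤ bb n ∧
      ((∀ g ∈ N, Equiv.Perm.sign g = 1) → n ∉ exc → 2 * Nat.card N ≤ bb n) := by
  intro n
  induction n using Nat.strongRecOn with
  | ind n ih =>
  intro α _ _ hα N hN
  classical
  haveI := hN
  by_cases hn0 : n = 0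
  · haveI : IsEmpty α := Fintype.card_eq_zero_iff.mp (hn0 ▸ hα)
    haveI : Subsingleton (Equiv.Perm α) := ⟨fun a b => Equiv.ext fun x => isEmptyElim x⟩
    exact ⟨(le_of_eq (Nat.card_unique)).trans (one_le_bb n), fun _ hx => absurd (by simp [hn0, exc]) hx⟩
  -- restriction to an invariant set
  have hres : ∀ (K : Subgroup (Equiv.Perm α)), Group.IsNilpotent K → ∀ (s : Finset α),
      (∀ g ∈ K, ∀ x, x ∈ s ↔ g x ∈ s) → s.card < n → ∃ L : Subgroup (Equiv.Perm {x // x ∈ s}),
        Group.IsNilpotent L ∧ Nat.card L ≤ bb s.card ∧ ∃ f : K →* L, Function.Surjective f ∧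
          ((∀ l ∈ L, Equiv.Perm.sign l = 1) → s.card ∉ exc → 2 * Nat.card L ≤ bb s.card) ∧
          (∀ (g : K) (x : {x // x ∈ s}), ((f g : Equiv.Perm {x // x ∈ s}) x : α) = (g : Equiv.Perm α) x) ∧
          ∀ g : K, f g = 1 → ∀ x ∈ s, (g : Equiv.Perm α) x = x := by
    intro K hK s hs hlt
    haveI := hK
    let f : K →* Equiv.Perm {x // x ∈ s} :=
      { toFun := fun g => (g : Equiv.Perm α).subtypePerm (fun x => (hs g g.2 x).symm)
        map_one' := by ext; simp
        map_mul' := fun g g' => by ext; rfl }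
    haveI : Group.IsNilpotent f.range := Group.nilpotent_of_surjective f.rangeRestrict f.rangeRestrict_surjective
    have hb := ih s.card hlt _ (Fintype.card_coe s) f.range inferInstance
    refine ⟨f.range, inferInstance, hb.1, f.rangeRestrict, f.rangeRestrict_surjective, hb.2, fun g x => rfl, fun g hg x hx => ?_⟩
    exact congrArg Subtype.val (Equiv.congr_fun (congrArg Subtype.val hg) ⟨x, hx⟩)
  obtain ⟨x₀⟩ : Nonempty α := Fintype.card_pos_iff.mp (by omega)
  let orb : Subgroup (Equiv.Perm α) → Finset α := fun K => Finset.univ.filter fun y => ∃ g ∈ K, g x₀ = y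
  have horb : ∀ K : Subgroup (Equiv.Perm α), ∀ g ∈ K, ∀ x, x ∈ orb K ↔ g x ∈ orb K := by
    intro K g hg x
    simp only [orb, Finset.mem_filter, Finset.mem_univ, true_and]
    constructor
    · rintro ⟨h, hh, rfl⟩; exact ⟨g * h, K.mul_mem hg hh, rfl⟩
    · rintro ⟨h, hh, e⟩; exact ⟨g⁻¹ * h, K.mul_mem (K.inv_mem hg) hh, by simp [e]⟩
  by_cases htr : (orb N).card < n
  · -- intransitive
    have hs' : ∀ g ∈ N, ∀ x, x ∈ (orb N)ᶜ ↔ g x ∈ (orb N)ᶜ := fun g hg x => by
      rw [Finset.mem_compl, Finset.mem_compl, ← horb N g hg x]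
    have hpos : 0 < (orb N).card := Finset.card_pos.mpr ⟨x₀, by simp [orb, show ∃ g ∈ N, g x₀ = x₀ from ⟨1, N.one_mem, rfl⟩]⟩
    have hc : (orb N)ᶜ.card = n - (orb N).card := by rw [Finset.card_compl, hα]
    obtain ⟨L₁, hnil₁, hL₁, f₁, hsurj₁, hev₁, hv₁, hf₁⟩ := hres N hN _ (horb N) htr
    obtain ⟨L₂, hnil₂, hL₂, f₂, hsurj₂, hev₂, hv₂, hf₂⟩ := hres N hN _ hs' (by omega)
    have hinj : Function.Injective (f₁.prod f₂) := by
      rw [injective_iff_map_eq_one]
      intro g hg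
      refine Subtype.ext (Equiv.ext fun x => ?_)
      by_cases hx : x ∈ orb N
      · exact hf₁ g (congrArg Prod.fst hg) x hx
      · exact hf₂ g (congrArg Prod.snd hg) x (Finset.mem_compl.mpr hx)
    have hbd : bb (orb N).card * bb (orb N)ᶜ.card ≤ bb n := (bb_add _ _).trans (le_of_eq (by rw [hc]; congr 1; omega))
    refine ⟨?_, fun hev hx => ?_⟩
    · calc Nat.card N ≤ Nat.card (L₁ × L₂) := Nat.card_le_card_of_injective _ hinj
        _ ≤ bb (orb N).card * bb (orb N)ᶜ.card := by rw [Nat.card_prod]; exact Nat.mul_le_mul hL₁ hL₂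
        _ ≤ _ := hbd
    have hsign : ∀ g : N, Equiv.Perm.sign (f₁ g : Equiv.Perm {x // x ∈ orb N}) *
        Equiv.Perm.sign (f₂ g : Equiv.Perm {x // x ∈ (orb N)ᶜ}) = 1 := by
      intro g
      rw [← Equiv.Perm.sign_ofSubtype (f₁ g : Equiv.Perm {x // x ∈ orb N}),
        ← Equiv.Perm.sign_ofSubtype (f₂ g : Equiv.Perm {x // x ∈ (orb N)ᶜ}), ← map_mul]
      refine Eq.trans (congrArg _ (Equiv.ext fun x => ?_)) (hev g g.2)
      rw [Equiv.Perm.mul_apply]
      by_cases hx' : x ∈ orb N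
      · rw [Equiv.Perm.ofSubtype_apply_of_not_mem (f₂ g : Equiv.Perm {x // x ∈ (orb N)ᶜ}) (by simpa using hx'),
          Equiv.Perm.ofSubtype_apply_of_mem _ hx', hv₁]
      · have hx2 : x ∈ (orb N)ᶜ := Finset.mem_compl.mpr hx'
        rw [Equiv.Perm.ofSubtype_apply_of_mem _ hx2, hv₂, Equiv.Perm.ofSubtype_apply_of_not_mem]
        exact fun h => hx' ((horb N g g.2 x).mpr h)
    by_cases hall : (∀ l ∈ L₁, Equiv.Perm.sign l = 1) ∧ ∀ l ∈ L₂, Equiv.Perm.sign l = 1
    · -- both restrictions are even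
      have hle : 2 * Nat.card N ≤ 2 * (Nat.card L₁ * Nat.card L₂) := by
        rw [← Nat.card_prod]; exact Nat.mul_le_mul_left _ (Nat.card_le_card_of_injective _ hinj)
      refine hle.trans ?_
      by_cases hx₁ : (orb N).card ∈ exc
      · by_cases hx₂ : (orb N)ᶜ.card ∈ exc
        · have h1 : Nat.card L₁ ≤ if (orb N).card = 6 then 12 else 2 ^ (3 * ((orb N).card / 4) + eFast 3 ((orb N).card / 4)) * ww ((orb N).card % 4) := by
            split
            · next h6 => exact six_even ((Fintype.card_coe _).trans h6) L₁ hnil₁ hall.1 (h6 ▸ hL₁)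
            · rw [eFast_eq 3 _ (by have := exc_lt _ hx₁; omega)]; exact hL₁
          have h2 : Nat.card L₂ ≤ if (orb N)ᶜ.card = 6 then 12 else 2 ^ (3 * ((orb N)ᶜ.card / 4) + eFast 3 ((orb N)ᶜ.card / 4)) * ww ((orb N)ᶜ.card % 4) := by
            split
            · next h6 => exact six_even ((Fintype.card_coe _).trans h6) L₂ hnil₂ hall.2 (h6 ▸ hL₂)
            · rw [eFast_eq 3 _ (by have := exc_lt _ hx₂; omega)]; exact hL₂
          have h3 := exc_pairs _ hx₁ _ hx₂ (by omega) (by omega) (by rwa [show (orb N).card + (orb N)ᶜ.card = n by omega])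
          rw [show (orb N).card + (orb N)ᶜ.card = n by omega,
            eFast_eq 3 (n / 4) (by have := exc_lt _ hx₁; have := exc_lt _ hx₂; omega)] at h3
          exact (Nat.mul_le_mul_left 2 (Nat.mul_le_mul h1 h2)).trans h3
        · calc 2 * (Nat.card L₁ * Nat.card L₂) = Nat.card L₁ * (2 * Nat.card L₂) := by ring
            _ ≤ bb (orb N).card * bb (orb N)ᶜ.card := Nat.mul_le_mul hL₁ (hev₂ hall.2 hx₂)
            _ ≤ _ := hbd
      · calc 2 * (Nat.card L₁ * Nat.card L₂) = (2 * Nat.card L₁) * Nat.card L₂ := by ring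
          _ ≤ bb (orb N).card * bb (orb N)ᶜ.card := Nat.mul_le_mul (hev₁ hall.1 hx₁) hL₂
          _ ≤ _ := hbd
    · -- the image has index at least two in the product
      let χ : L₁ × L₂ →* ℤˣ := ((Equiv.Perm.sign.comp L₁.subtype).comp (MonoidHom.fst _ _)) *
        ((Equiv.Perm.sign.comp L₂.subtype).comp (MonoidHom.snd _ _))
      obtain ⟨w, hw⟩ : ∃ w, χ w ≠ 1 := by
        by_contra! h
        refine hall ⟨fun l hl => ?_, fun l hl => ?_⟩
        · simpa [χ] using h (⟨l, hl⟩, 1)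
        · simpa [χ] using h (1, ⟨l, hl⟩)
      have hle : (f₁.prod f₂).range ≤ χ.ker := by
        rintro _ ⟨g, rfl⟩
        exact hsign g
      have hidx : χ.ker.index ≠ 1 := fun h => hw (MonoidHom.mem_ker.mp ((Subgroup.index_eq_one.mp h).symm ▸ Subgroup.mem_top w))
      have h0 : χ.ker.index ≠ 0 := Subgroup.index_ne_zero_of_finite
      calc 2 * Nat.card N = 2 * Nat.card (f₁.prod f₂).range := by
            rw [Nat.card_congr (MonoidHom.ofInjective hinj).toEquiv]
        _ ≤ χ.ker.index * Nat.card χ.ker := Nat.mul_le_mul (by omega) (Subgroup.card_le_of_le hle)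
        _ = Nat.card L₁ * Nat.card L₂ := by rw [mul_comm, Subgroup.card_mul_index, Nat.card_prod]
        _ ≤ _ := (Nat.mul_le_mul hL₁ hL₂).trans hbd
  -- transitive
  have htrans : ∀ y, ∃ g ∈ N, g x₀ = y := by
    intro y
    have h1 : orb N = Finset.univ := Finset.eq_univ_of_card _ (le_antisymm (Finset.card_le_univ _) (by omega))
    have : y ∈ orb N := h1 ▸ Finset.mem_univ y
    simpa [orb] using this
  by_cases hn1 : n = 1
  · haveI : Subsingleton α := Fintype.card_le_one_iff_subsingleton.mp (by omega)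
    haveI : Subsingleton (Equiv.Perm α) := ⟨fun a b => Equiv.ext fun x => Subsingleton.elim _ _⟩
    exact ⟨(le_of_eq (Nat.card_unique)).trans (one_le_bb n), fun _ hx => absurd (by simp [hn1, exc]) hx⟩
  obtain ⟨p, hp, hpn⟩ := Nat.exists_prime_and_dvd hn1
  haveI := Fact.mk hp
  obtain ⟨P⟩ := (inferInstance : Nonempty (Sylow p N))
  haveI hPn : (P : Subgroup N).Normal :=
    Sylow.normal_of_normalizerCondition Group.normalizerCondition_of_isNilpotent P
  obtain ⟨Q, hQ⟩ := Subgroup.exists_right_complement'_of_coprime P.card_coprime_index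
  have hQcard : Nat.card Q = (P : Subgroup N).index := by
    have h1 := hQ.card_mul
    rw [← (P : Subgroup N).card_mul_index] at h1
    exact Nat.eq_of_mul_eq_mul_left Nat.card_pos h1
  have hQp : ¬ p ∣ Nat.card Q := hQcard ▸ P.not_dvd_index
  have hcomm : ∀ z ∈ (P : Subgroup N), ∀ y ∈ Q, z * y = y * z := by
    intro z hz
    let K : Subgroup Q := (Subgroup.centralizer ({z} : Set N)).subgroupOf Q
    suffices hK : K = ⊤ by
      intro y hy
      exact (Subgroup.mem_centralizer_singleton_iff.mp (Subgroup.subgroupOf_eq_top.mp hK hy)).symm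
    refine Subgroup.eq_top_of_card_eq _ (Nat.dvd_antisymm (Subgroup.card_subgroup_dvd_card _) ?_)
    refine (Nat.dvd_iff_prime_pow_dvd_dvd _ _).mpr fun q k hq hdvd => ?_
    rcases eq_or_ne k 0 with rfl | hk
    · simp
    haveI : Fact q.Prime := ⟨hq⟩
    obtain ⟨R⟩ := (inferInstance : Nonempty (Sylow q Q))
    refine (R.pow_dvd_card_of_pow_dvd_card hdvd).trans (Subgroup.card_dvd_of_le fun r hr => ?_)
    have hpq : p ≠ q := fun h => hQp (h ▸ (dvd_pow_self q hk).trans hdvd)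
    have h1 := Lib.Solvable.Schmidt.commute_of_coprime_orderOf hpq P.2 (R.2.map Q.subtype) hz
    exact Subgroup.mem_centralizer_singleton_iff.mpr (Subgroup.mem_centralizer_iff.mp h1 r.1 ⟨r, hr, rfl⟩)
  have hdec : ∀ g : N, ∃ z ∈ (P : Subgroup N), ∃ y ∈ Q, g = z * y := by
    intro g
    obtain ⟨⟨z, y⟩, e⟩ := hQ.2 g
    exact ⟨z, z.2, y, y.2, e.symm⟩
  let P' := (P : Subgroup N).map N.subtype
  let Q' := Q.map N.subtype
  have hP' : IsPGroup p P' := P.2.map _
  have hcomm' : ∀ z ∈ P', ∀ y ∈ Q', z * y = y * z := by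
    rintro _ ⟨z, hz, rfl⟩ _ ⟨y, hy, rfl⟩
    exact congrArg Subtype.val (hcomm z hz y hy)
  have hdec' : ∀ g ∈ N, ∃ z ∈ P', ∃ y ∈ Q', g = z * y := by
    intro g hg
    obtain ⟨z, hz, y, hy, e⟩ := hdec ⟨g, hg⟩
    exact ⟨z, ⟨z, hz, rfl⟩, y, ⟨y, hy, rfl⟩, congrArg Subtype.val e⟩
  -- orbit sizes
  have hdvd : ∀ K : Subgroup (Equiv.Perm α), (orb K).card ∣ Nat.card K := by
    intro K
    have h1 : (orb K).card = Nat.card (MulAction.orbit K x₀) := by
      rw [Nat.card_coe_set_eq, ← Set.ncard_coe_finset]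
      congr 1
      ext y
      simp only [orb, Finset.coe_filter, Finset.mem_univ, true_and, Set.mem_ofPred_eq, MulAction.mem_orbit_iff]
      exact ⟨fun ⟨g, hg, e⟩ => ⟨⟨g, hg⟩, e⟩, fun ⟨g, e⟩ => ⟨g, g.2, e⟩⟩
    rw [h1, Nat.card_coe_set_eq, ← MulAction.index_stabilizer]
    exact Subgroup.index_dvd_card _
  obtain ⟨j, hj⟩ := IsPGroup.iff_card.mp hP'
  have hcQ : Nat.card Q' = Nat.card Q := Nat.card_congr (Q.equivMapOfInjective N.subtype N.subtype_injective).symm.toEquiv
  have hQp' : ¬ p ∣ (orb Q').card := fun h => hQp (hcQ ▸ h.trans (hdvd Q'))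
  -- the two orbits meet in a point
  have hmeet : ∀ z ∈ P', ∀ y ∈ Q', z x₀ = y x₀ → z x₀ = x₀ := by
    intro z hz y hy e
    obtain ⟨i, hi⟩ := hP' ⟨z, hz⟩
    have hi' : z ^ p ^ i = 1 := congrArg Subtype.val hi
    have hw : (y⁻¹ * z) x₀ = x₀ := by simp [e]
    have h1 : ((y⁻¹ * z) ^ p ^ i) x₀ = x₀ := Equiv.Perm.pow_apply_eq_self_of_apply_eq_self hw _
    rw [(show Commute y⁻¹ z from (hcomm' z hz y⁻¹ (Q'.inv_mem hy)).symm).mul_pow, hi', mul_one] at h1
    have h2 : (y⁻¹ ^ Nat.card Q') x₀ = x₀ := by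
      have : (⟨y, hy⟩ : Q') ^ Nat.card Q' = 1 := pow_card_eq_one'
      rw [inv_pow, show y ^ Nat.card Q' = 1 from congrArg Subtype.val this, inv_one]; rfl
    have hg : Nat.gcd (p ^ i) (Nat.card Q') = 1 := Nat.Coprime.pow_left i (hp.coprime_iff_not_dvd.mpr (hcQ ▸ hQp))
    have h3 : y⁻¹ x₀ = x₀ := by
      have hb := Nat.gcd_eq_gcd_ab (p ^ i) (Nat.card Q')
      rw [hg, Nat.cast_one] at hb
      have e1 : y⁻¹ = (y⁻¹ ^ p ^ i) ^ Nat.gcdA (p ^ i) (Nat.card Q') * (y⁻¹ ^ Nat.card Q') ^ Nat.gcdB (p ^ i) (Nat.card Q') := by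
        conv_lhs => rw [← zpow_one y⁻¹, hb, zpow_add, zpow_mul, zpow_mul, zpow_natCast, zpow_natCast]
      rw [e1, Equiv.Perm.mul_apply, Equiv.Perm.zpow_apply_eq_self_of_apply_eq_self h2,
        Equiv.Perm.zpow_apply_eq_self_of_apply_eq_self h1]
    rw [e, ← Equiv.eq_symm_apply]
    exact h3.symm
  -- `α` is the product of the two orbits
  have hprod : (orb P').card * (orb Q').card = n := by
    rw [← Finset.card_product, ← hα, ← Finset.card_univ]
    have hmem : ∀ (K : Subgroup (Equiv.Perm α)) (a : α), a ∈ orb K → ∃ g ∈ K, g x₀ = a := fun K a h => by simpa [orb] using h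
    refine Finset.card_bij (fun ab h => (Classical.choose (hmem P' ab.1 (Finset.mem_product.mp h).1)) ab.2)
      (fun _ _ => Finset.mem_univ _) ?_ ?_
    · rintro ⟨a, b⟩ h ⟨a', b'⟩ h' e
      have ha := Classical.choose_spec (hmem P' a (Finset.mem_product.mp h).1)
      have ha' := Classical.choose_spec (hmem P' a' (Finset.mem_product.mp h').1)
      obtain ⟨y, hy, hyb⟩ := hmem Q' b (Finset.mem_product.mp h).2
      obtain ⟨y', hy', hyb'⟩ := hmem Q' b' (Finset.mem_product.mp h').2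
      dsimp only at e
      set z := Classical.choose (hmem P' a (Finset.mem_product.mp h).1)
      set z' := Classical.choose (hmem P' a' (Finset.mem_product.mp h').1)
      rw [← hyb, ← hyb', ← Equiv.Perm.mul_apply, ← Equiv.Perm.mul_apply] at e
      have e2 : (z'⁻¹ * z) x₀ = (y⁻¹ * y') x₀ := by
        have h1 : (z'⁻¹ * (z * y)) x₀ = y' x₀ := by
          rw [Equiv.Perm.mul_apply, e]; simp
        rw [← mul_assoc, hcomm' _ (P'.mul_mem (P'.inv_mem ha'.1) ha.1) y hy, Equiv.Perm.mul_apply] at h1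
        rw [Equiv.Perm.mul_apply, Equiv.Perm.mul_apply, ← h1]
        simp
      have e3 := hmeet _ (P'.mul_mem (P'.inv_mem ha'.1) ha.1) _ (Q'.mul_mem (Q'.inv_mem hy) hy') e2
      have e4 : z x₀ = z' x₀ := by
        rw [Equiv.Perm.mul_apply] at e3
        exact Equiv.Perm.inv_eq_iff_eq.mp e3
      have e5 : (y⁻¹ * y') x₀ = x₀ := e2 ▸ e3
      rw [Equiv.Perm.mul_apply] at e5
      have e6 : y' x₀ = y x₀ := Equiv.Perm.inv_eq_iff_eq.mp e5
      exact Prod.ext (by show a = a'; rw [← ha.2, ← ha'.2, e4]) (by show b = b'; rw [← hyb, ← hyb', e6])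
    · intro w _
      obtain ⟨g, hg, rfl⟩ := htrans w
      obtain ⟨z, hz, y, hy, rfl⟩ := hdec' g hg
      have hz' : z x₀ ∈ orb P' := by simp only [orb, Finset.mem_filter, Finset.mem_univ, true_and]; exact ⟨z, hz, rfl⟩
      have hy' : y x₀ ∈ orb Q' := by simp only [orb, Finset.mem_filter, Finset.mem_univ, true_and]; exact ⟨y, hy, rfl⟩
      refine ⟨(z x₀, y x₀), Finset.mem_product.mpr ⟨hz', hy'⟩, ?_⟩
      dsimp only
      have h0 := Classical.choose_spec (hmem P' (z x₀) hz')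
      rw [← Equiv.Perm.mul_apply, hcomm' _ h0.1 y hy, hcomm' z hz y hy, Equiv.Perm.mul_apply, h0.2]
      rfl
  -- each factor is faithful on its orbit
  have hfaith : ∀ (K K' : Subgroup (Equiv.Perm α)), (∀ a ∈ K, ∀ b ∈ K', a * b = b * a) →
      (∀ g ∈ N, ∃ c ∈ K, ∃ d ∈ K', g = d * c) →
      ∀ a ∈ K, (∀ x ∈ orb K, a x = x) → a = 1 := by
    intro K K' hc hd a ha hfix
    refine Equiv.ext fun w => ?_
    obtain ⟨g, hg, rfl⟩ := htrans w
    obtain ⟨c, hc', d, hd', rfl⟩ := hd g hg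
    have h1 : a (c x₀) = c x₀ := hfix _ (by simp only [orb, Finset.mem_filter, Finset.mem_univ, true_and]; exact ⟨c, hc', rfl⟩)
    rw [Equiv.Perm.mul_apply, ← Equiv.Perm.mul_apply, hc a ha d hd', Equiv.Perm.mul_apply, h1]
    rfl
  have hfP : ∀ a ∈ P', (∀ x ∈ orb P', a x = x) → a = 1 := hfaith P' Q' hcomm' fun g hg => by
    obtain ⟨z, hz, y, hy, rfl⟩ := hdec' g hg
    exact ⟨z, hz, y, hy, hcomm' z hz y hy⟩
  have hfQ : ∀ a ∈ Q', (∀ x ∈ orb Q', a x = x) → a = 1 := hfaith Q' P' (fun a ha b hb => (hcomm' b hb a ha).symm) fun g hg => by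
    obtain ⟨z, hz, y, hy, rfl⟩ := hdec' g hg
    exact ⟨y, hy, z, hz, rfl⟩
  by_cases hpp : ∃ k, n = p ^ k
  · obtain ⟨k, hk⟩ := hpp
    have h1 : (orb Q').card ∣ p ^ k := hk ▸ ⟨(orb P').card, by rw [mul_comm]; exact hprod.symm⟩
    obtain ⟨i, -, hi⟩ := (Nat.dvd_prime_pow hp).mp h1
    have hi0 : i = 0 := by
      by_contra h
      exact hQp' (hi ▸ dvd_pow_self p h)
    rw [hi0, pow_zero] at hi
    obtain ⟨w, hw⟩ := Finset.card_eq_one.mp hi
    have hQ1 : ∀ y ∈ Q', y = 1 := fun y hy => hfQ y hy fun x hx => by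
      have h2 : y x ∈ orb Q' := (horb Q' y hy x).mp hx
      rw [hw, Finset.mem_singleton] at hx h2
      rw [h2, hx]
    have hNP : N ≤ P' := fun g hg => by
      obtain ⟨z, hz, y, hy, rfl⟩ := hdec' g hg
      rw [hQ1 y hy, mul_one]; exact hz
    have hk0 : k ≠ 0 := fun h => hn1 (by rw [hk, h, pow_zero])
    have hdn : Nat.card N ∣ n.factorial := by
      rw [← hα, ← Fintype.card_perm, ← Nat.card_eq_fintype_card]
      exact Subgroup.card_subgroup_dvd_card N
    refine ⟨pgroup_bound hk hk0 (IsPGroup.iff_card.mp (hP'.to_le hNP)) hdn, fun hev hx => ?_⟩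
    by_cases h2 : p = 2
    · subst h2
      exact hα ▸ two_group_even N (hP'.to_le hNP) hev (hα ▸ (by omega : 2 ≤ n))
    · obtain ⟨i', hi'⟩ := IsPGroup.iff_card.mp (hP'.to_le hNP)
      rw [hi']
      exact pgroup_even hk (by have := hp.two_le; omega) hx hn1 (hi' ▸ hdn)
  · have hm : (orb P').card ∣ p ^ j := hj ▸ hdvd P'
    obtain ⟨i, -, hi⟩ := (Nat.dvd_prime_pow hp).mp hm
    have hlt : ∀ m m', m * m' = n → m ≠ n → m < n := fun m m' h hne =>
      lt_of_le_of_ne (Nat.le_of_dvd (by omega) ⟨m', h.symm⟩) hne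
    have hPn' : (orb P').card ≠ n := fun h => hpp ⟨i, by rw [← h, hi]⟩
    have hQn' : (orb Q').card ≠ n := fun h => hQp' (h.symm ▸ hpn)
    have h1 : 2 ≤ (orb P').card := by
      by_contra h
      have : (orb P').card = 0 ∨ (orb P').card = 1 := by omega
      rcases this with h | h
      · rw [h, zero_mul] at hprod; omega
      · rw [h, one_mul] at hprod; exact hQn' hprod
    have h2 : 2 ≤ (orb Q').card := by
      by_contra h
      have : (orb Q').card = 0 ∨ (orb Q').card = 1 := by omega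
      rcases this with h | h
      · rw [h, mul_zero] at hprod; omega
      · rw [h, mul_one] at hprod; exact hPn' hprod
    have hle : (orb P').card + (orb Q').card ≤ n := by rw [← hprod]; nlinarith
    have hne : (orb P').card ≠ (orb Q').card := by
      intro h
      obtain rfl | hi0 := Nat.eq_zero_or_pos i
      · rw [hi, pow_zero] at h1; omega
      · exact hQp' (h ▸ hi ▸ dvd_pow_self p hi0.ne')
    have hnilP : Group.IsNilpotent P' := hP'.isNilpotent
    have hQle : Q' ≤ N := Subgroup.map_subtype_le Q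
    have hnilQ : Group.IsNilpotent Q' := Lib.Cores.isNilpotent_of_injective (Subgroup.inclusion hQle) (Subgroup.inclusion_injective _)
    have hbound : ∀ (K : Subgroup (Equiv.Perm α)), Group.IsNilpotent K → (orb K).card < n →
        (∀ a ∈ K, (∀ x ∈ orb K, a x = x) → a = 1) → Nat.card K ≤ bb (orb K).card := by
      intro K hK hlt' hf
      obtain ⟨L, -, hL, f, -, -, -, hf'⟩ := hres K hK _ (horb K) hlt'
      exact (Nat.card_le_card_of_injective f ((injective_iff_map_eq_one f).mpr fun g hg =>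
        Subtype.ext (hf g g.2 (hf' g hg)))).trans hL
    have hcard : Nat.card N = Nat.card P' * Nat.card Q' := by
      rw [hcQ, Nat.card_congr ((P : Subgroup N).equivMapOfInjective N.subtype N.subtype_injective).symm.toEquiv, hQ.card_mul]
    have hmul : Nat.card N ≤ bb (orb P').card * bb (orb Q').card := hcard.le.trans (Nat.mul_le_mul
      (hbound P' hnilP (hlt _ _ hprod hPn') hfP) (hbound Q' hnilQ (hlt _ _ (by rw [mul_comm]; exact hprod) hQn') hfQ))
    refine ⟨hmul.trans ((bb_add _ _).trans (bb_mono hle)), fun _ hx => ?_⟩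
    have hle2 : (orb P').card + (orb Q').card + 2 ≤ n := by
      have h6 : n ≠ 6 := fun h => hx (by simp [h, exc])
      rcases eq_or_lt_of_le h1 with e | e
      · rcases eq_or_lt_of_le h2 with e' | e'
        · omega
        · have : (orb Q').card ≠ 3 := fun h3 => h6 (by rw [← hprod, h3, ← e])
          rw [← hprod, ← e]; omega
      · rcases eq_or_lt_of_le h2 with e' | e'
        · have : (orb P').card ≠ 3 := fun h3 => h6 (by rw [← hprod, h3, ← e'])
          rw [← hprod, ← e']; omega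
        · rw [← hprod]; nlinarith
    have hb2 : bb 2 = 2 := by unfold bb; rw [← eFast_eq 3 _ (by norm_num)]; decide
    calc 2 * Nat.card N ≤ bb (orb P').card * bb (orb Q').card * bb 2 := by
          rw [hb2, mul_comm]; exact Nat.mul_le_mul_right 2 hmul
      _ ≤ bb ((orb P').card + (orb Q').card) * bb 2 := Nat.mul_le_mul_right _ (bb_add _ _)
      _ ≤ _ := (bb_add _ _).trans (bb_mono hle2)

theorem nilpotent_bound (n : ℕ) (α : Type) [Fintype α] [DecidableEq α] (hα : Fintype.card α = n)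
    (N : Subgroup (Equiv.Perm α)) (hN : Group.IsNilpotent N) : Nat.card N ≤ bb n :=
  (nilpotent_bounds n α hα N hN).1

theorem nilpotent_even_bound {n : ℕ} (α : Type) [Fintype α] [DecidableEq α] (hα : Fintype.card α = n) (hn : n ∉ exc)
    (N : Subgroup (Equiv.Perm α)) (hN : Group.IsNilpotent N) (hev : ∀ g ∈ N, Equiv.Perm.sign g = 1) :
    2 * Nat.card N ≤ bb n :=
  (nilpotent_bounds n α hα N hN).2 hev hn

end Cfsg.Agent.Lib.KnownA.NilpotentBound
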