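import Cfsg.Agent.Lib.KnownA.NilpotentBound

/-!
The nilpotent permutation groups of largest order in degree three modulo four.
-/

set_option autoImplicit false
set_option linter.unusedSectionVars false

namespace Cfsg.Agent.Lib.KnownA.NilpotentExtremal

open scoped Pointwise
open NilpotentBound

variable {n : ℕ}

theorem ee_gap (t : ℕ) (hn : n % 4 = 3) (ht : 2 ≤ t) (htn : 3 * t ≤ n) :
    ee t + ee (n - 3 * t) + 2 ≤ ee (n - 3) := by
  have h2 : ee 2 = 1 := by rw [← eFast_eq 2 2 (by norm_num)]; decide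
  have h4 : 2 ≤ ee 4 := by rw [← eFast_eq 3 4 (by norm_num)]; decide
  have h6 : ee 6 = 4 := by rw [← eFast_eq 3 6 (by norm_num)]; decide
  have h3 : ee 3 = 1 := by rw [← eFast_eq 2 3 (by norm_num)]; decide
  rcases (show t = 2 ∨ t = 3 ∨ 4 ≤ t by omega) with rfl | rfl | ht4
  · obtain ⟨a, ha⟩ : ∃ a, n - 3 = 4 * a := ⟨(n - 3) / 4, by omega⟩
    obtain ⟨b, rfl⟩ : ∃ b, a = b + 1 := ⟨a - 1, by omega⟩
    have e1 := ee_four (b + 1) 0 (by norm_num)
    have e2 := ee_four b 1 (by norm_num)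
    rw [add_zero] at e1
    rw [show n - 3 * 2 = 4 * b + 1 by omega, ha, e1, e2, h2]
    have := ee_mono (Nat.le_add_right b 1)
    omega
  · have := ee_add 6 (n - 9)
    rw [show 6 + (n - 9) = n - 3 by omega, h6] at this
    rw [h3, show n - 3 * 3 = n - 9 by omega]
    omega
  · have h1 := ee_add t (2 * t - 3)
    have h1' := ee_add (3 * t - 3) (n - 3 * t)
    rw [show t + (2 * t - 3) = 3 * t - 3 by omega] at h1
    rw [show 3 * t - 3 + (n - 3 * t) = n - 3 by omega] at h1'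
    have := ee_mono (show 4 ≤ 2 * t - 3 + 0 + 0 by omega)
    simp only [add_zero] at this
    omega

/-- The structure of an extremal nilpotent group. -/
theorem structure_of_card (hn : n % 4 = 3) (N : Subgroup (Equiv.Perm (Fin n))) (hN : Group.IsNilpotent N)
    (F : ℕ) (hF : ee (n - 3) ≤ F + 1) (hcard : Nat.card N = 3 * 2 ^ F) :
    ∃ c : Equiv.Perm (Fin n), ∃ S : Subgroup (Equiv.Perm (Fin n)), c.IsThreeCycle ∧ c ∈ N ∧ S ≤ N ∧
      Nat.card S = 2 ^ F ∧ S ≤ Subgroup.centralizer ({c} : Set (Equiv.Perm (Fin n))) ∧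
      N = Subgroup.zpowers c ⊔ S := by
  classical
  haveI := hN
  haveI : Fact (Nat.Prime 3) := ⟨Nat.prime_three⟩
  haveI : Fact (Nat.Prime 2) := ⟨Nat.prime_two⟩
  obtain ⟨x, hx⟩ := exists_prime_orderOf_dvd_card' (G := N) 3 (hcard ▸ dvd_mul_right 3 _)
  obtain ⟨S₀⟩ := (inferInstance : Nonempty (Sylow 2 N))
  have hS₀c : Nat.card S₀ = 2 ^ F := by
    rw [Sylow.card_eq_multiplicity, hcard, Nat.factorization_mul (by norm_num) (by positivity), Nat.factorization_pow,
      Finsupp.coe_add, Pi.add_apply, Finsupp.smul_apply, Nat.prime_two.factorization_self,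
      Nat.factorization_eq_zero_of_not_dvd (by norm_num)]
    simp
  have hc := Lib.Solvable.Schmidt.commute_of_coprime_orderOf (p := 3) (q := 2) (by norm_num)
    (IsPGroup.of_card (n := 1) (by rw [Nat.card_zpowers, hx, pow_one]) : IsPGroup 3 (Subgroup.zpowers x)) S₀.2
    (Subgroup.mem_zpowers x)
  let S := (S₀ : Subgroup N).map N.subtype
  have hSc : Nat.card S = 2 ^ F := by
    rw [← hS₀c]
    exact Nat.card_congr ((S₀ : Subgroup N).equivMapOfInjective _ Subtype.val_injective).symm.toEquiv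
  have hSle : S ≤ N := Subgroup.map_subtype_le _
  have hcen : S ≤ Subgroup.centralizer ({x.1} : Set (Equiv.Perm (Fin n))) := by
    rintro _ ⟨s, hs, rfl⟩
    exact Subgroup.mem_centralizer_singleton_iff.mpr (congrArg Subtype.val (Subgroup.mem_centralizer_iff.mp hc s hs))
  have hord : orderOf x.1 = 3 := by rw [Subgroup.orderOf_coe, hx]
  refine ⟨x, S, ?_, x.2, hSle, hSc, hcen, ?_⟩
  · obtain ⟨t, ht⟩ := Equiv.Perm.cycleType_prime_order (σ := x.1) (by rw [hord]; exact Nat.prime_three)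
    rw [hord] at ht
    rw [Equiv.Perm.IsThreeCycle, ht]
    rcases Nat.eq_zero_or_pos t with rfl | htpos
    · rfl
    exfalso
    have hsum : 3 * (t + 1) ≤ n := by
      have h1 := Equiv.Perm.sum_cycleType x.1
      rw [ht, Multiset.sum_replicate, smul_eq_mul] at h1
      have h2 : x.1.support.card ≤ n := by simpa using Finset.card_le_univ x.1.support
      omega
    have hd : 2 ^ F ∣ (n - 3 * (t + 1)).factorial * 3 ^ (t + 1) * (t + 1).factorial := by
      have h1 := Equiv.Perm.nat_card_centralizer x.1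
      rw [ht, Multiset.sum_replicate, Multiset.prod_replicate, Multiset.toFinset_replicate, if_neg (by omega),
        Finset.prod_singleton, Multiset.count_replicate_self, smul_eq_mul, Fintype.card_fin, mul_comm (t + 1) 3] at h1
      rw [← hSc, ← h1]
      exact Subgroup.card_dvd_of_le hcen
    have hd' := (padicValNat_dvd_iff_le (p := 2) (by positivity)).mp hd
    rw [padicValNat.mul (by positivity) (by positivity), padicValNat.mul (by positivity) (by positivity),
      padicValNat.eq_zero_of_not_dvd (n := 3 ^ (t + 1)) (fun h => by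
        have := Nat.prime_two.dvd_of_dvd_pow h; norm_num at this)] at hd'
    have hgap := ee_gap (t + 1) hn (by omega) hsum
    unfold ee at hgap hF
    omega
  · refine (Subgroup.eq_of_le_of_card_ge (sup_le (Subgroup.zpowers_le.mpr x.2) hSle) ?_).symm
    rw [hcard]
    refine Nat.le_of_dvd Nat.card_pos ?_
    refine Nat.Coprime.mul_dvd_of_dvd_of_dvd ((Nat.coprime_primes Nat.prime_three Nat.prime_two).mpr (by norm_num) |>.pow_right F) ?_ ?_
    · rw [← hord, ← Nat.card_zpowers]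
      exact Subgroup.card_dvd_of_le le_sup_left
    · rw [← hSc]
      exact Subgroup.card_dvd_of_le le_sup_right

/-- Extremal nilpotent subgroups are conjugate. -/
theorem conj_of_card (hn : n % 4 = 3) (G : Subgroup (Equiv.Perm (Fin n))) (F : ℕ) (hF : ee (n - 3) ≤ F + 1)
    (hbound : ∀ N ≤ G, Group.IsNilpotent N → Nat.card N ≤ 3 * 2 ^ F)
    (hconj : ∀ c d : Equiv.Perm (Fin n), c.IsThreeCycle → d.IsThreeCycle → c ∈ G → d ∈ G → ∃ g ∈ G, g * c * g⁻¹ = d)
    (N₁ N₂ : Subgroup (Equiv.Perm (Fin n))) (h₁ : N₁ ≤ G) (h₂ : N₂ ≤ G) (hn₁ : Group.IsNilpotent N₁)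
    (hn₂ : Group.IsNilpotent N₂) (hc₁ : Nat.card N₁ = 3 * 2 ^ F) (hc₂ : Nat.card N₂ = 3 * 2 ^ F) :
    ∃ g ∈ G, N₂ = N₁.map (MulAut.conj g).toMonoidHom := by
  classical
  haveI : Fact (Nat.Prime 2) := ⟨Nat.prime_two⟩
  obtain ⟨c, S, hc3, hcN, hSN, hSc, hScen, hN₁⟩ := structure_of_card hn N₁ hn₁ F hF hc₁
  obtain ⟨d, T, hd3, hdN, hTN, hTc, hTcen, hN₂⟩ := structure_of_card hn N₂ hn₂ F hF hc₂
  obtain ⟨g, hg, hgc⟩ := hconj c d hc3 hd3 (h₁ hcN) (h₂ hdN)
  let H := G ⊓ Subgroup.centralizer ({d} : Set (Equiv.Perm (Fin n)))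
  let φ := (MulAut.conj g).toMonoidHom
  let S' := S.map φ
  have hS'H : S' ≤ H := by
    rintro _ ⟨s, hs, rfl⟩
    refine ⟨G.mul_mem (G.mul_mem hg (h₁ (hSN hs))) (G.inv_mem hg), Subgroup.mem_centralizer_singleton_iff.mpr ?_⟩
    have := Subgroup.mem_centralizer_singleton_iff.mp (hScen hs)
    show g * s * g⁻¹ * d = d * (g * s * g⁻¹)
    rw [← hgc]
    calc g * s * g⁻¹ * (g * c * g⁻¹) = g * (s * c) * g⁻¹ := by group
      _ = g * (c * s) * g⁻¹ := by rw [this]
      _ = _ := by group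
  have hS'c : Nat.card S' = 2 ^ F := by
    rw [← hSc]; exact Nat.card_congr (S.equivMapOfInjective φ (MulAut.conj g).injective).symm.toEquiv
  have hTH : T ≤ H := fun s hs => ⟨h₂ (hTN hs), hTcen hs⟩
  -- both are Sylow subgroups of `H`
  have hmax : ∀ U : Subgroup (Equiv.Perm (Fin n)), U ≤ H → IsPGroup 2 U → Nat.card U ≤ 2 ^ F := by
    intro U hU hUp
    obtain ⟨k, hk⟩ := IsPGroup.iff_card.mp hUp
    have hcomm : ∀ (a : U) (b : Subgroup.zpowers d), Commute (U.subtype a) ((Subgroup.zpowers d).subtype b) := by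
      rintro ⟨a, ha⟩ ⟨b, hb⟩
      obtain ⟨i, rfl⟩ := Subgroup.mem_zpowers_iff.mp hb
      exact Commute.zpow_right (Subgroup.mem_centralizer_singleton_iff.mp (hU ha).2) i
    let f := MonoidHom.noncommCoprod U.subtype (Subgroup.zpowers d).subtype hcomm
    have hdis : Nat.card f.range = Nat.card U * 3 := by
      have hd3' : Nat.card (Subgroup.zpowers d) = 3 := by rw [Nat.card_zpowers, hd3.orderOf]
      rw [← hd3', ← Nat.card_prod]
      refine (Nat.card_congr (MonoidHom.ofInjective (f := f) ?_).toEquiv).symm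
      rw [injective_iff_map_eq_one]
      rintro ⟨⟨a, ha⟩, ⟨b, hb⟩⟩ he
      have he' : a * b = 1 := he
      have ha' : a ∈ Subgroup.zpowers d := by rw [eq_inv_of_mul_eq_one_left he']; exact Subgroup.inv_mem _ hb
      have h1 : orderOf a ∣ 2 ^ k := hk ▸ Subgroup.orderOf_dvd_natCard U ha
      have h2 : orderOf a ∣ 3 := hd3' ▸ Subgroup.orderOf_dvd_natCard _ ha'
      have h3 : a = 1 := orderOf_eq_one_iff.mp (Nat.eq_one_of_dvd_coprimes (((Nat.coprime_primes Nat.prime_two Nat.prime_three).mpr (by norm_num)).pow_left k) h1 h2)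
      subst h3
      rw [one_mul] at he'
      subst he'
      rfl
    have hnil : Group.IsNilpotent f.range := by
      haveI := hUp.isNilpotent
      letI : CommGroup (Subgroup.zpowers d) := IsCyclic.commGroup
      exact Group.nilpotent_of_surjective f.rangeRestrict f.rangeRestrict_surjective
    have hle : f.range ≤ G := by
      rintro _ ⟨⟨a, b⟩, rfl⟩
      refine G.mul_mem (hU a.2).1 ?_
      obtain ⟨i, hi⟩ := Subgroup.mem_zpowers_iff.mp b.2
      show (b : Equiv.Perm (Fin n)) ∈ G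
      rw [← hi]
      exact G.zpow_mem (h₂ hdN) i
    have := hbound _ hle hnil
    rw [hdis] at this
    omega
  have hsyl : ∀ U : Subgroup (Equiv.Perm (Fin n)), U ≤ H → Nat.card U = 2 ^ F →
      ∃ R : Sylow 2 H, (R : Subgroup H).map H.subtype = U := by
    intro U hU hUc
    obtain ⟨R, hR⟩ := ((IsPGroup.of_card hUc).comap_of_injective H.subtype H.subtype_injective).exists_le_sylow
    refine ⟨R, (Subgroup.eq_of_le_of_card_ge (H := U) (K := (R : Subgroup H).map H.subtype)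
      (fun u hu => ⟨⟨u, hU hu⟩, hR hu, rfl⟩) ?_).symm⟩
    rw [hUc]
    exact hmax _ (Subgroup.map_subtype_le _) (R.2.map _)
  obtain ⟨R₁, hR₁⟩ := hsyl S' hS'H hS'c
  obtain ⟨R₂, hR₂⟩ := hsyl T hTH hTc
  obtain ⟨h, hh⟩ := MulAction.exists_smul_eq H R₁ R₂
  refine ⟨h.1 * g, G.mul_mem h.2.1 hg, ?_⟩
  rw [hN₁, hN₂, Subgroup.map_sup, MonoidHom.map_zpowers]
  have e1 : (MulAut.conj (h.1 * g)).toMonoidHom c = d := by
    show h.1 * g * c * (h.1 * g)⁻¹ = d
    have := Subgroup.mem_centralizer_singleton_iff.mp h.2.2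
    calc h.1 * g * c * (h.1 * g)⁻¹ = h.1 * (g * c * g⁻¹) * h.1⁻¹ := by group
      _ = d := by rw [hgc, this, mul_inv_cancel_right]
  rw [e1]
  congr 1
  rw [← hR₂, ← hh]
  ext y
  constructor
  · rintro ⟨r, hr, rfl⟩
    change r ∈ MulAut.conj h • (R₁ : Subgroup H) at hr
    rw [Subgroup.mem_pointwise_smul_iff_inv_smul_mem, MulAut.smul_def, MulAut.conj_inv_apply] at hr
    have hm : h.1⁻¹ * r.1 * h.1 ∈ S' := hR₁ ▸ ⟨_, hr, rfl⟩
    obtain ⟨s, hs, he⟩ := hm
    refine ⟨s, hs, ?_⟩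
    show h.1 * g * s * (h.1 * g)⁻¹ = r.1
    rw [show h.1 * g * s * (h.1 * g)⁻¹ = h.1 * (g * s * g⁻¹) * h.1⁻¹ by group, show g * s * g⁻¹ = h.1⁻¹ * r.1 * h.1 from he]
    group
  · rintro ⟨s, hs, rfl⟩
    obtain ⟨r, hr, he⟩ := (hR₁.symm ▸ (⟨s, hs, rfl⟩ : φ s ∈ S') : φ s ∈ (R₁ : Subgroup H).map H.subtype)
    refine ⟨h * r * h⁻¹, ?_, ?_⟩
    · change _ ∈ MulAut.conj h • (R₁ : Subgroup H)
      rw [Subgroup.mem_pointwise_smul_iff_inv_smul_mem, MulAut.smul_def, MulAut.conj_inv_apply]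
      rw [show h⁻¹ * (h * r * h⁻¹) * h = r by group]
      exact hr
    · show h.1 * r.1 * h.1⁻¹ = h.1 * g * s * (h.1 * g)⁻¹
      rw [show r.1 = g * s * g⁻¹ from he]
      group

/-- The embedding of `Sₙ₋₃ × C₃`. -/
noncomputable def emb (h3 : 3 ≤ n) : Equiv.Perm (Fin (n - 3)) × Multiplicative (ZMod 3) →* Equiv.Perm (Fin n) :=
  let e : Fin (n - 3) ⊕ ZMod 3 ≃ Fin n := (Equiv.sumCongr (Equiv.refl _) (ZMod.finEquiv 3).symm.toEquiv).trans
    (finSumFinEquiv.trans (finCongr (by omega)))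
  let tr : Multiplicative (ZMod 3) →* Equiv.Perm (ZMod 3) :=
    { toFun := fun k => Equiv.addLeft k.toAdd
      map_one' := by ext; simp
      map_mul' := fun a b => by ext; simp [add_assoc] }
  e.permCongrHom.toMonoidHom.comp
    ((Equiv.Perm.sumCongrHom (Fin (n - 3)) (ZMod 3)).comp ((MonoidHom.id _).prodMap tr))

theorem emb_injective (h3 : 3 ≤ n) : Function.Injective (emb h3) := by
  rintro ⟨a, i⟩ ⟨b, j⟩ h
  simp only [emb, MonoidHom.coe_comp, Function.comp_apply, MulEquiv.coe_toMonoidHom, EmbeddingLike.apply_eq_iff_eq] at h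
  have h' := Equiv.Perm.sumCongrHom_injective h
  simp only [MonoidHom.prodMap, MonoidHom.prod_apply, MonoidHom.coe_comp, Function.comp_apply, MonoidHom.coe_fst,
    MonoidHom.coe_snd, MonoidHom.id_apply, Prod.mk.injEq] at h'
  refine Prod.ext h'.1 ?_
  have := congrArg (fun f : Equiv.Perm (ZMod 3) => f 0) h'.2
  simpa using this

theorem sign_emb (h3 : 3 ≤ n) (a : Equiv.Perm (Fin (n - 3))) (i : Multiplicative (ZMod 3)) :
    Equiv.Perm.sign (emb h3 (a, i)) = Equiv.Perm.sign a := by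
  have h1 : ∀ i : Multiplicative (ZMod 3), Equiv.Perm.sign (emb h3 (1, i)) = 1 := by
    intro i
    have h : i ^ 3 = 1 := by revert i; decide
    have h' := congrArg (fun x => Equiv.Perm.sign (emb h3 ((1 : Equiv.Perm (Fin (n - 3))), x))) h
    have e : ((1 : Equiv.Perm (Fin (n - 3))), i ^ 3) = ((1 : Equiv.Perm (Fin (n - 3))), i) ^ 3 := by simp
    simp only [e, map_pow, Prod.mk_one_one, map_one] at h'
    rcases Int.units_eq_one_or (Equiv.Perm.sign (emb h3 ((1 : Equiv.Perm (Fin (n - 3))), i))) with h2 | h2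
    · exact h2
    · rw [h2] at h'; exact absurd h' (by decide)
  have e : (a, i) = (a, (1 : Multiplicative (ZMod 3))) * ((1 : Equiv.Perm (Fin (n - 3))), i) := by simp
  rw [e, map_mul, map_mul, h1, mul_one]
  simp [emb, Equiv.Perm.sign_permCongr]

/-- The extremal nilpotent subgroup built from a `2`-group. -/
theorem exists_extremal (h3 : 3 ≤ n) (P : Subgroup (Equiv.Perm (Fin (n - 3)))) (hP : IsPGroup 2 P) :
    ∃ M : Subgroup (Equiv.Perm (Fin n)), Group.IsNilpotent M ∧ Nat.card M = 3 * Nat.card P ∧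
      Nonempty (M ≃* (P × Multiplicative (ZMod 3))) ∧
      ((∀ a ∈ P, Equiv.Perm.sign a = 1) → ∀ m ∈ M, Equiv.Perm.sign m = 1) := by
  haveI : Fact (Nat.Prime 2) := ⟨Nat.prime_two⟩
  let f := (emb h3).comp (P.subtype.prodMap (MonoidHom.id (Multiplicative (ZMod 3))))
  have hf : Function.Injective f :=
    (emb_injective h3).comp (Function.Injective.prodMap P.subtype_injective Function.injective_id)
  refine ⟨f.range, ?_, ?_, ⟨(MonoidHom.ofInjective hf).symm⟩, ?_⟩
  · haveI := hP.isNilpotent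
    exact Group.nilpotent_of_surjective f.rangeRestrict f.rangeRestrict_surjective
  · rw [← Nat.card_congr (MonoidHom.ofInjective hf).toEquiv, Nat.card_prod,
      Nat.card_congr (Multiplicative.toAdd (α := ZMod 3)), Nat.card_zmod, mul_comm]
  · rintro hev _ ⟨⟨a, i⟩, rfl⟩
    exact (sign_emb h3 a.1 i).trans (hev a a.2)

end Cfsg.Agent.Lib.KnownA.NilpotentExtremal

namespace Cfsg.Agent.Lib.KnownA.NilpotentExtremal

open NilpotentBound

theorem bb_three {n : ℕ} (hn : n % 4 = 3) : bb n = 3 * 2 ^ ee (n - 3) := by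
  have h := ee_four (n / 4) 0 (by norm_num)
  rw [show 4 * (n / 4) + 0 = n - 3 by omega] at h
  unfold bb
  rw [h, hn, mul_comm]
  simp [ww]

end Cfsg.Agent.Lib.KnownA.NilpotentExtremal
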