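import Mathlib.Data.Complex.Basic
import Mathlib.Tactic

/-!
The algebra of the class multiplication equations for the group of order 108.
-/

namespace Cfsg.Agent.Lib.KnownA.O108

variable {n₁ n₂ n₃ a₁ a₂ a₃ C : ℂ}

theorem alpha_clear {n a R : ℂ} (hn : n ≠ 0) (h1 : 1 + n ≠ 0)
    (h : 1 + a ^ 2 / n - (1 + a) ^ 2 / (1 + n) = R) : (a - n) ^ 2 = R * (n * (1 + n)) := by
  rw [← h]; field_simp; ring

theorem beta_clear {m n a b R : ℂ} (hm : m ≠ 0) (hn : n ≠ 0) (h1 : m + n ≠ 0)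
    (h : a ^ 2 / m + b ^ 2 / n - (a + b) ^ 2 / (m + n) = R) :
    (a * n - b * m) ^ 2 = R * (m * n * (m + n)) := by
  rw [← h]; field_simp; ring

theorem eq_of_ratio {r n m K : ℂ} (hK : K ≠ 0) (hn : (1 - r) ^ 2 * n = K * (1 + n))
    (hm : (1 - r) ^ 2 * m = K * (1 + m)) : n = m := by
  have h : ((1 - r) ^ 2 - K) * (n - m) = 0 := by linear_combination hn - hm
  rcases mul_eq_zero.mp h with h' | h'
  · exact absurd (by linear_combination hn - n * h' : (0 : ℂ) = K) hK.symm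
  · exact sub_eq_zero.mp h'

theorem ratio_step {r n a K : ℂ} (hn : n ≠ 0) (ha : a = r * n) (h : (a - n) ^ 2 = K * (n * (1 + n))) :
    (1 - r) ^ 2 * n = K * (1 + n) := by
  subst ha
  exact mul_right_cancel₀ hn (by linear_combination h)

/-- All three classes of involutions fused. -/
theorem all_fused (h1 : n₁ ≠ 0) (h2 : n₂ ≠ 0) (h3 : n₃ ≠ 0) (p1 : 1 + n₁ ≠ 0)
    (pN : 1 + (n₁ + n₂ + n₃) ≠ 0) (hC : C ≠ 0)
    (A1 : (a₁ - n₁) ^ 2 = C * 4 * (n₁ * (1 + n₁))) (A2 : (a₂ - n₂) ^ 2 = C * 4 * (n₂ * (1 + n₂)))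
    (A3 : (a₃ - n₃) ^ 2 = C * 4 * (n₃ * (1 + n₃)))
    (B3 : (a₁ * n₂ - a₂ * n₁) ^ 2 = 0) (B2 : (a₁ * n₃ - a₃ * n₁) ^ 2 = 0)
    (Z : 1 + (a₁ ^ 2 / n₁ + a₂ ^ 2 / n₂ + a₃ ^ 2 / n₃) -
      (1 + (a₁ + a₂ + a₃)) ^ 2 / (1 + (n₁ + n₂ + n₃)) = 2 * C * 3) : n₁ = 1 ∧ n₂ = 1 ∧ n₃ = 1 := by
  obtain ⟨r, hr⟩ : ∃ r, a₁ = r * n₁ := ⟨a₁ / n₁, by field_simp⟩
  have hr2 : a₂ = r * n₂ := by
    have := pow_eq_zero_iff two_ne_zero |>.mp B3
    subst hr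
    exact mul_left_cancel₀ h1 (by linear_combination -this)
  have hr3 : a₃ = r * n₃ := by
    have := pow_eq_zero_iff two_ne_zero |>.mp B2
    subst hr
    exact mul_left_cancel₀ h1 (by linear_combination -this)
  have q1 := ratio_step h1 hr A1
  have q2 := ratio_step h2 hr2 A2
  have q3 := ratio_step h3 hr3 A3
  have hK : C * 4 ≠ 0 := mul_ne_zero hC (by norm_num)
  obtain rfl := eq_of_ratio hK q1 q2
  obtain rfl := eq_of_ratio hK q1 q3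
  subst hr hr2 hr3
  have Z' : (1 - r) ^ 2 * n₁ = 2 * C * (1 + (n₁ + n₁ + n₁)) := by
    have e : (r * n₁) ^ 2 / n₁ = r ^ 2 * n₁ := by field_simp
    rw [e, sub_eq_iff_eq_add] at Z
    have hd : (1 + (r * n₁ + r * n₁ + r * n₁)) ^ 2 =
        (1 + (r ^ 2 * n₁ + r ^ 2 * n₁ + r ^ 2 * n₁) - 2 * C * 3) * (1 + (n₁ + n₁ + n₁)) := by
      rw [Z, add_sub_cancel_left, div_mul_cancel₀ _ pN]
    linear_combination -hd / 3
  have : n₁ = 1 := by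
    have hh : C * (n₁ - 1) = 0 := by linear_combination (q1 - Z') / 2
    exact sub_eq_zero.mp ((mul_eq_zero.mp hh).resolve_left hC)
  exact ⟨this, this, this⟩

/-- One class not fused with the others. -/
theorem singleton (h1 : n₁ ≠ 0) (h2 : n₂ ≠ 0) (h3 : n₃ ≠ 0) (p2 : 1 + n₂ ≠ 0)
    (pN : 1 + (n₁ + n₂ + n₃) ≠ 0) (hC : C ≠ 0)
    (A1 : (a₁ - n₁) ^ 2 = 0) (A2 : (a₂ - n₂) ^ 2 = C * (n₂ * (1 + n₂)))
    (A3 : (a₃ - n₃) ^ 2 = C * (n₃ * (1 + n₃))) (B1 : (a₂ * n₃ - a₃ * n₂) ^ 2 = 0)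
    (Z : 1 + (a₁ ^ 2 / n₁ + a₂ ^ 2 / n₂ + a₃ ^ 2 / n₃) -
      (1 + (a₁ + a₂ + a₃)) ^ 2 / (1 + (n₁ + n₂ + n₃)) = 2 * C) : n₁ = 1 ∧ n₂ = n₃ := by
  have ha1 : a₁ = n₁ := sub_eq_zero.mp (pow_eq_zero_iff two_ne_zero |>.mp A1)
  obtain ⟨r, hr⟩ : ∃ r, a₂ = r * n₂ := ⟨a₂ / n₂, by field_simp⟩
  have hr3 : a₃ = r * n₃ := by
    have := pow_eq_zero_iff two_ne_zero |>.mp B1
    subst hr
    exact mul_left_cancel₀ h2 (by linear_combination -this)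
  have q2 := ratio_step h2 hr A2
  have q3 := ratio_step h3 hr3 A3
  obtain rfl := eq_of_ratio hC q2 q3
  subst ha1 hr hr3
  have Z' : (1 - r) ^ 2 * n₂ * (1 + a₁) = C * (1 + (a₁ + n₂ + n₂)) := by
    field_simp at Z
    linear_combination Z / 2
  have hh : C * n₂ * (a₁ - 1) = 0 := by linear_combination Z' - (1 + a₁) * q2
  exact ⟨sub_eq_zero.mp ((mul_eq_zero.mp hh).resolve_left (mul_ne_zero hC h2)), rfl⟩

/-- Two fused classes, the third known. -/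
theorem pair {n b₁ b₂ b₃ : ℂ} (hn : n ≠ 0) (p : 1 + n ≠ 0) (pN : 1 + (1 + n + n) ≠ 0) (hC : C ≠ 0)
    (hb : b₁ ^ 2 = 1) (A1 : (b₁ - 1) ^ 2 = C * 4 * (1 * (1 + 1)))
    (A2 : (b₂ - n) ^ 2 = C * (n * (1 + n))) (B1 : (b₂ * n - b₃ * n) ^ 2 = 0)
    (Z : 1 + (b₁ ^ 2 / 1 + b₂ ^ 2 / n + b₃ ^ 2 / n) -
      (1 + (b₁ + b₂ + b₃)) ^ 2 / (1 + (1 + n + n)) = 2 * C * 2) : n = 1 := by
  have hb1 : b₁ = -1 := by
    rcases sq_eq_one_iff.mp hb with h | h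
    · subst h
      exact absurd (by linear_combination (-1 / 8 : ℂ) * A1) hC
    · exact h
  subst hb1
  have hC' : C = 1 / 2 := by linear_combination (-1 / 8 : ℂ) * A1
  subst hC'
  obtain rfl : b₂ = b₃ :=
    mul_right_cancel₀ hn (sub_eq_zero.mp (pow_eq_zero_iff two_ne_zero |>.mp B1))
  have hb2 : b₂ ^ 2 = 0 := by
    field_simp at Z
    linear_combination Z / 4
  have hb0 : b₂ = 0 := pow_eq_zero_iff two_ne_zero |>.mp hb2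
  subst hb0
  have : n * (n - 1) = 0 := by linear_combination 2 * A2
  exact sub_eq_zero.mp ((mul_eq_zero.mp this).resolve_left hn)

end Cfsg.Agent.Lib.KnownA.O108
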