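import Cfsg.Agent.Lib.KnownA.Order108Main
import Cfsg.Agent.Lib.CoprimeGen.Abelian
import Mathlib.GroupTheory.Transfer

/-!
A group with the order 108 configuration has order 108.
-/

set_option linter.unusedSectionVars false
set_option linter.style.haveILetI false

namespace Cfsg.Agent.Lib.KnownA.O108

open Cfsg.Agent.Lib.Characters

universe u

/-- The equivalence of the model with the permutation group. -/
theorem range_toPerm :
    (toPerm.comp E.subtype).range = Subgroup.closure ({g1, g2, g3, g4, g5} : Set (Equiv.Perm (Fin 9))) := by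
  have h1 : ev (DihedralGroup.r 1, DihedralGroup.r 0, DihedralGroup.r 0) = 1 ∧
      ev (DihedralGroup.r 0, DihedralGroup.r 1, DihedralGroup.r 0) = 1 ∧
      ev (DihedralGroup.r 0, DihedralGroup.r 0, DihedralGroup.r 1) = 1 ∧
      ev (DihedralGroup.sr 2, DihedralGroup.sr 2, DihedralGroup.r 0) = 1 ∧
      ev (DihedralGroup.sr 2, DihedralGroup.r 0, DihedralGroup.sr 2) = 1 := by decide +kernel
  obtain ⟨q1, q2, q3, q4, q5⟩ := h1
  refine le_antisymm ?_ ((Subgroup.closure_le _).mpr ?_)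
  · rintro _ ⟨m, rfl⟩
    obtain ⟨a, b, c, x, y, h⟩ := decomp m.1 m.2
    have hm : ∀ g ∈ ({g1, g2, g3, g4, g5} : Set (Equiv.Perm (Fin 9))),
        g ∈ Subgroup.closure ({g1, g2, g3, g4, g5} : Set (Equiv.Perm (Fin 9))) :=
      fun g hg => Subgroup.subset_closure hg
    rw [MonoidHom.comp_apply, Subgroup.coe_subtype, h, map_mul, map_mul, map_mul, map_mul, map_pow,
      map_pow, map_pow, map_pow, map_pow, toPerm_g1, toPerm_g2, toPerm_g3, toPerm_g4, toPerm_g5]
    exact mul_mem (mul_mem (mul_mem (mul_mem (pow_mem (hm _ (by simp)) _) (pow_mem (hm _ (by simp)) _))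
      (pow_mem (hm _ (by simp)) _)) (pow_mem (hm _ (by simp)) _)) (pow_mem (hm _ (by simp)) _)
  · intro g hg
    simp only [Set.mem_insert_iff, Set.mem_singleton_iff] at hg
    rcases hg with rfl | rfl | rfl | rfl | rfl
    · exact ⟨⟨_, q1⟩, toPerm_g1⟩
    · exact ⟨⟨_, q2⟩, toPerm_g2⟩
    · exact ⟨⟨_, q3⟩, toPerm_g3⟩
    · exact ⟨⟨_, q4⟩, toPerm_g4⟩
    · exact ⟨⟨_, q5⟩, toPerm_g5⟩

variable {G : Type u} [Group G] [Finite G] (S : Setup G)

theorem eq_top_of_setup : S.H = ⊤ := by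
  classical
  haveI := Fintype.ofFinite G
  haveI := Fintype.ofFinite (Cfsg.IrrCharacter G)
  obtain ⟨φ, hφ⟩ := exists_linear S 0
  obtain ⟨ψ, hψ⟩ := exists_linear S 1
  let K : Subgroup G := φ.ker ⊓ ψ.ker
  have hKn : K.Normal := ⟨fun x hx g => by
    have h1 : φ x = 1 := hx.1
    have h2 : ψ x = 1 := hx.2
    refine ⟨?_, ?_⟩
    · show φ (g * x * g⁻¹) = 1
      rw [map_mul, map_mul, h1, mul_one, ← map_mul, mul_inv_cancel, map_one]
    · show ψ (g * x * g⁻¹) = 1
      rw [map_mul, map_mul, h2, mul_one, ← map_mul, mul_inv_cancel, map_one]⟩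
  have hTK : S.T ≤ K := fun t ht => by
    obtain ⟨m, rfl⟩ := S.exists_ι (S.hTH ht)
    have hm : m ^ 3 = 1 := S.ι_injective (by rw [map_pow, map_one, S.pow_three_of_mem ht])
    obtain ⟨e0, e1, -⟩ := (cube_eq_one_iff m.1).mp (congrArg Subtype.val hm)
    exact ⟨by show φ _ = 1; rw [hφ, e0, Int.cast_one], by show ψ _ = 1; rw [hψ, e1, Int.cast_one]⟩
  have hKH : ∀ h ∈ K, h ∈ S.H → h ∈ S.T := fun h hK hH => by
    obtain ⟨m, rfl⟩ := S.exists_ι hH
    have h1 : (e 0 m.1 : ℂ) = 1 := by rw [← hφ]; exact hK.1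
    have h2 : (e 1 m.1 : ℂ) = 1 := by rw [← hψ]; exact hK.2
    have e0 : e 0 m.1 = 1 := by exact_mod_cast h1
    have e1 : e 1 m.1 = 1 := by exact_mod_cast h2
    have e2 : e 2 m.1 = 1 := by
      have h : e 0 m.1 * e 1 m.1 * e 2 m.1 = 1 := m.2
      rw [e0, e1, one_mul, one_mul] at h
      exact h
    refine S.mem_T_of_cube hH ?_
    rw [← map_pow, show m ^ 3 = 1 from Subtype.ext ((cube_eq_one_iff m.1).mpr ⟨e0, e1, e2⟩), map_one]
  -- `T` is a Sylow subgroup
  haveI : Fact (Nat.Prime 3) := ⟨Nat.prime_three⟩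
  have hTp : IsPGroup 3 ↥S.T := IsPGroup.of_card (n := 3) (by rw [S.cardT]; norm_num)
  obtain ⟨P, hTP⟩ := hTp.exists_le_sylow
  have hPT : (P : Subgroup G) = S.T := by
    by_contra hne
    have hlt : S.T < (P : Subgroup G) := lt_of_le_of_ne hTP (Ne.symm hne)
    haveI := P.isPGroup'.isNilpotent
    have hproper : S.T.subgroupOf (P : Subgroup G) < ⊤ :=
      lt_top_iff_ne_top.mpr fun h => hlt.not_ge (Subgroup.subgroupOf_eq_top.mp h)
    obtain ⟨x, hxN, hxT⟩ := SetLike.exists_of_lt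
      (Group.normalizerCondition_of_isNilpotent (G := ↥(P : Subgroup G)) _ hproper)
    have hxH : (x : G) ∈ S.H := by
      rw [← S.hN]
      refine Subgroup.mem_normalizer_iff.mpr fun t => ⟨fun ht => ?_, fun ht => ?_⟩
      · have := (Subgroup.mem_normalizer_iff.mp hxN ⟨t, hTP ht⟩).mp ht
        exact this
      · have hP : t ∈ (P : Subgroup G) := by
          have := (P : Subgroup G).mul_mem ((P : Subgroup G).mul_mem
            ((P : Subgroup G).inv_mem x.2) (hTP ht)) x.2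
          simpa [mul_assoc] using this
        exact (Subgroup.mem_normalizer_iff.mp hxN ⟨t, hP⟩).mpr ht
    refine hxT (S.mem_T_of_cube hxH ?_)
    obtain ⟨k, hk⟩ := P.isPGroup' x
    have hk' : (x : G) ^ 3 ^ k = 1 := congrArg Subtype.val hk
    have hg : (x : G) ^ Nat.gcd (3 ^ k) 6 = 1 := pow_gcd_eq_one.mpr ⟨hk', S.pow_six hxH⟩
    obtain ⟨j, hj⟩ : Nat.gcd (3 ^ k) 6 ∣ 3 := by
      refine Nat.Coprime.dvd_of_dvd_mul_left (k := Nat.gcd (3 ^ k) 6) (m := 2) ?_ (Nat.gcd_dvd_right _ 6)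
      exact Nat.Coprime.coprime_dvd_left (Nat.gcd_dvd_left _ 6) (Nat.Coprime.pow_left _ (by norm_num))
    exact orderOf_dvd_iff_pow_eq_one.mp ((orderOf_dvd_of_pow_eq_one hg).trans ⟨j, hj⟩)
  have hPK : (P : Subgroup G) ≤ K := hPT ▸ hTK
  let Q : Sylow 3 ↥K := P.subtype hPK
  have hmemQ : ∀ x : ↥K, x ∈ (Q : Subgroup ↥K) ↔ (x : G) ∈ S.T := fun x => by
    rw [Sylow.coe_subtype, Subgroup.mem_subgroupOf, hPT]
  have hburn : Subgroup.normalizer ((Q : Subgroup ↥K) : Set ↥K) ≤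
      Subgroup.centralizer ((Q : Subgroup ↥K) : Set ↥K) := by
    intro x hx
    have hxT : (x : G) ∈ S.T := by
      refine hKH _ x.2 ?_
      rw [← S.hN]
      refine Subgroup.mem_normalizer_iff.mpr fun t => ⟨fun ht => ?_, fun ht => ?_⟩
      · exact (hmemQ _).mp ((Subgroup.mem_normalizer_iff.mp hx ⟨t, hTK ht⟩).mp ((hmemQ _).mpr ht))
      · have htK : t ∈ K := by
          have := K.mul_mem (K.mul_mem (K.inv_mem x.2) (hTK ht)) x.2
          simpa [mul_assoc] using this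
        exact (hmemQ ⟨t, htK⟩).mp
          ((Subgroup.mem_normalizer_iff.mp hx ⟨t, htK⟩).mpr ((hmemQ _).mpr ht))
    exact Subgroup.mem_centralizer_iff.mpr fun y hy =>
      Subtype.ext (S.commute_T ((hmemQ y).mp hy) hxT)
  let R : Subgroup ↥K := (MonoidHom.transferSylow Q hburn).ker
  have hcompl : R.IsComplement' (Q : Subgroup ↥K) := MonoidHom.ker_transferSylow_isComplement' Q hburn
  haveI : IsMulCommutative ↥(Q : Subgroup ↥K) :=
    ⟨⟨fun a b => Subtype.ext (Subtype.ext (S.commute_T ((hmemQ _).mp a.2) ((hmemQ _).mp b.2)))⟩⟩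
  letI : CommGroup ↥(Q : Subgroup ↥K) :=
    { (inferInstance : Group ↥(Q : Subgroup ↥K)) with mul_comm := fun a b => mul_comm' a b }
  let act : ↥(Q : Subgroup ↥K) →* MulAut ↥R := MulAut.conjNormal.comp (Q : Subgroup ↥K).subtype
  have hcardQ : Nat.card ↥(Q : Subgroup ↥K) = 27 := by
    rw [Sylow.coe_subtype, Nat.card_congr (Subgroup.subgroupOfEquivOfLe hPK).toEquiv, hPT, S.cardT]
  have hcyc : ¬ IsCyclic ↥(Q : Subgroup ↥K) := fun h => by
    obtain ⟨g, hg⟩ := h.exists_ofOrder_eq_natCard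
    rw [hcardQ] at hg
    have h3 : g ^ 3 = 1 := Subtype.ext (Subtype.ext (by
      simpa using S.pow_three_of_mem ((hmemQ g.1).mp g.2)))
    have h4 := orderOf_dvd_of_pow_eq_one h3
    rw [hg] at h4
    norm_num at h4
  have hcop : (Nat.card ↥(Q : Subgroup ↥K)).Coprime (Nat.card ↥R) := by
    have h1 : R.index = Nat.card ↥(Q : Subgroup ↥K) := hcompl.symm.index_eq_card
    have h2 : ¬ 3 ∣ (Q : Subgroup ↥K).index := Q.not_dvd_index
    rw [hcompl.index_eq_card] at h2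
    rw [hcardQ, show 27 = 3 ^ 3 from rfl]
    exact Nat.Coprime.pow_left _ ((Nat.Prime.coprime_iff_not_dvd Nat.prime_three).mpr h2)
  have hfix := CoprimeGen.iSup_fix_zpowers act hcop hcyc
  have hfix0 : ∀ a : ↥(Q : Subgroup ↥K), a ≠ 1 → CoprimeGen.fix act (Subgroup.zpowers a) = ⊥ := by
    intro a ha
    refine (Subgroup.eq_bot_iff_forall _).mpr fun r hr => ?_
    have h := congrArg Subtype.val (hr a (Subgroup.mem_zpowers a))
    have hc : (a : ↥K) * r * (a : ↥K)⁻¹ = r := by simpa [act] using h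
    have haT : ((a : ↥K) : G) ∈ S.T := (hmemQ _).mp a.2
    have ha1 : ((a : ↥K) : G) ≠ 1 := fun h' => ha (Subtype.ext (Subtype.ext h'))
    have hrH : ((r : ↥K) : G) ∈ S.H := S.hC _ haT ha1
      (Subgroup.mem_centralizer_singleton_iff.mpr
        (congrArg Subtype.val (mul_inv_eq_iff_eq_mul.mp hc)).symm)
    have hrQ : (r : ↥K) ∈ (Q : Subgroup ↥K) := (hmemQ _).mpr (hKH _ (r : ↥K).2 hrH)
    have := hcompl.disjoint.le_bot ⟨r.2, hrQ⟩
    exact Subtype.ext (Subgroup.mem_bot.mp this)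
  have hRbot : R = ⊥ := by
    have h : (⊤ : Subgroup ↥R) = ⊥ := by
      rw [← hfix, eq_bot_iff]
      exact iSup₂_le fun a ha => (hfix0 a ha).le
    refine (Subgroup.eq_bot_iff_forall _).mpr fun r hr => ?_
    have := Subgroup.mem_bot.mp (h ▸ Subgroup.mem_top (⟨r, hr⟩ : ↥R))
    exact congrArg Subtype.val this
  have hKT : K ≤ S.T := fun x hx => by
    have hQtop : (Q : Subgroup ↥K) = ⊤ := by
      have := hcompl
      rw [hRbot] at this
      exact Subgroup.isComplement'_bot_left.mp this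
    exact (hmemQ ⟨x, hx⟩).mp (hQtop ▸ Subgroup.mem_top _)
  have hT : S.T = K := le_antisymm hTK hKT
  rw [← S.hN, hT]
  exact Subgroup.normalizer_eq_top_iff.mpr hKn

end Cfsg.Agent.Lib.KnownA.O108
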