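import Mathlib.Algebra.BigOperators.Fin
import Mathlib.Data.Matrix.Mul
import Mathlib.Data.Int.Order.Lemmas
import Mathlib.Tactic

/-!
Integral vectors with a prescribed Gram matrix: the configuration for the group of order 108.
-/

namespace Cfsg.Agent.Lib.KnownA.O108

set_option linter.unusedSectionVars false

variable {I : Type*} [Fintype I] [DecidableEq I]

open scoped BigOperators

/-- A signed unit vector. -/
def IsU (v : I → ℤ) : Prop := ∃ (x : I) (s : ℤ), (s = 1 ∨ s = -1) ∧ v = Pi.single x s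

theorem self_nonneg (v : I → ℤ) : 0 ≤ v ⬝ᵥ v :=
  Finset.sum_nonneg fun x _ => mul_self_nonneg (v x)

theorem eq_zero_of_self {v : I → ℤ} (h : v ⬝ᵥ v = 0) : v = 0 := by
  funext x
  exact mul_self_eq_zero.mp ((Finset.sum_eq_zero_iff_of_nonneg
    fun x _ => mul_self_nonneg (v x)).mp h x (Finset.mem_univ x))

theorem isU_of_self {v : I → ℤ} (h : v ⬝ᵥ v = 1) : IsU v := by
  obtain ⟨x, hx⟩ : ∃ x, v x ≠ 0 := by
    by_contra! hc
    rw [funext hc] at h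
    simp at h
  have hsplit : v x * v x + ∑ y ∈ Finset.univ.erase x, v y * v y = 1 := by
    rw [Finset.add_sum_erase Finset.univ (fun y => v y * v y) (Finset.mem_univ x)]
    exact h
  have h0 : 0 ≤ ∑ y ∈ Finset.univ.erase x, v y * v y :=
    Finset.sum_nonneg fun y _ => mul_self_nonneg (v y)
  have h1 : 0 < v x * v x := mul_self_pos.mpr hx
  have hrest : ∑ y ∈ Finset.univ.erase x, v y * v y = 0 := by omega
  refine ⟨x, v x, mul_self_eq_one_iff.mp (by omega), funext fun y => ?_⟩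
  by_cases hy : y = x
  · subst hy; simp
  · rw [Pi.single_eq_of_ne hy]
    exact mul_self_eq_zero.mp ((Finset.sum_eq_zero_iff_of_nonneg
      fun y _ => mul_self_nonneg (v y)).mp hrest y (Finset.mem_erase.mpr ⟨hy, Finset.mem_univ y⟩))

theorem IsU.self {v : I → ℤ} (h : IsU v) : v ⬝ᵥ v = 1 := by
  obtain ⟨x, s, hs, rfl⟩ := h
  rcases hs with rfl | rfl <;> simp

theorem IsU.deg_ne_zero {v : I → ℤ} (h : IsU v) {d : I → ℤ} (hd : ∀ x, d x ≠ 0) : v ⬝ᵥ d ≠ 0 := by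
  obtain ⟨x, s, hs, rfl⟩ := h
  rw [single_dotProduct]
  exact mul_ne_zero (by omega) (hd x)

theorem dot_le_one {u v : I → ℤ} (hu : u ⬝ᵥ u = 1) (hv : v ⬝ᵥ v = 1) : u ⬝ᵥ v ≤ 1 := by
  have := self_nonneg (u - v)
  simp only [sub_dotProduct, dotProduct_sub, hu, hv, dotProduct_comm v u] at this
  omega

/-- A vector of norm two is a sum of two orthogonal signed unit vectors. -/
theorem exists_two {v : I → ℤ} (h : v ⬝ᵥ v = 2) :
    ∃ E F, IsU E ∧ IsU F ∧ E ⬝ᵥ F = 0 ∧ v = E + F := by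
  obtain ⟨x, hx⟩ : ∃ x, v x ≠ 0 := by
    by_contra! hc
    rw [funext hc] at h
    simp at h
  have hle : v x * v x ≤ 2 := by
    rw [← h]
    exact Finset.single_le_sum (f := fun y => v y * v y) (fun y _ => mul_self_nonneg (v y))
      (Finset.mem_univ x)
  have hs : v x = 1 ∨ v x = -1 := by
    have h1 : -1 ≤ v x := by nlinarith
    have h2 : v x ≤ 1 := by nlinarith
    omega
  have hsq : v x * v x = 1 := by rcases hs with h1 | h1 <;> rw [h1] <;> norm_num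
  have hvE : v ⬝ᵥ Pi.single x (v x) = 1 := by rw [dotProduct_single, hsq]
  refine ⟨Pi.single x (v x), v - Pi.single x (v x), ⟨x, v x, hs, rfl⟩, isU_of_self ?_, ?_, by abel⟩
  · simp only [sub_dotProduct, dotProduct_sub, h, hvE, dotProduct_comm (Pi.single x (v x)) v]
    simp [hsq]
  · simp only [dotProduct_sub, dotProduct_comm (Pi.single x (v x)) v, hvE]
    simp [hsq]

theorem single_dot_single (x y : I) (s t : ℤ) :
    (Pi.single x s : I → ℤ) ⬝ᵥ Pi.single y t = if x = y then s * t else 0 := by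
  rw [single_dotProduct, Pi.single_apply]
  split_ifs <;> simp

/-- Two orthogonal vectors of norm two and degree one have disjoint supports. -/
theorem cross_eq_zero {d : I → ℤ} (hd : ∀ x, d x ≠ 0) {E F E' F' : I → ℤ} (hE : IsU E) (hF : IsU F)
    (hE' : IsU E') (hF' : IsU F') (h0 : E' ⬝ᵥ F' = 0) (hEF : E ⬝ᵥ F = 0)
    (hd1 : (E + F) ⬝ᵥ d = 1) (hd2 : (E' + F') ⬝ᵥ d = 1) (horth : (E + F) ⬝ᵥ (E' + F') = 0) :
    E ⬝ᵥ E' = 0 := by
  by_contra hne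
  obtain ⟨x, s, hs, rfl⟩ := hE
  obtain ⟨x', s', hs', rfl⟩ := hE'
  obtain ⟨y, t, ht, rfl⟩ := hF
  obtain ⟨y', t', ht', rfl⟩ := hF'
  simp only [add_dotProduct, dotProduct_add, single_dot_single] at hne h0 hEF horth
  simp only [add_dotProduct, single_dotProduct] at hd1 hd2
  by_cases hxx : x = x'
  · subst hxx
    have hy : x ≠ y := fun h => by
      rw [if_pos h] at hEF
      rcases hs with rfl | rfl <;> rcases ht with rfl | rfl <;> simp at hEF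
    have hy' : x ≠ y' := fun h => by
      rw [if_pos h] at h0
      rcases hs' with rfl | rfl <;> rcases ht' with rfl | rfl <;> simp at h0
    rw [if_pos rfl, if_neg hy', if_neg (Ne.symm hy)] at horth
    by_cases hyy : y = y'
    · subst hyy
      rw [if_pos rfl] at horth
      have := hd x
      have := hd y
      rcases hs with rfl | rfl <;> rcases hs' with rfl | rfl <;> rcases ht with rfl | rfl <;>
        rcases ht' with rfl | rfl <;> omega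
    · rw [if_neg hyy] at horth
      rcases hs with rfl | rfl <;> rcases hs' with rfl | rfl <;> simp at horth
  · exact hne (if_neg hxx)

/-- A pair of integers with sum one and small norm. -/
theorem small_pair {u v : ℤ} (h : u + v = 1) (h2 : u * u + v * v ≤ 2) :
    u = 1 ∧ v = 0 ∨ u = 0 ∧ v = 1 := by
  have h1 : -1 ≤ u := by nlinarith
  have h3 : u ≤ 1 := by nlinarith
  have h4 : -1 ≤ v := by nlinarith
  have h5 : v ≤ 1 := by nlinarith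
  omega

theorem one_le_sq_add {u v : ℤ} (h : u + v = 1) : 1 ≤ u * u + v * v := by nlinarith [sq_nonneg (u - v)]

/-- Bessel's inequality for six orthonormal vectors, with the remainder. -/
theorem bessel (E F : Fin 3 → I → ℤ) (hEE : ∀ i j, E i ⬝ᵥ E j = if i = j then 1 else 0)
    (hFF : ∀ i j, F i ⬝ᵥ F j = if i = j then 1 else 0) (hEF : ∀ i j, E i ⬝ᵥ F j = 0) (v : I → ℤ) :
    let r := v - ∑ i, ((v ⬝ᵥ E i) • E i + (v ⬝ᵥ F i) • F i)
    r ⬝ᵥ r = v ⬝ᵥ v - ∑ i, ((v ⬝ᵥ E i) * (v ⬝ᵥ E i) + (v ⬝ᵥ F i) * (v ⬝ᵥ F i)) ∧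
      (∀ j, r ⬝ᵥ E j = 0) ∧ ∀ j, r ⬝ᵥ F j = 0 := by
  intro r
  have hFE : ∀ i j, F i ⬝ᵥ E j = 0 := fun i j => by rw [dotProduct_comm]; exact hEF j i
  have h1 : ∀ j, r ⬝ᵥ E j = 0 := fun j => by
    simp only [r, sub_dotProduct, sum_dotProduct, add_dotProduct, smul_dotProduct, hEE, hFE,
      smul_eq_mul, mul_zero, add_zero, mul_ite, mul_one, Finset.sum_ite_eq', Finset.mem_univ,
      if_true, sub_self]
  have h2 : ∀ j, r ⬝ᵥ F j = 0 := fun j => by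
    simp only [r, sub_dotProduct, sum_dotProduct, add_dotProduct, smul_dotProduct, hFF, hEF,
      smul_eq_mul, mul_zero, zero_add, mul_ite, mul_one, Finset.sum_ite_eq', Finset.mem_univ,
      if_true, sub_self]
  refine ⟨?_, h1, h2⟩
  have : r ⬝ᵥ r = r ⬝ᵥ v := by
    conv_lhs => arg 2; change v - ∑ i, ((v ⬝ᵥ E i) • E i + (v ⬝ᵥ F i) • F i)
    simp only [dotProduct_sub, dotProduct_sum, dotProduct_add, dotProduct_smul, h1, h2, smul_eq_mul,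
      mul_zero, add_zero, Finset.sum_const_zero, sub_zero]
  rw [this]
  simp only [r, sub_dotProduct, sum_dotProduct, add_dotProduct, smul_dotProduct, smul_eq_mul,
    dotProduct_comm (E _) v, dotProduct_comm (F _) v]

/-- Truth values as integers. -/
def bi (p : Bool) : ℤ := if p then 1 else 0

theorem bool_of {u v : ℤ} (h : u = 1 ∧ v = 0 ∨ u = 0 ∧ v = 1) :
    ∃ p : Bool, v = 1 - bi p ∧ u = bi p := by
  rcases h with ⟨h1, h2⟩ | ⟨h1, h2⟩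
  · exact ⟨true, by simp [bi, h2], by simp [bi, h1]⟩
  · exact ⟨false, by simp [bi, h2], by simp [bi, h1]⟩

theorem bi_le {p q : Bool} (h : ¬ (p = true ∧ q = true)) : bi p + bi q ≤ 1 := by
  cases p <;> cases q <;> simp_all [bi]

/-- Agreement of two choices. -/
def com (p q : Bool) : ℤ := if p = q then 1 else 0

theorem com_eq (p q : Bool) : com p q = bi p * bi q + (1 - bi p) * (1 - bi q) := by
  cases p <;> cases q <;> simp [com, bi]

theorem pattern : ∀ p0 q0 p1 q1 p2 q2 : Bool,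
    ((¬ (p0 ∧ q0) → bi p0 + bi q0 = 1) ∧ (¬ (p1 ∧ q1) → bi p1 + bi q1 = 1) ∧
      (¬ (p2 ∧ q2) → bi p2 + bi q2 = 1)) →
    ((¬ (p0 ∧ q0) → com q0 p1 = bi p1 + bi q1 - 1) ∧ (¬ (p1 ∧ q1) → com q0 p1 = bi p0 + bi q0 - 1)) →
    ((¬ (p0 ∧ q0) → com p0 q2 = bi p2 + bi q2 - 1) ∧ (¬ (p2 ∧ q2) → com p0 q2 = bi p0 + bi q0 - 1)) →
    ((¬ (p1 ∧ q1) → com q1 p2 = bi p2 + bi q2 - 1) ∧ (¬ (p2 ∧ q2) → com q1 p2 = bi p1 + bi q1 - 1)) →
    (p0 = true ∧ q0 = true ∧ p1 = true ∧ q1 = true ∧ p2 = true ∧ q2 = true) ∨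
    (p0 = true ∧ q0 = false ∧ p1 = true ∧ q1 = false ∧ p2 = true ∧ q2 = false) ∨
    (p0 = false ∧ q0 = true ∧ p1 = false ∧ q1 = true ∧ p2 = false ∧ q2 = true) := by
  intro p0 q0 p1 q1 p2 q2
  cases p0 <;> cases q0 <;> cases p1 <;> cases q1 <;> cases p2 <;> cases q2 <;> simp [bi, com]

set_option maxHeartbeats 1600000 in
/-- The configuration theorem. -/
theorem config (o : I) (d : I → ℤ) (hd : ∀ x, d x ≠ 0) (a b : Fin 3 → I → ℤ) (z : I → ℤ)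
    (haa : ∀ i j, a i ⬝ᵥ a j = if i = j then 2 else 0) (haz : ∀ i, a i ⬝ᵥ z = 1)
    (hab : ∀ i j, a i ⬝ᵥ b j = if i = j then 0 else 1) (hzb : ∀ i, z ⬝ᵥ b i = 2)
    (hzz : z ⬝ᵥ z = 4) (hbb : ∀ i j, b i ⬝ᵥ b j = if i = j then 3 else 1)
    (hao : ∀ i, a i o = 0)
    (had : ∀ i, a i ⬝ᵥ d = 1) (hbd : ∀ i, b i ⬝ᵥ d = 0) (hzd : z ⬝ᵥ d = 1) :
    ∃ (L A Y : Fin 3 → I → ℤ) (P : I → ℤ), (∀ i, IsU (L i)) ∧ (∀ i, IsU (A i)) ∧ (∀ i, IsU (Y i)) ∧
      IsU P ∧ (∀ i, a i = A i - L i) ∧ (∀ i, b i = Y i - L (i + 1) - L (i + 2)) ∧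
      z = P - (L 0 + L 1 + L 2) ∧ (∀ i j, a i ⬝ᵥ L j = if i = j then -1 else 0) ∧
      (∀ i, L i o = 0) := by
  choose E₀ F₀ hE₀ hF₀ hEF₀ ha₀ using fun i => exists_two (v := a i) (by rw [haa]; simp)
  -- all six unit vectors are orthogonal
  have hdeg : ∀ i, (E₀ i + F₀ i) ⬝ᵥ d = 1 := fun i => by rw [← ha₀]; exact had i
  have horth : ∀ i j, i ≠ j → (E₀ i + F₀ i) ⬝ᵥ (E₀ j + F₀ j) = 0 := fun i j h => by
    rw [← ha₀, ← ha₀, haa, if_neg h]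
  have hswap : ∀ i, (F₀ i + E₀ i) = E₀ i + F₀ i := fun i => add_comm _ _
  have hFE₀ : ∀ i, F₀ i ⬝ᵥ E₀ i = 0 := fun i => by rw [dotProduct_comm]; exact hEF₀ i
  have oEE : ∀ i j, E₀ i ⬝ᵥ E₀ j = if i = j then 1 else 0 := fun i j => by
    split_ifs with h
    · subst h; exact (hE₀ i).self
    · exact cross_eq_zero hd (hE₀ i) (hF₀ i) (hE₀ j) (hF₀ j) (hEF₀ j) (hEF₀ i) (hdeg i) (hdeg j)
        (horth i j h)
  have oFF : ∀ i j, F₀ i ⬝ᵥ F₀ j = if i = j then 1 else 0 := fun i j => by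
    split_ifs with h
    · subst h; exact (hF₀ i).self
    · exact cross_eq_zero hd (hF₀ i) (hE₀ i) (hF₀ j) (hE₀ j) (hFE₀ j) (hFE₀ i)
        (by rw [hswap]; exact hdeg i) (by rw [hswap]; exact hdeg j)
        (by rw [hswap, hswap]; exact horth i j h)
  have oEF : ∀ i j, E₀ i ⬝ᵥ F₀ j = 0 := fun i j => by
    by_cases h : i = j
    · subst h; exact hEF₀ i
    · exact cross_eq_zero hd (hE₀ i) (hF₀ i) (hF₀ j) (hE₀ j) (hFE₀ j) (hEF₀ i) (hdeg i)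
        (by rw [hswap]; exact hdeg j) (by rw [hswap]; exact horth i j h)
  -- orient each pair towards `z`
  have hsum : ∀ i, z ⬝ᵥ E₀ i + z ⬝ᵥ F₀ i = 1 := fun i => by
    rw [← dotProduct_add, ← ha₀, dotProduct_comm, haz]
  have hzor : ∀ i, z ⬝ᵥ E₀ i = 1 ∧ z ⬝ᵥ F₀ i = 0 ∨ z ⬝ᵥ E₀ i = 0 ∧ z ⬝ᵥ F₀ i = 1 := by
    have hb := (bessel E₀ F₀ oEE oFF oEF z).1
    have hn := self_nonneg (z - ∑ i, ((z ⬝ᵥ E₀ i) • E₀ i + (z ⬝ᵥ F₀ i) • F₀ i))
    rw [hb, hzz, Fin.sum_univ_three] at hn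
    have h0 := one_le_sq_add (hsum 0)
    have h1 := one_le_sq_add (hsum 1)
    have h2 := one_le_sq_add (hsum 2)
    intro i
    refine small_pair (hsum i) ?_
    fin_cases i <;> simp <;> omega
  let Z : Fin 3 → I → ℤ := fun i => if z ⬝ᵥ E₀ i = 1 then E₀ i else F₀ i
  let F : Fin 3 → I → ℤ := fun i => if z ⬝ᵥ E₀ i = 1 then F₀ i else E₀ i
  have hZF : ∀ i, Z i + F i = a i ∧ IsU (Z i) ∧ IsU (F i) ∧ z ⬝ᵥ Z i = 1 ∧ z ⬝ᵥ F i = 0 := fun i => by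
    rcases hzor i with ⟨h1, h2⟩ | ⟨h1, h2⟩
    · simp [Z, F, h1, h2, hE₀ i, hF₀ i, ha₀ i]
    · simp [Z, F, h1, h2, hE₀ i, hF₀ i, ha₀ i, add_comm]
  have cZZ : ∀ i j, Z i ⬝ᵥ Z j = if i = j then 1 else 0 := fun i j => by
    by_cases h : i = j
    · subst h; rw [if_pos rfl]; exact (hZF i).2.1.self
    · rw [if_neg h]
      simp only [Z]
      split_ifs <;> simp [oEE, oFF, oEF, h, dotProduct_comm (F₀ i) (E₀ j)]
  have cFF : ∀ i j, F i ⬝ᵥ F j = if i = j then 1 else 0 := fun i j => by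
    by_cases h : i = j
    · subst h; rw [if_pos rfl]; exact (hZF i).2.2.1.self
    · rw [if_neg h]
      simp only [F]
      split_ifs <;> simp [oEE, oFF, oEF, h, dotProduct_comm (F₀ i) (E₀ j)]
  have cZF : ∀ i j, Z i ⬝ᵥ F j = 0 := fun i j => by
    by_cases h : i = j
    · subst h
      simp only [Z, F]
      split_ifs <;> simp [oEF, dotProduct_comm (F₀ i) (E₀ i)]
    · simp only [Z, F]
      split_ifs <;> simp [oEE, oFF, oEF, h, dotProduct_comm (F₀ i) (E₀ j)]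
  -- the remainder of `z`
  obtain ⟨hzr, hzrZ, hzrF⟩ := bessel Z F cZZ cFF cZF z
  set W := z - ∑ i, ((z ⬝ᵥ Z i) • Z i + (z ⬝ᵥ F i) • F i) with hW
  have hWW : W ⬝ᵥ W = 1 := by
    rw [hzr, hzz, Fin.sum_univ_three]
    simp [(hZF 0).2.2.2, (hZF 1).2.2.2, (hZF 2).2.2.2]
  have hzW : z = W + (Z 0 + Z 1 + Z 2) := by
    rw [hW, Fin.sum_univ_three]
    simp [(hZF 0).2.2.2, (hZF 1).2.2.2, (hZF 2).2.2.2]
  -- the decomposition of each `b i`
  have key : ∀ i, ∀ u v : Fin 3 → ℤ, (∀ j, u j = b i ⬝ᵥ Z j) → (∀ j, v j = b i ⬝ᵥ F j) →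
      u i = 0 ∧ v i = 0 ∧ (u (i + 1) = 1 ∧ v (i + 1) = 0 ∨ u (i + 1) = 0 ∧ v (i + 1) = 1) ∧
        (u (i + 2) = 1 ∧ v (i + 2) = 0 ∨ u (i + 2) = 0 ∧ v (i + 2) = 1) := by
    intro i u v hu hv
    have hs : ∀ j, u j + v j = if j = i then 0 else 1 := fun j => by
      rw [hu, hv, ← dotProduct_add, (hZF j).1, dotProduct_comm, hab]
    have hn := self_nonneg (b i - ∑ j, ((b i ⬝ᵥ Z j) • Z j + (b i ⬝ᵥ F j) • F j))
    rw [(bessel Z F cZZ cFF cZF (b i)).1, hbb, if_pos rfl, Fin.sum_univ_three] at hn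
    simp only [← hu, ← hv] at hn
    have h0 := hs 0
    have h1 := hs 1
    have h2 := hs 2
    fin_cases i <;> simp at h0 h1 h2 ⊢
    · have := one_le_sq_add h1; have := one_le_sq_add h2
      have hu0 : u 0 = 0 := by nlinarith
      refine ⟨hu0, by omega, small_pair h1 ?_, small_pair h2 ?_⟩ <;>
        nlinarith [mul_self_nonneg (u 0), mul_self_nonneg (v 0)]
    · have := one_le_sq_add h0; have := one_le_sq_add h2
      have hu0 : u 1 = 0 := by nlinarith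
      refine ⟨hu0, by omega, small_pair h2 ?_, small_pair h0 ?_⟩ <;>
        nlinarith [mul_self_nonneg (u 1), mul_self_nonneg (v 1)]
    · have := one_le_sq_add h0; have := one_le_sq_add h1
      have hu0 : u 2 = 0 := by nlinarith
      refine ⟨hu0, by omega, small_pair h0 ?_, small_pair h1 ?_⟩ <;>
        nlinarith [mul_self_nonneg (u 2), mul_self_nonneg (v 2)]
  let Y : Fin 3 → I → ℤ := fun i => b i - ∑ j, ((b i ⬝ᵥ Z j) • Z j + (b i ⬝ᵥ F j) • F j)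
  have hk : ∀ i, b i ⬝ᵥ Z i = 0 ∧ b i ⬝ᵥ F i = 0 ∧
      (b i ⬝ᵥ Z (i + 1) = 1 ∧ b i ⬝ᵥ F (i + 1) = 0 ∨ b i ⬝ᵥ Z (i + 1) = 0 ∧ b i ⬝ᵥ F (i + 1) = 1) ∧
      (b i ⬝ᵥ Z (i + 2) = 1 ∧ b i ⬝ᵥ F (i + 2) = 0 ∨ b i ⬝ᵥ Z (i + 2) = 0 ∧ b i ⬝ᵥ F (i + 2) = 1) :=
    fun i => key i _ _ (fun j => rfl) (fun j => rfl)
  have hYb : ∀ i, b i = Y i + ∑ j, ((b i ⬝ᵥ Z j) • Z j + (b i ⬝ᵥ F j) • F j) := fun i => by
    simp [Y]
  have hY : ∀ i, Y i ⬝ᵥ Y i = 1 ∧ (∀ j, Y i ⬝ᵥ Z j = 0) ∧ ∀ j, Y i ⬝ᵥ F j = 0 := fun i => by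
    obtain ⟨h1, h2, h3⟩ := bessel Z F cZZ cFF cZF (b i)
    refine ⟨?_, h2, h3⟩
    show (b i - _) ⬝ᵥ (b i - _) = 1
    rw [h1, hbb, if_pos rfl, Fin.sum_univ_three]
    obtain ⟨e1, e2, e3, e4⟩ := hk i
    fin_cases i <;> rcases e3 with ⟨a1, a2⟩ | ⟨a1, a2⟩ <;> rcases e4 with ⟨a3, a4⟩ | ⟨a3, a4⟩ <;>
      simp at e1 e2 a1 a2 a3 a4 ⊢ <;> simp [e1, e2, a1, a2, a3, a4]
  -- the inner product with the remainder of `z`
  have hYW : ∀ i, Y i ⬝ᵥ W = 2 - (b i ⬝ᵥ Z 0 + b i ⬝ᵥ Z 1 + b i ⬝ᵥ Z 2) := fun i => by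
    have h1 : Y i ⬝ᵥ z = Y i ⬝ᵥ W := by
      rw [hzW]
      simp [dotProduct_add, (hY i).2.1]
    rw [← h1]
    show (b i - _) ⬝ᵥ z = _
    rw [sub_dotProduct, dotProduct_comm, hzb, Fin.sum_univ_three]
    simp only [add_dotProduct, smul_dotProduct, smul_eq_mul, dotProduct_comm (Z _) z,
      dotProduct_comm (F _) z, (hZF 0).2.2.2, (hZF 1).2.2.2, (hZF 2).2.2.2]
    ring
  have hstd : ∀ i, b i ⬝ᵥ Z i = 0 ∧ b i ⬝ᵥ Z (i + 1) = 1 ∧ b i ⬝ᵥ Z (i + 2) = 1 ∧ b i ⬝ᵥ F i = 0 ∧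
      b i ⬝ᵥ F (i + 1) = 0 ∧ b i ⬝ᵥ F (i + 2) = 0 := by
    -- a remainder equal to `W` when the pattern is not standard
    have hW1 : ∀ i, b i ⬝ᵥ Z 0 + b i ⬝ᵥ Z 1 + b i ⬝ᵥ Z 2 ≤ 1 → Y i = W ∧
        b i ⬝ᵥ Z 0 + b i ⬝ᵥ Z 1 + b i ⬝ᵥ Z 2 = 1 := fun i h => by
      have h1 := dot_le_one (hY i).1 hWW
      rw [hYW] at h1
      refine ⟨sub_eq_zero.mp (eq_zero_of_self ?_), by omega⟩
      simp only [sub_dotProduct, dotProduct_sub, (hY i).1, hWW, dotProduct_comm W, hYW]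
      omega
    have hbv : ∀ i j, i ≠ j → ∑ k, ((b i ⬝ᵥ Z k) * (b j ⬝ᵥ Z k) + (b i ⬝ᵥ F k) * (b j ⬝ᵥ F k)) +
        Y i ⬝ᵥ Y j = 1 := fun i j hij => by
      have h1 : b i ⬝ᵥ b j = 1 := by rw [hbb, if_neg hij]
      have h2 : b i ⬝ᵥ Y j = Y i ⬝ᵥ Y j := by
        conv_lhs => rw [hYb i]
        simp only [add_dotProduct, sum_dotProduct, smul_dotProduct, smul_eq_mul,
          dotProduct_comm (Z _) (Y j), dotProduct_comm (F _) (Y j), (hY j).2.1, (hY j).2.2, mul_zero,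
          add_zero, Finset.sum_const_zero]
      have h3 : b i ⬝ᵥ b j = b i ⬝ᵥ Y j +
          ∑ k, ((b i ⬝ᵥ Z k) * (b j ⬝ᵥ Z k) + (b i ⬝ᵥ F k) * (b j ⬝ᵥ F k)) := by
        conv_lhs => rw [hYb j]
        simp only [dotProduct_add, dotProduct_sum, dotProduct_smul, smul_eq_mul, mul_comm]
      rw [h1, h2] at h3
      omega
    have hdb : ∀ i, Y i ⬝ᵥ d + ∑ k, ((b i ⬝ᵥ Z k) * (Z k ⬝ᵥ d) + (b i ⬝ᵥ F k) * (F k ⬝ᵥ d)) = 0 :=
      fun i => by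
      have := hbd i
      rw [hYb i] at this
      simpa only [add_dotProduct, sum_dotProduct, smul_dotProduct, smul_eq_mul] using this
    have hzd' : W ⬝ᵥ d + (Z 0 ⬝ᵥ d + Z 1 ⬝ᵥ d + Z 2 ⬝ᵥ d) = 1 := by
      rw [← add_dotProduct, ← add_dotProduct, ← add_dotProduct, ← hzW, hzd]
    have hFd : ∀ k, Z k ⬝ᵥ d + F k ⬝ᵥ d = 1 := fun k => by
      rw [← add_dotProduct, (hZF k).1, had]
    have hWY : ∀ i, Y i = W → ∀ j, Y i ⬝ᵥ Y j = 2 - (b j ⬝ᵥ Z 0 + b j ⬝ᵥ Z 1 + b j ⬝ᵥ Z 2) :=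
      fun i h j => by rw [h, dotProduct_comm, hYW]
    have c01 := hbv 0 1 (by decide)
    have c02 := hbv 0 2 (by decide)
    have c12 := hbv 1 2 (by decide)
    simp only [Fin.sum_univ_three] at c01 c02 c12 hdb
    obtain ⟨k0, l0, m0, n0⟩ := hk 0
    obtain ⟨k1, l1, m1, n1⟩ := hk 1
    obtain ⟨k2, l2, m2, n2⟩ := hk 2
    simp only [show (0 : Fin 3) + 1 = 1 from rfl, show (0 : Fin 3) + 2 = 2 from rfl,
      show (1 : Fin 3) + 1 = 2 from rfl, show (1 : Fin 3) + 2 = 0 from rfl,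
      show (2 : Fin 3) + 1 = 0 from rfl, show (2 : Fin 3) + 2 = 1 from rfl] at m0 n0 m1 n1 m2 n2
    -- a non-standard pattern meets another one only in a prescribed way
    have hmix : ∀ i j, Y i = W → Y i ⬝ᵥ Y j = 2 - (b j ⬝ᵥ Z 0 + b j ⬝ᵥ Z 1 + b j ⬝ᵥ Z 2) :=
      fun i j h => hWY i h j
    have hmix' : ∀ i j, Y j = W → Y i ⬝ᵥ Y j = 2 - (b i ⬝ᵥ Z 0 + b i ⬝ᵥ Z 1 + b i ⬝ᵥ Z 2) :=
      fun i j h => by rw [dotProduct_comm]; exact hWY j h i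
    obtain ⟨p0, p0', P0⟩ := bool_of m0
    obtain ⟨q0, q0', Q0⟩ := bool_of n0
    obtain ⟨p1, p1', P1⟩ := bool_of m1
    obtain ⟨q1, q1', Q1⟩ := bool_of n1
    obtain ⟨p2, p2', P2⟩ := bool_of m2
    obtain ⟨q2, q2', Q2⟩ := bool_of n2
    simp only [k0, l0, P0, p0', Q0, q0', k1, l1, P1, p1', Q1, q1', k2, l2, P2, p2', Q2, q2']
      at c01 c02 c12 hdb
    have hY0 : ¬ (p0 ∧ q0) → Y 0 = W ∧ (bi p0 + bi q0 = 1) := fun h => by
      have := hW1 0 (by rw [k0, P0, Q0]; linarith [bi_le h])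
      rw [k0, P0, Q0] at this
      exact ⟨this.1, by linarith [this.2]⟩
    have hY1 : ¬ (p1 ∧ q1) → Y 1 = W ∧ (bi p1 + bi q1 = 1) := fun h => by
      have := hW1 1 (by rw [k1, P1, Q1]; linarith [bi_le h])
      rw [k1, P1, Q1] at this
      exact ⟨this.1, by linarith [this.2]⟩
    have hY2 : ¬ (p2 ∧ q2) → Y 2 = W ∧ (bi p2 + bi q2 = 1) := fun h => by
      have := hW1 2 (by rw [k2, P2, Q2]; linarith [bi_le h])
      rw [k2, P2, Q2] at this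
      exact ⟨this.1, by linarith [this.2]⟩
    have t01 : com q0 p1 + Y 0 ⬝ᵥ Y 1 = 1 := by rw [com_eq]; linarith [c01]
    have t02 : com p0 q2 + Y 0 ⬝ᵥ Y 2 = 1 := by rw [com_eq]; linarith [c02]
    have t12 : com q1 p2 + Y 1 ⬝ᵥ Y 2 = 1 := by rw [com_eq]; linarith [c12]
    have r01 : ¬ (p0 ∧ q0) → Y 0 ⬝ᵥ Y 1 = 2 - (bi p1 + bi q1) := fun h => by
      rw [hmix 0 1 (hY0 h).1, k1, P1, Q1]; ring
    have r01' : ¬ (p1 ∧ q1) → Y 0 ⬝ᵥ Y 1 = 2 - (bi p0 + bi q0) := fun h => by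
      rw [hmix' 0 1 (hY1 h).1, k0, P0, Q0]; ring
    have r02 : ¬ (p0 ∧ q0) → Y 0 ⬝ᵥ Y 2 = 2 - (bi p2 + bi q2) := fun h => by
      rw [hmix 0 2 (hY0 h).1, k2, P2, Q2]; ring
    have r02' : ¬ (p2 ∧ q2) → Y 0 ⬝ᵥ Y 2 = 2 - (bi p0 + bi q0) := fun h => by
      rw [hmix' 0 2 (hY2 h).1, k0, P0, Q0]; ring
    have r12 : ¬ (p1 ∧ q1) → Y 1 ⬝ᵥ Y 2 = 2 - (bi p2 + bi q2) := fun h => by
      rw [hmix 1 2 (hY1 h).1, k2, P2, Q2]; ring
    have r12' : ¬ (p2 ∧ q2) → Y 1 ⬝ᵥ Y 2 = 2 - (bi p1 + bi q1) := fun h => by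
      rw [hmix' 1 2 (hY2 h).1, k1, P1, Q1]; ring
    have hpat := pattern p0 q0 p1 q1 p2 q2
      ⟨fun h => (hY0 h).2, fun h => (hY1 h).2, fun h => (hY2 h).2⟩
      ⟨fun h => by have := r01 h; linarith, fun h => by have := r01' h; linarith⟩
      ⟨fun h => by have := r02 h; linarith, fun h => by have := r02' h; linarith⟩
      ⟨fun h => by have := r12 h; linarith, fun h => by have := r12' h; linarith⟩
    rcases hpat with ⟨rfl, rfl, rfl, rfl, rfl, rfl⟩ | ⟨rfl, rfl, rfl, rfl, rfl, rfl⟩ | ⟨rfl, rfl, rfl, rfl, rfl, rfl⟩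
    · intro i
      fin_cases i <;> simp [k0, l0, k1, l1, k2, l2, P0, p0', Q0, q0', P1, p1', Q1, q1', P2, p2', Q2, q2', bi]
    all_goals
      exfalso
      have d0 := hdb 0
      have d1 := hdb 1
      have d2 := hdb 2
      simp [k0, l0, k1, l1, k2, l2, P0, p0', Q0, q0', P1, p1', Q1, q1', P2, p2', Q2, q2', bi,
        (hY0 (by simp)).1, (hY1 (by simp)).1, (hY2 (by simp)).1] at d0 d1 d2
      have := hFd 0
      have := hFd 1
      have := hFd 2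
      omega
  refine ⟨fun i => -Z i, F, Y, W, fun i => ?_, fun i => (hZF i).2.2.1,
    fun i => isU_of_self (hY i).1, isU_of_self hWW, fun i => ?_, fun i => ?_, ?_, fun i j => ?_,
    fun i => ?_⟩
  · exact isU_of_self (by simp [(hZF i).2.1.self])
  · show a i = F i - -Z i
    rw [← (hZF i).1, sub_neg_eq_add, add_comm]
  · obtain ⟨e1, e2, e3, e4, e5, e6⟩ := hstd i
    conv_lhs => rw [hYb i, Fin.sum_univ_three]
    fin_cases i <;> simp at e1 e2 e3 e4 e5 e6 ⊢ <;> simp [e1, e2, e3, e4, e5, e6] <;> abel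
  · show z = W - (-Z 0 + -Z 1 + -Z 2)
    rw [hzW]
    funext x
    simp only [Pi.add_apply, Pi.sub_apply, Pi.neg_apply]
    ring
  · rw [← (hZF i).1, add_dotProduct, dotProduct_neg, dotProduct_neg, cZZ, dotProduct_comm (F i), cZF]
    split_ifs <;> simp
  · obtain ⟨x, s, hs, hx⟩ := (hZF i).2.1
    obtain ⟨y, t, ht, hy⟩ := (hZF i).2.2.1
    have h0 := hao i
    rw [← (hZF i).1, Pi.add_apply, hx, hy] at h0
    have hxy := cZF i i
    rw [hx, hy, single_dotProduct] at hxy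
    show -(Z i o) = 0
    rw [hx]
    by_cases h : o = x
    · subst h
      by_cases h' : o = y
      · subst h'; simp at hxy; omega
      · simp [Pi.single_eq_of_ne h'] at h0; omega
    · simp [Pi.single_eq_of_ne h]

end Cfsg.Agent.Lib.KnownA.O108
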