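import Cfsg.Agent.Lib.KnownA.Order108Model
import Cfsg.Agent.Lib.KnownA.Order108Vec
import Cfsg.Agent.Lib.KnownA.Order108Algebra
import Cfsg.Agent.Lib.Characters.TI
import Cfsg.Agent.Lib.Characters.Convolution
import Cfsg.Agent.Lib.Characters.Perm

/-!
Exceptional characters for a self-normalizing subgroup of order 108 controlling the centralizers
of its elements of order three.
-/

set_option linter.unusedSectionVars false
set_option linter.style.haveILetI false

namespace Cfsg.Agent.Lib.KnownA.O108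

open Cfsg.Agent.Lib.Characters
open scoped ComplexConjugate
attribute [local instance] Classical.propDecidable

universe u v

/-- The hypotheses of the configuration. -/
structure Setup (G : Type u) [Group G] where
  H : Subgroup G
  T : Subgroup G
  eqv : ↥E ≃* ↥H
  hTH : T ≤ H
  cardT : Nat.card T = 27
  hN : Subgroup.normalizer (T : Set G) = H
  hC : ∀ t ∈ T, t ≠ 1 → Subgroup.centralizer ({t} : Set G) ≤ H

theorem e_conj (i : Fin 3) : ∀ a b : M, e i (a * b * a⁻¹) = e i b := by
  intro a b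
  have h : ∀ x y : D3, eps (x * y * x⁻¹) = eps y := by decide +kernel
  fin_cases i <;> exact h _ _

theorem t_conj (i : Fin 3) (a b : M) : t i (a * b * a⁻¹) = t i b := by
  fin_cases i <;> exact th_conj _ _

theorem al_conj (i : Fin 3) (a b : M) : al i (a * b * a⁻¹) = al i b := by simp [al, e_conj, t_conj]
theorem be_conj (i : Fin 3) (a b : M) : be i (a * b * a⁻¹) = be i b := by simp [be, e_conj, t_conj]
theorem ze_conj (a b : M) : ze (a * b * a⁻¹) = ze b := by simp [ze, e_conj, t_conj]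

/-- The seven auxiliary functions. -/
inductive IsAux : (M → ℤ) → Prop
  | al (i : Fin 3) : IsAux (al i)
  | be (i : Fin 3) : IsAux (be i)
  | ze : IsAux ze

theorem IsAux.conj {f : M → ℤ} (h : IsAux f) (a b : M) : f (a * b * a⁻¹) = f b := by
  cases h
  · exact al_conj _ _ _
  · exact be_conj _ _ _
  · exact ze_conj _ _

theorem IsAux.vanish {f : M → ℤ} (h : IsAux f) (m : M) (h1 : ev m = 1) (h2 : m * m = 1) : f m = 0 := by
  cases h
  · exact al_vanish _ _ h1 h2
  · exact be_vanish _ _ h1 h2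
  · exact ze_vanish _ h1 h2

variable {G : Type u} [Group G] (S : Setup G)

/-- The element of `H` with given coordinates. -/
def Setup.ι : ↥E →* G := S.H.subtype.comp S.eqv.toMonoidHom

theorem Setup.ι_injective : Function.Injective S.ι :=
  S.H.subtype_injective.comp S.eqv.injective

theorem Setup.ι_mem (m : ↥E) : S.ι m ∈ S.H := (S.eqv m).2

theorem Setup.exists_ι {h : G} (hh : h ∈ S.H) : ∃ m, S.ι m = h :=
  ⟨S.eqv.symm ⟨h, hh⟩, by simp [Setup.ι]⟩

theorem Setup.pow_six {h : G} (hh : h ∈ S.H) : h ^ 6 = 1 := by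
  obtain ⟨m, rfl⟩ := S.exists_ι hh
  rw [← map_pow, show m ^ 6 = 1 from Subtype.ext (O108.pow_six m.1), map_one]

theorem Setup.pow_three_of_mem {t : G} (ht : t ∈ S.T) : t ^ 3 = 1 := by
  have h27 : t ^ 27 = 1 := by
    have h : (⟨t, ht⟩ : ↥S.T) ^ Nat.card ↥S.T = 1 := pow_card_eq_one'
    rw [S.cardT] at h
    exact congrArg Subtype.val h
  have h6 := S.pow_six (S.hTH ht)
  have h24 : t ^ 24 = 1 := by rw [show 24 = 6 * 4 from rfl, pow_mul, h6, one_pow]
  calc t ^ 3 = t ^ 24 * t ^ 3 := by rw [h24, one_mul]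
    _ = 1 := by rw [← pow_add, h27]

theorem Setup.mem_T_of_cube {h : G} (hh : h ∈ S.H) (h3 : h ^ 3 = 1) : h ∈ S.T := by
  obtain ⟨m, rfl⟩ := S.exists_ι hh
  have hm3 : m ^ 3 = 1 := S.ι_injective (by rw [map_pow, map_one, h3])
  -- the elements of cube one form a subgroup of order at most 27 containing `T`
  have hsub : ∀ t ∈ S.T, ∃ y : ↥E, S.ι y = t ∧ e 0 y.1 = 1 ∧ e 1 y.1 = 1 ∧ e 2 y.1 = 1 := fun t ht => by
    obtain ⟨y, rfl⟩ := S.exists_ι (S.hTH ht)
    refine ⟨y, rfl, (cube_eq_one_iff y.1).mp ?_⟩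
    have : y ^ 3 = 1 := S.ι_injective (by rw [map_pow, map_one, S.pow_three_of_mem ht])
    exact congrArg Subtype.val this
  choose f hf hf' using hsub
  let R : Finset M := Finset.univ.filter fun x => e 0 x = 1 ∧ e 1 x = 1 ∧ e 2 x = 1
  have hR : R.card = 27 := by decide +kernel
  haveI : Finite ↥S.T := Nat.finite_of_card_ne_zero (by rw [S.cardT]; norm_num)
  haveI := Fintype.ofFinite ↥S.T
  let F : ↥S.T → {x : M // x ∈ R} := fun t => ⟨(f t.1 t.2).1, by simp [R, hf' t.1 t.2]⟩
  have hF : Function.Injective F := fun s t h => by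
    apply Subtype.ext
    rw [← hf s.1 s.2, ← hf t.1 t.2]
    exact congrArg S.ι (Subtype.ext (congrArg (fun z : {x : M // x ∈ R} => z.1) h))
  have hFb : Function.Bijective F := (Fintype.bijective_iff_injective_and_card F).mpr
    ⟨hF, by rw [Fintype.card_coe, hR, ← Nat.card_eq_fintype_card, S.cardT]⟩
  obtain ⟨t, ht⟩ := hFb.2 ⟨m.1, by
    simp only [R, Finset.mem_filter, Finset.mem_univ, true_and]
    exact (cube_eq_one_iff m.1).mp (congrArg Subtype.val hm3)⟩
  have : f t.1 t.2 = m := Subtype.ext (congrArg (fun z : {x : M // x ∈ R} => z.1) ht)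
  rw [← this, hf]
  exact t.2

theorem Setup.commute_T {a b : G} (ha : a ∈ S.T) (hb : b ∈ S.T) : a * b = b * a := by
  obtain ⟨x, rfl⟩ := S.exists_ι (S.hTH ha)
  obtain ⟨y, rfl⟩ := S.exists_ι (S.hTH hb)
  rw [← map_mul, ← map_mul]
  refine congrArg _ (Subtype.ext (rot_comm ?_ ?_))
  · exact congrArg Subtype.val (S.ι_injective (by rw [map_pow, map_one, S.pow_three_of_mem ha]) : x ^ 3 = 1)
  · exact congrArg Subtype.val (S.ι_injective (by rw [map_pow, map_one, S.pow_three_of_mem hb]) : y ^ 3 = 1)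

/-- The special elements: those of `H` of order three or six. -/
def Setup.D : Set G := {g | g ∈ S.H ∧ g * g ≠ 1}

theorem Setup.ti {g r : G} (hg : g ∈ S.D) (hr : r * g * r⁻¹ ∈ S.D) : r ∈ S.H := by
  have key : ∀ {h : G}, h ∈ S.D → h * h ∈ S.T := fun {h} hh =>
    S.mem_T_of_cube (S.H.mul_mem hh.1 hh.1) (by rw [← pow_two, ← pow_mul]; exact S.pow_six hh.1)
  have h1 := key hg
  have h2 := key hr
  have hne : r * g * r⁻¹ * (r * g * r⁻¹) ≠ 1 := hr.2
  have hconj : r * (g * g) * r⁻¹ = r * g * r⁻¹ * (r * g * r⁻¹) := by group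
  -- the conjugate of `T` lies in `H`, hence in `T`
  have hsub : ∀ t ∈ S.T, r * t * r⁻¹ ∈ S.T := fun t ht => by
    have hH : r * t * r⁻¹ ∈ S.H := by
      refine S.hC _ h2 hne (Subgroup.mem_centralizer_singleton_iff.mpr ?_)
      rw [← hconj]
      calc r * t * r⁻¹ * (r * (g * g) * r⁻¹) = r * (t * (g * g)) * r⁻¹ := by group
        _ = r * (g * g * t) * r⁻¹ := by rw [S.commute_T ht h1]
        _ = r * (g * g) * r⁻¹ * (r * t * r⁻¹) := by group
    exact S.mem_T_of_cube hH (by rw [conj_pow, S.pow_three_of_mem ht]; group)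
  have hfin : Finite ↥S.T := Nat.finite_of_card_ne_zero (by rw [S.cardT]; norm_num)
  rw [← S.hN]
  have hinj : Function.Injective fun t : ↥S.T => (⟨r * t.1 * r⁻¹, hsub t.1 t.2⟩ : ↥S.T) :=
    fun a b h => Subtype.ext (by simpa using congrArg Subtype.val h)
  refine Subgroup.mem_normalizer_iff.mpr fun x => ⟨hsub x, fun hx => ?_⟩
  obtain ⟨t, ht⟩ := (Finite.injective_iff_surjective.mp hinj) ⟨_, hx⟩
  have : r * t.1 * r⁻¹ = r * x * r⁻¹ := congrArg Subtype.val ht
  rw [show x = t.1 by simpa using this.symm]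
  exact t.2

/-- A function on `M` as a function on `H`. -/
noncomputable def Setup.δ (f : M → ℤ) : ↥S.H → ℂ := fun h => (f (S.eqv.symm h).1 : ℂ)

theorem Setup.δ_eq (f : M → ℤ) (m : ↥E) : extendByZero S.H (S.δ f) (S.ι m) = (f m.1 : ℂ) := by
  rw [extendByZero_of_mem _ _ (S.ι_mem m)]
  simp [Setup.δ, Setup.ι]

theorem Setup.δ_class {f : M → ℤ} (hf : IsAux f) : IsClassFunction ↥S.H (S.δ f) := by
  intro g x
  simp [Setup.δ, hf.conj]

theorem Setup.δ_supp {f : M → ℤ} (hf : IsAux f) (x : ↥S.H) (hx : (x : G) ∉ S.D) : S.δ f x = 0 := by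
  have h2 : (x : G) * x = 1 := by
    by_contra h
    exact hx ⟨x.2, h⟩
  have h3 : (S.eqv.symm x).1 * (S.eqv.symm x).1 = 1 := by
    rw [← Subgroup.coe_mul, ← map_mul, show x * x = 1 from Subtype.ext h2, map_one]
    rfl
  simp [Setup.δ, hf.vanish _ (S.eqv.symm x).2 h3]

theorem eProp_int (i : Fin 3) : ∀ a b : M, e i (a * b) = e i a * e i b := by
  intro a b
  simp [e, co_mul, eps_mul]

/-- The linear character of the `i`-th block. -/
def eHom (i : Fin 3) : M →* ℂ where
  toFun m := (e i m : ℂ)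
  map_one' := by
    have : e i 1 = 1 := by fin_cases i <;> exact eps_one
    simp [this]
  map_mul' a b := by simp [eProp_int]

theorem isGen_e (i : Fin 3) : IsGeneralizedCharacter ↥S.H (S.δ (e i)) := by
  exact IsCharacter.isGeneralizedCharacter (IsIrrCharacter.isCharacter
    (isIrrCharacter_monoidHom ((eHom i).comp (E.subtype.comp S.eqv.symm.toMonoidHom))))

theorem isCharacter_fixed {K : Type v} [Group K] [Fintype K] (f : K →* Equiv.Perm (Fin 3)) :
    IsCharacter K (fun k => ((Finset.univ.filter fun x : Fin 3 => f k x = x).card : ℂ)) := by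
  letI : MulAction K (Fin 3) := MulAction.compHom (Fin 3) f
  have h := isCharacter_permChar (G := K) (Fin 3)
  convert h using 1
  funext k
  rw [Nat.cast_inj, ← Fintype.card_subtype, ← Nat.card_eq_fintype_card]
  rfl

/-- The projection to the `i`-th block. -/
def coHom (i : Fin 3) : M →* D3 where
  toFun := co i
  map_one' := by fin_cases i <;> rfl
  map_mul' := co_mul i

variable [Fintype G]

theorem isGen_one : IsGeneralizedCharacter ↥S.H (fun _ => (1 : ℂ)) :=
  IsCharacter.isGeneralizedCharacter isCharacter_one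

theorem isGen_t (i : Fin 3) : IsGeneralizedCharacter ↥S.H (S.δ (t i)) := by
  have hfix : ∀ d : D3, ((Finset.univ.filter fun x : Fin 3 => dPerm d x = x).card : ℤ) = th d + 1 := by
    decide +kernel
  have h := IsGeneralizedCharacter.sub (IsCharacter.isGeneralizedCharacter (isCharacter_fixed
    (dPerm.comp ((coHom i).comp (E.subtype.comp S.eqv.symm.toMonoidHom))))) (isGen_one S)
  convert h using 1
  funext x
  have := hfix (co i (S.eqv.symm x).1)
  simp only [Pi.sub_apply, Setup.δ, t]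
  rw [eq_sub_iff_add_eq, ← Int.cast_natCast]
  exact_mod_cast this.symm

theorem Setup.δ_gen {f : M → ℤ} (hf : IsAux f) : IsGeneralizedCharacter ↥S.H (S.δ f) := by
  cases hf with
  | al i =>
    convert IsGeneralizedCharacter.sub (IsGeneralizedCharacter.sub (isGen_t S i) (isGen_one S))
      (isGen_e S i) using 1
    funext x; simp [Setup.δ, al]
  | be i =>
    convert IsGeneralizedCharacter.sub (IsGeneralizedCharacter.sub
      (IsGeneralizedCharacter.mul (isGen_t S i) (isGen_e S (i + 1))) (isGen_e S (i + 1)))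
      (isGen_e S (i + 2)) using 1
    funext x; simp [Setup.δ, be]
  | ze =>
    convert IsGeneralizedCharacter.sub (IsGeneralizedCharacter.sub (IsGeneralizedCharacter.sub
      (IsGeneralizedCharacter.sub (IsGeneralizedCharacter.mul (isGen_t S 1) (isGen_t S 2)) (isGen_one S))
      (isGen_e S 0)) (isGen_e S 1)) (isGen_e S 2) using 1
    funext x; simp [Setup.δ, ze]

theorem Setup.sum_H (f : M → ℂ) :
    ∑ h : ↥S.H, f (S.eqv.symm h).1 = ∑ m : M, if ev m = 1 then f m else 0 := by
  rw [← Finset.sum_filter, Finset.sum_subtype (p := fun m => m ∈ E) _ (by simp [mem_E]) f]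
  exact Fintype.sum_equiv S.eqv.symm.toEquiv _ _ fun x => rfl

theorem Setup.card_H : Nat.card ↥S.H = 108 := by
  rw [← Nat.card_congr S.eqv.toEquiv, Nat.card_eq_fintype_card]
  rw [Fintype.card_of_subtype (Finset.univ.filter fun m : M => ev m = 1) (by simp [mem_E])]
  decide +kernel

theorem Setup.inner_δ (f g : M → ℤ) : classInner (S.δ f) (S.δ g) = (ip f g : ℂ) / 108 := by
  unfold classInner
  rw [S.card_H]
  simp only [Setup.δ, map_intCast]
  rw [S.sum_H (fun m => (f m : ℂ) * (g m : ℂ))]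
  simp only [ip, Int.cast_sum, apply_ite (Int.cast : ℤ → ℂ), Int.cast_mul, Int.cast_zero,
    Nat.cast_ofNat]
  ring

/-- The induced generalized character. -/
noncomputable def Setup.δG (f : M → ℤ) : G → ℂ := indFun S.H (S.δ f)

theorem Setup.inner_δG {f g : M → ℤ} (hg : IsAux g) (hf : IsAux f) :
    classInner (S.δG f) (S.δG g) = (ip f g : ℂ) / 108 := by
  rw [← S.inner_δ]
  refine classInner_indFun_indFun_eq S.H S.D (S.δ_class hg) (S.δ_supp hg) fun t ht x hx h => ?_
  have htD : (t : G) ∈ S.D := by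
    by_contra hc
    exact ht (S.δ_supp hf t hc)
  exact hx (by simpa using S.H.inv_mem (S.ti htD (r := x⁻¹) (by simpa using h)))

theorem Setup.δG_eq_zero {f : M → ℤ} (hf : IsAux f) {u : G} (hu : u * u = 1) : S.δG f u = 0 := by
  rw [Setup.δG, indFun_apply, Finset.sum_eq_zero, mul_zero]
  intro x _
  by_cases hm : x⁻¹ * u * x ∈ S.H
  · rw [extendByZero_of_mem _ _ hm]
    refine S.δ_supp hf _ fun hD => hD.2 ?_
    show x⁻¹ * u * x * (x⁻¹ * u * x) = 1
    rw [show x⁻¹ * u * x * (x⁻¹ * u * x) = x⁻¹ * (u * u) * x by group, hu]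
    group
  · rw [extendByZero_of_not_mem _ _ hm]

/-- The representative of the `i`-th class of involutions. -/
def Setup.u (i : Fin 3) : G := S.ι ⟨cl i 0, ev_cl i 0⟩

theorem Setup.u_sq (i : Fin 3) : S.u i * S.u i = 1 := by
  rw [Setup.u, ← map_mul, show (⟨cl i 0, ev_cl i 0⟩ : ↥E) * ⟨cl i 0, ev_cl i 0⟩ = 1 from
    Subtype.ext (cl_sq i 0), map_one]

theorem Setup.u_ne_one (i : Fin 3) : S.u i ≠ 1 := by
  rw [Setup.u, ← map_one S.ι]
  exact fun h => cl_ne_one i 0 (congrArg Subtype.val (S.ι_injective h))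

/-- The parametrised involutions of `H`. -/
def Setup.inv (k : Fin 3 × ZMod 3 × ZMod 3) : G := S.ι ⟨cl k.1 k.2, ev_cl k.1 k.2⟩

theorem Setup.inv_injective : Function.Injective S.inv := fun a b h => by
  obtain ⟨h1, h2⟩ := cl_injective _ _ _ _ (congrArg Subtype.val (S.ι_injective h))
  exact Prod.ext h1 h2

theorem Setup.isConj_inv (k : Fin 3 × ZMod 3 × ZMod 3) : IsConj (S.u k.1) (S.inv k) :=
  isConj_iff.mpr ⟨S.ι ⟨rot k.1 k.2, ev_rot _ _⟩, by
    rw [Setup.u, ← map_inv, ← map_mul, ← map_mul, Setup.inv]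
    exact congrArg _ (Subtype.ext (cl_conj k.1 k.2))⟩

theorem Setup.indicator_inv (a : G) (k : Fin 3 × ZMod 3 × ZMod 3) :
    classIndicator a (S.inv k) = if IsConj a (S.u k.1) then (1 : ℂ) else 0 := by
  unfold classIndicator
  by_cases h : IsConj a (S.u k.1)
  · rw [if_pos h, if_pos (h.trans (S.isConj_inv k))]
  · rw [if_neg h, if_neg fun h' => h (h'.trans (S.isConj_inv k).symm)]

theorem Setup.mem_range_inv {y : G} (hy : y ∈ S.H) (h2 : y * y = 1) (h1 : y ≠ 1) :
    y ∈ Set.range S.inv := by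
  obtain ⟨m, rfl⟩ := S.exists_ι hy
  have hm : m * m = 1 := S.ι_injective (by rw [map_mul, h2, map_one])
  have hm1 : m ≠ 1 := fun h => h1 (by rw [h, map_one])
  obtain ⟨i, p, hp⟩ := exists_cl m.1 m.2 (congrArg Subtype.val hm) (fun h => hm1 (Subtype.ext h))
  exact ⟨(i, p), congrArg S.ι (Subtype.ext hp.symm)⟩

/-- The local structure constant. -/
noncomputable def Setup.count (a : G) (f : M → ℤ) : ℂ :=
  ∑ i : Fin 3, ∑ j : Fin 3, (if IsConj a (S.u i) then (1 : ℂ) else 0) *
    (if IsConj a (S.u j) then (1 : ℂ) else 0) * ((∑ p, ∑ q, f (cl i p * cl j q) : ℤ) : ℂ)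

theorem Setup.sum_pairs {a : G} (ha : a * a = 1) (ha1 : a ≠ 1) {f : M → ℤ} (hf : IsAux f) :
    ∑ y : G, classIndicator a y * ∑ z : G, classIndicator a z * extendByZero S.H (S.δ f) (y * z) =
      S.count a f := by
  have hinvol : ∀ y : G, classIndicator a y ≠ 0 → y * y = 1 ∧ y ≠ 1 := fun y hy => by
    unfold classIndicator at hy
    split_ifs at hy with h
    · obtain ⟨c, rfl⟩ := isConj_iff.mp h
      exact ⟨by rw [show c * a * c⁻¹ * (c * a * c⁻¹) = c * (a * a) * c⁻¹ by group, ha]; group,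
        fun h' => ha1 (by simpa using h')⟩
    · exact absurd rfl hy
  have hboth : ∀ y z : G, classIndicator a y ≠ 0 → classIndicator a z ≠ 0 →
      extendByZero S.H (S.δ f) (y * z) ≠ 0 → y ∈ Set.range S.inv ∧ z ∈ Set.range S.inv := by
    intro y z hy hz h
    obtain ⟨hy2, hy1⟩ := hinvol y hy
    obtain ⟨hz2, hz1⟩ := hinvol z hz
    have hyzH : y * z ∈ S.H := by
      by_contra hc
      exact h (extendByZero_of_not_mem _ _ hc)
    rw [extendByZero_of_mem _ _ hyzH] at h
    have hD : y * z ∈ S.D := by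
      by_contra hc
      exact h (S.δ_supp hf ⟨_, hyzH⟩ hc)
    have hyi : y⁻¹ = y := inv_eq_of_mul_eq_one_right hy2
    have hzi : z⁻¹ = z := inv_eq_of_mul_eq_one_right hz2
    have hyH : y ∈ S.H := by
      refine S.ti hD ?_
      have e1 : y * (y * z) * y⁻¹ = (y * z)⁻¹ := by
        rw [← mul_assoc y y z, hy2, one_mul, mul_inv_rev, hzi, hyi]
      rw [e1]
      refine ⟨S.H.inv_mem hyzH, fun h' => hD.2 ?_⟩
      rw [← mul_inv_rev] at h'
      exact inv_eq_one.mp h'
    refine ⟨S.mem_range_inv hyH hy2 hy1, S.mem_range_inv ?_ hz2 hz1⟩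
    simpa using S.H.mul_mem (S.H.inv_mem hyH) hyzH
  rw [← Fintype.sum_of_injective S.inv S.inv_injective
    (fun k => classIndicator a (S.inv k) *
      ∑ z : G, classIndicator a z * extendByZero S.H (S.δ f) (S.inv k * z)) _ ?_ fun k => rfl]
  swap
  · intro y hy
    by_contra hne
    obtain ⟨hne1, hne2⟩ := mul_ne_zero_iff.mp hne
    obtain ⟨z, -, hz⟩ := Finset.exists_ne_zero_of_sum_ne_zero hne2
    exact hy (hboth y z hne1 (left_ne_zero_of_mul hz) (right_ne_zero_of_mul hz)).1
  have hinner : ∀ k, ∑ z : G, classIndicator a z * extendByZero S.H (S.δ f) (S.inv k * z) *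
      classIndicator a (S.inv k) = ∑ l, classIndicator a (S.inv l) *
        extendByZero S.H (S.δ f) (S.inv k * S.inv l) * classIndicator a (S.inv k) := by
    intro k
    refine (Fintype.sum_of_injective S.inv S.inv_injective _ _ (fun z hz => ?_) fun l => rfl).symm
    by_contra hne
    have h1 := left_ne_zero_of_mul hne
    exact hz (hboth _ z (right_ne_zero_of_mul hne) (left_ne_zero_of_mul h1)
      (right_ne_zero_of_mul h1)).2
  have hk : ∀ k, classIndicator a (S.inv k) *
      ∑ z : G, classIndicator a z * extendByZero S.H (S.δ f) (S.inv k * z) =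
      ∑ l, classIndicator a (S.inv l) * extendByZero S.H (S.δ f) (S.inv k * S.inv l) *
        classIndicator a (S.inv k) := fun k => by
    rw [mul_comm, Finset.sum_mul]
    exact hinner k
  rw [Finset.sum_congr rfl fun k _ => hk k]
  rw [Fintype.sum_prod_type, Setup.count]
  refine Finset.sum_congr rfl fun i _ => ?_
  rw [Finset.sum_congr rfl fun p _ => Fintype.sum_prod_type _, Finset.sum_comm]
  refine Finset.sum_congr rfl fun j _ => ?_
  simp only [S.indicator_inv, Int.cast_sum, Finset.mul_sum]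
  refine Finset.sum_congr rfl fun p _ => Finset.sum_congr rfl fun q _ => ?_
  simp only [Setup.inv, ← map_mul, S.δ_eq]
  show _ * ((f (cl i p * cl j q) : ℤ) : ℂ) * _ = _
  ring

end Cfsg.Agent.Lib.KnownA.O108
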