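import Cfsg.Agent.Lib.KnownA.Order108Group

/-!
The three non-principal linear characters of a group with the order 108 configuration.
-/

set_option linter.unusedSectionVars false
set_option linter.style.haveILetI false

namespace Cfsg.Agent.Lib.KnownA.O108

open Cfsg.Agent.Lib.Characters
open scoped ComplexConjugate
attribute [local instance] Classical.propDecidable

universe u

variable {G : Type u} [Group G] [Fintype G] [Fintype (IrrCharacter G)]

/-- The linear functional on coefficient vectors given by `φ`. -/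
noncomputable def lin (φ : IrrCharacter G → ℂ) (v : IrrCharacter G → ℤ) : ℂ := ∑ χ, (v χ : ℂ) * φ χ

theorem lin_add (φ : IrrCharacter G → ℂ) (v w : IrrCharacter G → ℤ) :
    lin φ (v + w) = lin φ v + lin φ w := by
  simp [lin, add_mul, Finset.sum_add_distrib]

theorem lin_sub (φ : IrrCharacter G → ℂ) (v w : IrrCharacter G → ℤ) :
    lin φ (v - w) = lin φ v - lin φ w := by
  simp [lin, sub_mul, Finset.sum_sub_distrib]

theorem lin_single (φ : IrrCharacter G → ℂ) (x : IrrCharacter G) (s : ℤ) :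
    lin φ (Pi.single x s) = s * φ x := by
  rw [lin, Finset.sum_eq_single x (fun y _ h => by simp [Pi.single_eq_of_ne h])
    (fun h => absurd (Finset.mem_univ x) h), Pi.single_eq_same]

/-- Degree. -/
def degC (χ : IrrCharacter G) : ℂ := (χ : G → ℂ) 1
/-- Value. -/
def valC (a : G) (χ : IrrCharacter G) : ℂ := (χ : G → ℂ) a
/-- The class multiplication term. -/
noncomputable def quadC (a : G) (χ : IrrCharacter G) : ℂ := (χ : G → ℂ) a ^ 2 / (χ : G → ℂ) 1

theorem IsU.quad {v : IrrCharacter G → ℤ} (h : IsU v) (a : G) :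
    lin (quadC a) v = lin (valC a) v ^ 2 / lin degC v := by
  obtain ⟨x, s, hs, rfl⟩ := h
  simp only [lin_single, quadC, valC, degC]
  have := IsIrrCharacter.apply_one_ne_zero x.2
  rcases hs with rfl | rfl <;> push_cast <;> field_simp

theorem IsU.deg_ne {v : IrrCharacter G → ℤ} (h : IsU v) : lin degC v ≠ 0 := by
  obtain ⟨x, s, hs, rfl⟩ := h
  rw [lin_single]
  exact mul_ne_zero (by rcases hs with rfl | rfl <;> simp) (IsIrrCharacter.apply_one_ne_zero x.2)

variable (S : Setup G)

/-- The coefficients of the induced generalized character. -/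
noncomputable def coef (f : M → ℤ) : IrrCharacter G → ℤ :=
  if hf : IsAux f then
    Classical.choose (IsGeneralizedCharacter.exists_int_decomp
      (IsGeneralizedCharacter.indFun S.H (S.δ_gen hf)))
  else 0

theorem coef_spec {f : M → ℤ} (hf : IsAux f) :
    S.δG f = ∑ χ : IrrCharacter G, (coef S f χ : ℂ) • (χ : G → ℂ) ∧
      ∀ χ : IrrCharacter G, classInner (S.δG f) (χ : G → ℂ) = (coef S f χ : ℂ) := by
  rw [coef, dif_pos hf]
  exact Classical.choose_spec (IsGeneralizedCharacter.exists_int_decomp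
    (IsGeneralizedCharacter.indFun S.H (S.δ_gen hf)))

theorem coef_apply {f : M → ℤ} (hf : IsAux f) (χ : IrrCharacter G) :
    classInner (S.δ f) (fun h : ↥S.H => (χ : G → ℂ) h) = (coef S f χ : ℂ) := by
  rw [← (coef_spec S hf).2 χ, Setup.δG, classInner_indFun _ _ (irr_isClassFunction χ)]

theorem coef_dot {f g : M → ℤ} (hf : IsAux f) (hg : IsAux g) {k : ℤ} (h : ip f g = 108 * k) :
    coef S f ⬝ᵥ coef S g = k := by
  have h1 := S.inner_δG hg hf
  rw [classInner_eq_sum_irr (θ := S.δG f) (φ := S.δG g) (isClassFunction_indFun _ _)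
    (isClassFunction_indFun _ _), h] at h1
  simp only [(coef_spec S hf).2, (coef_spec S hg).2, map_intCast] at h1
  push_cast at h1
  rw [mul_div_cancel_left₀ _ (by norm_num : (108 : ℂ) ≠ 0)] at h1
  exact_mod_cast h1

theorem coef_triv {f : M → ℤ} (hf : IsAux f) {k : ℤ} (h : ip f (fun _ => 1) = 108 * k) :
    coef S f (trivIrr G) = k := by
  have h1 := coef_apply S hf (trivIrr G)
  have h2 := S.inner_δ f (fun _ => 1)
  rw [h] at h2
  push_cast at h2
  rw [mul_div_cancel_left₀ _ (by norm_num : (108 : ℂ) ≠ 0)] at h2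
  rw [show (fun h : ↥S.H => (trivIrr G : G → ℂ) h) = S.δ (fun _ => 1) by
    funext x; simp [Setup.δ]] at h1
  exact_mod_cast h1.symm.trans h2

theorem coef_val {f : M → ℤ} (hf : IsAux f) {a : G} (ha : a * a = 1) :
    lin (valC a) (coef S f) = 0 := by
  rw [← S.δG_eq_zero hf ha, (coef_spec S hf).1]
  simp [lin, valC, Finset.sum_apply]

theorem coef_deg {f : M → ℤ} (hf : IsAux f) : lin degC (coef S f) = 0 := by
  have := coef_val S hf (a := (1 : G)) (mul_one 1)
  exact this

/-- The class multiplication formula. -/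
theorem coef_quad {f : M → ℤ} (hf : IsAux f) {a : G} (ha : a * a = 1) (ha1 : a ≠ 1) :
    (Nat.card G : ℂ) * lin (quadC a) (coef S f) =
      (Nat.card (Subgroup.centralizer ({a} : Set G)) : ℂ) ^ 2 / 108 * S.count a f := by
  have h1 : ∑ g : G, S.δG f (a * (g * a * g⁻¹)) = (Nat.card G : ℂ) * lin (quadC a) (coef S f) := by
    rw [(coef_spec S hf).1]
    simp only [Finset.sum_apply, Pi.smul_apply, smul_eq_mul]
    rw [Finset.sum_comm, lin, Finset.mul_sum]
    refine Finset.sum_congr rfl fun χ _ => ?_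
    rw [← Finset.mul_sum, IsIrrCharacter.sum_conj_translate χ.2, quadC]
    ring
  rw [← h1]
  simp only [Setup.δG, indFun_apply, S.card_H, ← Finset.mul_sum]
  rw [Finset.sum_comm]
  have h2 : ∀ x : G, ∑ g : G, extendByZero S.H (S.δ f) (x⁻¹ * (a * (g * a * g⁻¹)) * x) =
      ∑ s : G, extendByZero S.H (S.δ f) (x⁻¹ * a * x * (s * a * s⁻¹)) := fun x =>
    Fintype.sum_equiv (Equiv.mulLeft x⁻¹) _ _ fun g => congrArg _ (by simp [mul_assoc])
  rw [Finset.sum_congr rfl fun x _ => h2 x]
  have h3 : ∀ F : G → ℂ, ∑ s : G, F (s * a * s⁻¹) =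
      (Nat.card (Subgroup.centralizer ({a} : Set G)) : ℂ) * ∑ y, classIndicator a y * F y := by
    intro F
    have hfib : ∀ y : G, ((Finset.univ.filter fun g : G => g * a * g⁻¹ = y).card : ℂ) =
        (Nat.card (Subgroup.centralizer ({a} : Set G)) : ℂ) * classIndicator a y := by
      intro y
      unfold classIndicator
      split_ifs with h
      · obtain ⟨c, rfl⟩ := isConj_iff.mp h
        rw [mul_one, Nat.card_eq_fintype_card, Nat.cast_inj, ← Fintype.card_subtype]
        refine Fintype.card_congr ((Equiv.mulLeft c⁻¹).subtypeEquiv fun g => ?_)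
        simp only [Equiv.coe_mulLeft, Subgroup.mem_centralizer_singleton_iff]
        constructor
        · intro hg
          calc c⁻¹ * g * a = c⁻¹ * (g * a * g⁻¹) * g := by group
            _ = c⁻¹ * (c * a * c⁻¹) * g := by rw [hg]
            _ = a * (c⁻¹ * g) := by group
        · intro hg
          calc g * a * g⁻¹ = c * (c⁻¹ * g * a) * g⁻¹ := by group
            _ = c * (a * (c⁻¹ * g)) * g⁻¹ := by rw [hg]
            _ = c * a * c⁻¹ := by group
      · rw [mul_zero, Nat.cast_eq_zero, Finset.card_eq_zero, Finset.filter_eq_empty_iff]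
        exact fun g _ hg => h (isConj_iff.mpr ⟨g, hg⟩)
    rw [← Finset.sum_fiberwise_of_maps_to (g := fun g : G => g * a * g⁻¹)
      (fun g _ => Finset.mem_univ _) (fun g => F (g * a * g⁻¹)), Finset.mul_sum]
    refine Finset.sum_congr rfl fun y _ => ?_
    rw [Finset.sum_congr rfl fun g hg => by rw [(Finset.mem_filter.mp hg).2], Finset.sum_const,
      nsmul_eq_mul, hfib]
    ring
  have h4 : ∀ F : G → ℂ, ∑ x : G, F (x⁻¹ * a * x) = ∑ s : G, F (s * a * s⁻¹) := fun F =>
    Fintype.sum_equiv (Equiv.inv G) _ _ fun x => by simp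
  let F : G → ℂ := fun w => ∑ s : G, extendByZero S.H (S.δ f) (w * (s * a * s⁻¹))
  have hF : ∑ x : G, ∑ s : G, extendByZero S.H (S.δ f) (x⁻¹ * a * x * (s * a * s⁻¹)) =
      (Nat.card (Subgroup.centralizer ({a} : Set G)) : ℂ) * ∑ y, classIndicator a y * F y :=
    (h4 F).trans (h3 F)
  have hin : ∀ y, F y = (Nat.card (Subgroup.centralizer ({a} : Set G)) : ℂ) *
      ∑ z, classIndicator a z * extendByZero S.H (S.δ f) (y * z) := fun y =>
    h3 fun w => extendByZero S.H (S.δ f) (y * w)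
  rw [hF, ← S.sum_pairs ha ha1 hf]
  simp only [hin]
  rw [Finset.mul_sum, Finset.mul_sum, Finset.mul_sum]
  exact Finset.sum_congr rfl fun y _ => by simp only [Nat.cast_ofNat]; ring

/-- The normalizing constant attached to an involution. -/
noncomputable def kap (a : G) : ℂ :=
  162 * ((Nat.card (Subgroup.centralizer ({a} : Set G)) : ℂ) ^ 2 / 108) / (Nat.card G : ℂ)

theorem kap_ne_zero (a : G) : kap a ≠ 0 := by
  unfold kap
  have h1 : (Nat.card G : ℂ) ≠ 0 := natCard_ne_zero_complex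
  have h2 : (Nat.card (Subgroup.centralizer ({a} : Set G)) : ℂ) ≠ 0 := by
    exact_mod_cast Nat.card_pos.ne'
  exact div_ne_zero (mul_ne_zero (by norm_num) (div_ne_zero (pow_ne_zero _ h2) (by norm_num))) h1

theorem coef_quad' {f : M → ℤ} (hf : IsAux f) {a : G} (ha : a * a = 1) (ha1 : a ≠ 1) :
    lin (quadC a) (coef S f) = kap a * (S.count a f / 162) := by
  have h := coef_quad S hf ha ha1
  have h1 : (Nat.card G : ℂ) ≠ 0 := natCard_ne_zero_complex
  unfold kap
  field_simp at h ⊢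
  linear_combination h

/-- Membership indicator. -/
noncomputable def mem (a : G) (i : Fin 3) : ℂ := if IsConj a (S.u i) then 1 else 0

theorem count_eq (a : G) (f : M → ℤ) : S.count a f = ∑ i : Fin 3, ∑ j : Fin 3,
    mem S a i * mem S a j * ((∑ p, ∑ q, f (cl i p * cl j q) : ℤ) : ℂ) := rfl

theorem count_al (a : G) (k : Fin 3) :
    S.count a (al k) / 162 = -(mem S a (k + 1) + mem S a (k + 2)) ^ 2 := by
  simp only [count_eq, Fin.sum_univ_three, sum_al]
  fin_cases k <;> simp <;> ring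

theorem count_be (a : G) (k : Fin 3) :
    S.count a (be k) / 162 = -(mem S a (k + 1) - mem S a (k + 2)) ^ 2 := by
  simp only [count_eq, Fin.sum_univ_three, sum_be]
  fin_cases k <;> simp <;> ring

theorem count_ze (a : G) :
    S.count a ze / 162 = -(2 * (mem S a 0 + mem S a 1 + mem S a 2)) := by
  have h : ∀ i, mem S a i * mem S a i = mem S a i := fun i => by unfold mem; split_ifs <;> simp
  simp only [count_eq, Fin.sum_univ_three, sum_ze]
  simp
  linear_combination (-2 : ℂ) * (h 0 + h 1 + h 2)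

theorem exists_hom {x : IrrCharacter G} (h : (x : G → ℂ) 1 = 1) :
    ∃ φ : G →* ℂ, ∀ g, φ g = (x : G → ℂ) g := by
  obtain ⟨φ, hφ⟩ := IsCharacter.exists_hom_of_apply_one (irr_isCharacter x) h
  exact ⟨(Units.coeHom ℂ).comp φ, fun g => by simp [hφ]⟩

/-- A linear character of `E` is determined by two involutions. -/
theorem hom_eq_of {μ ν : ↥E →* ℂ} (h0 : μ ⟨cl 0 0, ev_cl 0 0⟩ = ν ⟨cl 0 0, ev_cl 0 0⟩)
    (h1 : μ ⟨cl 1 0, ev_cl 1 0⟩ = ν ⟨cl 1 0, ev_cl 1 0⟩) : μ = ν := by
  have hcomm : ∀ (θ : ↥E →* ℂ) (x y : ↥E), θ (x * y * x⁻¹ * y⁻¹) = 1 := fun θ x y => by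
    rw [map_mul, map_mul, map_mul, mul_comm (θ x) (θ y), mul_assoc (θ y) (θ x), ← map_mul θ x,
      mul_inv_cancel, map_one, mul_one, ← map_mul, mul_inv_cancel, map_one]
  refine MonoidHom.ext fun m => ?_
  obtain ⟨f, hf, hf', e0, e1, e2⟩ := ev_split m.1 m.2
  let f' : ↥E := ⟨f, hf⟩
  have hrot : ∀ θ : ↥E →* ℂ, θ (m * f'⁻¹) = 1 := fun θ => by
    have he : ∀ i, e i (m * f'⁻¹ : ↥E).1 = 1 := by
      intro i
      have h1 : e i (m * f'⁻¹ : ↥E).1 * e i f = e i m.1 := by
        rw [← eProp_int]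
        simp [f']
      have h2 : e i f = e i m.1 := by fin_cases i <;> assumption
      have h3 : e i m.1 * e i m.1 = 1 := by
        unfold e; cases co i m.1 <;> simp [eps]
      rw [h2] at h1
      calc e i (m * f'⁻¹ : ↥E).1 = e i (m * f'⁻¹ : ↥E).1 * e i m.1 * e i m.1 := by
            rw [mul_assoc, h3, mul_one]
        _ = 1 := by rw [h1, h3]
    have hsplit := rot_split _ (he 0) (he 1) (he 2)
    obtain ⟨p1, p2⟩ := ev_rot_parts _ (he 0) (he 1) (he 2)
    rw [show (m * f'⁻¹ : ↥E) =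
      (⟨cl 1 0, ev_cl 1 0⟩ * ⟨_, p1⟩ * (⟨cl 1 0, ev_cl 1 0⟩ : ↥E)⁻¹ * (⟨_, p1⟩ : ↥E)⁻¹) *
      (⟨cl 0 0, ev_cl 0 0⟩ * ⟨_, p2⟩ * (⟨cl 0 0, ev_cl 0 0⟩ : ↥E)⁻¹ * (⟨_, p2⟩ : ↥E)⁻¹) from
      Subtype.ext hsplit, map_mul, hcomm, hcomm, one_mul]
  have hsplit : ∀ θ : ↥E →* ℂ, θ m = θ f' := fun θ => by
    conv_lhs => rw [← inv_mul_cancel_right m f', map_mul, hrot, one_mul]
  rw [hsplit, hsplit]
  rcases hf' with h | h | h | h
  · rw [show f' = 1 from Subtype.ext h, map_one, map_one]
  · rw [show f' = ⟨cl 0 0, ev_cl 0 0⟩ from Subtype.ext h, h0]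
  · rw [show f' = ⟨cl 1 0, ev_cl 1 0⟩ from Subtype.ext h, h1]
  · rw [show f' = ⟨cl 0 0, ev_cl 0 0⟩ * ⟨cl 1 0, ev_cl 1 0⟩ from Subtype.ext (h.trans cl_relation),
      map_mul, map_mul, h0, h1]

theorem classInner_linear {μ : ↥E →* ℂ} (i : Fin 3) (φ : G →* ℂ) (hφ : ∀ m : ↥E, φ (S.ι m) = μ m)
    (g : M → ℤ) (hg : ∀ m : ↥E, μ m = (g m.1 : ℂ)) :
    classInner (S.δ (al i)) (fun h : ↥S.H => φ h) = (ip (al i) g : ℂ) / 108 := by
  rw [← S.inner_δ]
  refine congrArg _ (funext fun h => ?_)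
  have := hφ (S.eqv.symm h)
  simp [Setup.ι] at this
  rw [this, hg]
  rfl

theorem e_cl : ∀ i j : Fin 3, e i (cl j 0) = if i = j then 1 else -1 := by decide +kernel

theorem exists_linear (k : Fin 3) :
    ∃ φ : G →* ℂ, ∀ m : ↥E, φ (S.ι m) = (e k m.1 : ℂ) := by
  let o := trivIrr G
  choose dn hdn0 hdn using fun χ : IrrCharacter G => IsIrrCharacter.exists_apply_one χ.2
  let d : IrrCharacter G → ℤ := fun χ => (dn χ : ℤ)
  have hd : ∀ χ, d χ ≠ 0 := fun χ => Int.natCast_ne_zero.mpr (hdn0 χ).ne'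
  have hdot : ∀ v : IrrCharacter G → ℤ, ((v ⬝ᵥ d : ℤ) : ℂ) = lin degC v := fun v => by
    simp [dotProduct, lin, degC, d, hdn]
  have hdo : lin degC (Pi.single o 1 : IrrCharacter G → ℤ) = 1 := by
    simp [lin_single, degC, o]
  let cA : Fin 3 → IrrCharacter G → ℤ := fun i => coef S (al i)
  let cB : Fin 3 → IrrCharacter G → ℤ := fun i => coef S (be i)
  let cZ : IrrCharacter G → ℤ := coef S ze
  let a : Fin 3 → IrrCharacter G → ℤ := fun i => cA i + Pi.single o 1
  let z : IrrCharacter G → ℤ := cZ + Pi.single o 1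
  have hAo : ∀ i, cA i o = -1 := fun i => coef_triv S (.al i) (by rw [ip_a1]; norm_num)
  have hBo : ∀ i, cB i o = 0 := fun i => coef_triv S (.be i) (by rw [ip_b1]; norm_num)
  have hZo : cZ o = -1 := coef_triv S .ze (by rw [ip_z1]; norm_num)
  have hAA : ∀ i j, cA i ⬝ᵥ cA j = if i = j then 3 else 1 := fun i j =>
    coef_dot S (.al i) (.al j) (by rw [ip_aa]; split_ifs <;> norm_num)
  have hAB : ∀ i j, cA i ⬝ᵥ cB j = if i = j then 0 else 1 := fun i j =>
    coef_dot S (.al i) (.be j) (by rw [ip_ab]; split_ifs <;> norm_num)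
  have hAZ : ∀ i, cA i ⬝ᵥ cZ = 2 := fun i => coef_dot S (.al i) .ze (by rw [ip_az]; norm_num)
  have hBB : ∀ i j, cB i ⬝ᵥ cB j = if i = j then 3 else 1 := fun i j =>
    coef_dot S (.be i) (.be j) (by rw [ip_bb]; split_ifs <;> norm_num)
  have hBZ : ∀ i, cB i ⬝ᵥ cZ = 2 := fun i => coef_dot S (.be i) .ze (by rw [ip_bz]; norm_num)
  have hZZ : cZ ⬝ᵥ cZ = 5 := coef_dot S .ze .ze (by rw [ip_zz]; norm_num)
  obtain ⟨L, A, Y, P, hL, hA, hY, hP, haL, hbL, hzL, haLdot, hLo⟩ := config o d hd a cB z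
    (fun i j => by
      simp only [a, add_dotProduct, dotProduct_add, hAA, single_dotProduct, dotProduct_single, hAo,
        Pi.single_eq_same, Pi.add_apply, one_mul, mul_one]
      split_ifs <;> norm_num [hAo])
    (fun i => by
      simp [a, z, add_dotProduct, dotProduct_add, hAZ, single_dotProduct, dotProduct_single, hAo, hZo])
    (fun i j => by
      simp [a, add_dotProduct, hAB, single_dotProduct, hBo])
    (fun i => by
      simp [z, add_dotProduct, dotProduct_comm cZ, hBZ, single_dotProduct, hBo])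
    (by simp [z, add_dotProduct, dotProduct_add, hZZ, single_dotProduct, dotProduct_single, hZo])
    hBB
    (fun i => by simp [a, hAo])
    (fun i => Int.cast_injective (α := ℂ) (by
      show ((a i ⬝ᵥ d : ℤ) : ℂ) = _
      rw [hdot, lin_add, coef_deg S (.al i), hdo]; simp))
    (fun i => Int.cast_injective (α := ℂ) (by
      show ((cB i ⬝ᵥ d : ℤ) : ℂ) = _
      rw [hdot, coef_deg S (.be i)]; simp))
    (Int.cast_injective (α := ℂ) (by
      show ((z ⬝ᵥ d : ℤ) : ℂ) = _
      rw [hdot, lin_add, coef_deg S .ze, hdo]; simp))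
  let n : Fin 3 → ℂ := fun i => lin degC (L i)
  -- linear relations for a functional
  have relA : ∀ φ i, lin φ (cA i) = lin φ (A i) - lin φ (L i) - φ o := fun φ i => by
    have h := congrArg (lin φ) (haL i)
    rw [lin_add, lin_sub, lin_single, Int.cast_one, one_mul] at h
    linear_combination h
  have relB : ∀ φ i, lin φ (cB i) = lin φ (Y i) - lin φ (L (i + 1)) - lin φ (L (i + 2)) := fun φ i => by
    rw [hbL, lin_sub, lin_sub]
  have relZ : ∀ φ, lin φ cZ = lin φ P - (lin φ (L 0) + lin φ (L 1) + lin φ (L 2)) - φ o := fun φ => by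
    have h := congrArg (lin φ) hzL
    rw [lin_add, lin_sub, lin_add, lin_add, lin_single, Int.cast_one, one_mul] at h
    linear_combination h
  have hdegA : ∀ i, lin degC (A i) = 1 + n i := fun i => by
    have h := relA degC i
    rw [coef_deg S (.al i), show degC o = 1 from rfl] at h
    linear_combination -h
  have hdegY : ∀ i, lin degC (Y i) = n (i + 1) + n (i + 2) := fun i => by
    have h := relB degC i
    rw [coef_deg S (.be i)] at h
    linear_combination -h
  have hdegP : lin degC P = 1 + (n 0 + n 1 + n 2) := by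
    have h := relZ degC
    rw [coef_deg S .ze, show degC o = 1 from rfl] at h
    linear_combination -h
  have hn : ∀ i, n i ≠ 0 := fun i => (hL i).deg_ne
  have hn1 : ∀ i, 1 + n i ≠ 0 := fun i => hdegA i ▸ (hA i).deg_ne
  have hn2 : ∀ i, n (i + 1) + n (i + 2) ≠ 0 := fun i => hdegY i ▸ (hY i).deg_ne
  have hN : 1 + (n 0 + n 1 + n 2) ≠ 0 := hdegP ▸ hP.deg_ne
  -- the equations for the class of `u c`
  let v : Fin 3 → Fin 3 → ℂ := fun c i => lin (valC (S.u c)) (L i)
  let ε : Fin 3 → Fin 3 → ℂ := fun c i => mem S (S.u c) i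
  let K : Fin 3 → ℂ := fun c => kap (S.u c)
  have eqA : ∀ c i, (v c i - n i) ^ 2 = K c * (ε c (i + 1) + ε c (i + 2)) ^ 2 * (n i * (1 + n i)) := by
    intro c i
    refine alpha_clear (hn i) (hn1 i) ?_
    have hv := relA (valC (S.u c)) i
    rw [coef_val S (.al i) (S.u_sq c), show valC (S.u c) o = 1 from rfl] at hv
    have hvA : lin (valC (S.u c)) (A i) = 1 + v c i := by linear_combination -hv
    have hq := relA (quadC (S.u c)) i
    rw [coef_quad' S (.al i) (S.u_sq c) (S.u_ne_one c), count_al, (hA i).quad, (hL i).quad, hvA,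
      hdegA, show quadC (S.u c) o = 1 by simp [quadC, o]] at hq
    linear_combination hq
  have eqB : ∀ c i, (v c (i + 1) * n (i + 2) - v c (i + 2) * n (i + 1)) ^ 2 =
      K c * (ε c (i + 1) - ε c (i + 2)) ^ 2 * (n (i + 1) * n (i + 2) * (n (i + 1) + n (i + 2))) := by
    intro c i
    refine beta_clear (hn _) (hn _) (hn2 i) ?_
    have hv := relB (valC (S.u c)) i
    rw [coef_val S (.be i) (S.u_sq c)] at hv
    have hvY : lin (valC (S.u c)) (Y i) = v c (i + 1) + v c (i + 2) := by linear_combination -hv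
    have hq := relB (quadC (S.u c)) i
    rw [coef_quad' S (.be i) (S.u_sq c) (S.u_ne_one c), count_be, (hY i).quad, (hL _).quad,
      (hL _).quad, hvY, hdegY] at hq
    linear_combination hq
  have eqZ : ∀ c, 1 + (v c 0 ^ 2 / n 0 + v c 1 ^ 2 / n 1 + v c 2 ^ 2 / n 2) -
      (1 + (v c 0 + v c 1 + v c 2)) ^ 2 / (1 + (n 0 + n 1 + n 2)) =
      2 * K c * (ε c 0 + ε c 1 + ε c 2) := by
    intro c
    have hv := relZ (valC (S.u c))
    rw [coef_val S .ze (S.u_sq c), show valC (S.u c) o = 1 from rfl] at hv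
    have hvP : lin (valC (S.u c)) P = 1 + (v c 0 + v c 1 + v c 2) := by linear_combination -hv
    have hq := relZ (quadC (S.u c))
    rw [coef_quad' S .ze (S.u_sq c) (S.u_ne_one c), count_ze, hP.quad, (hL _).quad, (hL _).quad,
      (hL _).quad, hvP, hdegP, show quadC (S.u c) o = 1 by simp [quadC, o]] at hq
    linear_combination hq
  -- linear characters
  have hlin : ∀ i, n i = 1 → ∃ x : IrrCharacter G, (x : G → ℂ) 1 = 1 ∧ L i = Pi.single x 1 := by
    intro i hi
    obtain ⟨x, s, hs, hx⟩ := hL i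
    have h1 : (s : ℂ) * (x : G → ℂ) 1 = 1 := by
      rw [← hi]; show _ = lin degC (L i)
      rw [hx, lin_single]; rfl
    rw [hdn] at h1
    rcases hs with rfl | rfl
    · refine ⟨x, by rw [hdn]; simpa using h1, hx⟩
    · exfalso
      have h2 : (((-1 : ℤ) * (dn x : ℤ) : ℤ) : ℂ) = ((1 : ℤ) : ℂ) := by push_cast; simpa using h1
      have h3 : (-1 : ℤ) * (dn x : ℤ) = 1 := Int.cast_injective h2
      omega
  have hsq : ∀ c i, n i = 1 → v c i ^ 2 = 1 := by
    intro c i hi
    obtain ⟨x, hx1, hx⟩ := hlin i hi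
    obtain ⟨φ, hφ⟩ := exists_hom hx1
    show (lin (valC (S.u c)) (L i)) ^ 2 = 1
    rw [hx, lin_single, Int.cast_one, one_mul]
    show ((x : G → ℂ) (S.u c)) ^ 2 = 1
    rw [← hφ, pow_two, ← map_mul, S.u_sq, map_one]
  -- all three degrees are one
  have hε : ∀ c i, IsConj (S.u c) (S.u i) → ε c i = 1 := fun c i h => if_pos h
  have hε' : ∀ c i, ¬ IsConj (S.u c) (S.u i) → ε c i = 0 := fun c i h => if_neg h
  have hall : ∀ i, n i = 1 := by
    by_cases hfull : IsConj (S.u 0) (S.u 1) ∧ IsConj (S.u 0) (S.u 2)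
    · have s0 := hε 0 0 (IsConj.refl _)
      have s1 := hε 0 1 hfull.1
      have s2 := hε 0 2 hfull.2
      have A0 := eqA 0 0; have A1 := eqA 0 1; have A2 := eqA 0 2
      have B2 := eqB 0 2; have B1 := eqB 0 1
      have Z0 := eqZ 0
      simp only [show (0 : Fin 3) + 1 = 1 from rfl, show (0 : Fin 3) + 2 = 2 from rfl,
        show (1 : Fin 3) + 1 = 2 from rfl, show (1 : Fin 3) + 2 = 0 from rfl,
        show (2 : Fin 3) + 1 = 0 from rfl, show (2 : Fin 3) + 2 = 1 from rfl, s0, s1, s2]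
        at A0 A1 A2 B1 B2 Z0
      obtain ⟨q0, q1, q2⟩ := all_fused (a₁ := v 0 0) (a₂ := v 0 1) (a₃ := v 0 2) (C := K 0)
        (hn 0) (hn 1) (hn 2) (hn1 0) hN (kap_ne_zero _)
        (by linear_combination A0) (by linear_combination A1) (by linear_combination A2)
        (by linear_combination B2) (by linear_combination B1) (by linear_combination Z0)
      intro i; fin_cases i <;> assumption
    have hsum3 : ∀ (f : Fin 3 → ℂ) (i : Fin 3), f i + f (i + 1) + f (i + 2) = f 0 + f 1 + f 2 := by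
      intro f i; fin_cases i <;> simp <;> ring
    have hfin : ∀ i : Fin 3, i + 1 + 1 = i + 2 ∧ i + 1 + 2 = i ∧ i + 2 + 1 = i ∧ i + 2 + 2 = i + 1 := by
      decide
    have hiso : ∀ i, ¬ IsConj (S.u i) (S.u (i + 1)) → ¬ IsConj (S.u i) (S.u (i + 2)) →
        n i = 1 ∧ n (i + 1) = n (i + 2) := by
      intro i h1 h2
      obtain ⟨f1, f2, f3, f4⟩ := hfin i
      have A0 := eqA i i; have A1 := eqA i (i + 1); have A2 := eqA i (i + 2)
      have B0 := eqB i i
      have Z0 := eqZ i
      rw [← hsum3 (v i) i, ← hsum3 n i, ← hsum3 (ε i) i,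
        ← hsum3 (fun j => v i j ^ 2 / n j) i] at Z0
      rw [f1, f2] at A1
      rw [f3, f4] at A2
      rw [hε i i (IsConj.refl _), hε' i (i + 1) h1, hε' i (i + 2) h2] at *
      refine singleton (a₁ := v i i) (a₂ := v i (i + 1)) (a₃ := v i (i + 2)) (C := K i)
        (hn i) (hn _) (hn _) (hn1 _) ?_ (kap_ne_zero _) (by linear_combination A0)
        (by linear_combination A1) (by linear_combination A2) (by linear_combination B0)
        (by linear_combination Z0)
      rw [hsum3]; exact hN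
    obtain ⟨i, h1, h2⟩ : ∃ i, ¬ IsConj (S.u i) (S.u (i + 1)) ∧ ¬ IsConj (S.u i) (S.u (i + 2)) := by
      by_cases h01 : IsConj (S.u 0) (S.u 1)
      · have h02 : ¬ IsConj (S.u 0) (S.u 2) := fun h => hfull ⟨h01, h⟩
        exact ⟨2, fun h => h02 h.symm, fun h => h02 (h01.trans h.symm)⟩
      · by_cases h02 : IsConj (S.u 0) (S.u 2)
        · exact ⟨1, fun h => h01 (h02.trans h.symm), fun h => h01 h.symm⟩
        · exact ⟨0, h01, h02⟩
    obtain ⟨hni, heq⟩ := hiso i h1 h2
    obtain ⟨f1, f2, f3, f4⟩ := hfin i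
    have hnj : n (i + 1) = 1 := by
      by_cases h12 : IsConj (S.u (i + 1)) (S.u (i + 2))
      · have A0 := eqA (i + 1) i; have A1 := eqA (i + 1) (i + 1)
        have B0 := eqB (i + 1) i
        have Z0 := eqZ (i + 1)
        rw [← hsum3 (v (i + 1)) i, ← hsum3 n i, ← hsum3 (ε (i + 1)) i,
          ← hsum3 (fun j => v (i + 1) j ^ 2 / n j) i] at Z0
        rw [f1, f2] at A1
        rw [hε (i + 1) (i + 1) (IsConj.refl _), hε (i + 1) (i + 2) h12,
          hε' (i + 1) i (fun h => h1 h.symm)] at *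
        rw [hni] at A0
        rw [← heq] at B0
        rw [hni, ← heq] at Z0
        refine pair (n := n (i + 1)) (b₁ := v (i + 1) i) (b₂ := v (i + 1) (i + 1))
          (b₃ := v (i + 1) (i + 2)) (C := K (i + 1)) (hn _) (hn1 _) ?_ (kap_ne_zero _)
          (hsq _ _ hni) (by linear_combination A0) (by linear_combination A1)
          (by linear_combination B0) (by linear_combination Z0)
        have := hN
        rw [← hsum3 n i, hni, ← heq] at this
        exact this
      · exact (hiso (i + 1) (by rw [f1]; exact h12) (by rw [f2]; exact fun h => h1 h.symm)).1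
    intro j
    have : j = i ∨ j = i + 1 ∨ j = i + 2 :=
      (by decide : ∀ i j : Fin 3, j = i ∨ j = i + 1 ∨ j = i + 2) i j
    rcases this with rfl | rfl | rfl
    · exact hni
    · exact hnj
    · exact heq ▸ hnj
  -- the restriction of the linear character
  obtain ⟨x, hx1, hx⟩ := hlin k (hall k)
  obtain ⟨φ, hφ⟩ := exists_hom hx1
  refine ⟨φ, ?_⟩
  have hxo : x ≠ o := fun h => by
    have := hLo k
    rw [hx, h, Pi.single_eq_same] at this
    norm_num at this
  have hcoef : ∀ j, classInner (S.δ (al j)) (fun h : ↥S.H => φ h) = if j = k then -1 else 0 := by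
    intro j
    have h1 := haLdot j k
    rw [hx, dotProduct_single, mul_one] at h1
    simp only [a, Pi.add_apply, Pi.single_eq_of_ne hxo, add_zero] at h1
    rw [show (fun h : ↥S.H => φ h) = fun h : ↥S.H => (x : G → ℂ) h from funext fun h => hφ _,
      coef_apply S (.al j) x]
    show ((cA j x : ℤ) : ℂ) = _
    rw [h1]
    split_ifs <;> simp
  let μ : ↥E →* ℂ := φ.comp S.ι
  have hpm : ∀ i, μ ⟨cl i 0, ev_cl i 0⟩ = 1 ∨ μ ⟨cl i 0, ev_cl i 0⟩ = -1 := fun i =>
    sq_eq_one_iff.mp (by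
      rw [pow_two, ← map_mul, show (⟨cl i 0, ev_cl i 0⟩ : ↥E) * ⟨cl i 0, ev_cl i 0⟩ = 1 from
        Subtype.ext (cl_sq i 0), map_one])
  have hcand : μ = 1 ∨ ∃ j, μ = (eHom j).comp E.subtype := by
    rcases hpm 0 with p0 | p0 <;> rcases hpm 1 with p1 | p1
    · exact Or.inl (hom_eq_of (by simp [p0]) (by simp [p1]))
    · exact Or.inr ⟨0, hom_eq_of (by rw [p0]; simp [eHom, e_cl])
        (by rw [p1]; simp [eHom, e_cl])⟩
    · exact Or.inr ⟨1, hom_eq_of (by rw [p0]; simp [eHom, e_cl])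
        (by rw [p1]; simp [eHom, e_cl])⟩
    · exact Or.inr ⟨2, hom_eq_of (by rw [p0]; simp [eHom, e_cl])
        (by rw [p1]; simp [eHom, e_cl])⟩
  rcases hcand with hμ | ⟨j, hμ⟩
  · exfalso
    have h := classInner_linear S (μ := μ) (k + 1) φ (fun m => rfl) (fun _ => 1)
      (fun m => by rw [hμ]; simp)
    rw [hcoef, if_neg (by fin_cases k <;> decide), ip_a1] at h
    norm_num at h
  · have h := classInner_linear S (μ := μ) k φ (fun m => rfl) (e j)
      (fun m => by rw [hμ]; rfl)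
    rw [hcoef, if_pos rfl, ip_ae] at h
    by_cases hjk : k = j
    · subst hjk
      exact fun m => by
        show μ m = _
        rw [hμ]; rfl
    · rw [if_neg hjk] at h
      norm_num at h

end Cfsg.Agent.Lib.KnownA.O108
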