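import Mathlib.GroupTheory.SpecificGroups.Dihedral
import Mathlib.Logic.Equiv.Fin.Basic
import Mathlib.GroupTheory.Perm.Fin
import Mathlib.Algebra.BigOperators.Fin

/-!
The group of order 108: even part of `S₃ × S₃ × S₃`, with its auxiliary class functions.
-/

namespace Cfsg.Agent.Lib.KnownA.O108

open DihedralGroup

set_option maxRecDepth 100000

abbrev D3 : Type := DihedralGroup 3

abbrev M : Type := D3 × D3 × D3

def eps : D3 → ℤ
  | r _ => 1
  | sr _ => -1

def th : D3 → ℤ
  | r i => if i = 0 then 2 else -1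
  | sr _ => 0

theorem eps_mul : ∀ a b : D3, eps (a * b) = eps a * eps b := by decide +kernel
theorem eps_one : eps 1 = 1 := by decide +kernel
theorem th_conj : ∀ a b : D3, th (a * b * a⁻¹) = th b := by decide +kernel

def co (i : Fin 3) (m : M) : D3 := ![m.1, m.2.1, m.2.2] i

theorem co_mul (i : Fin 3) (a b : M) : co i (a * b) = co i a * co i b := by
  fin_cases i <;> rfl

/-- The sign character of the `i`-th block. -/
def e (i : Fin 3) (m : M) : ℤ := eps (co i m)

/-- The degree two character of the `i`-th block. -/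
def t (i : Fin 3) (m : M) : ℤ := th (co i m)

def ev (m : M) : ℤ := eps m.1 * eps m.2.1 * eps m.2.2

theorem ev_mul (a b : M) : ev (a * b) = ev a * ev b := by
  simp only [ev, Prod.fst_mul, Prod.snd_mul, eps_mul]
  ring

theorem ev_one : ev 1 = 1 := by decide +kernel

theorem ev_inv : ∀ a : M, ev a = 1 → ev a⁻¹ = 1 := by decide +kernel

def E : Subgroup M where
  carrier := {m | ev m = 1}
  mul_mem' := fun {a b} ha hb => show ev (a * b) = 1 by
    rw [ev_mul, show ev a = 1 from ha, show ev b = 1 from hb, one_mul]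
  one_mem' := ev_one
  inv_mem' := fun {a} ha => ev_inv a ha

theorem mem_E {m : M} : m ∈ E ↔ ev m = 1 := Iff.rfl

theorem pow_six : ∀ m : M, m ^ 6 = 1 := by decide +kernel

theorem cube_eq_one_iff : ∀ m : M, m ^ 3 = 1 ↔ e 0 m = 1 ∧ e 1 m = 1 ∧ e 2 m = 1 := by
  decide +kernel

theorem rot_comm {a b : M} (ha : a ^ 3 = 1) (hb : b ^ 3 = 1) : a * b = b * a := by
  have key : ∀ x y : D3, x ^ 3 = 1 → y ^ 3 = 1 → x * y = y * x := by decide +kernel
  refine Prod.ext (key _ _ ?_ ?_) (Prod.ext (key _ _ ?_ ?_) (key _ _ ?_ ?_))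
  all_goals first
    | exact congrArg Prod.fst ha
    | exact congrArg Prod.fst hb
    | exact congrArg (fun p : M => p.2.1) ha
    | exact congrArg (fun p : M => p.2.1) hb
    | exact congrArg (fun p : M => p.2.2) ha
    | exact congrArg (fun p : M => p.2.2) hb

/-- The class functions vanishing outside the elements of order 3 and 6. -/
def al (i : Fin 3) (m : M) : ℤ := t i m - 1 - e i m
def be (i : Fin 3) (m : M) : ℤ := t i m * e (i + 1) m - e (i + 1) m - e (i + 2) m
def ze (m : M) : ℤ := t 1 m * t 2 m - 1 - e 0 m - e 1 m - e 2 m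

theorem al_vanish : ∀ i, ∀ m : M, ev m = 1 → m * m = 1 → al i m = 0 := by decide +kernel
theorem be_vanish : ∀ i, ∀ m : M, ev m = 1 → m * m = 1 → be i m = 0 := by decide +kernel
theorem ze_vanish : ∀ m : M, ev m = 1 → m * m = 1 → ze m = 0 := by decide +kernel

/-- Inner products over the even part, times 108. -/
def ip (f g : M → ℤ) : ℤ := ∑ m : M, if ev m = 1 then f m * g m else 0

theorem ip_aa : ∀ i j, ip (al i) (al j) = if i = j then 324 else 108 := by decide +kernel
theorem ip_ab : ∀ i j, ip (al i) (be j) = if i = j then 0 else 108 := by decide +kernel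
theorem ip_az : ∀ i, ip (al i) ze = 216 := by decide +kernel
theorem ip_bb : ∀ i j, ip (be i) (be j) = if i = j then 324 else 108 := by decide +kernel
theorem ip_bz : ∀ i, ip (be i) ze = 216 := by decide +kernel
theorem ip_zz : ip ze ze = 540 := by decide +kernel
theorem ip_a1 : ∀ i, ip (al i) (fun _ => 1) = -108 := by decide +kernel
theorem ip_b1 : ∀ i, ip (be i) (fun _ => 1) = 0 := by decide +kernel
theorem ip_z1 : ip ze (fun _ => 1) = -108 := by decide +kernel
theorem ip_ae : ∀ i j, ip (al i) (e j) = if i = j then -108 else 0 := by decide +kernel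

/-- The involutions: class `i`, parametrised. -/
def cl (i : Fin 3) (p : ZMod 3 × ZMod 3) : M :=
  ![((r 0, sr p.1, sr p.2) : M), (sr p.1, r 0, sr p.2), (sr p.1, sr p.2, r 0)] i

theorem ev_cl : ∀ i p, ev (cl i p) = 1 := by decide +kernel
theorem cl_sq : ∀ i p, cl i p * cl i p = 1 := by decide +kernel
theorem cl_ne_one : ∀ i p, cl i p ≠ 1 := by decide +kernel
theorem cl_injective : ∀ i j p q, cl i p = cl j q → i = j ∧ p = q := by decide +kernel
theorem exists_cl : ∀ m : M, ev m = 1 → m * m = 1 → m ≠ 1 → ∃ i p, m = cl i p := by decide +kernel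

def rot (i : Fin 3) (p : ZMod 3 × ZMod 3) : M :=
  ![((r 0, r p.1, r p.2) : M), (r p.1, r 0, r p.2), (r p.1, r p.2, r 0)] i

theorem ev_rot : ∀ i p, ev (rot i p) = 1 := by decide +kernel
theorem cl_conj : ∀ i p, rot i p * cl i 0 * (rot i p)⁻¹ = cl i p := by decide +kernel

theorem sum_al : ∀ i j k, ∑ p, ∑ q, al k (cl i p * cl j q) =
    if i = k ∨ j = k then 0 else -162 := by decide +kernel
theorem sum_be : ∀ i j k, ∑ p, ∑ q, be k (cl i p * cl j q) =
    if i = k ∨ j = k then 0 else if i = j then -162 else 162 := by decide +kernel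
theorem sum_ze : ∀ i j, ∑ p, ∑ q, ze (cl i p * cl j q) = if i = j then -324 else 0 := by
  decide +kernel

theorem ev_split : ∀ m : M, ev m = 1 → ∃ f : M, ev f = 1 ∧ (f = 1 ∨ f = cl 0 0 ∨ f = cl 1 0 ∨ f = cl 2 0) ∧
    e 0 f = e 0 m ∧ e 1 f = e 1 m ∧ e 2 f = e 2 m := by decide +kernel

theorem rot_split : ∀ m : M, e 0 m = 1 → e 1 m = 1 → e 2 m = 1 →
    m = (cl 1 0 * (m.1, r 0, r 0) * (cl 1 0)⁻¹ * (m.1, r 0, r 0)⁻¹) *
      (cl 0 0 * (r 0, m.2.1, m.2.2) * (cl 0 0)⁻¹ * (r 0, m.2.1, m.2.2)⁻¹) := by decide +kernel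

theorem ev_rot_parts : ∀ m : M, e 0 m = 1 → e 1 m = 1 → e 2 m = 1 →
    ev (m.1, r 0, r 0) = 1 ∧ ev (r 0, m.2.1, m.2.2) = 1 := by decide +kernel

theorem cl_relation : cl 2 0 = cl 0 0 * cl 1 0 := by decide +kernel

/-- Permutations of three points. -/
def dPerm : D3 →* Equiv.Perm (Fin 3) where
  toFun
    | r i => Equiv.addRight (i : ZMod 3)
    | sr i => (Equiv.addRight (i : ZMod 3)).trans (Equiv.neg (ZMod 3))
  map_one' := by decide +kernel
  map_mul' := by decide +kernel

/-- Block diagonal permutations of nine points. -/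
def toPerm : M →* Equiv.Perm (Fin 9) where
  toFun m := finProdFinEquiv.permCongr (Equiv.prodCongrRight fun k : Fin 3 => dPerm (co k m))
  map_one' := by decide +kernel
  map_mul' a b := by
    ext x
    simp [Equiv.permCongr_apply, co_mul, Equiv.prodCongrRight]

theorem toPerm_eq_one : ∀ m : M, toPerm m = 1 → m = 1 := by decide +kernel

theorem toPerm_injective : Function.Injective toPerm :=
  (injective_iff_map_eq_one toPerm).mpr toPerm_eq_one

abbrev g1 : Equiv.Perm (Fin 9) := Equiv.swap 0 1 * Equiv.swap 1 2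
abbrev g2 : Equiv.Perm (Fin 9) := Equiv.swap 3 4 * Equiv.swap 4 5
abbrev g3 : Equiv.Perm (Fin 9) := Equiv.swap 6 7 * Equiv.swap 7 8
abbrev g4 : Equiv.Perm (Fin 9) := Equiv.swap 0 1 * Equiv.swap 3 4
abbrev g5 : Equiv.Perm (Fin 9) := Equiv.swap 0 1 * Equiv.swap 6 7

theorem toPerm_g1 : toPerm (r 1, r 0, r 0) = g1 := by decide +kernel
theorem toPerm_g2 : toPerm (r 0, r 1, r 0) = g2 := by decide +kernel
theorem toPerm_g3 : toPerm (r 0, r 0, r 1) = g3 := by decide +kernel
theorem toPerm_g4 : toPerm (sr 2, sr 2, r 0) = g4 := by decide +kernel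
theorem toPerm_g5 : toPerm (sr 2, r 0, sr 2) = g5 := by decide +kernel

theorem decomp : ∀ m : M, ev m = 1 → ∃ a b c : Fin 3, ∃ u v : Fin 2,
    m = (r 1, r 0, r 0) ^ (a : ℕ) * (r 0, r 1, r 0) ^ (b : ℕ) * (r 0, r 0, r 1) ^ (c : ℕ) *
      (sr 2, sr 2, r 0) ^ (u : ℕ) * (sr 2, r 0, sr 2) ^ (v : ℕ) := by decide +kernel

end Cfsg.Agent.Lib.KnownA.O108
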