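import Cfsg.Agent.Lib.SylowCounting.DegreeKill
import Cfsg.Agent.Lib.SylowCounting.EvenPSL
import Cfsg.Agent.Lib.SylowCounting.FourPrimes

/-!
Sylow arguments for the groups whose order properly divides the order of the first Janko group.
-/

set_option autoImplicit false

namespace Cfsg.Agent.Lib.KnownA.OrderJanko

open Cfsg.Agent.Lib.SylowCounting

universe u

variable {G : Type u} [Group G] [Finite G]

/-- Centralizer order and automizer order of a Sylow subgroup of prime order, from the list of its possible numbers. -/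
theorem data_of_excluded [IsSimpleGroup G] (hG : ¬ IsMulCommutative G) (n p m B : ℕ) [Fact p.Prime]
    (hn : n = p ^ 1 * m) (hm : ¬ p ∣ m) (hm1 : m ≠ 1) (hp2 : p ≠ 2) (hcard : Nat.card G = n)
    (T : Finset ℕ) (hall : ∀ r ∈ candidates p m, r ∈ T ∨ SylowExcluded n p B r) :
    ∃ (P : Sylow p G) (e c : ℕ), Nat.card (P : Subgroup G) = p ∧ Nat.card (Sylow p G) ∈ T ∧
      n = Nat.card (Sylow p G) * (e * c) ∧ 1 < e ∧ e ∣ p - 1 ∧ p ∣ c ∧
      c = Nat.card (Subgroup.centralizer ((P : Subgroup G) : Set G)) := by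
  let P : Sylow p G := default
  have hP : Nat.card (P : Subgroup G) = p := by rw [sylow_card (hcard.trans hn) hm P, pow_one]
  obtain ⟨e, h1, h2, h3, h4⟩ := sylow_data hG P hP
  exact ⟨P, e, _, hP, sylow_count_mem_of_excluded n p m B Fact.out hn hm hm1 hp2 hcard T hall, hcard ▸ h1, h2, h3, h4, rfl⟩

/-- The number of elements attached to a Sylow subgroup of prime order and its centralizer. -/
theorem count_centralizer {p : ℕ} [hp : Fact p.Prime] (P : Sylow p G) (hP : Nat.card (P : Subgroup G) = p)
    {h : ℕ} (hc : Nat.card (Subgroup.centralizer ((P : Subgroup G) : Set G)) = p * h) (hph : p.Coprime h) :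
    Nat.card (Sylow p G) * (p - 1) * h ≤ Nat.card {g : G // p ∣ orderOf g ∧ orderOf g ∣ p * h} := by
  haveI : IsMulCommutative (P : Subgroup G) := by
    haveI : IsCyclic (P : Subgroup G) := isCyclic_of_prime_card hP
    infer_instance
  set C := Subgroup.centralizer ((P : Subgroup G) : Set G)
  have hle : (P : Subgroup G) ≤ C := fun x hx => Subgroup.mem_centralizer_iff.2 fun y hy =>
    congrArg Subtype.val (mul_comm' (⟨y, hy⟩ : (P : Subgroup G)) ⟨x, hx⟩)
  set N := (P : Subgroup G).subgroupOf C
  haveI : N.Normal := ⟨fun x hx g => by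
    have hcm : (g : G) * (x : G) = (x : G) * (g : G) := (Subgroup.mem_centralizer_iff.1 g.2 _ hx).symm
    show ((g * x * g⁻¹ : C) : G) ∈ (P : Subgroup G)
    rw [Subgroup.coe_mul, Subgroup.coe_mul, Subgroup.coe_inv, hcm, mul_inv_cancel_right]
    exact hx⟩
  have hN : Nat.card N = p := by rw [Nat.card_congr (Subgroup.subgroupOfEquivOfLe hle).toEquiv, hP]
  have hidx : N.index = h := by
    have h1 := N.card_mul_index
    rw [hN, hc] at h1
    exact Nat.eq_of_mul_eq_mul_left hp.out.pos h1
  obtain ⟨H, hH⟩ := Subgroup.exists_right_complement'_of_coprime (N := N) (by rw [hN, hidx]; exact hph)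
  have hHc : Nat.card H = h := by
    have h1 := hH.card_mul
    rw [hN, hc] at h1
    exact Nat.eq_of_mul_eq_mul_left hp.out.pos h1
  have key := count_lower P hP (H.map C.subtype : Set G) h hph (by
    rintro _ ⟨x, hx, rfl⟩
    refine ⟨?_, fun y hy => Subgroup.mem_centralizer_iff.1 x.2 y hy⟩
    have := congrArg Subtype.val (pow_card_eq_one' (x := (⟨x, hx⟩ : H)))
    rw [hHc] at this
    exact congrArg Subtype.val this)
  rwa [show Nat.card (H.map C.subtype : Set G) = h from
    (Nat.card_congr (H.equivMapOfInjective C.subtype C.subtype_injective).toEquiv).symm.trans hHc] at key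

/-- Three pairwise disjoint families. -/
theorem three_le {α : Type*} [Finite α] (A B C : α → Prop) (hab : ∀ x, A x → ¬ B x) (hac : ∀ x, A x → ¬ C x)
    (hbc : ∀ x, B x → ¬ C x) {a b c : ℕ} (ha : a ≤ Nat.card {x // A x}) (hb : b ≤ Nat.card {x // B x})
    (hc : c ≤ Nat.card {x // C x}) : a + b + c ≤ Nat.card α := by
  have h1 := card_add_le_of_disjoint A B hab
  have h2 := card_add_le_of_disjoint (fun x => A x ∨ B x) C fun x h => h.elim (hac x) (hbc x)
  have h3 := Finite.card_subtype_le fun x => (A x ∨ B x) ∨ C x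
  omega

/-- The Sylow count of a subgroup containing a Sylow subgroup of the group. -/
theorem inter_normalizer {p : ℕ} [hp : Fact p.Prime] (S : Sylow p G) (H : Subgroup G) (hS : (S : Subgroup G) ≤ H) :
    ∃ k, k % p = 1 ∧ k * Nat.card (H ⊓ Subgroup.normalizer ((S : Subgroup G) : Set G) : Subgroup G) = Nat.card H := by
  let T : Sylow p H := S.subtype hS
  refine ⟨Nat.card (Sylow p H), sylow_count_mod p, ?_⟩
  rw [T.card_eq_index_normalizer]
  have e : Subgroup.normalizer ((T : Subgroup H) : Set H) = (Subgroup.normalizer ((S : Subgroup G) : Set G)).subgroupOf H := by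
    rw [Subgroup.subgroupOf_normalizer_eq hS]
    rfl
  have e2 : Nat.card (H ⊓ Subgroup.normalizer ((S : Subgroup G) : Set G) : Subgroup G) =
      Nat.card ((Subgroup.normalizer ((S : Subgroup G) : Set G)).subgroupOf H) := by
    rw [← Nat.card_congr (Subgroup.subgroupOfEquivOfLe (inf_le_left : H ⊓ Subgroup.normalizer ((S : Subgroup G) : Set G) ≤ H)).toEquiv]
    rw [Subgroup.inf_subgroupOf_left]
  rw [← Sylow.coe_coe, e, e2]
  exact Subgroup.index_mul_card _

/-- No proper simple case: order 7980. -/
theorem not_7980 [IsSimpleGroup G] (hG : ¬ IsMulCommutative G) (h : Nat.card G = 7980) : False := by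
  haveI := Fact.mk (show Nat.Prime 19 by norm_num)
  haveI := Fact.mk (show Nat.Prime 5 by norm_num)
  haveI := Fact.mk (show Nat.Prime 7 by norm_num)
  obtain ⟨P, e, c, hP, hr, hn, he, hed, hpc, hc⟩ := data_of_excluded hG 7980 19 420 425 (by norm_num) (by norm_num)
    (by norm_num) (by norm_num) h {210} (by decide +kernel)
  obtain ⟨R, e5, c5, hR, hr5, hn5, he5, hed5, hpc5, hc5⟩ := data_of_excluded hG 7980 5 1596 425 (by norm_num) (by norm_num)
    (by norm_num) (by norm_num) h {21, 266} (by decide +kernel)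
  obtain ⟨S, e7, c7, hS, hr7, hn7, he7, hed7, hpc7, hc7⟩ := data_of_excluded hG 7980 7 1140 425 (by norm_num) (by norm_num)
    (by norm_num) (by norm_num) h {190} (by decide +kernel)
  simp only [Finset.mem_singleton, Finset.mem_insert] at hr hr5 hr7
  rw [hr] at hn; rw [hr7] at hn7
  have hc19 : c = 19 := by
    have h1 : e * c = 38 := by omega
    obtain ⟨h', rfl⟩ := hpc
    have : e * h' = 2 := by linarith
    obtain rfl : e = 2 := ((Nat.dvd_prime Nat.prime_two).1 (Dvd.intro h' this)).resolve_left (by omega)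
    omega
  rcases hr5 with hr5 | hr5 <;> rw [hr5] at hn5
  · have h1 : e5 * c5 = 380 := by omega
    have hd : 19 ∣ c5 := by
      have hcop : Nat.Coprime 19 e5 := Nat.Coprime.coprime_dvd_right hed5 (by norm_num)
      exact hcop.dvd_of_dvd_mul_left (h1 ▸ by norm_num)
    have := dvd_centralizer_swap R hR P hP (hc5 ▸ hd)
    rw [← hc, hc19] at this
    norm_num at this
  have h5 : c5 = 15 := by
    have h1 : e5 * c5 = 30 := by omega
    have h2 : e5 ∣ Nat.gcd 4 30 := Nat.dvd_gcd hed5 (h1 ▸ dvd_mul_right _ _)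
    obtain rfl : e5 = 2 := ((Nat.dvd_prime Nat.prime_two).1 h2).resolve_left (by omega)
    omega
  have k19 := count_centralizer P hP (h := 1) (by rw [← hc, hc19]) (by norm_num)
  have k5 := count_centralizer R hR (h := 3) (by rw [← hc5, h5]) (by norm_num)
  obtain ⟨h7, rfl⟩ := hpc7
  have k7 := count_lower S hS {1} 1 (by norm_num) (by simp)
  have := three_le _ _ _ (fun x a b => by
      have := a.1.trans b.2; norm_num at this)
    (fun x a b => by have := a.1.trans b.2; norm_num at this)
    (fun x a b => by have := b.1.trans a.2; norm_num at this) k19 k5 k7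
  rw [hr, hr5, hr7, h, Nat.card_eq_one_iff_unique.2 ⟨inferInstance, inferInstance⟩] at this
  norm_num at this

/-- No proper simple case: order 35112. -/
theorem not_35112 [IsSimpleGroup G] (hG : ¬ IsMulCommutative G) (h : Nat.card G = 35112) : False := by
  haveI := Fact.mk (show Nat.Prime 19 by norm_num)
  haveI := Fact.mk (show Nat.Prime 7 by norm_num)
  obtain ⟨P, e, c, hP, hr, hn, he, hed, hpc, hc⟩ := data_of_excluded hG 35112 19 1848 425 (by norm_num) (by norm_num)
    (by norm_num) (by norm_num) h {77} (by decide +kernel)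
  obtain ⟨S, e7, c7, hS, hr7, hn7, he7, hed7, hpc7, hc7⟩ := data_of_excluded hG 35112 7 5016 425 (by norm_num) (by norm_num)
    (by norm_num) (by norm_num) h {22} (by decide +kernel)
  simp only [Finset.mem_singleton] at hr hr7
  rw [hr] at hn; rw [hr7] at hn7
  have h1 : e7 * c7 = 1596 := by omega
  have hd : 19 ∣ c7 :=
    (Nat.Coprime.coprime_dvd_right hed7 (by norm_num : Nat.Coprime 19 (7 - 1))).dvd_of_dvd_mul_left (h1 ▸ by norm_num)
  have h2 := dvd_centralizer_swap S hS P hP (hc7 ▸ hd)
  rw [← hc] at h2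
  have h3 : 7 ∣ e * c := h2.mul_left e
  rw [show e * c = 456 by omega] at h3
  norm_num at h3

/-- No proper simple case: order 58520. -/
theorem not_58520 [IsSimpleGroup G] (hG : ¬ IsMulCommutative G) (h : Nat.card G = 58520) : False := by
  haveI := Fact.mk (show Nat.Prime 11 by norm_num)
  haveI := Fact.mk (show Nat.Prime 7 by norm_num)
  obtain ⟨Q, e, c, hQ, hr, hn, he, hed, hpc, hc⟩ := data_of_excluded hG 58520 11 5320 425 (by norm_num) (by norm_num)
    (by norm_num) (by norm_num) h {56, 133} (by decide +kernel)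
  obtain ⟨S, e7, c7, hS, hr7, hn7, he7, hed7, hpc7, hc7⟩ := data_of_excluded hG 58520 7 8360 425 (by norm_num) (by norm_num)
    (by norm_num) (by norm_num) h {190} (by decide +kernel)
  simp only [Finset.mem_singleton, Finset.mem_insert] at hr hr7
  rw [hr7] at hn7
  have h1 : e7 * c7 = 308 := by omega
  have hd : 11 ∣ c7 :=
    (Nat.Coprime.coprime_dvd_right hed7 (by norm_num : Nat.Coprime 11 (7 - 1))).dvd_of_dvd_mul_left (h1 ▸ by norm_num)
  have h3 : 7 ∣ e * c := (hc.symm ▸ dvd_centralizer_swap S hS Q hQ (hc7 ▸ hd) : 7 ∣ c).mul_left e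
  rcases hr with hr | hr <;> rw [hr] at hn
  · rw [show e * c = 1045 by omega] at h3; norm_num at h3
  · rw [show e * c = 440 by omega] at h3; norm_num at h3

/-- No proper simple case: order 87780. -/
theorem not_87780 [IsSimpleGroup G] (hG : ¬ IsMulCommutative G) (h : Nat.card G = 87780) : False := by
  haveI := Fact.mk (show Nat.Prime 19 by norm_num)
  haveI := Fact.mk (show Nat.Prime 11 by norm_num)
  haveI := Fact.mk (show Nat.Prime 5 by norm_num)
  haveI := Fact.mk (show Nat.Prime 7 by norm_num)
  obtain ⟨P, e, c, hP, hr, hn, he, hed, hpc, hc⟩ := data_of_excluded hG 87780 19 4620 425 (by norm_num) (by norm_num)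
    (by norm_num) (by norm_num) h {77, 210, 1540} (by decide +kernel)
  obtain ⟨Q, eB, cB, hQ, hrB, hnB, heB, hedB, hpcB, hcB⟩ := data_of_excluded hG 87780 11 7980 425 (by norm_num) (by norm_num)
    (by norm_num) (by norm_num) h {133, 210, 1596} (by decide +kernel)
  obtain ⟨R, e5, c5, hR, hr5, hn5, he5, hed5, hpc5, hc5⟩ := data_of_excluded hG 87780 5 17556 425 (by norm_num) (by norm_num)
    (by norm_num) (by norm_num) h {21, 66, 231, 266, 2926} (by decide +kernel)
  obtain ⟨S, e7, c7, hS, hr7, hn7, he7, hed7, hpc7, hc7⟩ := data_of_excluded hG 87780 7 12540 425 (by norm_num) (by norm_num)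
    (by norm_num) (by norm_num) h {22, 190, 4180} (by decide +kernel)
  simp only [Finset.mem_singleton, Finset.mem_insert] at hr hrB hr5 hr7
  have cop : ∀ {a d f : ℕ}, f ∣ d → Nat.Coprime a d → ∀ {x : ℕ}, a ∣ f * x → a ∣ x :=
    fun hfd had _ hx => (Nat.Coprime.coprime_dvd_right hfd had).dvd_of_dvd_mul_left hx
  -- the prime seven
  have hC7 : Nat.card (Sylow 7 G) = 4180 ∧ c7 = 7 := by
    rcases hr7 with hr7 | hr7 | hr7 <;> rw [hr7] at hn7
    · exfalso
      have hd : 19 ∣ c7 := cop hed7 (by norm_num) (show 19 ∣ e7 * c7 by omega)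
      have h3 : 7 ∣ e * c := (hc.symm ▸ dvd_centralizer_swap S hS P hP (hc7 ▸ hd) : 7 ∣ c).mul_left e
      rcases hr with hr | hr | hr <;> rw [hr] at hn <;> omega
    · exfalso
      have hd : 11 ∣ c7 := cop hed7 (by norm_num) (show 11 ∣ e7 * c7 by omega)
      have h3 : 7 ∣ eB * cB := (hcB.symm ▸ dvd_centralizer_swap S hS Q hQ (hc7 ▸ hd) : 7 ∣ cB).mul_left eB
      rcases hrB with hrB | hrB | hrB <;> rw [hrB] at hnB <;> omega
    · refine ⟨hr7, ?_⟩
      obtain ⟨x, rfl⟩ := hpc7
      have h1 : e7 * x = 3 := by linarith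
      obtain rfl : e7 = 3 := ((Nat.dvd_prime Nat.prime_three).1 (Dvd.intro x h1)).resolve_left (by omega)
      omega
  obtain ⟨hr7, hc7'⟩ := hC7
  have k7 := count_centralizer S hS (h := 1) (by rw [← hc7, hc7']) (by norm_num)
  have no66 : Nat.card (Sylow 5 G) ≠ 66 := by
    intro h5
    rw [h5] at hn5
    have hd : 7 ∣ c5 := cop hed5 (by norm_num) (show 7 ∣ e5 * c5 by omega)
    have h3 := dvd_centralizer_swap R hR S hS (hc5 ▸ hd)
    rw [← hc7, hc7'] at h3
    norm_num at h3
  rcases hr with hr | hr | hr <;> rw [hr] at hn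
  · -- seventy seven Sylow subgroups of order nineteen
    have h5c : 5 ∣ c := cop hed (by norm_num) (show 5 ∣ e * c by omega)
    have h19 : 19 ∣ c5 := hc5.symm ▸ dvd_centralizer_swap P hP R hR (hc ▸ h5c)
    have h19' : 19 ∣ e5 * c5 := h19.mul_left e5
    obtain ⟨z, hz⟩ := exists_prime_orderOf_dvd_card' (G := Subgroup.centralizer ((R : Subgroup G) : Set G)) 19 (hc5 ▸ h19)
    have hzo : orderOf (z : G) = 19 := by rw [Subgroup.orderOf_coe, hz]
    let Z : Sylow 19 G := Sylow.ofCard (Subgroup.zpowers (z : G))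
      (by rw [Nat.card_zpowers, hzo, ← P.card_eq_multiplicity, hP])
    set M := Subgroup.normalizer ((R : Subgroup G) : Set G) with hMdef
    set N := Subgroup.normalizer ((Z : Subgroup G) : Set G) with hNdef
    have hZM : (Z : Subgroup G) ≤ M :=
      (Subgroup.zpowers_le.2 z.2).trans (Subgroup.centralizer_le_normalizer _)
    have hRN : (R : Subgroup G) ≤ N := by
      refine le_trans ?_ (Subgroup.centralizer_le_normalizer _)
      intro x hx
      show x ∈ Subgroup.centralizer (Subgroup.zpowers (z : G) : Set G)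
      rw [Subgroup.zpowers_eq_closure, Subgroup.centralizer_closure]
      refine Subgroup.mem_centralizer_iff.2 fun y hy => ?_
      rw [Set.mem_singleton_iff] at hy
      subst hy
      exact (Subgroup.mem_centralizer_iff.1 z.2 x hx).symm
    have hM : Nat.card (Sylow 5 G) * Nat.card M = 87780 := by
      rw [R.card_eq_index_normalizer, ← h]; exact M.index_mul_card
    have hN : Nat.card (Sylow 19 G) * Nat.card N = 87780 := by
      rw [Z.card_eq_index_normalizer, ← h]; exact N.index_mul_card
    rw [hr] at hN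
    obtain ⟨k, hk, hkM⟩ := inter_normalizer Z M hZM
    obtain ⟨k', hk', hkN⟩ := inter_normalizer R N hRN
    rw [inf_comm, ← hMdef] at hkN
    rw [← hNdef] at hkM
    have hd5 : 5 ∣ Nat.card (M ⊓ N : Subgroup G) := by
      rw [← hR]
      exact Subgroup.card_dvd_of_le (le_inf Subgroup.le_normalizer hRN)
    have hdN : Nat.card (M ⊓ N : Subgroup G) ∣ 1140 := by
      rw [show 1140 = Nat.card N by omega]
      exact Subgroup.card_dvd_of_le inf_le_right
    have hNc : Nat.card N = 1140 := by omega
    generalize Nat.card (M ⊓ N : Subgroup G) = d at hkM hkN hd5 hdN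
    have fin : ∀ M0 ∈ [4180, 380], ∀ d ∈ (1140 : ℕ).divisors, 5 ∣ d → d ∣ M0 → (M0 / d) % 19 = 1 → (1140 / d) % 5 ≠ 1 := by
      decide +kernel
    have hdpos : 0 < d := Nat.pos_of_dvd_of_pos hdN (by norm_num)
    have hMc : Nat.card M ∈ [4180, 380] := by
      rcases hr5 with h5 | h5 | h5 | h5 | h5
      · rw [h5] at hM; simp; omega
      · exact absurd h5 no66
      · rw [h5] at hM; simp; omega
      · rw [h5] at hn5; omega
      · rw [h5] at hn5; omega
    refine fin _ hMc d (Nat.mem_divisors.2 ⟨hdN, by norm_num⟩) hd5 (Dvd.intro_left k hkM) ?_ ?_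
    · rw [← hkM, Nat.mul_div_cancel _ hdpos]; exact hk
    · rw [show 1140 = k' * d by omega, Nat.mul_div_cancel _ hdpos]; exact hk'
  · -- two hundred and ten
    have hc19 : c = 209 := by
      have h1 : e * c = 418 := by omega
      have h2 : e ∣ Nat.gcd 18 418 := Nat.dvd_gcd hed (h1 ▸ dvd_mul_right _ _)
      obtain rfl : e = 2 := ((Nat.dvd_prime Nat.prime_two).1 h2).resolve_left (by omega)
      omega
    have no5 : ∀ x, 5 ∣ e5 * x → 19 ∣ e5 * c5 → False := by
      intro x _ h19
      have h3 := dvd_centralizer_swap R hR P hP (hc5 ▸ cop hed5 (by norm_num) h19)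
      rw [← hc, hc19] at h3
      norm_num at h3
    have h5 : c5 = 15 ∧ Nat.card (Sylow 5 G) = 2926 := by
      rcases hr5 with h5 | h5 | h5 | h5 | h5 <;> rw [h5] at hn5
      · exact (no5 c5 (hpc5.mul_left e5) (by omega)).elim
      · exact absurd h5 no66
      · exact (no5 c5 (hpc5.mul_left e5) (by omega)).elim
      · exfalso
        have h11 : 11 ∣ c5 := cop hed5 (by norm_num) (show 11 ∣ e5 * c5 by omega)
        have h19B : 19 ∣ cB := hcB.symm ▸ dvd_centralizer_swap P hP Q hQ (by rw [← hc, hc19]; norm_num)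
        have h5B : 5 ∣ cB := hcB.symm ▸ dvd_centralizer_swap R hR Q hQ (hc5 ▸ h11)
        have h95 : 95 ∣ eB * cB := (Nat.Coprime.mul_dvd_of_dvd_of_dvd (by norm_num : Nat.Coprime 19 5) h19B h5B).mul_left eB
        rcases hrB with hrB | hrB | hrB <;> rw [hrB] at hnB <;> omega
      · refine ⟨?_, h5⟩
        have h1 : e5 * c5 = 30 := by omega
        have h2 : e5 ∣ Nat.gcd 4 30 := Nat.dvd_gcd hed5 (h1 ▸ dvd_mul_right _ _)
        obtain rfl : e5 = 2 := ((Nat.dvd_prime Nat.prime_two).1 h2).resolve_left (by omega)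
        omega
    have k19 := count_centralizer P hP (h := 11) (by rw [← hc, hc19]) (by norm_num)
    have k5 := count_centralizer R hR (h := 3) (by rw [← hc5, h5.1]) (by norm_num)
    have := three_le _ _ _ (fun x a b => by have := a.1.trans b.2; norm_num at this)
      (fun x a b => by have := a.1.trans b.2; norm_num at this)
      (fun x a b => by have := b.1.trans a.2; norm_num at this) k19 k5 k7
    rw [hr, h5.2, hr7, h] at this
    norm_num at this
  · -- fifteen hundred and forty
    have hc19 : c = 19 := by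
      obtain ⟨x, rfl⟩ := hpc
      have h1 : e * x = 3 := by linarith
      obtain rfl : e = 3 := ((Nat.dvd_prime Nat.prime_three).1 (Dvd.intro x h1)).resolve_left (by omega)
      omega
    have k19 := count_centralizer P hP (h := 1) (by rw [← hc, hc19]) (by norm_num)
    have no19 : ∀ {q cq : ℕ} [Fact q.Prime] (T : Sylow q G), Nat.card (T : Subgroup G) = q →
        cq = Nat.card (Subgroup.centralizer ((T : Subgroup G) : Set G)) → 19 ∣ cq → q = 19 := by
      intro q cq _ T hT hcq hd
      have h3 := dvd_centralizer_swap T hT P hP (hcq ▸ hd)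
      rw [← hc, hc19] at h3
      exact ((Nat.dvd_prime (by norm_num)).1 h3).resolve_left (Fact.out : q.Prime).ne_one
    rcases hr5 with h5 | h5 | h5 | h5 | h5 <;> rw [h5] at hn5
    · exact absurd (no19 R hR hc5 (cop hed5 (by norm_num) (show 19 ∣ e5 * c5 by omega))) (by norm_num)
    · exact absurd h5 no66
    · exact absurd (no19 R hR hc5 (cop hed5 (by norm_num) (show 19 ∣ e5 * c5 by omega))) (by norm_num)
    · -- two hundred and sixty six Sylow subgroups of order five
      have h11 : 11 ∣ c5 := cop hed5 (by norm_num) (show 11 ∣ e5 * c5 by omega)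
      have h5B : 5 ∣ cB := hcB.symm ▸ dvd_centralizer_swap R hR Q hQ (hc5 ▸ h11)
      rcases hrB with hrB | hrB | hrB <;> rw [hrB] at hnB
      · have hcB' : cB = 330 := by
          have h1 : eB * cB = 660 := by omega
          have h55 : 55 ∣ cB := Nat.Coprime.mul_dvd_of_dvd_of_dvd (by norm_num : Nat.Coprime 11 5) hpcB h5B
          obtain ⟨x, rfl⟩ := h55
          have h12 : eB * x = 12 := by linarith
          have h2 : eB ∣ Nat.gcd 10 12 := Nat.dvd_gcd hedB (h12 ▸ dvd_mul_right _ _)
          obtain rfl : eB = 2 := ((Nat.dvd_prime Nat.prime_two).1 h2).resolve_left (by omega)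
          omega
        have kB := count_centralizer Q hQ (h := 30) (by rw [← hcB, hcB']) (by norm_num)
        have := three_le _ _ _ (fun x a b => by have := a.1.trans b.2; norm_num at this)
          (fun x a b => by have := a.1.trans b.2; norm_num at this)
          (fun x a b => by have := b.1.trans a.2; norm_num at this) k19 kB k7
        rw [hr, hrB, hr7, h] at this
        norm_num at this
      · exact absurd (no19 Q hQ hcB (cop hedB (by norm_num) (show 19 ∣ eB * cB by omega))) (by norm_num)
      · have h55 : 55 ∣ cB := Nat.Coprime.mul_dvd_of_dvd_of_dvd (by norm_num : Nat.Coprime 11 5) hpcB h5B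
        obtain ⟨x, rfl⟩ := h55
        have h12 : eB * x = 1 := by linarith
        have := Nat.eq_one_of_mul_eq_one_right h12
        omega
    · have hc5' : c5 = 15 := by
        have h1 : e5 * c5 = 30 := by omega
        have h2 : e5 ∣ Nat.gcd 4 30 := Nat.dvd_gcd hed5 (h1 ▸ dvd_mul_right _ _)
        obtain rfl : e5 = 2 := ((Nat.dvd_prime Nat.prime_two).1 h2).resolve_left (by omega)
        omega
      have k5 := count_centralizer R hR (h := 3) (by rw [← hc5, hc5']) (by norm_num)
      have := three_le _ _ _ (fun x a b => by have := a.1.trans b.2; norm_num at this)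
        (fun x a b => by have := a.1.trans b.2; norm_num at this)
        (fun x a b => by have := b.1.trans a.2; norm_num at this) k19 k5 k7
      rw [hr, h5, hr7, h] at this
      norm_num at this

/-- The divisors of 9240 whose product with 19 is settled by the Sylow numbers of 19. -/
theorem excluded_list : ∀ d ∈ (9240 : ℕ).divisors, 4 ∣ d → d ∉ ({60, 420, 924, 1848, 3080, 4620, 9240} : Finset ℕ) →
    ∀ r ∈ candidates 19 d, SylowExcluded (19 * d) 19 425 r := by decide +kernel

/-- The smallest prime is a simple factor in the other orders. -/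
theorem small_prime : ∀ d ∈ (9240 : ℕ).divisors, ¬ 4 ∣ d → 1 < d →
    ∃ p ∈ [2, 3, 5, 7, 11], p ∣ d ∧ ¬ p * p ∣ 19 * d ∧ ∀ q ∈ [2, 3, 5, 7, 11, 19], q ∣ 19 * d / p → p < q := by
  decide +kernel

/-- **No simple group** has order properly dividing that of `J₁` and divisible by 19, other than 19. -/
theorem not_simple [IsSimpleGroup G] (hG : ¬ IsMulCommutative G) {d : ℕ} (hd : d ∣ 9240) (hne : d ≠ 9240)
    (h : Nat.card G = 19 * d) : False := by
  haveI := Fact.mk (show Nat.Prime 19 by norm_num)
  have hd1 : 1 < d := by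
    by_contra hle
    have hd0 : d ≠ 0 := fun h0 => by subst h0; simp at hd
    have : d = 1 := by omega
    subst this
    haveI : IsCyclic G := isCyclic_of_prime_card (p := 19) (by rw [h])
    exact hG inferInstance
  have hmem : d ∈ (9240 : ℕ).divisors := Nat.mem_divisors.2 ⟨hd, by norm_num⟩
  have hnd : ¬ 19 ∣ d := fun h19 => by have := h19.trans hd; norm_num at this
  by_cases h4 : 4 ∣ d
  · by_cases hx : d ∈ ({60, 420, 924, 1848, 3080, 4620, 9240} : Finset ℕ)
    · simp only [Finset.mem_insert, Finset.mem_singleton] at hx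
      rcases hx with rfl | rfl | rfl | rfl | rfl | rfl | rfl
      · exact not_simple_of_excluded 1140 5 228 425 (by norm_num) (by norm_num) (by norm_num) (by norm_num) (by norm_num)
          (by decide +kernel) h
      · exact not_7980 hG h
      · exact not_simple_of_excluded 17556 11 1596 425 (by norm_num) (by norm_num) (by norm_num) (by norm_num) (by norm_num)
          (by decide +kernel) h
      · exact not_35112 hG h
      · exact not_58520 hG h
      · exact not_87780 hG h
      · exact hne rfl
    · exact not_simple_of_excluded (19 * d) 19 d 425 (by norm_num) (by rw [pow_one]) hnd (by omega) (by norm_num)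
        (excluded_list d hmem h4 hx) h
  · obtain ⟨p, hp, hpd, hp2, hlt⟩ := small_prime d hmem h4 hd1
    have hpp : p.Prime := by fin_cases hp <;> norm_num
    refine not_simple_smallest_prime_exp_one (m := 19 * d / p) hpp hG
      (by rw [h, pow_one, Nat.mul_div_cancel' (hpd.mul_left 19)]) fun q hq hqd => hlt q ?_ hqd
    have h1 : q ∣ 19 * 9240 := (hqd.trans (Nat.div_dvd_of_dvd (hpd.mul_left 19))).trans (mul_dvd_mul_left 19 hd)
    rw [show 19 * 9240 = 2 ^ 3 * 3 * 5 * 7 * 11 * 19 by norm_num] at h1
    simp only [hq.dvd_mul] at h1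
    have key : ∀ r : ℕ, r.Prime → q ∣ r → q = r := fun r hr h => (Nat.prime_dvd_prime_iff_eq hq hr).1 h
    simp only [List.mem_cons, List.not_mem_nil, or_false]
    rcases h1 with ((((h1 | h1) | h1) | h1) | h1) | h1
    · exact Or.inl (key 2 Nat.prime_two (hq.dvd_of_dvd_pow h1))
    · exact Or.inr (Or.inl (key _ (by norm_num) h1))
    · exact Or.inr (Or.inr (Or.inl (key _ (by norm_num) h1)))
    · exact Or.inr (Or.inr (Or.inr (Or.inl (key _ (by norm_num) h1))))
    · exact Or.inr (Or.inr (Or.inr (Or.inr (Or.inl (key _ (by norm_num) h1)))))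
    · exact Or.inr (Or.inr (Or.inr (Or.inr (Or.inr (key _ (by norm_num) h1)))))

end Cfsg.Agent.Lib.KnownA.OrderJanko
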