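import Cfsg.Agent.Lib.Characters.Perm
import Mathlib.GroupTheory.FiniteAbelian.Duality
import Mathlib.RingTheory.RootsOfUnity.AlgebraicallyClosed

/-!
Splitting a permutation character by a commuting abelian group.
-/

set_option linter.unusedSectionVars false

namespace Cfsg.Agent.Lib.KnownA.PermSplit

open Cfsg.Agent.Lib.Characters
open scoped ComplexConjugate

universe u v w

variable {G : Type u} [Group G] [Fintype G] {A : Type w} [CommGroup A] [Fintype A] {X : Type v} [Finite X]
  [MulAction (G × A) X]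

/-- The component of the permutation character. -/
noncomputable def comp (l : A →* ℂˣ) (g : G) : ℂ :=
  (Nat.card A : ℂ)⁻¹ * ∑ a : A, (l a⁻¹ : ℂ) * (Nat.card (MulAction.fixedBy X (g, a)) : ℂ)

theorem linChar (l : A →* ℂˣ) : IsCharacter A (fun a => (l a : ℂ)) :=
  IsIrrCharacter.isCharacter (isIrrCharacter_unitsHom l)

theorem isCharacter_prod (χ : IrrCharacter G) (l : A →* ℂˣ) :
    IsCharacter (G × A) (fun x => (χ : G → ℂ) x.1 * (l x.2 : ℂ)) :=
  IsCharacter.mul (IsCharacter.comp (irr_isCharacter χ) (MonoidHom.fst G A))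
    (IsCharacter.comp (linChar l) (MonoidHom.snd G A))

theorem comp_isClassFunction (l : A →* ℂˣ) : IsClassFunction G (comp (X := X) l) := by
  intro g h
  unfold comp
  refine congrArg _ (Finset.sum_congr rfl fun a _ => congrArg _ ?_)
  have := IsCharacter.conj_apply (isCharacter_permChar (G := G × A) X) (g, a) (h, 1)
  simpa using this

theorem classInner_comp (l : A →* ℂˣ) (χ : G → ℂ) :
    classInner (comp (X := X) l) χ = classInner (G := G × A)
      (fun x => (Nat.card (MulAction.fixedBy X x) : ℂ)) (fun x => χ x.1 * (l x.2 : ℂ)) := by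
  unfold classInner comp
  rw [Nat.card_prod, Fintype.sum_prod_type, Nat.cast_mul, mul_inv, mul_assoc]
  simp only [Finset.mul_sum, Finset.sum_mul]
  refine Finset.sum_congr rfl fun g _ => Finset.sum_congr rfl fun a _ => ?_
  rw [map_mul, ← IsCharacter.apply_inv (linChar l)]
  ring

theorem comp_isCharacter (l : A →* ℂˣ) : IsCharacter G (comp (X := X) l) := by
  refine isCharacter_iff_classInner_nat.mpr ⟨comp_isClassFunction l, fun χ => ?_⟩
  rw [classInner_comp]
  exact IsCharacter.exists_classInner_nat (isCharacter_permChar (G := G × A) X) (isCharacter_prod χ l)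

theorem comp_one_one : classInner (comp (G := G) (X := X) (1 : A →* ℂˣ)) (fun _ => 1) =
    (Nat.card (Quotient (MulAction.orbitRel (G × A) X)) : ℂ) := by
  rw [classInner_comp, ← classInner_permChar_one (G := G × A) X]
  simp

theorem comp_apply_one (l : A →* ℂˣ) (hfree : ∀ a : A, a ≠ 1 → ∀ x : X, ((1 : G), a) • x ≠ x) :
    comp (G := G) (X := X) l 1 = (Nat.card A : ℂ)⁻¹ * (Nat.card X : ℂ) := by
  unfold comp
  rw [Finset.sum_eq_single (1 : A)]
  · rw [inv_one, map_one, Units.val_one, one_mul]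
    refine congrArg _ (Nat.cast_inj.mpr ?_)
    rw [Nat.card_congr (Equiv.subtypeUnivEquiv fun x => ?_)]
    show ((1 : G × A)) • x = x
    rw [one_smul]
  · intro a _ ha
    have : IsEmpty (MulAction.fixedBy X ((1 : G), a)) := ⟨fun x => hfree a ha x.1 x.2⟩
    simp
  · simp

theorem sum_comp (g : G) [Fintype (A →* ℂˣ)] :
    ∑ l : A →* ℂˣ, comp (X := X) l g = (Nat.card (MulAction.fixedBy X (g, (1 : A))) : ℂ) := by
  classical
  unfold comp
  rw [← Finset.mul_sum, Finset.sum_comm, Finset.sum_eq_single (1 : A)]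
  · simp only [inv_one, map_one, Units.val_one, one_mul, Finset.sum_const, Finset.card_univ,
      nsmul_eq_mul, ← Nat.card_eq_fintype_card]
    rw [CommGroup.card_monoidHom_of_hasEnoughRootsOfUnity A ℂ, ← mul_assoc,
      inv_mul_cancel₀ (Nat.cast_ne_zero.mpr Nat.card_pos.ne'), one_mul]
  · intro a _ ha
    rw [← Finset.sum_mul]
    suffices h : ∑ l : A →* ℂˣ, (l a⁻¹ : ℂ) = 0 by rw [h, zero_mul]
    obtain ⟨m, hm⟩ := CommGroup.exists_apply_ne_one_of_hasEnoughRootsOfUnity A ℂ (inv_ne_one.mpr ha)
    have hsh : ∑ l : A →* ℂˣ, (l a⁻¹ : ℂ) = (m a⁻¹ : ℂ) * ∑ l : A →* ℂˣ, (l a⁻¹ : ℂ) := by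
      rw [Finset.mul_sum]
      exact (Fintype.sum_equiv (Equiv.mulLeft m) _ _ fun l => by simp).symm
    have : ((m a⁻¹ : ℂ) - 1) * ∑ l : A →* ℂˣ, (l a⁻¹ : ℂ) = 0 := by
      rw [sub_mul, one_mul, ← hsh, sub_self]
    exact (mul_eq_zero.mp this).resolve_left (sub_ne_zero.mpr fun h => hm (Units.ext h))
  · simp

/-- If the rank is `|A| + 1` and the enlarged group is transitive, the components are irreducible. -/
theorem exists_split [MulAction G X] (hres : ∀ (g : G) (x : X), (g, (1 : A)) • x = g • x)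
    (hfree : ∀ a : A, a ≠ 1 → ∀ x : X, ((1 : G), a) • x ≠ x)
    (horb : Nat.card (Quotient (MulAction.orbitRel (G × A) X)) = 1)
    (hrank : Nat.card (Quotient (MulAction.orbitRel G (X × X))) = Nat.card A + 1)
    (horbG : Nat.card (Quotient (MulAction.orbitRel G X)) = 1)
    (hbig : Nat.card A < Nat.card X) :
    ∃ χ : Fin (Nat.card A) → (G → ℂ), (∀ i, IsIrrCharacter G (χ i)) ∧ Function.Injective χ ∧
      ∀ g, (Nat.card (MulAction.fixedBy X g) : ℂ) = 1 + ∑ i, χ i g := by
  classical
  haveI := Fintype.ofFinite (IrrCharacter G)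
  haveI : Fintype (A →* ℂˣ) := Fintype.ofFinite _
  let e := trivIrr G
  choose m hm hm' using fun l : A →* ℂˣ =>
    IsCharacter.exists_nat_decomp (comp_isCharacter (G := G) (X := X) l)
  have hfix : ∀ g : G, (Nat.card (MulAction.fixedBy X (g, (1 : A))) : ℂ) =
      (Nat.card (MulAction.fixedBy X g) : ℂ) := fun g =>
    Nat.cast_inj.mpr (Nat.card_congr (Equiv.subtypeEquivRight fun x => by
      simp only [MulAction.mem_fixedBy, hres]))
  let P : G → ℂ := fun g => (Nat.card (MulAction.fixedBy X g) : ℂ)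
  have hsum : P = ∑ l : A →* ℂˣ, comp (X := X) l := by
    funext g
    rw [Finset.sum_apply, sum_comp, hfix]
  have hP : IsCharacter G P := isCharacter_permChar (G := G) X
  have hPm : ∀ χ : IrrCharacter G, classInner P (χ : G → ℂ) = ((∑ l, m l χ : ℕ) : ℂ) := fun χ => by
    rw [hsum, classInner_sum_left, Nat.cast_sum]
    exact Finset.sum_congr rfl fun l _ => hm' l χ
  have hnorm : ∑ χ, (∑ l, m l χ) ^ 2 = Nat.card A + 1 := by
    have h := classInner_permChar_self (G := G) X
    rw [classInner_eq_sum_irr (IsCharacter.isClassFunction hP) (IsCharacter.isClassFunction hP)] at h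
    simp only [hPm, map_natCast, hrank] at h
    simp only [pow_two]
    exact_mod_cast h
  have h1e : m 1 e = 1 := by
    have h := hm' 1 e
    rw [show ((e : IrrCharacter G) : G → ℂ) = fun _ => 1 from rfl, comp_one_one, horb] at h
    exact_mod_cast h.symm
  have htot : ∑ l, m l e = 1 := by
    have h := hPm e
    rw [show ((e : IrrCharacter G) : G → ℂ) = fun _ => 1 from rfl] at h
    have h2 := classInner_permChar_one (G := G) X
    rw [horbG, h] at h2
    exact_mod_cast h2
  have hle : ∀ l, l ≠ (1 : A →* ℂˣ) → m l e = 0 := fun l hl => by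
    have h := Finset.add_le_sum (f := fun l => m l e) (fun _ _ => Nat.zero_le _)
      (Finset.mem_univ (1 : A →* ℂˣ)) (Finset.mem_univ l) (Ne.symm hl)
    omega
  -- every component has a constituent other than the principal character
  have hex : ∀ l, ∃ χ, χ ≠ e ∧ 1 ≤ m l χ := by
    intro l
    by_contra! hcon
    have hs : comp (G := G) (X := X) l = (m l e : ℂ) • (fun _ => (1 : ℂ)) := by
      rw [hm l, Finset.sum_eq_single e]
      · rfl
      · intro χ _ hχ
        rw [Nat.lt_one_iff.mp (hcon χ hχ)]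
        simp
      · simp
    have h1 := congrFun hs 1
    rw [comp_apply_one l hfree, Pi.smul_apply, smul_eq_mul, mul_one] at h1
    have hle1 : m l e ≤ 1 := by
      by_cases hl : l = 1
      · rw [hl, h1e]
      · rw [hle l hl]; exact Nat.zero_le _
    rw [inv_mul_eq_iff_eq_mul₀ (Nat.cast_ne_zero.mpr Nat.card_pos.ne')] at h1
    have h2 : Nat.card X = Nat.card A * m l e := by exact_mod_cast h1
    have := Nat.mul_le_mul_left (Nat.card A) hle1
    omega
  choose c hce hc using hex
  let N : IrrCharacter G → ℕ := fun χ => ∑ l, m l χ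
  have hNe : N e = 1 := htot
  have hrest : ∑ χ ∈ Finset.univ.erase e, N χ ^ 2 = Nat.card A := by
    have h := Finset.add_sum_erase Finset.univ (fun χ => N χ ^ 2) (Finset.mem_univ e)
    simp only [hNe, one_pow] at h
    change 1 + ∑ χ ∈ Finset.univ.erase e, N χ ^ 2 = ∑ χ, (∑ l, m l χ) ^ 2 at h
    rw [hnorm] at h
    omega
  have hlow : ∀ l, 1 ≤ ∑ χ ∈ Finset.univ.erase e, m l χ := fun l =>
    (hc l).trans (Finset.single_le_sum (f := fun χ => m l χ) (fun _ _ => Nat.zero_le _)
      (Finset.mem_erase.mpr ⟨hce l, Finset.mem_univ _⟩))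
  have hcardA : Fintype.card (A →* ℂˣ) = Nat.card A := by
    rw [← Nat.card_eq_fintype_card, CommGroup.card_monoidHom_of_hasEnoughRootsOfUnity A ℂ]
  have hswap : ∑ χ ∈ Finset.univ.erase e, N χ = ∑ l, ∑ χ ∈ Finset.univ.erase e, m l χ := Finset.sum_comm
  have hlow' : Nat.card A ≤ ∑ χ ∈ Finset.univ.erase e, N χ := by
    rw [hswap, ← hcardA]
    simpa using Finset.sum_le_sum (s := Finset.univ) fun l (_ : l ∈ Finset.univ) => hlow l
  have hsq : ∀ χ ∈ Finset.univ.erase e, N χ ≤ N χ ^ 2 := fun χ _ => Nat.le_self_pow two_ne_zero _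
  have heq : ∑ χ ∈ Finset.univ.erase e, N χ = ∑ χ ∈ Finset.univ.erase e, N χ ^ 2 :=
    le_antisymm (Finset.sum_le_sum hsq) (hrest.le.trans hlow')
  have hN1 : ∀ χ, χ ≠ e → N χ ≤ 1 := fun χ hχ => by
    have h := (Finset.sum_eq_sum_iff_of_le hsq).mp heq χ (Finset.mem_erase.mpr ⟨hχ, Finset.mem_univ _⟩)
    by_contra hgt
    nlinarith
  have hone : ∀ l, ∑ χ ∈ Finset.univ.erase e, m l χ = 1 := by
    have h : ∑ l, ∑ χ ∈ Finset.univ.erase e, m l χ = ∑ _l : A →* ℂˣ, 1 := by
      rw [← hswap, heq, hrest, Finset.sum_const, Finset.card_univ, hcardA, smul_eq_mul, mul_one]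
    intro l
    exact ((Finset.sum_eq_sum_iff_of_le fun l _ => hlow l).mp h.symm l (Finset.mem_univ l)).symm
  have hdec : ∀ l χ, χ ≠ e → χ ≠ c l → m l χ = 0 := fun l χ h1 h2 => by
    have h := Finset.add_le_sum (f := fun χ => m l χ) (fun _ _ => Nat.zero_le _)
      (Finset.mem_erase.mpr ⟨hce l, Finset.mem_univ _⟩) (Finset.mem_erase.mpr ⟨h1, Finset.mem_univ _⟩)
      (Ne.symm h2)
    have := hone l
    have := hc l
    omega
  have hinj : Function.Injective c := fun l l' h => by
    by_contra hne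
    have h1 := Finset.add_le_sum (f := fun l => m l (c l')) (fun _ _ => Nat.zero_le _)
      (Finset.mem_univ l) (Finset.mem_univ l') hne
    have := hN1 (c l') (hce l')
    have h2 := hc l
    rw [h] at h2
    have h3 := hc l'
    simp only [N] at this
    omega
  have hcomp : ∀ l g, comp (X := X) l g = (m l e : ℂ) + ((c l : IrrCharacter G) : G → ℂ) g := by
    intro l g
    have h : comp (G := G) (X := X) l = (m l e : ℂ) • (fun _ => (1 : ℂ)) + ((c l : IrrCharacter G) : G → ℂ) := by
      rw [hm l, ← Finset.add_sum_erase Finset.univ _ (Finset.mem_univ e),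
        Finset.sum_eq_single (c l)]
      · have h2 : m l (c l) = 1 := le_antisymm ((Finset.single_le_sum (f := fun χ => m l χ)
          (fun _ _ => Nat.zero_le _) (Finset.mem_erase.mpr ⟨hce l, Finset.mem_univ _⟩)).trans (hone l).le) (hc l)
        rw [h2, Nat.cast_one, one_smul]
        rfl
      · intro χ hχ hne
        rw [hdec l χ (Finset.ne_of_mem_erase hχ) hne, Nat.cast_zero, zero_smul]
      · intro h
        exact absurd (Finset.mem_erase.mpr ⟨hce l, Finset.mem_univ _⟩) h
    rw [h]
    simp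
  let E : Fin (Nat.card A) ≃ (A →* ℂˣ) := (Fintype.equivFinOfCardEq hcardA).symm
  refine ⟨fun i => (c (E i) : G → ℂ), fun i => (c (E i)).2,
    (Subtype.val_injective.comp hinj).comp E.injective, fun g => ?_⟩
  show P g = _
  rw [hsum, Finset.sum_apply, Finset.sum_congr rfl fun l _ => hcomp l g, Finset.sum_add_distrib,
    Fintype.sum_equiv E (fun i => ((c (E i) : IrrCharacter G) : G → ℂ) g) (fun l => ((c l : IrrCharacter G) : G → ℂ) g) fun i => rfl,
    ← Nat.cast_sum, htot, Nat.cast_one]

/-- Two independent families are related by a linear automorphism. -/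
theorem exists_extend_equiv {K V ι : Type*} [Field K] [AddCommGroup V] [Module K V] [FiniteDimensional K V]
    [Fintype ι] {f g : ι → V} (h : LinearIndependent K f) (h' : LinearIndependent K g) :
    ∃ e : V ≃ₗ[K] V, ∀ i, e (f i) = g i := by
  obtain ⟨C, hC⟩ := Submodule.exists_isCompl (Submodule.span K (Set.range f))
  obtain ⟨C', hC'⟩ := Submodule.exists_isCompl (Submodule.span K (Set.range g))
  let e1 : Submodule.span K (Set.range f) ≃ₗ[K] Submodule.span K (Set.range g) :=
    h.linearCombinationEquiv.symm.trans h'.linearCombinationEquiv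
  have hfr : Module.finrank K C = Module.finrank K C' := by
    have e2 := Submodule.finrank_add_eq_of_isCompl hC
    have e3 := Submodule.finrank_add_eq_of_isCompl hC'
    have e4 := e1.finrank_eq
    omega
  refine ⟨(Submodule.prodEquivOfIsCompl _ _ hC).symm.trans
    ((e1.prodCongr (LinearEquiv.ofFinrankEq _ _ hfr)).trans (Submodule.prodEquivOfIsCompl _ _ hC')), fun i => ?_⟩
  have hi : f i ∈ Submodule.span K (Set.range f) := Submodule.subset_span ⟨i, rfl⟩
  have hs : (Submodule.prodEquivOfIsCompl _ _ hC).symm (f i) = (⟨f i, hi⟩, 0) :=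
    Submodule.prodEquivOfIsCompl_symm_apply_left _ _ hC ⟨f i, hi⟩
  have h1 : h.linearCombinationEquiv (Finsupp.single i 1) = ⟨f i, hi⟩ := Subtype.ext (by simp)
  rw [LinearEquiv.trans_apply, LinearEquiv.trans_apply, hs, LinearEquiv.prodCongr_apply, map_zero,
    Submodule.coe_prodEquivOfIsCompl', ← h1]
  simp [e1]

/-- Two independent pairs are related by a linear automorphism. -/
theorem exists_linearEquiv {K V : Type*} [Field K] [AddCommGroup V] [Module K V] [FiniteDimensional K V]
    {a b v w : V} (h : LinearIndependent K ![a, b]) (h' : LinearIndependent K ![v, w]) :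
    ∃ g : V ≃ₗ[K] V, g a = v ∧ g b = w := by
  obtain ⟨g, hg⟩ := exists_extend_equiv h h'
  exact ⟨g, hg 0, hg 1⟩

end Cfsg.Agent.Lib.KnownA.PermSplit
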