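import Mathlib

set_option autoImplicit false

namespace Cfsg.Agent.Lib.KnownA

/-- The rank of `A * B` with an identity submatrix is the inner dimension. -/
theorem rank_mul_of_submatrix_one {F : Type*} [Field F] {n ℓ : ℕ}
    (A : Matrix (Fin n) (Fin ℓ) F) (B : Matrix (Fin ℓ) (Fin n) F) (f g : Fin ℓ → Fin n)
    (h : (A * B).submatrix f g = 1) : (A * B).rank = ℓ := by
  refine le_antisymm ((Matrix.rank_mul_le_left A B).trans ((Matrix.rank_le_card_width A).trans_eq (Fintype.card_fin ℓ))) ?_
  have h1 := Matrix.rank_submatrix_le (A * B) f g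
  rwa [h, Matrix.rank_one, Fintype.card_fin] at h1


end Cfsg.Agent.Lib.KnownA
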