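import Mathlib

set_option autoImplicit false

namespace Cfsg.Agent.Lib.KnownA

/-- A real non-involution in an abelian Sylow subgroup makes `N(P)/C(P)` of even order. -/
theorem two_dvd_index_of_real {G : Type*} [Group G] [Finite G] {p : ℕ} [Fact p.Prime]
    (P : Sylow p G) (hP : IsMulCommutative (P : Subgroup G)) {x : G} (hx : x ∈ (P : Subgroup G))
    (hne : x⁻¹ ≠ x) (hreal : IsConj x x⁻¹) :
    2 ∣ ((Subgroup.centralizer ((P : Subgroup G) : Set G)).subgroupOf
      (Subgroup.normalizer ((P : Subgroup G) : Set G))).index := by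
  obtain ⟨c, hc⟩ := isConj_iff.mp hreal
  have hy : (c⁻¹)⁻¹ * x * c⁻¹ ∈ (P : Subgroup G) := by rw [inv_inv, hc]; exact inv_mem hx
  haveI := hP
  obtain ⟨n, hn, hn'⟩ := P.conj_eq_normalizer_conj_of_mem x c⁻¹ hx hy
  rw [inv_inv, hc] at hn'
  rw [← Subgroup.normalizerMonoidHom_ker (H := (P : Subgroup G))]
  set m := ((P : Subgroup G).normalizerMonoidHom.ker).index with hm
  by_contra hodd
  have hmem := Subgroup.pow_index_mem (H := (P : Subgroup G).normalizerMonoidHom.ker) ⟨n, hn⟩
  rw [← hm, Subgroup.normalizerMonoidHom_ker, Subgroup.mem_subgroupOf, SubmonoidClass.coe_pow,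
    Subgroup.mem_centralizer_iff] at hmem
  have hcomm : x * n ^ m = n ^ m * x := hmem x hx
  have key : ∀ k : ℕ, (n ^ k)⁻¹ * x * n ^ k = if Even k then x else x⁻¹ := by
    intro k
    induction k with
    | zero => simp
    | succ k ih =>
      have h : (n ^ (k + 1))⁻¹ * x * n ^ (k + 1) = n⁻¹ * ((n ^ k)⁻¹ * x * n ^ k) * n := by
        rw [pow_succ]; group
      rw [h, ih]
      by_cases he : Even k
      · rw [if_pos he, if_neg (by simpa [Nat.even_add_one] using he), hn']
      · rw [if_neg he, if_pos (by simpa [Nat.even_add_one] using he)]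
        have := congrArg (·⁻¹) hn'.symm
        simpa [mul_assoc] using this
  have h2 := key m
  rw [if_neg (by rwa [even_iff_two_dvd]), mul_assoc, hcomm, inv_mul_cancel_left] at h2
  exact hne h2.symm

end Cfsg.Agent.Lib.KnownA
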