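import Mathlib
import Cfsg.Agent.Lib.KnownA.GL2Ind

/-! Characters of `SL₂(q)` induced from the Borel subgroup. -/

set_option autoImplicit false

namespace Cfsg.Agent.Lib.KnownA

open scoped ComplexConjugate
open Matrix Cfsg Cfsg.Agent.Lib.Characters

section
variable {F : Type*} [Field F]

/-- The Borel subgroup of `SL₂`. -/
abbrev borelSL (F : Type*) [Field F] : Subgroup (Matrix.SpecialLinearGroup (Fin 2) F) :=
  (Cfsg.upperTriangularGL 2 F).comap Matrix.SpecialLinearGroup.toGL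

theorem mem_borelSL (g : Matrix.SpecialLinearGroup (Fin 2) F) :
    g ∈ borelSL F ↔ (g : Matrix (Fin 2) (Fin 2) F) 1 0 = 0 := by
  rw [Subgroup.mem_comap, mem_upper_iff]
  rfl

/-- The element `(a c; 0 a⁻¹)`. -/
def bSL (a : Fˣ) (c : F) : Matrix.SpecialLinearGroup (Fin 2) F :=
  ⟨!![(a : F), c; 0, ((a⁻¹ : Fˣ) : F)], by simp⟩

theorem bSL_coe (a : Fˣ) (c : F) :
    (bSL a c : Matrix (Fin 2) (Fin 2) F) = !![(a : F), c; 0, ((a⁻¹ : Fˣ) : F)] := rfl

theorem borelSL_diag (b : borelSL F) :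
    ((b : Matrix.SpecialLinearGroup (Fin 2) F) : Matrix (Fin 2) (Fin 2) F) 0 0 *
      ((b : Matrix.SpecialLinearGroup (Fin 2) F) : Matrix (Fin 2) (Fin 2) F) 1 1 = 1 := by
  have h := (b : Matrix.SpecialLinearGroup (Fin 2) F).det_coe
  rwa [Matrix.det_fin_two, (mem_borelSL _).mp b.2, mul_zero, sub_zero] at h

/-- `Fˣ × F` parametrises the Borel subgroup of `SL₂`. -/
noncomputable def borelEquivSL : Fˣ × F ≃ borelSL F :=
  Equiv.ofBijective (fun x => ⟨bSL x.1 x.2, (mem_borelSL _).mpr (by simp [bSL_coe])⟩) (by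
    constructor
    · rintro ⟨a, c⟩ ⟨a', c'⟩ h
      have h' : bSL a c = bSL a' c' := congrArg Subtype.val h
      have e00 := congrArg (fun k : Matrix.SpecialLinearGroup (Fin 2) F => (k : Matrix (Fin 2) (Fin 2) F) 0 0) h'
      have e01 := congrArg (fun k : Matrix.SpecialLinearGroup (Fin 2) F => (k : Matrix (Fin 2) (Fin 2) F) 0 1) h'
      simp [bSL_coe] at e00 e01
      rw [Units.ext e00, e01]
    · intro b
      have h := borelSL_diag b
      refine ⟨(Units.mk0 _ (left_ne_zero_of_mul_eq_one h),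
        ((b : Matrix.SpecialLinearGroup (Fin 2) F) : Matrix (Fin 2) (Fin 2) F) 0 1), Subtype.ext (Subtype.ext ?_)⟩
      have h2 := eq_inv_of_mul_eq_one_right h
      change ((bSL _ _ : Matrix.SpecialLinearGroup (Fin 2) F) : Matrix (Fin 2) (Fin 2) F) = _
      rw [bSL_coe]
      ext i j
      fin_cases i <;> fin_cases j <;> simp [h2, (mem_borelSL _).mp b.2])

theorem borelEquivSL_coe (x : Fˣ × F) :
    ((borelEquivSL x : borelSL F) : Matrix.SpecialLinearGroup (Fin 2) F) = bSL x.1 x.2 := rfl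

/-- The linear character `b ↦ α(b₀₀)`. -/
noncomputable def borelHomSL (α : MulChar F ℂ) : borelSL F →* ℂ where
  toFun b := α (((b : Matrix.SpecialLinearGroup (Fin 2) F) : Matrix (Fin 2) (Fin 2) F) 0 0)
  map_one' := by simp
  map_mul' a b := by
    have hb := (mem_borelSL _).mp b.2
    rw [Subgroup.coe_mul, Matrix.SpecialLinearGroup.coe_mul]
    simp only [Matrix.mul_apply, Fin.sum_univ_two, hb, mul_zero, add_zero, map_mul]

/-- Coset representatives of the Borel subgroup of `SL₂`. -/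
def lineRepSL : Option F → Matrix.SpecialLinearGroup (Fin 2) F
  | none => 1
  | some x => ⟨!![x, -1; 1, 0], by simp⟩

theorem lineRepSL_some_coe (x : F) :
    (lineRepSL (some x) : Matrix (Fin 2) (Fin 2) F) = !![x, -1; 1, 0] := rfl

theorem inv_lineRepSL_some (x : F) :
    (((lineRepSL (some x))⁻¹ : Matrix.SpecialLinearGroup (Fin 2) F) : Matrix (Fin 2) (Fin 2) F) =
      !![0, 1; -1, x] := by
  rw [Matrix.SpecialLinearGroup.coe_inv, lineRepSL_some_coe, Matrix.adjugate_fin_two_of, neg_neg]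

theorem lineRepSL_bijective :
    Function.Bijective (fun o : Option F => (lineRepSL o : Matrix.SpecialLinearGroup (Fin 2) F ⧸ borelSL F)) := by
  constructor
  · rintro (_ | x) (_ | y) h <;>
      simp only [QuotientGroup.eq, mem_borelSL, Matrix.SpecialLinearGroup.coe_mul] at h
    · rfl
    · exfalso
      rw [show lineRepSL (none : Option F) = 1 from rfl, inv_one, Matrix.SpecialLinearGroup.coe_one, one_mul,
        lineRepSL_some_coe] at h
      simp at h
    · exfalso
      rw [inv_lineRepSL_some] at h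
      simp [lineRepSL] at h
    · rw [inv_lineRepSL_some, lineRepSL_some_coe] at h
      simp [Matrix.mul_apply, Fin.sum_univ_two] at h
      rw [show y = x by linear_combination -h]
  · intro C
    induction C using QuotientGroup.induction_on with
    | _ k =>
      by_cases h : (k : Matrix (Fin 2) (Fin 2) F) 1 0 = 0
      · exact ⟨none, QuotientGroup.eq.mpr (by
          rw [show lineRepSL (none : Option F) = 1 from rfl, inv_one, one_mul, mem_borelSL]
          exact h)⟩
      · refine ⟨some ((k : Matrix (Fin 2) (Fin 2) F) 0 0 / (k : Matrix (Fin 2) (Fin 2) F) 1 0),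
          QuotientGroup.eq.mpr ?_⟩
        rw [mem_borelSL, Matrix.SpecialLinearGroup.coe_mul, inv_lineRepSL_some]
        simp [Matrix.mul_apply, Fin.sum_univ_two]
        field_simp
        ring

theorem sl_mul_aux (g : Matrix.SpecialLinearGroup (Fin 2) F) {x : F}
    (hx : qv (g : Matrix (Fin 2) (Fin 2) F) x 1 = 0) :
    ((g : Matrix (Fin 2) (Fin 2) F) 1 1 + x * (g : Matrix (Fin 2) (Fin 2) F) 1 0) *
      ((g : Matrix (Fin 2) (Fin 2) F) 0 0 - x * (g : Matrix (Fin 2) (Fin 2) F) 1 0) = 1 := by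
  have h := g.det_coe
  rw [Matrix.det_fin_two] at h
  simp [qv] at hx
  linear_combination h - (g : Matrix (Fin 2) (Fin 2) F) 1 0 * hx

/-- Conjugation by `diag(ν, 1)`. -/
def sigmaFun (ν : Fˣ) (g : Matrix.SpecialLinearGroup (Fin 2) F) : Matrix.SpecialLinearGroup (Fin 2) F :=
  ⟨!![(g : Matrix (Fin 2) (Fin 2) F) 0 0, (ν : F) * (g : Matrix (Fin 2) (Fin 2) F) 0 1;
      ((ν⁻¹ : Fˣ) : F) * (g : Matrix (Fin 2) (Fin 2) F) 1 0, (g : Matrix (Fin 2) (Fin 2) F) 1 1], by
    have h := g.det_coe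
    rw [Matrix.det_fin_two] at h
    rw [Matrix.det_fin_two_of]
    calc _ = (g : Matrix (Fin 2) (Fin 2) F) 0 0 * (g : Matrix (Fin 2) (Fin 2) F) 1 1 -
          ((ν : F) * ((ν⁻¹ : Fˣ) : F)) * ((g : Matrix (Fin 2) (Fin 2) F) 0 1 * (g : Matrix (Fin 2) (Fin 2) F) 1 0) := by ring
      _ = 1 := by rw [Units.mul_inv, one_mul]; exact h⟩

theorem sigmaFun_coe (ν : Fˣ) (g : Matrix.SpecialLinearGroup (Fin 2) F) :
    (sigmaFun ν g : Matrix (Fin 2) (Fin 2) F) =
      !![(g : Matrix (Fin 2) (Fin 2) F) 0 0, (ν : F) * (g : Matrix (Fin 2) (Fin 2) F) 0 1;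
        ((ν⁻¹ : Fˣ) : F) * (g : Matrix (Fin 2) (Fin 2) F) 1 0, (g : Matrix (Fin 2) (Fin 2) F) 1 1] := rfl

/-- Conjugation by `diag(ν, 1)`, as an automorphism of `SL₂`. -/
def sigma (ν : Fˣ) : Matrix.SpecialLinearGroup (Fin 2) F ≃* Matrix.SpecialLinearGroup (Fin 2) F where
  toFun := sigmaFun ν
  invFun := sigmaFun ν⁻¹
  left_inv g := by
    apply Subtype.ext
    change (sigmaFun ν⁻¹ (sigmaFun ν g) : Matrix (Fin 2) (Fin 2) F) = _
    rw [sigmaFun_coe, sigmaFun_coe]
    ext i j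
    fin_cases i <;> fin_cases j <;> simp
  right_inv g := by
    apply Subtype.ext
    change (sigmaFun ν (sigmaFun ν⁻¹ g) : Matrix (Fin 2) (Fin 2) F) = _
    rw [sigmaFun_coe, sigmaFun_coe]
    ext i j
    fin_cases i <;> fin_cases j <;> simp
  map_mul' g h := by
    apply Subtype.ext
    change (sigmaFun ν (g * h) : Matrix (Fin 2) (Fin 2) F) =
      (sigmaFun ν g : Matrix (Fin 2) (Fin 2) F) * (sigmaFun ν h : Matrix (Fin 2) (Fin 2) F)
    rw [sigmaFun_coe, sigmaFun_coe, sigmaFun_coe, Matrix.SpecialLinearGroup.coe_mul]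
    ext i j
    fin_cases i <;> fin_cases j <;> simp [Matrix.mul_apply, Fin.sum_univ_two] <;> field_simp

theorem sigma_coe (ν : Fˣ) (g : Matrix.SpecialLinearGroup (Fin 2) F) :
    (sigma ν g : Matrix (Fin 2) (Fin 2) F) =
      !![(g : Matrix (Fin 2) (Fin 2) F) 0 0, (ν : F) * (g : Matrix (Fin 2) (Fin 2) F) 0 1;
        ((ν⁻¹ : Fˣ) : F) * (g : Matrix (Fin 2) (Fin 2) F) 1 0, (g : Matrix (Fin 2) (Fin 2) F) 1 1] := rfl

theorem sigma_bSL (ν a : Fˣ) (c : F) : sigma ν (bSL a c) = bSL a ((ν : F) * c) := by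
  apply Subtype.ext
  change (sigma ν (bSL a c) : Matrix (Fin 2) (Fin 2) F) = (bSL a ((ν : F) * c) : Matrix (Fin 2) (Fin 2) F)
  rw [sigma_coe, bSL_coe, bSL_coe]
  simp

theorem sigma_uni (ν : Fˣ) (c : F) : sigma ν (uni c) = uni ((ν : F) * c) := by
  apply Subtype.ext
  change (sigma ν (uni c) : Matrix (Fin 2) (Fin 2) F) = (uni ((ν : F) * c) : Matrix (Fin 2) (Fin 2) F)
  rw [sigma_coe, uni_coe, uni_coe]
  simp

theorem bSL_one (c : F) : bSL (1 : Fˣ) c = uni c := by
  apply Subtype.ext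
  change (bSL (1 : Fˣ) c : Matrix (Fin 2) (Fin 2) F) = (uni c : Matrix (Fin 2) (Fin 2) F)
  rw [bSL_coe, uni_coe]
  simp

variable [Fintype F] [DecidableEq F]

/-- The induced function in the statements. -/
noncomputable def indSL (α : MulChar F ℂ) : Matrix.SpecialLinearGroup (Fin 2) F → ℂ :=
  Cfsg.indFun ((Cfsg.upperTriangularGL 2 F).comap Matrix.SpecialLinearGroup.toGL)
    (fun b => α (((b : Matrix.SpecialLinearGroup (Fin 2) F) : Matrix (Fin 2) (Fin 2) F) 0 0))

theorem isCharacter_borelHomSL (α : MulChar F ℂ) :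
    IsCharacter (borelSL F) (fun b => α (((b : Matrix.SpecialLinearGroup (Fin 2) F) : Matrix (Fin 2) (Fin 2) F) 0 0)) :=
  IsIrrCharacter.isCharacter (isIrrCharacter_monoidHom (borelHomSL α))

theorem isCharacter_indSL (α : MulChar F ℂ) :
    IsCharacter (Matrix.SpecialLinearGroup (Fin 2) F) (indSL α) :=
  IsCharacter.indFun _ (isCharacter_borelHomSL α)

theorem indSL_apply (α : MulChar F ℂ) (g : Matrix.SpecialLinearGroup (Fin 2) F) :
    indSL α g =
      (if (g : Matrix (Fin 2) (Fin 2) F) 1 0 = 0 then α ((g : Matrix (Fin 2) (Fin 2) F) 0 0) else 0) +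
      ∑ x : F, if qv (g : Matrix (Fin 2) (Fin 2) F) x 1 = 0 then
        α ((g : Matrix (Fin 2) (Fin 2) F) 1 1 + x * (g : Matrix (Fin 2) (Fin 2) F) 1 0) else 0 := by
  classical
  have hval : ∀ k : Matrix.SpecialLinearGroup (Fin 2) F, extendByZero (borelSL F)
      (fun b => α (((b : Matrix.SpecialLinearGroup (Fin 2) F) : Matrix (Fin 2) (Fin 2) F) 0 0)) k =
      if (k : Matrix (Fin 2) (Fin 2) F) 1 0 = 0 then α ((k : Matrix (Fin 2) (Fin 2) F) 0 0) else 0 := by
    intro k
    split_ifs with h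
    · exact extendByZero_of_mem _ _ ((mem_borelSL k).mpr h)
    · exact extendByZero_of_not_mem _ _ (fun hk => h ((mem_borelSL k).mp hk))
  rw [indSL, indFun_eq_sum_transversal _ _ (IsCharacter.isClassFunction (isCharacter_borelHomSL α))
    lineRepSL lineRepSL_bijective, Fintype.sum_option]
  simp only [hval]
  congr 1
  · simp [lineRepSL]
  · refine Finset.sum_congr rfl fun x _ => ?_
    simp only [Matrix.SpecialLinearGroup.coe_mul, inv_lineRepSL_some, lineRepSL_some_coe]
    have h1 : (!![0, 1; -1, x] * (g : Matrix (Fin 2) (Fin 2) F) * !![x, -1; 1, 0]) 1 0 =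
        qv (g : Matrix (Fin 2) (Fin 2) F) x 1 := by
      simp [Matrix.mul_apply, Matrix.vecMul, dotProduct, Fin.sum_univ_two, qv]; ring
    have h2 : (!![0, 1; -1, x] * (g : Matrix (Fin 2) (Fin 2) F) * !![x, -1; 1, 0]) 0 0 =
        (g : Matrix (Fin 2) (Fin 2) F) 1 1 + x * (g : Matrix (Fin 2) (Fin 2) F) 1 0 := by
      simp [Matrix.mul_apply, Matrix.vecMul, dotProduct, Fin.sum_univ_two]; ring
    rw [h1, h2]

/-- The sum of a function over the elements `(a *; 0 a⁻¹)`. -/
noncomputable def csumSL (φ : Matrix.SpecialLinearGroup (Fin 2) F → ℂ) (a : Fˣ) : ℂ := ∑ c : F, φ (bSL a c)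

theorem csumSL_indSL (α : MulChar F ℂ) (a : Fˣ) :
    csumSL (indSL α) a = (Fintype.card F : ℂ) * (α (a : F) + α ((a⁻¹ : Fˣ) : F)) := by
  have h : ∀ c : F, indSL α (bSL a c) = α (a : F) + α ((a⁻¹ : Fˣ) : F) *
      ∑ x : F, (if (((a⁻¹ : Fˣ) : F) - a) * x = c then (1 : ℂ) else 0) := by
    intro c
    rw [indSL_apply, Finset.mul_sum]
    simp only [bSL_coe]
    simp only [qv]
    simp [sub_eq_zero]
  rw [csumSL]
  simp only [h]
  rw [Finset.sum_add_distrib, Finset.sum_const, Finset.card_univ, nsmul_eq_mul, ← Finset.mul_sum,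
    card_roots_line]
  ring

theorem classInner_indSL_left (α : MulChar F ℂ) {φ : Matrix.SpecialLinearGroup (Fin 2) F → ℂ}
    (hφ : IsClassFunction (Matrix.SpecialLinearGroup (Fin 2) F) φ) :
    classInner (indSL α) φ = (((Fintype.card F - 1) * Fintype.card F : ℕ) : ℂ)⁻¹ *
      ∑ a : Fˣ, α (a : F) * conj (csumSL φ a) := by
  classical
  rw [indSL, classInner_indFun _ _ hφ, classInner, ← Nat.card_congr (borelEquivSL (F := F)),
    ← borelEquivSL.sum_comp, Nat.card_eq_fintype_card, Fintype.card_prod, Fintype.card_units]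
  congr 1
  rw [Fintype.sum_prod_type]
  refine Finset.sum_congr rfl fun a _ => ?_
  simp only [borelEquivSL_coe, csumSL, map_sum, Finset.mul_sum]
  simp [bSL_coe]

theorem pair_norm_auxSL {q c : ℂ} (P Q : Prop) [Decidable P] [Decidable Q] (hq : q ≠ 0) (hc : c ≠ 0) :
    (c * q)⁻¹ * (q * (if P then c else 0) + q * (if Q then c else 0)) =
    (if P then (1 : ℂ) else 0) + (if Q then (1 : ℂ) else 0) := by
  by_cases P <;> by_cases Q <;> simp [*] <;> field_simp <;> ring

theorem classInner_indSL_indSL (α β : MulChar F ℂ) :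
    classInner (indSL α) (indSL β) =
      @ite ℂ (α = β) (Classical.propDecidable _) 1 0 + @ite ℂ (α = β⁻¹) (Classical.propDecidable _) 1 0 := by
  classical
  rw [classInner_indSL_left _ (IsCharacter.isClassFunction (isCharacter_indSL β))]
  have e : ∀ a : Fˣ, α (a : F) * conj (csumSL (indSL β) a) = (Fintype.card F : ℂ) *
      (α (a : F) * conj (β (a : F))) + (Fintype.card F : ℂ) * (α (a : F) * conj (β⁻¹ (a : F))) := fun a => by
    rw [csumSL_indSL, MulChar.inv_apply', Units.val_inv_eq_inv_val, map_mul, map_add, map_natCast]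
    ring
  simp only [e, Finset.sum_add_distrib, ← Finset.mul_sum, sum_units_mulChar]
  have hq : ((Fintype.card F : ℕ) : ℂ) ≠ 0 := Nat.cast_ne_zero.mpr Fintype.card_ne_zero
  have hq1 : ((Fintype.card F - 1 : ℕ) : ℂ) ≠ 0 :=
    Nat.cast_ne_zero.mpr (by have := Fintype.one_lt_card (α := F); omega)
  push_cast
  convert pair_norm_auxSL (α = β) (α = β⁻¹) hq hq1

theorem indSL_one (α : MulChar F ℂ) : indSL α 1 = (Fintype.card F : ℂ) + 1 := by
  rw [indSL_apply]
  simp [qv, add_comm]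

theorem isConj_bSL_inv (a : Fˣ) (h : a ≠ a⁻¹) (c : F) : IsConj (bSL a c) (bSL a⁻¹ 0) := by
  have hd : ((a : F)) - ((a⁻¹ : Fˣ) : F) ≠ 0 := sub_ne_zero.mpr fun e => h (Units.ext e)
  have ht : (bSL a c : Matrix (Fin 2) (Fin 2) F).trace = (bSL a⁻¹ 0 : Matrix (Fin 2) (Fin 2) F).trace := by
    simp [bSL_coe, Matrix.trace_fin_two, add_comm]
  have hns : ∀ (b : Fˣ) (z : F), b ≠ b⁻¹ → ¬ IsScal (bSL b z : Matrix (Fin 2) (Fin 2) F) := fun b z hb hs =>
    hb (Units.ext (by simpa [bSL_coe] using hs.2.2))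
  obtain ⟨x, y, hxy⟩ := exists_qv_ne_zero (hns a c h)
  obtain ⟨x', y', hxy'⟩ := exists_qv_ne_zero (hns a⁻¹ 0 (fun e => h (by rw [inv_inv] at e; exact e.symm)))
  obtain ⟨u, v, huv⟩ := norm_represents (bSL a c : Matrix (Fin 2) (Fin 2) F).trace
    (qv (bSL a⁻¹ 0 : Matrix (Fin 2) (Fin 2) F) x' y' / qv (bSL a c : Matrix (Fin 2) (Fin 2) F) x y) (by
      right
      simp [bSL_coe, Matrix.trace_fin_two]
      constructor <;> intro e <;> apply h <;> apply Units.ext
      · have : ((a : F) - 1) * ((a : F) - 1) = 0 := by field_simp at e; linear_combination e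
        rw [Units.val_inv_eq_inv_val, sub_eq_zero.mp (mul_self_eq_zero.mp this), inv_one]
      · have : ((a : F) + 1) * ((a : F) + 1) = 0 := by field_simp at e; linear_combination e
        rw [Units.val_inv_eq_inv_val, eq_neg_of_add_eq_zero_left (mul_self_eq_zero.mp this)]
        norm_num)
  exact isConj_SL2 ht hxy ⟨u, v, by rw [huv]; field_simp⟩ hxy'

theorem csumSL_symm {φ : Matrix.SpecialLinearGroup (Fin 2) F → ℂ}
    (hφ : IsClassFunction (Matrix.SpecialLinearGroup (Fin 2) F) φ) (a : Fˣ) :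
    csumSL φ a⁻¹ = csumSL φ a := by
  by_cases h : a = a⁻¹
  · rw [← h]
  · have h' : a⁻¹ ≠ a⁻¹⁻¹ := by rw [inv_inv]; exact Ne.symm h
    refine Finset.sum_congr rfl fun c _ => ?_
    rw [IsClassFunction.eq_of_isConj hφ (isConj_bSL_inv a h c),
      IsClassFunction.eq_of_isConj hφ (isConj_bSL_inv a⁻¹ h' c), inv_inv]
    have h3 := IsClassFunction.eq_of_isConj hφ (isConj_bSL_inv a h 0)
    exact h3

theorem indSL_inv (α : MulChar F ℂ) : indSL α⁻¹ = indSL α := by
  haveI := Fintype.ofFinite (IrrCharacter (Matrix.SpecialLinearGroup (Fin 2) F))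
  refine ext_classInner (IsCharacter.isClassFunction (isCharacter_indSL α⁻¹))
    (IsCharacter.isClassFunction (isCharacter_indSL α)) fun χ => ?_
  rw [classInner_indSL_left _ (irr_isClassFunction χ), classInner_indSL_left _ (irr_isClassFunction χ)]
  congr 1
  refine Fintype.sum_equiv (Equiv.inv Fˣ) _ _ fun a => ?_
  rw [Equiv.inv_apply, csumSL_symm (irr_isClassFunction χ) a, MulChar.inv_apply', Units.val_inv_eq_inv_val]

theorem indGL_toGL (α β : MulChar F ℂ) (g : Matrix.SpecialLinearGroup (Fin 2) F) :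
    indGL α β (Matrix.SpecialLinearGroup.toGL g) = indSL (α * β⁻¹) g := by
  rw [indGL_apply, indSL_apply]
  have hM : ((Matrix.SpecialLinearGroup.toGL g : GL (Fin 2) F) : Matrix (Fin 2) (Fin 2) F) = g := rfl
  rw [hM]
  congr 1
  · split_ifs with h
    · have h2 := borelSL_diag ⟨g, (mem_borelSL g).mpr h⟩
      rw [MulChar.mul_apply, MulChar.inv_apply']
      simp only at h2
      rw [eq_inv_of_mul_eq_one_right h2]
    · rfl
  · refine Finset.sum_congr rfl fun x _ => ?_
    split_ifs with h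
    · rw [MulChar.mul_apply, MulChar.inv_apply', eq_inv_of_mul_eq_one_right (sl_mul_aux g h)]
    · rfl

end

end Cfsg.Agent.Lib.KnownA
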