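import Mathlib
import Cfsg.Agent.Lib.KnownA.SL2Ind

/-! An irreducible character of `SL₂(q)`, `q` odd, with `χ(u) + χ(u') = ±1` on the two transvection
classes has a distinct Galois partner, and `χ(u) - χ(u')` squares to `±q`. -/

set_option autoImplicit false

namespace Cfsg.Agent.Lib.KnownA

open scoped ComplexConjugate
open Matrix Cfsg Cfsg.Agent.Lib.Characters

section
variable {F : Type*} [Field F]

/-- The central element `-1` of `SL₂`. -/
def negOne (F : Type*) [Field F] : Matrix.SpecialLinearGroup (Fin 2) F := ⟨!![-1, 0; 0, -1], by simp⟩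

theorem negOne_coe : (negOne F : Matrix (Fin 2) (Fin 2) F) = !![-1, 0; 0, -1] := rfl

theorem negOne_mul_coe (g : Matrix.SpecialLinearGroup (Fin 2) F) :
    ((negOne F * g : Matrix.SpecialLinearGroup (Fin 2) F) : Matrix (Fin 2) (Fin 2) F) =
      -(g : Matrix (Fin 2) (Fin 2) F) := by
  rw [Matrix.SpecialLinearGroup.coe_mul, negOne_coe]
  ext i j
  fin_cases i <;> fin_cases j <;> simp [Matrix.mul_apply, Fin.sum_univ_two]

theorem negOne_sq : negOne F * negOne F = 1 := by
  apply Subtype.ext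
  change ((negOne F * negOne F : Matrix.SpecialLinearGroup (Fin 2) F) : Matrix (Fin 2) (Fin 2) F) = 1
  rw [negOne_mul_coe, negOne_coe]
  ext i j
  fin_cases i <;> fin_cases j <;> simp

theorem negOne_comm (g : Matrix.SpecialLinearGroup (Fin 2) F) : negOne F * g = g * negOne F := by
  apply Subtype.ext
  change ((negOne F * g : Matrix.SpecialLinearGroup (Fin 2) F) : Matrix (Fin 2) (Fin 2) F) =
    (g : Matrix (Fin 2) (Fin 2) F) * (negOne F : Matrix (Fin 2) (Fin 2) F)
  rw [negOne_mul_coe, negOne_coe]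
  ext i j
  fin_cases i <;> fin_cases j <;> simp [Matrix.mul_apply, Fin.sum_univ_two]

theorem sigma_negOne_mul (ν : Fˣ) (g : Matrix.SpecialLinearGroup (Fin 2) F) :
    sigma ν (negOne F * g) = negOne F * sigma ν g := by
  rw [map_mul]
  congr 1
  apply Subtype.ext
  change (sigma ν (negOne F) : Matrix (Fin 2) (Fin 2) F) = (negOne F : Matrix (Fin 2) (Fin 2) F)
  rw [sigma_coe, negOne_coe]
  simp

theorem uni_zero : uni (0 : F) = 1 := by
  apply Subtype.ext
  change (uni (0 : F) : Matrix (Fin 2) (Fin 2) F) = 1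
  rw [uni_coe]
  ext i j
  fin_cases i <;> fin_cases j <;> simp

theorem uni_inv (c : F) : (uni c)⁻¹ = uni (-c) := by
  apply Subtype.ext
  change (((uni c)⁻¹ : Matrix.SpecialLinearGroup (Fin 2) F) : Matrix (Fin 2) (Fin 2) F) = (uni (-c) : Matrix (Fin 2) (Fin 2) F)
  rw [Matrix.SpecialLinearGroup.coe_inv, uni_coe, uni_coe, Matrix.adjugate_fin_two_of, neg_zero]

/-- A central element acts as a scalar on an irreducible representation. -/
theorem apply_central_mul {G : Type*} [Group G] {χ : G → ℂ} (hχ : IsIrrCharacter G χ) {z : G}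
    (hz : ∀ g, z * g = g * z) : ∃ w : ℂ, ∀ g, χ (z * g) = w * χ g := by
  obtain ⟨n, ρ, hρ, rfl⟩ := hχ
  haveI := hρ
  obtain ⟨c, hc⟩ := exists_smul_of_commute ρ (ρ z) (fun g => by rw [← map_mul, ← map_mul, hz])
  refine ⟨c, fun g => ?_⟩
  simp only [Representation.character]
  rw [map_mul, hc, smul_mul_assoc]
  simp [Module.End.mul_eq_comp]

theorem sigma_sq_isConj (ν : Fˣ) (g : Matrix.SpecialLinearGroup (Fin 2) F) :
    IsConj g (sigma ν (sigma ν g)) := by
  refine isConj_iff.mpr ⟨bSL ν 0, ?_⟩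
  rw [mul_inv_eq_iff_eq_mul]
  apply Subtype.ext
  change (bSL ν 0 : Matrix (Fin 2) (Fin 2) F) * (g : Matrix (Fin 2) (Fin 2) F) =
    (sigma ν (sigma ν g) : Matrix (Fin 2) (Fin 2) F) * (bSL ν 0 : Matrix (Fin 2) (Fin 2) F)
  rw [sigma_coe, sigma_coe, bSL_coe]
  ext i j
  fin_cases i <;> fin_cases j <;> simp [Matrix.mul_apply, Fin.sum_univ_two] <;> field_simp

theorem sigma_eq_of_isScal (ν : Fˣ) {g : Matrix.SpecialLinearGroup (Fin 2) F}
    (hg : IsScal (g : Matrix (Fin 2) (Fin 2) F)) : sigma ν g = g := by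
  obtain ⟨h01, h10, h11⟩ := hg
  apply Subtype.ext
  change (sigma ν g : Matrix (Fin 2) (Fin 2) F) = _
  rw [sigma_coe]
  ext i j
  fin_cases i <;> fin_cases j <;> simp [h01, h10]

theorem trace_sigma (ν : Fˣ) (g : Matrix.SpecialLinearGroup (Fin 2) F) :
    (sigma ν g : Matrix (Fin 2) (Fin 2) F).trace = (g : Matrix (Fin 2) (Fin 2) F).trace := by
  simp [sigma_coe, Matrix.trace_fin_two]

theorem not_isScal_sigma (ν : Fˣ) {g : Matrix.SpecialLinearGroup (Fin 2) F}
    (hg : ¬ IsScal (g : Matrix (Fin 2) (Fin 2) F)) : ¬ IsScal (sigma ν g : Matrix (Fin 2) (Fin 2) F) := by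
  intro h
  apply hg
  obtain ⟨h01, h10, h11⟩ := h
  simp [sigma_coe] at h01 h10 h11
  exact ⟨h01, h10, h11⟩

variable [Fintype F]

theorem isConj_sigma_of_ne (ν : Fˣ) {g : Matrix.SpecialLinearGroup (Fin 2) F}
    (hg : ¬ IsScal (g : Matrix (Fin 2) (Fin 2) F))
    (ht : (g : Matrix (Fin 2) (Fin 2) F).trace ≠ 2) (ht' : (g : Matrix (Fin 2) (Fin 2) F).trace ≠ -2) :
    IsConj g (sigma ν g) := by
  obtain ⟨x, y, hxy⟩ := exists_qv_ne_zero hg
  obtain ⟨x', y', hxy'⟩ := exists_qv_ne_zero (not_isScal_sigma ν hg)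
  obtain ⟨a, b, hab⟩ := norm_represents (g : Matrix (Fin 2) (Fin 2) F).trace
    (qv (sigma ν g : Matrix (Fin 2) (Fin 2) F) x' y' / qv (g : Matrix (Fin 2) (Fin 2) F) x y) (Or.inr ⟨ht, ht'⟩)
  exact isConj_SL2 (trace_sigma ν g).symm hxy ⟨a, b, by rw [hab]; field_simp⟩ hxy'

theorem card_class_uni (hodd : Odd (Fintype.card F)) {c : F} (hc : c ≠ 0)
    (g : Matrix.SpecialLinearGroup (Fin 2) F) (hg : g = uni c ∨ g = negOne F * uni c) :
    Nat.card {x : Matrix.SpecialLinearGroup (Fin 2) F // IsConj g x} * 2 = Fintype.card F ^ 2 - 1 := by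
  have h := card_conj_mul_card_centralizer g
  have hC : Subgroup.centralizer ({g} : Set (Matrix.SpecialLinearGroup (Fin 2) F)) =
      Subgroup.centralizer ({uni c} : Set (Matrix.SpecialLinearGroup (Fin 2) F)) := by
    rcases hg with rfl | rfl
    · rfl
    · ext k
      simp only [Subgroup.mem_centralizer_singleton_iff]
      rw [← mul_assoc, ← negOne_comm k, mul_assoc, mul_assoc, mul_right_inj]
  rw [hC, card_centralizer_trace_two (trace_uni c) (not_isScal_uni hc),
    card_sqrt_one_odd (two_ne_zero_of_odd hodd), card_SL2, ← mul_assoc, mul_comm] at h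
  exact Nat.eq_of_mul_eq_mul_left Fintype.card_pos h

theorem quadC_neg_one [DecidableEq F] (hodd : Odd (Fintype.card F)) :
    ((quadraticChar F (-1) : ℤ) : ℂ) = (-1 : ℂ) ^ ((Fintype.card F - 1) / 2) := by
  have h1 : Fintype.card F % 2 = 1 := Nat.odd_iff.mp hodd
  rw [quadraticChar_neg_one (ringChar_ne_two hodd), ZMod.χ₄_eq_neg_one_pow h1]
  push_cast
  congr 1
  omega

/-- The pair lemma. -/
theorem signed_pair [DecidableEq F] (hodd : Odd (Fintype.card F))
    {χ : Matrix.SpecialLinearGroup (Fin 2) F → ℂ}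
    (hχ : IsIrrCharacter (Matrix.SpecialLinearGroup (Fin 2) F) χ) (ν : Fˣ) (hν : ¬ IsSquare (ν : F))
    (ε : ℤ) (hε : ε = 1 ∨ ε = -1) (hsum : χ (uni 1) + χ (uni (ν : F)) = (ε : ℂ)) :
    χ ∘ sigma ν ≠ χ ∧
      (χ (uni 1) - χ (uni (ν : F))) ^ 2 = (-1 : ℂ) ^ ((Fintype.card F - 1) / 2) * (Fintype.card F : ℂ) ∧
      (χ (uni 1) - χ (uni (ν : F))) * conj (χ (uni 1) - χ (uni (ν : F))) = (Fintype.card F : ℂ) := by
  classical
  have hcl := IsCharacter.isClassFunction (IsIrrCharacter.isCharacter hχ)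
  have h2 := two_ne_zero_of_odd hodd
  have hσ1 : sigma ν (uni 1) = uni (ν : F) := by rw [sigma_uni, mul_one]
  have hne : χ ∘ sigma ν ≠ χ := by
    intro he
    have h1 : χ (uni (ν : F)) = χ (uni 1) := by rw [← hσ1]; exact congrFun he (uni 1)
    rw [h1] at hsum
    obtain ⟨z, -, hz⟩ := exists_int_of_mul_eq (IsCharacter.isIntegral (IsIrrCharacter.isCharacter hχ) (uni 1))
      (n := 2) two_ne_zero (m := ε) (by push_cast; rw [← hsum]; ring)
    omega
  have hσσ : ∀ g, χ (sigma ν (sigma ν g)) = χ g := fun g =>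
    (IsClassFunction.eq_of_isConj hcl (sigma_sq_isConj ν g)).symm
  set d : Matrix.SpecialLinearGroup (Fin 2) F → ℂ := χ - χ ∘ sigma ν with hd
  have hdcl : IsClassFunction (Matrix.SpecialLinearGroup (Fin 2) F) d := by
    intro g k
    simp only [hd, Pi.sub_apply, Function.comp_apply, map_mul, map_inv]
    rw [hcl g k, hcl (sigma ν g) (sigma ν k)]
  have hdσ : ∀ g, d (sigma ν g) = -d g := fun g => by
    simp only [hd, Pi.sub_apply, Function.comp_apply, hσσ]
    ring
  have hdu : d (uni 1) = χ (uni 1) - χ (uni (ν : F)) := by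
    simp only [hd, Pi.sub_apply, Function.comp_apply, hσ1]
  have hnorm : classInner d d = 2 := by
    have hirr := IsIrrCharacter.comp_equiv hχ (sigma ν)
    rw [hd, classInner_sub_left, classInner_sub_right, classInner_sub_right, IsIrrCharacter.classInner_self hχ,
      IsIrrCharacter.classInner_self hirr, IsIrrCharacter.classInner_ne hχ hirr (Ne.symm hne),
      IsIrrCharacter.classInner_ne hirr hχ hne]
    ring
  obtain ⟨w, hw⟩ := apply_central_mul hχ (negOne_comm (F := F))
  have hw2 : w * w = 1 := by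
    have h := hw (negOne F * 1)
    rw [hw 1, ← mul_assoc, negOne_sq, one_mul, ← mul_assoc] at h
    exact mul_right_cancel₀ (IsIrrCharacter.apply_one_ne_zero hχ) (h.symm.trans (one_mul _).symm)
  have hwd : ∀ g, d (negOne F * g) = w * d g := fun g => by
    simp only [hd, Pi.sub_apply, Function.comp_apply, sigma_negOne_mul, hw]
    ring
  have hwc : w * conj w = 1 := by
    rcases mul_self_eq_one_iff.mp hw2 with rfl | rfl <;> simp
  set D : ℂ := d (uni 1) * conj (d (uni 1)) with hD
  have hν1 : d (uni (ν : F)) = -d (uni 1) := by rw [← hσ1, hdσ]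
  have hνsq : ∀ b : F, b ≠ 0 → IsSquare b ∨ IsSquare ((ν : F) * b) := fun b _ => by
    by_cases h : IsSquare b
    · exact Or.inl h
    · exact Or.inr (isSquare_mul_or (ringChar_ne_two hodd) hν h)
  let ind : Matrix.SpecialLinearGroup (Fin 2) F → Matrix.SpecialLinearGroup (Fin 2) F → ℂ :=
    fun a g => if IsConj a g then 1 else 0
  have hν0 : (ν : F) ≠ 0 := ν.ne_zero
  have hnc : ¬ IsConj (uni (1 : F)) (uni (ν : F)) := by
    rw [isConj_uni one_ne_zero hν0, one_mul]; exact hν
  have htz : ∀ c : F, ((negOne F * uni c : Matrix.SpecialLinearGroup (Fin 2) F) : Matrix (Fin 2) (Fin 2) F).trace = -2 :=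
    fun c => by rw [negOne_mul_coe, Matrix.trace_neg, trace_uni]
  have htne : ∀ b c : F, ¬ IsConj (uni b) (negOne F * uni c) := fun b c h => by
    have := trace_eq_of_isConj_SL2 h
    rw [trace_uni, htz] at this
    have h4 : (2 : F) * 2 = 0 := by linear_combination this
    exact h2 (mul_self_eq_zero.mp h4)
  have hnzc : ∀ {a b : Matrix.SpecialLinearGroup (Fin 2) F}, IsConj (negOne F * a) (negOne F * b) → IsConj a b := by
    intro a b h
    obtain ⟨k, hk⟩ := isConj_iff.mp h
    refine isConj_iff.mpr ⟨k, ?_⟩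
    rw [← mul_assoc k, ← negOne_comm k, mul_assoc, mul_assoc, mul_right_inj] at hk
    rw [← hk, mul_assoc]
  have hkey : ∀ g, d g * conj (d g) = D * (ind (uni 1) g + ind (uni (ν : F)) g +
      ind (negOne F * uni 1) g + ind (negOne F * uni (ν : F)) g) := by
    intro g
    have cls : ∀ a, IsConj a g → d g = d a := fun a h => (IsClassFunction.eq_of_isConj hdcl h).symm
    by_cases h1 : IsConj (uni 1) g
    · have n2 : ¬ IsConj (uni (ν : F)) g := fun h => hnc (h1.trans h.symm)
      have n3 : ¬ IsConj (negOne F * uni 1) g := fun h => htne _ _ (h1.trans h.symm)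
      have n4 : ¬ IsConj (negOne F * uni (ν : F)) g := fun h => htne _ _ (h1.trans h.symm)
      simp only [ind, if_pos h1, if_neg n2, if_neg n3, if_neg n4, cls _ h1, hD]
      ring
    by_cases h2' : IsConj (uni (ν : F)) g
    · have n3 : ¬ IsConj (negOne F * uni 1) g := fun h => htne _ _ (h2'.trans h.symm)
      have n4 : ¬ IsConj (negOne F * uni (ν : F)) g := fun h => htne _ _ (h2'.trans h.symm)
      simp only [ind, if_neg h1, if_pos h2', if_neg n3, if_neg n4, cls _ h2', hν1, hD, map_neg]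
      ring
    by_cases h3 : IsConj (negOne F * uni 1) g
    · have n4 : ¬ IsConj (negOne F * uni (ν : F)) g := fun h => hnc (hnzc (h3.trans h.symm))
      simp only [ind, if_neg h1, if_neg h2', if_pos h3, if_neg n4, cls _ h3, hwd, hD, map_mul]
      linear_combination (d (uni 1) * conj (d (uni 1))) * hwc
    by_cases h4 : IsConj (negOne F * uni (ν : F)) g
    · simp only [ind, if_neg h1, if_neg h2', if_neg h3, if_pos h4, cls _ h4, hwd, hν1, hD, map_mul, map_neg]
      linear_combination (d (uni 1) * conj (d (uni 1))) * hwc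
    have hz : d g = 0 := by
      have hfix : IsConj g (sigma ν g) := by
        by_cases hs : IsScal (g : Matrix (Fin 2) (Fin 2) F)
        · rw [sigma_eq_of_isScal ν hs]
        refine isConj_sigma_of_ne ν hs ?_ ?_
        · intro ht
          obtain ⟨b, hb, hc⟩ := isConj_SL2_of_trace_two ht hs
          rcases hνsq b hb with hsq | hsq
          · exact h1 (((isConj_uni one_ne_zero hb).mpr (by rwa [one_mul])).trans hc.symm)
          · exact h2' (((isConj_uni hν0 hb).mpr hsq).trans hc.symm)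
        · intro ht
          have ht' : ((negOne F * g : Matrix.SpecialLinearGroup (Fin 2) F) : Matrix (Fin 2) (Fin 2) F).trace = 2 := by
            rw [negOne_mul_coe, Matrix.trace_neg, ht, neg_neg]
          have hs' : ¬ IsScal ((negOne F * g : Matrix.SpecialLinearGroup (Fin 2) F) : Matrix (Fin 2) (Fin 2) F) := by
            rw [negOne_mul_coe]
            rintro ⟨a1, a2, a3⟩
            exact hs ⟨neg_eq_zero.mp a1, neg_eq_zero.mp a2, neg_inj.mp a3⟩
          obtain ⟨b, hb, hc⟩ := isConj_SL2_of_trace_two ht' hs'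
          have hc' : IsConj g (negOne F * uni b) := hnzc (by rwa [← mul_assoc, negOne_sq, one_mul])
          have mk : ∀ c : F, IsConj (uni c) (uni b) → IsConj (negOne F * uni c) (negOne F * uni b) := fun c h => by
            obtain ⟨k, hk⟩ := isConj_iff.mp h
            exact isConj_iff.mpr ⟨k, by rw [← mul_assoc, ← negOne_comm k, mul_assoc, mul_assoc, ← mul_assoc k, hk]⟩
          rcases hνsq b hb with hsq | hsq
          · exact h3 ((mk 1 ((isConj_uni one_ne_zero hb).mpr (by rwa [one_mul]))).trans hc'.symm)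
          · exact h4 ((mk _ ((isConj_uni hν0 hb).mpr hsq)).trans hc'.symm)
      have := IsClassFunction.eq_of_isConj hdcl hfix
      rw [hdσ] at this
      linear_combination this / 2
    simp only [ind, if_neg h1, if_neg h2', if_neg h3, if_neg h4, hz]
    ring
  have hcount : ∀ a c, c ≠ 0 → (a = uni c ∨ a = negOne F * uni c) →
      (∑ g, ind a g) * 2 = ((Fintype.card F ^ 2 - 1 : ℕ) : ℂ) := by
    intro a c hc ha
    rw [← card_class_uni hodd hc a ha, Nat.card_eq_fintype_card, Fintype.card_subtype]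
    simp [ind]
  have hsumg : ∑ g, d g * conj (d g) = 2 * (Nat.card (Matrix.SpecialLinearGroup (Fin 2) F) : ℂ) := by
    have h := hnorm
    rw [classInner, inv_mul_eq_iff_eq_mul₀ (Nat.cast_ne_zero.mpr Nat.card_pos.ne')] at h
    rw [h]; ring
  simp only [hkey, ← Finset.mul_sum, Finset.sum_add_distrib] at hsumg
  rw [card_SL2, Nat.cast_mul] at hsumg
  have hq2 : ((Fintype.card F ^ 2 - 1 : ℕ) : ℂ) ≠ 0 := by
    have hq := Fintype.one_lt_card (α := F)
    have : 2 * 2 ≤ Fintype.card F ^ 2 := by rw [sq]; exact Nat.mul_le_mul hq hq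
    exact Nat.cast_ne_zero.mpr (by omega)
  have hDq : D = (Fintype.card F : ℂ) := by
    apply mul_right_cancel₀ hq2
    linear_combination hsumg / 2 - (D / 4) *
      (hcount _ 1 one_ne_zero (Or.inl rfl) + hcount _ (ν : F) hν0 (Or.inl rfl) +
        hcount _ 1 one_ne_zero (Or.inr rfl) + hcount _ (ν : F) hν0 (Or.inr rfl))
  refine ⟨hne, ?_, ?_⟩
  · rw [← hdu, ← quadC_neg_one hodd]
    have hinv : conj (d (uni 1)) = d (uni (-1)) := by
      simp only [hd, Pi.sub_apply, Function.comp_apply, map_sub]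
      rw [← IsCharacter.apply_inv (IsIrrCharacter.isCharacter hχ),
        ← IsCharacter.apply_inv (IsIrrCharacter.isCharacter hχ), ← map_inv, uni_inv]
    by_cases hm : IsSquare (-1 : F)
    · rw [(quadraticChar_one_iff_isSquare (neg_ne_zero.mpr one_ne_zero)).mpr hm]
      have : d (uni (-1)) = d (uni 1) := IsClassFunction.eq_of_isConj hdcl
        ((isConj_uni (neg_ne_zero.mpr one_ne_zero) one_ne_zero).mpr (by rwa [mul_one]))
      rw [hD, hinv, this] at hDq
      push_cast
      linear_combination hDq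
    · rw [quadraticChar_neg_one_iff_not_isSquare.mpr hm]
      have : d (uni (-1)) = d (uni (ν : F)) := IsClassFunction.eq_of_isConj hdcl
        ((isConj_uni (neg_ne_zero.mpr one_ne_zero) hν0).mpr (by
          rw [mul_comm]; exact isSquare_mul_or (ringChar_ne_two hodd) hν hm))
      rw [hD, hinv, this, hν1] at hDq
      push_cast
      linear_combination -hDq
  · rw [← hdu]; exact hDq

end

end Cfsg.Agent.Lib.KnownA
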