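import Mathlib
import Cfsg.Agent.Lib.KnownA.SL2Signed
import Cfsg.Agent.Lib.KnownA.GL2Irr

/-! Classification of the irreducible characters of `SL₂(q)` by their Harish-Chandra series. -/

set_option autoImplicit false

namespace Cfsg.Agent.Lib.KnownA

open scoped ComplexConjugate
open Matrix Cfsg Cfsg.Agent.Lib.Characters

section
variable {F : Type*} [Field F] [Fintype F] [DecidableEq F]

/-- The trivial character. -/
def trivSL (F : Type*) [Field F] : Matrix.SpecialLinearGroup (Fin 2) F → ℂ := fun _ => 1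

/-- The Steinberg character of `SL₂`. -/
noncomputable def steinSL (F : Type*) [Field F] [Fintype F] [DecidableEq F] :
    Matrix.SpecialLinearGroup (Fin 2) F → ℂ := indSL 1 - trivSL F

/-- No constituent of a character induced from the Borel subgroup. -/
def CuspSL (χ : Matrix.SpecialLinearGroup (Fin 2) F → ℂ) : Prop := ∀ a : Fˣ, csumSL χ a = 0

theorem csumSL_triv (a : Fˣ) : csumSL (trivSL F) a = (Fintype.card F : ℂ) := by
  simp [csumSL, trivSL]

theorem isIrr_trivSL : IsIrrCharacter (Matrix.SpecialLinearGroup (Fin 2) F) (trivSL F) :=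
  isIrrCharacter_one

theorem sum_units_one (α : MulChar F ℂ) :
    ∑ a : Fˣ, α (a : F) = @ite ℂ (α = 1) (Classical.propDecidable _) ((Fintype.card F - 1 : ℕ) : ℂ) 0 := by
  classical
  have h := sum_units_mulChar α 1
  simpa using h

theorem classInner_indSL_triv (α : MulChar F ℂ) :
    classInner (indSL α) (trivSL F) = @ite ℂ (α = 1) (Classical.propDecidable _) 1 0 := by
  classical
  rw [classInner_indSL_left _ (IsCharacter.isClassFunction (IsIrrCharacter.isCharacter isIrr_trivSL))]
  simp only [csumSL_triv, map_natCast, ← Finset.sum_mul, sum_units_one]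
  have hq : ((Fintype.card F : ℕ) : ℂ) ≠ 0 := Nat.cast_ne_zero.mpr Fintype.card_ne_zero
  have hq1 : ((Fintype.card F - 1 : ℕ) : ℂ) ≠ 0 :=
    Nat.cast_ne_zero.mpr (by have := Fintype.one_lt_card (α := F); omega)
  split_ifs
  · push_cast; field_simp
  · simp

theorem isIrr_steinSL : IsIrrCharacter (Matrix.SpecialLinearGroup (Fin 2) F) (steinSL F) :=
  (isIrr_sub_of_norm_two (isCharacter_indSL 1) (by rw [classInner_indSL_indSL]; norm_num)
    isIrr_trivSL (by rw [classInner_indSL_triv]; norm_num)).1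

theorem trivSL_one : trivSL F 1 = 1 := rfl

theorem steinSL_one : steinSL F 1 = (Fintype.card F : ℂ) := by
  rw [steinSL, Pi.sub_apply, indSL_one, trivSL_one, add_sub_cancel_right]

theorem isIrr_indSL_iff (α : MulChar F ℂ) :
    IsIrrCharacter (Matrix.SpecialLinearGroup (Fin 2) F) (indSL α) ↔ α ^ 2 ≠ 1 := by
  rw [IsCharacter.isIrr_iff (isCharacter_indSL α), classInner_indSL_indSL, sq, ne_eq, mul_eq_one_iff_eq_inv]
  by_cases h : α = α⁻¹
  · rw [if_pos rfl, if_pos h]; simp [← h]
  · rw [if_pos rfl, if_neg h]; simp [h]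

theorem norm_indSL_of_sq {η : MulChar F ℂ} (hη : η ^ 2 = 1) : classInner (indSL η) (indSL η) = 2 := by
  rw [classInner_indSL_indSL, if_pos rfl, if_pos (by rwa [sq, mul_eq_one_iff_eq_inv] at hη)]
  norm_num

theorem indSL_eq_iff {α β : MulChar F ℂ} : indSL α = indSL β ↔ α = β ∨ α = β⁻¹ := by
  classical
  constructor
  · intro h
    have h1 := classInner_indSL_indSL α β
    rw [← h, classInner_indSL_indSL] at h1
    by_contra hc
    push Not at hc
    simp only [if_true, if_neg hc.1, if_neg hc.2, add_zero] at h1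
    split_ifs at h1 <;> norm_num at h1
  · rintro (rfl | rfl)
    · rfl
    · exact indSL_inv β

theorem classification_SL2 {χ : Matrix.SpecialLinearGroup (Fin 2) F → ℂ}
    (hχ : IsIrrCharacter (Matrix.SpecialLinearGroup (Fin 2) F) χ) :
    CuspSL χ ∨ χ = trivSL F ∨ χ = steinSL F ∨ (∃ α : MulChar F ℂ, α ^ 2 ≠ 1 ∧ χ = indSL α) ∨
      (∃ η : MulChar F ℂ, η ^ 2 = 1 ∧ η ≠ 1 ∧ classInner (indSL η) χ ≠ 0) := by
  classical
  by_cases hc : CuspSL χ
  · exact Or.inl hc
  right
  have : ∃ α, classInner (indSL α) χ ≠ 0 := by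
    by_contra hcon
    push Not at hcon
    apply hc
    intro a
    have := eq_zero_of_pairing (fun a => conj (csumSL χ a)) (fun α => by
      have h := hcon α
      rw [classInner_indSL_left _ (IsCharacter.isClassFunction (IsIrrCharacter.isCharacter hχ))] at h
      have hN : (((Fintype.card F - 1) * Fintype.card F : ℕ) : ℂ)⁻¹ ≠ 0 := by
        have := Fintype.one_lt_card (α := F)
        apply inv_ne_zero
        apply Nat.cast_ne_zero.mpr
        have : 0 < (Fintype.card F - 1) * Fintype.card F := Nat.mul_pos (by omega) (by omega)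
        omega
      rw [← (mul_eq_zero.mp h).resolve_left hN]
      exact Finset.sum_congr rfl fun a _ => mul_comm _ _) a
    simpa using this
  obtain ⟨α, h⟩ := this
  by_cases h2 : α ^ 2 = 1
  · by_cases h1 : α = 1
    · subst h1
      by_cases ht : χ = trivSL F
      · exact Or.inl ht
      refine Or.inr (Or.inl (eq_of_classInner_ne_zero isIrr_steinSL hχ ?_))
      rw [steinSL, classInner_sub_left, IsIrrCharacter.classInner_ne isIrr_trivSL hχ (Ne.symm ht), sub_zero]
      exact h
    · exact Or.inr (Or.inr (Or.inr ⟨α, h2, h1, h⟩))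
  · exact Or.inr (Or.inr (Or.inl ⟨α, h2, eq_of_classInner_ne_zero ((isIrr_indSL_iff α).mpr h2) hχ h⟩))

theorem classInner_cusp {χ : Matrix.SpecialLinearGroup (Fin 2) F → ℂ}
    (hχ : IsIrrCharacter (Matrix.SpecialLinearGroup (Fin 2) F) χ) (hc : CuspSL χ) (α : MulChar F ℂ) :
    classInner (indSL α) χ = 0 := by
  rw [classInner_indSL_left _ (IsCharacter.isClassFunction (IsIrrCharacter.isCharacter hχ))]
  simp [hc _]

theorem triv_not_cusp : ¬ CuspSL (trivSL F) := fun h => by
  have := h 1
  rw [csumSL_triv] at this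
  exact card_F_ne_zero this

theorem stein_not_cusp : ¬ CuspSL (steinSL F) := fun h => by
  have h1 := classInner_cusp isIrr_steinSL h 1
  rw [steinSL, classInner_sub_right, classInner_indSL_indSL, classInner_indSL_triv] at h1
  norm_num at h1

theorem indSL_not_cusp {α : MulChar F ℂ} (h2 : α ^ 2 ≠ 1) : ¬ CuspSL (indSL α) := fun h => by
  have h1 := classInner_cusp ((isIrr_indSL_iff α).mpr h2) h α
  rw [classInner_indSL_indSL, if_pos rfl] at h1
  split_ifs at h1 <;> norm_num at h1

theorem apply_bSL_one_sum {φ : Matrix.SpecialLinearGroup (Fin 2) F → ℂ} :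
    csumSL φ 1 = φ 1 + ∑ c ∈ Finset.univ.erase (0 : F), φ (uni c) := by
  rw [csumSL, ← Finset.add_sum_erase _ _ (Finset.mem_univ (0 : F))]
  simp [bSL_one, uni_zero]

theorem csum_one_odd (hodd : Odd (Fintype.card F)) (ν : Fˣ) (hν : ¬ IsSquare (ν : F))
    {φ : Matrix.SpecialLinearGroup (Fin 2) F → ℂ}
    (hφ : IsClassFunction (Matrix.SpecialLinearGroup (Fin 2) F) φ) :
    csumSL φ 1 = φ 1 + ((((Fintype.card F - 1) / 2 : ℕ)) : ℂ) * (φ (uni 1) + φ (uni (ν : F))) := by
  classical
  have hrc := ringChar_ne_two hodd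
  have key : ∀ c : F, 2 * φ (uni c) = (if c = 0 then 2 * φ 1 else φ (uni 1) + φ (uni (ν : F))) +
      ((quadraticChar F c : ℤ) : ℂ) * (φ (uni 1) - φ (uni (ν : F))) := by
    intro c
    by_cases hc : c = 0
    · subst hc; simp [uni_zero]
    rw [if_neg hc]
    by_cases hs : IsSquare c
    · rw [(quadraticChar_one_iff_isSquare hc).mpr hs,
        IsClassFunction.eq_of_isConj hφ ((isConj_uni hc one_ne_zero).mpr (by rwa [mul_one]))]
      push_cast; ring
    · rw [quadraticChar_neg_one_iff_not_isSquare.mpr hs,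
        IsClassFunction.eq_of_isConj hφ ((isConj_uni hc ν.ne_zero).mpr (isSquare_mul_or hrc hs hν))]
      push_cast; ring
  have hsum : 2 * csumSL φ 1 = 2 * φ 1 + ((Fintype.card F - 1 : ℕ) : ℂ) * (φ (uni 1) + φ (uni (ν : F))) := by
    have h0 : ∑ c : F, ((quadraticChar F c : ℤ) : ℂ) = 0 := by
      rw [← Int.cast_sum, quadraticChar_sum_zero hrc, Int.cast_zero]
    rw [csumSL, Finset.mul_sum]
    simp only [bSL_one, key, Finset.sum_add_distrib, ← Finset.sum_mul, h0, zero_mul, add_zero]
    rw [← Finset.add_sum_erase _ _ (Finset.mem_univ (0 : F)), if_pos rfl,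
      Finset.sum_congr rfl (fun c hc => if_neg (Finset.ne_of_mem_erase hc)), Finset.sum_const,
      Finset.card_erase_of_mem (Finset.mem_univ _), Finset.card_univ, nsmul_eq_mul]
  have hh : (Fintype.card F - 1 : ℕ) = 2 * ((Fintype.card F - 1) / 2) := by
    have := Nat.odd_iff.mp hodd
    omega
  rw [hh] at hsum
  push_cast at hsum
  linear_combination hsum / 2

theorem isConj_uni_two [CharP F 2] {c : F} (hc : c ≠ 0) : IsConj (uni c) (uni (1 : F)) :=
  (isConj_uni hc one_ne_zero).mpr (FiniteField.isSquare_of_char_two (ringChar.eq F 2) _)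

theorem csum_one_two [CharP F 2] {φ : Matrix.SpecialLinearGroup (Fin 2) F → ℂ}
    (hφ : IsClassFunction (Matrix.SpecialLinearGroup (Fin 2) F) φ) :
    csumSL φ 1 = φ 1 + ((Fintype.card F - 1 : ℕ) : ℂ) * φ (uni 1) := by
  rw [apply_bSL_one_sum, Finset.sum_congr rfl (fun c hc => IsClassFunction.eq_of_isConj hφ
    (isConj_uni_two (Finset.ne_of_mem_erase hc))), Finset.sum_const,
    Finset.card_erase_of_mem (Finset.mem_univ _), Finset.card_univ, nsmul_eq_mul]

/-- Every character of `SL₂` with no principal constituent has degree at most `q - 1`. -/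
theorem cusp_degree_le {χ : Matrix.SpecialLinearGroup (Fin 2) F → ℂ}
    (hχ : IsIrrCharacter (Matrix.SpecialLinearGroup (Fin 2) F) χ) (hc : CuspSL χ)
    {d : ℕ} (hd : χ 1 = (d : ℂ)) : d ≤ Fintype.card F - 1 := by
  classical
  haveI := Fintype.ofFinite (IrrCharacter (GL (Fin 2) F))
  let ι : Matrix.SpecialLinearGroup (Fin 2) F →* GL (Fin 2) F := Matrix.SpecialLinearGroup.toGL
  have : ∃ ψ : IrrCharacter (GL (Fin 2) F), classInner ((ψ : GL (Fin 2) F → ℂ) ∘ ι) χ ≠ 0 := by
    by_contra hcon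
    push Not at hcon
    have h0 : ∑ ψ : IrrCharacter (GL (Fin 2) F), (ψ : GL (Fin 2) F → ℂ) 1 *
        classInner ((ψ : GL (Fin 2) F → ℂ) ∘ ι) χ = 0 := by simp [hcon]
    simp only [classInner, Finset.mul_sum] at h0
    rw [Finset.sum_comm] at h0
    have e : ∀ g, ∑ ψ : IrrCharacter (GL (Fin 2) F), (ψ : GL (Fin 2) F → ℂ) 1 *
        ((Nat.card (Matrix.SpecialLinearGroup (Fin 2) F) : ℂ)⁻¹ * (((ψ : GL (Fin 2) F → ℂ) ∘ ι) g * conj (χ g))) =
        ((Nat.card (Matrix.SpecialLinearGroup (Fin 2) F) : ℂ)⁻¹ * conj (χ g)) *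
          if ι g = 1 then (Nat.card (GL (Fin 2) F) : ℂ) else 0 := by
      intro g
      rw [← sum_degree_mul, Finset.mul_sum]
      exact Finset.sum_congr rfl fun ψ _ => by simp only [Function.comp_apply]; ring
    simp only [e] at h0
    rw [Finset.sum_eq_single (1 : Matrix.SpecialLinearGroup (Fin 2) F)] at h0
    · simp at h0
      exact IsIrrCharacter.apply_one_ne_zero hχ h0
    · intro g _ hg
      rw [if_neg (fun he => hg (Matrix.SpecialLinearGroup.toGL_injective (he.trans (map_one _).symm))), mul_zero]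
    · simp
  obtain ⟨ψ, hψ⟩ := this
  rcases kinds_GL2 ψ.2 with ⟨-, e⟩ | ⟨⟨α, e⟩, -⟩ | ⟨⟨α, e⟩, -⟩ | ⟨⟨α, β, -, e⟩, -⟩
  · have hφ : IsCharacter (Matrix.SpecialLinearGroup (Fin 2) F) ((ψ : GL (Fin 2) F → ℂ) ∘ ι) :=
      IsCharacter.comp (irr_isCharacter ψ) ι
    refine degree_le_of_constituent hφ ⟨χ, hχ⟩ hψ hd ?_
    simp only [Function.comp_apply, map_one, e]
    rw [Nat.cast_sub Fintype.one_lt_card.le, Nat.cast_one]
  all_goals exfalso; apply hψ; rw [e]
  · have : (glDetChar α ∘ ι) = trivSL F := by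
      funext g
      have hι : ((ι g : GL (Fin 2) F) : Matrix (Fin 2) (Fin 2) F) = g := rfl
      simp [glDetChar, trivSL, hι]
    rw [this]
    exact IsIrrCharacter.classInner_ne isIrr_trivSL hχ (fun h => triv_not_cusp (h ▸ hc))
  · have : (stein α ∘ ι) = steinSL F := by
      funext g
      have hι : ((ι g : GL (Fin 2) F) : Matrix (Fin 2) (Fin 2) F) = g := rfl
      simp only [Function.comp_apply, stein, steinSL, Pi.sub_apply]
      rw [show indGL α α (ι g) = indSL 1 g by
        rw [show ι g = Matrix.SpecialLinearGroup.toGL g from rfl, indGL_toGL, mul_inv_cancel]]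
      simp [glDetChar, trivSL, hι]
    rw [this]
    exact IsIrrCharacter.classInner_ne isIrr_steinSL hχ (fun h => stein_not_cusp (h ▸ hc))
  · have : (indGL α β ∘ ι) = indSL (α * β⁻¹) := funext fun g => indGL_toGL α β g
    rw [this]
    exact classInner_cusp hχ hc _

/-- The set of principal series characters. -/
noncomputable def principalSL (F : Type*) [Field F] [Fintype F] [DecidableEq F] :
    Finset (Matrix.SpecialLinearGroup (Fin 2) F → ℂ) :=
  @Finset.image _ _ (Classical.decEq _) indSL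
    ((@Finset.filter _ (fun α : MulChar F ℂ => α ^ 2 ≠ 1) (Classical.decPred _)) Finset.univ)

theorem mem_principalSL {χ : Matrix.SpecialLinearGroup (Fin 2) F → ℂ} :
    χ ∈ principalSL F ↔ ∃ α : MulChar F ℂ, α ^ 2 ≠ 1 ∧ χ = indSL α := by
  classical
  simp [principalSL, eq_comm]

theorem card_principalSL :
    2 * (principalSL F).card = Nat.card {α : MulChar F ℂ // α ^ 2 ≠ 1} := by
  classical
  rw [Nat.card_eq_fintype_card, Fintype.card_subtype, principalSL,
    Finset.card_eq_sum_card_image (indSL : MulChar F ℂ → _)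
      (Finset.univ.filter fun α : MulChar F ℂ => α ^ 2 ≠ 1), Finset.sum_const_nat (m := 2), mul_comm]
  · congr!
  · intro χ hχ
    obtain ⟨α, hα, rfl⟩ := Finset.mem_image.mp hχ
    have h2 : α ^ 2 ≠ 1 := (Finset.mem_filter.mp hα).2
    have hne : α ≠ α⁻¹ := fun e => h2 (by rw [sq, mul_eq_one_iff_eq_inv]; exact e)
    refine (congrArg Finset.card (?_ : _ = ({α, α⁻¹} : Finset (MulChar F ℂ)))).trans (Finset.card_pair hne)
    ext β
    simp only [Finset.mem_filter, Finset.mem_univ, true_and, Finset.mem_insert, Finset.mem_singleton, indSL_eq_iff]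
    constructor
    · exact fun h => h.2
    · rintro (rfl | rfl)
      · exact ⟨h2, Or.inl rfl⟩
      · exact ⟨by rwa [inv_pow, ne_eq, inv_eq_one], Or.inr rfl⟩

end

end Cfsg.Agent.Lib.KnownA
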