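import Mathlib
import Cfsg.Agent.Lib.KnownA.SL2Class

/-! The two halves of the principal series character of the quadratic character, and the degree of
every irreducible character of `SL₂(q)`. -/

set_option autoImplicit false

namespace Cfsg.Agent.Lib.KnownA

open scoped ComplexConjugate
open Matrix Cfsg Cfsg.Agent.Lib.Characters

section
variable {F : Type*} [Field F] [Fintype F] [DecidableEq F]

theorem mulChar_sq_eq_one_isSquare {α : MulChar F ℂ} (h : α ^ 2 = 1) {b : F} (hb : b ≠ 0) (hs : IsSquare b) :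
    α b = 1 := by
  obtain ⟨c, rfl⟩ := hs
  have hc : c ≠ 0 := fun e => hb (by rw [e, mul_zero])
  rw [map_mul, ← MulChar.mul_apply, ← sq, h, MulChar.one_apply (IsUnit.mk0 c hc)]

theorem eq_one_of_sq_eq_one_two [CharP F 2] {α : MulChar F ℂ} (h : α ^ 2 = 1) : α = 1 := by
  ext a
  rw [MulChar.one_apply_coe]
  exact mulChar_sq_eq_one_isSquare h a.ne_zero (FiniteField.isSquare_of_char_two (ringChar.eq F 2) _)

theorem quadratic_unique (hodd : Odd (Fintype.card F)) {α β : MulChar F ℂ} (hα : α ^ 2 = 1) (hα1 : α ≠ 1)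
    (hβ : β ^ 2 = 1) (hβ1 : β ≠ 1) : α = β := by
  have key : ∀ {γ : MulChar F ℂ}, γ ^ 2 = 1 → γ ≠ 1 → ∀ b : F, b ≠ 0 → γ b = if IsSquare b then 1 else -1 := by
    intro γ hγ hγ1 b hb
    split_ifs with hs
    · exact mulChar_sq_eq_one_isSquare hγ hb hs
    · have h2 : γ b * γ b = 1 := by rw [← MulChar.mul_apply, ← sq, hγ, MulChar.one_apply (IsUnit.mk0 b hb)]
      refine (mul_self_eq_one_iff.mp h2).resolve_left fun h1 => hγ1 ?_
      ext a
      rw [MulChar.one_apply_coe]
      by_cases ha : IsSquare (a : F)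
      · exact mulChar_sq_eq_one_isSquare hγ a.ne_zero ha
      · have h3 := mulChar_sq_eq_one_isSquare hγ (mul_ne_zero hb a.ne_zero)
          (isSquare_mul_or (ringChar_ne_two hodd) hs ha)
        rwa [map_mul, h1, one_mul] at h3
  ext a
  rw [key hα hα1 _ a.ne_zero, key hβ hβ1 _ a.ne_zero]

theorem exists_quadratic (hodd : Odd (Fintype.card F)) : ∃ η : MulChar F ℂ, η ^ 2 = 1 ∧ η ≠ 1 := by
  refine ⟨(quadraticChar F).ringHomComp (Int.castRingHom ℂ), ?_, ?_⟩
  · ext a
    rw [MulChar.pow_apply_coe, MulChar.ringHomComp_apply, MulChar.one_apply_coe, eq_intCast, ← Int.cast_pow,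
      quadraticChar_sq_one a.ne_zero, Int.cast_one]
  · intro h
    apply quadraticChar_ne_one (ringChar_ne_two hodd)
    ext a
    have := congrArg (fun χ : MulChar F ℂ => χ (a : F)) h
    simp only [MulChar.ringHomComp_apply, MulChar.one_apply_coe, eq_intCast] at this
    rw [MulChar.one_apply_coe]
    exact_mod_cast this

theorem card_sq_ne_one_odd (hodd : Odd (Fintype.card F)) :
    Nat.card {α : MulChar F ℂ // α ^ 2 ≠ 1} = Fintype.card F - 3 := by
  classical
  obtain ⟨η, hη, hη1⟩ := exists_quadratic hodd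
  have : (Finset.univ.filter fun α : MulChar F ℂ => α ^ 2 = 1) = {1, η} := by
    ext α
    simp only [Finset.mem_filter, Finset.mem_univ, true_and, Finset.mem_insert, Finset.mem_singleton]
    constructor
    · intro h
      by_cases h1 : α = 1
      · exact Or.inl h1
      · exact Or.inr (quadratic_unique hodd h h1 hη hη1)
    · rintro (rfl | rfl)
      · exact one_pow 2
      · exact hη
  rw [Nat.card_eq_fintype_card, Fintype.card_subtype_compl, card_mulChar, Fintype.card_subtype, this,
    Finset.card_pair (Ne.symm hη1), Nat.sub_sub]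

theorem card_sq_ne_one_two [CharP F 2] :
    Nat.card {α : MulChar F ℂ // α ^ 2 ≠ 1} = Fintype.card F - 2 := by
  classical
  have : (Finset.univ.filter fun α : MulChar F ℂ => α ^ 2 = 1) = {1} := by
    ext α
    simp only [Finset.mem_filter, Finset.mem_univ, true_and, Finset.mem_singleton]
    exact ⟨eq_one_of_sq_eq_one_two, fun h => by rw [h, one_pow]⟩
  rw [Nat.card_eq_fintype_card, Fintype.card_subtype_compl, card_mulChar, Fintype.card_subtype, this,
    Finset.card_singleton, Nat.sub_sub]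

/-- A lower unitriangular matrix. -/
def lowU (x : F) : Matrix.SpecialLinearGroup (Fin 2) F := ⟨!![1, 0; x, 1], by simp⟩

theorem lowU_coe (x : F) : (lowU x : Matrix (Fin 2) (Fin 2) F) = !![1, 0; x, 1] := rfl

theorem bSL_eq_prod (a : Fˣ) :
    bSL a 0 = uni (a : F) * lowU (-((a⁻¹ : Fˣ) : F)) *
      uni (a : F) * (uni (-1 : F) * lowU 1 * uni (-1 : F)) := by
  apply Subtype.ext
  change (bSL a 0 : Matrix (Fin 2) (Fin 2) F) = _
  simp only [Matrix.SpecialLinearGroup.coe_mul, uni_coe, lowU_coe, bSL_coe]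
  ext i j
  fin_cases i <;> fin_cases j <;> simp [Matrix.mul_apply, Fin.sum_univ_two]

theorem isConj_lower (x : F) :
    IsConj (uni (-x)) (lowU x) := by
  refine isConj_iff.mpr ⟨lineRepSL (some 0), ?_⟩
  rw [mul_inv_eq_iff_eq_mul]
  apply Subtype.ext
  change ((_ * _ : Matrix.SpecialLinearGroup (Fin 2) F) : Matrix (Fin 2) (Fin 2) F) =
    ((_ * _ : Matrix.SpecialLinearGroup (Fin 2) F) : Matrix (Fin 2) (Fin 2) F)
  simp only [Matrix.SpecialLinearGroup.coe_mul, uni_coe, lowU_coe, lineRepSL_some_coe]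
  ext i j
  fin_cases i <;> fin_cases j <;> simp [Matrix.mul_apply, Fin.sum_univ_two]

/-- A linear character whose sum over the unipotent group is `q` is trivial on the torus. -/
theorem linear_csum {χ : Matrix.SpecialLinearGroup (Fin 2) F → ℂ}
    (hχ : IsIrrCharacter (Matrix.SpecialLinearGroup (Fin 2) F) χ) (h1 : χ 1 = 1)
    (hsum : csumSL χ 1 = (Fintype.card F : ℂ)) (a : Fˣ) : csumSL χ a = (Fintype.card F : ℂ) := by
  have hchar := IsIrrCharacter.isCharacter hχ
  obtain ⟨lam, hlam⟩ := IsCharacter.exists_hom_of_apply_one hchar h1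
  have hcl := IsCharacter.isClassFunction hchar
  have hn : ∀ g, ‖χ g‖ ≤ 1 := fun g => by
    have := IsCharacter.norm_le hchar g
    rwa [h1, norm_one] at this
  have hu : ∀ c : F, χ (uni c) = 1 := by
    have hre : ∀ c ∈ (Finset.univ : Finset F), (χ (uni c)).re ≤ 1 := fun c _ => (Complex.re_le_norm _).trans (hn _)
    have htot : ∑ c : F, (χ (uni c)).re = ∑ _c : F, (1 : ℝ) := by
      rw [← Complex.re_sum]
      have : ∑ c : F, χ (uni c) = (Fintype.card F : ℂ) := by
        rw [← hsum]
        simp [csumSL, bSL_one]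
      rw [this]
      simp
    intro c
    have hc : (χ (uni c)).re = 1 := (Finset.sum_eq_sum_iff_of_le hre).mp htot c (Finset.mem_univ c)
    have h2 := Complex.normSq_apply (χ (uni c))
    rw [Complex.normSq_eq_norm_sq, hc] at h2
    have h3 : ‖χ (uni c)‖ ^ 2 ≤ 1 := pow_le_one₀ (norm_nonneg _) (hn _)
    have him : (χ (uni c)).im = 0 := mul_self_eq_zero.mp (le_antisymm (by linarith) (mul_self_nonneg _))
    exact Complex.ext (by simpa using hc) (by simpa using him)
  have hL : ∀ x : F, χ (lowU x) = 1 := fun x => by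
    rw [← IsClassFunction.eq_of_isConj hcl (isConj_lower x), hu]
  have hm : ∀ g k, χ (g * k) = χ g * χ k := fun g k => by simp [hlam]
  have hb : ∀ c : F, χ (bSL a c) = 1 := fun c => by
    have : bSL a c = bSL a 0 * uni (((a⁻¹ : Fˣ) : F) * c) := by
      apply Subtype.ext
      change (bSL a c : Matrix (Fin 2) (Fin 2) F) = _
      simp only [Matrix.SpecialLinearGroup.coe_mul, uni_coe, bSL_coe]
      ext i j
      fin_cases i <;> fin_cases j <;> simp [Matrix.mul_apply, Fin.sum_univ_two]
    rw [this, bSL_eq_prod]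
    simp only [hm, hu, hL, mul_one]
  simp [csumSL, hb]

theorem csumSL_comp_sigma (φ : Matrix.SpecialLinearGroup (Fin 2) F → ℂ) (ν a : Fˣ) :
    csumSL (φ ∘ sigma ν) a = csumSL φ a := by
  simp only [csumSL, Function.comp_apply, sigma_bSL]
  exact Fintype.sum_equiv (Equiv.mulLeft₀ (ν : F) ν.ne_zero) _ _ fun c => rfl

/-- The two constituents of the character induced from the quadratic character. -/
theorem exists_halves (hodd : Odd (Fintype.card F)) {η : MulChar F ℂ} (hη : η ^ 2 = 1) (hη1 : η ≠ 1)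
    (ν : Fˣ) (hν : ¬ IsSquare (ν : F)) :
    ∃ χ : Matrix.SpecialLinearGroup (Fin 2) F → ℂ, IsIrrCharacter (Matrix.SpecialLinearGroup (Fin 2) F) χ ∧
      χ ∘ sigma ν ≠ χ ∧ indSL η = χ + χ ∘ sigma ν ∧ χ 1 = ((((Fintype.card F + 1) / 2 : ℕ)) : ℂ) ∧
      ¬ CuspSL χ ∧ χ (uni 1) + χ (uni (ν : F)) = 1 ∧
      (χ (uni 1) - χ (uni (ν : F))) ^ 2 = (-1 : ℂ) ^ ((Fintype.card F - 1) / 2) * (Fintype.card F : ℂ) := by
  classical
  obtain ⟨A, B, hAB, hsum⟩ := exists_two_irr (isCharacter_indSL η) (norm_indSL_of_sq hη)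
  have hη2 : η = η⁻¹ := by rwa [sq, mul_eq_one_iff_eq_inv] at hη
  have hsel : ∀ C : IrrCharacter (Matrix.SpecialLinearGroup (Fin 2) F), C = A ∨ C = B →
      ∀ a : Fˣ, csumSL (C : Matrix.SpecialLinearGroup (Fin 2) F → ℂ) a = (Fintype.card F : ℂ) * η (a : F) := by
    intro C hC a
    have hC1 : classInner (indSL η) (C : Matrix.SpecialLinearGroup (Fin 2) F → ℂ) = 1 := by
      rw [hsum, classInner_add_left]
      rcases hC with rfl | rfl
      · rw [IsIrrCharacter.classInner_self C.2, IsIrrCharacter.classInner_ne B.2 C.2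
          (fun e => hAB (Subtype.ext e.symm)), add_zero]
      · rw [IsIrrCharacter.classInner_self C.2, IsIrrCharacter.classInner_ne A.2 C.2
          (fun e => hAB (Subtype.ext e)), zero_add]
    have hCt : (C : Matrix.SpecialLinearGroup (Fin 2) F → ℂ) ≠ trivSL F := fun e => by
      rw [e, classInner_indSL_triv, if_neg hη1] at hC1
      exact zero_ne_one hC1
    have hCS : (C : Matrix.SpecialLinearGroup (Fin 2) F → ℂ) ≠ steinSL F := fun e => by
      rw [e, steinSL, classInner_sub_right, classInner_indSL_triv, classInner_indSL_indSL, if_neg hη1,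
        inv_one, if_neg hη1] at hC1
      norm_num at hC1
    have hC0 : ∀ β : MulChar F ℂ, β ≠ η → classInner (indSL β) (C : Matrix.SpecialLinearGroup (Fin 2) F → ℂ) = 0 := by
      intro β hβ
      by_cases h2 : β ^ 2 = 1
      · have hb1 : β = 1 := by
          by_contra h1
          exact hβ (quadratic_unique hodd h2 h1 hη hη1)
        rw [hb1, show indSL (1 : MulChar F ℂ) = steinSL F + trivSL F by rw [steinSL, sub_add_cancel],
          classInner_add_left, IsIrrCharacter.classInner_ne isIrr_steinSL C.2 (Ne.symm hCS),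
          IsIrrCharacter.classInner_ne isIrr_trivSL C.2 (Ne.symm hCt), add_zero]
      · by_contra hne
        have e := eq_of_classInner_ne_zero ((isIrr_indSL_iff β).mpr h2) C.2 hne
        rw [e, classInner_indSL_indSL, if_neg (Ne.symm hβ),
          if_neg (fun e2 => hβ (by rw [hη2, e2, inv_inv]))] at hC1
        norm_num at hC1
    have hN : (((Fintype.card F - 1) * Fintype.card F : ℕ) : ℂ) ≠ 0 := Nat.cast_ne_zero.mpr
      (Nat.mul_pos (by have := Fintype.one_lt_card (α := F); omega) Fintype.card_pos).ne'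
    have key : ∀ β : MulChar F ℂ, ∑ b : Fˣ, β (b : F) * conj (csumSL (C : Matrix.SpecialLinearGroup (Fin 2) F → ℂ) b) =
        (Fintype.card F : ℂ) * ∑ b : Fˣ, β (b : F) * conj (η (b : F)) := by
      intro β
      rw [sum_units_mulChar]
      have h := classInner_indSL_left β (irr_isClassFunction C)
      rw [eq_inv_mul_iff_mul_eq₀ hN] at h
      rw [← h]
      by_cases hb : β = η
      · subst hb
        rw [hC1, if_pos rfl]
        push_cast
        ring
      · rw [hC0 β hb, if_neg hb, mul_zero, mul_zero]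
    have := eq_zero_of_pairing
      (fun b => conj (csumSL (C : Matrix.SpecialLinearGroup (Fin 2) F → ℂ) b) - (Fintype.card F : ℂ) * conj (η (b : F)))
      (fun β => by
        simp only [sub_mul, Finset.sum_sub_distrib, mul_assoc, ← Finset.mul_sum]
        simp only [mul_comm (conj _) (β _)]
        rw [key β, sub_self]) a
    have h2 := congrArg conj this
    simpa [sub_eq_zero] using h2
  have hdeg : (A : Matrix.SpecialLinearGroup (Fin 2) F → ℂ) 1 + (B : Matrix.SpecialLinearGroup (Fin 2) F → ℂ) 1 =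
      (Fintype.card F : ℂ) + 1 := by
    rw [← indSL_one η, hsum, Pi.add_apply]
  obtain ⟨dA, hA0, hdA⟩ := IsIrrCharacter.exists_apply_one A.2
  obtain ⟨dB, hB0, hdB⟩ := IsIrrCharacter.exists_apply_one B.2
  have hlin : ∀ C : IrrCharacter (Matrix.SpecialLinearGroup (Fin 2) F), C = A ∨ C = B →
      (C : Matrix.SpecialLinearGroup (Fin 2) F → ℂ) 1 ≠ 1 := by
    intro C hC h1
    apply hη1
    ext a
    have h := hsel C hC a
    rw [linear_csum C.2 h1 (by rw [hsel C hC 1, Units.val_one, map_one, mul_one]) a] at h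
    rw [MulChar.one_apply_coe]
    exact mul_left_cancel₀ card_F_ne_zero (h.symm.trans (mul_one _).symm)
  have hA1 : dA ≠ 1 := fun e => hlin A (Or.inl rfl) (by rw [hdA, e, Nat.cast_one])
  have hB1 : dB ≠ 1 := fun e => hlin B (Or.inr rfl) (by rw [hdB, e, Nat.cast_one])
  have hd : dA + dB = Fintype.card F + 1 := by
    rw [hdA, hdB] at hdeg
    exact_mod_cast hdeg
  have h1A := hsel A (Or.inl rfl) 1
  rw [Units.val_one, map_one, mul_one, csum_one_odd hodd ν hν (irr_isClassFunction A), hdA] at h1A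
  have hh : (Fintype.card F - 1) / 2 ≠ 0 := by
    have := Nat.odd_iff.mp hodd
    have := Fintype.one_lt_card (α := F)
    omega
  obtain ⟨z, hz, hzm⟩ := exists_int_of_mul_eq
    ((IsCharacter.isIntegral (irr_isCharacter A) (uni 1)).add (IsCharacter.isIntegral (irr_isCharacter A) (uni (ν : F))))
    hh (m := (Fintype.card F : ℤ) - dA) (by push_cast; linear_combination h1A)
  have hz1 : z = 1 ∧ dA = (Fintype.card F + 1) / 2 := by
    have hq := Nat.odd_iff.mp hodd
    obtain ⟨h, hh'⟩ : ∃ h, (Fintype.card F - 1) / 2 = h := ⟨_, rfl⟩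
    have hqh : Fintype.card F = 2 * h + 1 := by omega
    rw [hh', hqh] at hzm
    rw [hqh] at hd
    push_cast at hzm
    have hpos : (0 : ℤ) < h := by omega
    have hz0 : 0 < z := by
      by_contra hc
      push Not at hc
      have : (h : ℤ) * z ≤ 0 := mul_nonpos_of_nonneg_of_nonpos hpos.le hc
      omega
    have hz2 : z < 2 := by
      by_contra hc
      push Not at hc
      have : (h : ℤ) * 2 ≤ (h : ℤ) * z := mul_le_mul_of_nonneg_left hc hpos.le
      omega
    have hz' : z = 1 := by omega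
    subst hz'
    refine ⟨rfl, ?_⟩
    omega
  obtain ⟨rfl, hdA'⟩ := hz1
  obtain ⟨hne, hsq, -⟩ := signed_pair hodd A.2 ν hν 1 (Or.inl rfl) hz
  have hAσ : IsIrrCharacter (Matrix.SpecialLinearGroup (Fin 2) F)
      ((A : Matrix.SpecialLinearGroup (Fin 2) F → ℂ) ∘ sigma ν) := IsIrrCharacter.comp_equiv A.2 (sigma ν)
  have hAση : classInner (indSL η) ((A : Matrix.SpecialLinearGroup (Fin 2) F → ℂ) ∘ sigma ν) ≠ 0 := by
    rw [classInner_indSL_left _ (IsCharacter.isClassFunction (IsIrrCharacter.isCharacter hAσ))]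
    simp only [csumSL_comp_sigma]
    rw [← classInner_indSL_left _ (irr_isClassFunction A), hsum, classInner_add_left,
      IsIrrCharacter.classInner_self A.2, IsIrrCharacter.classInner_ne B.2 A.2
        (fun e => hAB (Subtype.ext e.symm))]
    simp
  rw [hsum] at hAση
  have hB : (A : Matrix.SpecialLinearGroup (Fin 2) F → ℂ) ∘ sigma ν = (B : Matrix.SpecialLinearGroup (Fin 2) F → ℂ) :=
    congrArg Subtype.val ((eq_or_eq_of_classInner_ne_zero A B ⟨_, hAσ⟩ hAση).resolve_left
      fun e => hne (congrArg Subtype.val e))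
  refine ⟨A, A.2, hne, by rw [hB, hsum], by rw [hdA, hdA'], ?_, by rw [hz, Int.cast_one], hsq⟩
  intro hc
  have h := hsel A (Or.inl rfl) 1
  rw [hc 1, Units.val_one, map_one, mul_one] at h
  exact card_F_ne_zero h.symm

end

end Cfsg.Agent.Lib.KnownA
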