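import Mathlib
import Cfsg.Agent.Lib.KnownA.SL2Half

/-! Degrees and values at transvections of the irreducible characters of `SL₂(q)`. -/

set_option autoImplicit false

namespace Cfsg.Agent.Lib.KnownA

open scoped ComplexConjugate
open Matrix Cfsg Cfsg.Agent.Lib.Characters

section odd
variable {F : Type*} [Field F] [Fintype F] [DecidableEq F]

theorem cusp_two [CharP F 2] {χ : Matrix.SpecialLinearGroup (Fin 2) F → ℂ}
    (hχ : IsIrrCharacter (Matrix.SpecialLinearGroup (Fin 2) F) χ) (hc : CuspSL χ) :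
    χ 1 = ((Fintype.card F - 1 : ℕ) : ℂ) ∧ χ (uni 1) = -1 := by
  have hq := Fintype.one_lt_card (α := F)
  have h := csum_one_two (IsCharacter.isClassFunction (IsIrrCharacter.isCharacter hχ))
  rw [hc 1] at h
  obtain ⟨d, hd0, hd⟩ := IsIrrCharacter.exists_apply_one hχ
  rw [hd] at h
  obtain ⟨z, hz, hzm⟩ := exists_int_of_mul_eq (IsCharacter.isIntegral (IsIrrCharacter.isCharacter hχ) (uni 1))
    (n := Fintype.card F - 1) (by omega) (m := -(d : ℤ)) (by push_cast; linear_combination -h)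
  have hle := cusp_degree_le hχ hc hd
  obtain ⟨m, hm⟩ : ∃ m, Fintype.card F - 1 = m := ⟨_, rfl⟩
  rw [hm] at hzm hle ⊢
  have hpos : (0 : ℤ) < m := by omega
  have h1 : z < 0 := by
    by_contra hcon
    push Not at hcon
    have : (0 : ℤ) ≤ (m : ℤ) * z := mul_nonneg hpos.le hcon
    omega
  have h2 : -2 < z := by
    by_contra hcon
    push Not at hcon
    have : (m : ℤ) * z ≤ (m : ℤ) * -2 := mul_le_mul_of_nonneg_left hcon hpos.le
    omega
  have hz' : z = -1 := by omega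
  subst hz'
  refine ⟨?_, by rw [hz]; norm_num⟩
  rw [hd]
  congr 1
  omega

theorem cusp_odd (hodd : Odd (Fintype.card F)) (ν : Fˣ) (hν : ¬ IsSquare (ν : F))
    {χ : Matrix.SpecialLinearGroup (Fin 2) F → ℂ}
    (hχ : IsIrrCharacter (Matrix.SpecialLinearGroup (Fin 2) F) χ) (hc : CuspSL χ) :
    (χ 1 = (((Fintype.card F - 1) / 2 : ℕ) : ℂ) ∧ χ (uni 1) + χ (uni (ν : F)) = -1) ∨
      (χ 1 = ((Fintype.card F - 1 : ℕ) : ℂ) ∧ χ (uni 1) + χ (uni (ν : F)) = -2) := by
  have hq := Fintype.one_lt_card (α := F)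
  have hmod := Nat.odd_iff.mp hodd
  have h := csum_one_odd hodd ν hν (IsCharacter.isClassFunction (IsIrrCharacter.isCharacter hχ))
  rw [hc 1] at h
  obtain ⟨d, hd0, hd⟩ := IsIrrCharacter.exists_apply_one hχ
  rw [hd] at h
  obtain ⟨z, hz, hzm⟩ := exists_int_of_mul_eq
    ((IsCharacter.isIntegral (IsIrrCharacter.isCharacter hχ) (uni 1)).add
      (IsCharacter.isIntegral (IsIrrCharacter.isCharacter hχ) (uni (ν : F))))
    (n := (Fintype.card F - 1) / 2) (by omega) (m := -(d : ℤ)) (by push_cast; linear_combination -h)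
  have hle := cusp_degree_le hχ hc hd
  obtain ⟨m, hm⟩ : ∃ m, (Fintype.card F - 1) / 2 = m := ⟨_, rfl⟩
  have hm2 : Fintype.card F - 1 = 2 * m := by omega
  rw [hm] at hzm ⊢
  rw [hm2] at hle ⊢
  have hpos : (0 : ℤ) < m := by omega
  have h1 : z < 0 := by
    by_contra hcon
    push Not at hcon
    have : (0 : ℤ) ≤ (m : ℤ) * z := mul_nonneg hpos.le hcon
    omega
  have h2 : -3 < z := by
    by_contra hcon
    push Not at hcon
    have : (m : ℤ) * z ≤ (m : ℤ) * -3 := mul_le_mul_of_nonneg_left hcon hpos.le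
    omega
  obtain rfl | rfl : z = -1 ∨ z = -2 := by omega
  · left
    refine ⟨?_, by rw [hz]; norm_num⟩
    rw [hd]
    congr 1
    omega
  · right
    refine ⟨?_, by rw [hz]; norm_num⟩
    rw [hd]
    congr 1
    omega

/-- The kinds of irreducible characters, `q` odd, with degrees. -/
theorem kinds_odd (hodd : Odd (Fintype.card F)) (ν : Fˣ) (hν : ¬ IsSquare (ν : F))
    {η : MulChar F ℂ} (hη : η ^ 2 = 1) (hη1 : η ≠ 1) {H : Matrix.SpecialLinearGroup (Fin 2) F → ℂ}
    (hH : IsIrrCharacter (Matrix.SpecialLinearGroup (Fin 2) F) H) (hHd : indSL η = H + H ∘ sigma ν)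
    (hH1 : H 1 = (((Fintype.card F + 1) / 2 : ℕ) : ℂ))
    {χ : Matrix.SpecialLinearGroup (Fin 2) F → ℂ}
    (hχ : IsIrrCharacter (Matrix.SpecialLinearGroup (Fin 2) F) χ) :
    (¬ CuspSL χ ∧ ((χ = trivSL F ∧ χ 1 = ((1 : ℕ) : ℂ)) ∨ (χ = steinSL F ∧ χ 1 = (Fintype.card F : ℂ)) ∨
      (χ ∈ principalSL F ∧ χ 1 = ((Fintype.card F + 1 : ℕ) : ℂ)) ∨
      ((χ = H ∨ χ = H ∘ sigma ν) ∧ χ 1 = (((Fintype.card F + 1) / 2 : ℕ) : ℂ)))) ∨
    (CuspSL χ ∧ (χ 1 = (((Fintype.card F - 1) / 2 : ℕ) : ℂ) ∨ χ 1 = ((Fintype.card F - 1 : ℕ) : ℂ))) := by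
  classical
  by_cases hc : CuspSL χ
  · refine Or.inr ⟨hc, ?_⟩
    rcases cusp_odd hodd ν hν hχ hc with ⟨h, -⟩ | ⟨h, -⟩
    · exact Or.inl h
    · exact Or.inr h
  refine Or.inl ⟨hc, ?_⟩
  rcases classification_SL2 hχ with h | h | h | ⟨α, hα, h⟩ | ⟨η', hη', hη'1, h⟩
  · exact absurd h hc
  · exact Or.inl ⟨h, by rw [h, trivSL_one, Nat.cast_one]⟩
  · exact Or.inr (Or.inl ⟨h, by rw [h, steinSL_one]⟩)
  · exact Or.inr (Or.inr (Or.inl ⟨mem_principalSL.mpr ⟨α, hα, h⟩,
      by rw [h, indSL_one]; push_cast; rfl⟩))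
  · refine Or.inr (Or.inr (Or.inr ?_))
    rw [quadratic_unique hodd hη' hη'1 hη hη1, hHd] at h
    rcases eq_or_eq_of_classInner_ne_zero ⟨H, hH⟩ ⟨_, IsIrrCharacter.comp_equiv hH (sigma ν)⟩ ⟨χ, hχ⟩ h with e | e
    · have e' : χ = H := congrArg Subtype.val e
      exact ⟨Or.inl e', by rw [e', hH1]⟩
    · have e' : χ = H ∘ sigma ν := congrArg Subtype.val e
      exact ⟨Or.inr e', by rw [e', Function.comp_apply, map_one, hH1]⟩

theorem cuspSL_comp_sigma {χ : Matrix.SpecialLinearGroup (Fin 2) F → ℂ} (ν : Fˣ) (h : CuspSL χ) :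
    CuspSL (χ ∘ sigma ν) := fun a => by rw [csumSL_comp_sigma, h a]

theorem not_cuspSL_comp_sigma {χ : Matrix.SpecialLinearGroup (Fin 2) F → ℂ} (ν : Fˣ) (h : ¬ CuspSL χ) :
    ¬ CuspSL (χ ∘ sigma ν) := fun hc => h fun a => by rw [← csumSL_comp_sigma χ ν a, hc a]

theorem card_filter_eq_sum_indicator {ι : Type*} (s : Finset ι) (p : ι → Prop) [DecidablePred p] :
    ∑ x ∈ s, (if p x then 1 else 0) = (s.filter p).card := by
  rw [Finset.sum_boole, Nat.cast_id]

/-- The counts, `q` odd. -/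
theorem counts_odd (hodd : Odd (Fintype.card F)) :
    let I := IrrCharacter (Matrix.SpecialLinearGroup (Fin 2) F)
    Nat.card {χ : I // ¬ CuspSL χ.1 ∧ χ.1 1 = 1} = 1 ∧
    Nat.card {χ : I // ¬ CuspSL χ.1 ∧ χ.1 1 = (Fintype.card F : ℂ)} = 1 ∧
    Nat.card {χ : I // ¬ CuspSL χ.1 ∧ χ.1 1 = (Fintype.card F : ℂ) + 1} = (Fintype.card F - 3) / 2 ∧
    Nat.card {χ : I // ¬ CuspSL χ.1 ∧ χ.1 1 = (((Fintype.card F + 1) / 2 : ℕ) : ℂ)} = 2 ∧
    Nat.card {χ : I // CuspSL χ.1 ∧ χ.1 1 = (Fintype.card F : ℂ) - 1} = (Fintype.card F - 1) / 2 ∧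
    Nat.card {χ : I // CuspSL χ.1 ∧ χ.1 1 = (((Fintype.card F - 1) / 2 : ℕ) : ℂ)} = 2 := by
  classical
  intro I
  haveI : Fintype I := Fintype.ofFinite _
  obtain ⟨ν₀, hν₀⟩ := FiniteField.exists_nonsquare (ringChar_ne_two hodd)
  let ν : Fˣ := Units.mk0 ν₀ (fun h => hν₀ (h ▸ IsSquare.zero))
  have hν : ¬ IsSquare (ν : F) := hν₀
  obtain ⟨η, hη, hη1⟩ := exists_quadratic hodd
  obtain ⟨H, hH, hHne, hHd, hH1, hHc, -, -⟩ := exists_halves hodd hη hη1 ν hν
  have hmod := Nat.odd_iff.mp hodd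
  have hq := Fintype.one_lt_card (α := F)
  obtain ⟨h, hqh⟩ : ∃ h, Fintype.card F = 2 * h + 1 := ⟨(Fintype.card F - 1) / 2, by omega⟩
  have e1 : (Fintype.card F + 1) / 2 = h + 1 := by omega
  have e2 : (Fintype.card F - 1) / 2 = h := by omega
  have e3 : Fintype.card F - 1 = 2 * h := by omega
  have hkind := fun χ : I => kinds_odd hodd ν hν hη hη1 hH hHd hH1 χ.2
  choose deg hdeg0 hdeg using fun χ : I => IsIrrCharacter.exists_apply_one χ.2
  have cast_eq : ∀ (χ : I) (n : ℕ), χ.1 1 = (n : ℂ) ↔ deg χ = n := fun χ n => by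
    rw [hdeg χ, Nat.cast_inj]
  let trivI : I := ⟨trivSL F, isIrr_trivSL⟩
  let steinI : I := ⟨steinSL F, isIrr_steinSL⟩
  let HI : I := ⟨H, hH⟩
  let HI' : I := ⟨H ∘ sigma ν, IsIrrCharacter.comp_equiv hH (sigma ν)⟩
  set N : ℕ → Finset I := fun d => Finset.univ.filter fun χ : I => ¬ CuspSL χ.1 ∧ deg χ = d with hN
  set C : ℕ → Finset I := fun d => Finset.univ.filter fun χ : I => CuspSL χ.1 ∧ deg χ = d with hC
  -- the four kinds which are not cuspidal
  have n1 : (N 1).card = 1 := by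
    rw [show N 1 = {trivI} from ?_, Finset.card_singleton]
    ext χ
    simp only [hN, Finset.mem_filter, Finset.mem_univ, true_and, Finset.mem_singleton]
    constructor
    · rintro ⟨hc, hd⟩
      rcases hkind χ with ⟨-, ⟨e, -⟩ | ⟨-, e⟩ | ⟨-, e⟩ | ⟨-, e⟩⟩ | ⟨h', -⟩
      · exact Subtype.ext e
      · rw [cast_eq] at e; omega
      · rw [cast_eq] at e; omega
      · rw [cast_eq] at e; omega
      · exact absurd h' hc
    · rintro rfl
      exact ⟨triv_not_cusp, (cast_eq _ _).mp (by rw [Nat.cast_one]; rfl)⟩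
  have nq : (N (Fintype.card F)).card = 1 := by
    rw [show N (Fintype.card F) = {steinI} from ?_, Finset.card_singleton]
    ext χ
    simp only [hN, Finset.mem_filter, Finset.mem_univ, true_and, Finset.mem_singleton]
    constructor
    · rintro ⟨hc, hd⟩
      rcases hkind χ with ⟨-, ⟨-, e⟩ | ⟨e, -⟩ | ⟨-, e⟩ | ⟨-, e⟩⟩ | ⟨h', -⟩
      · rw [cast_eq] at e; omega
      · exact Subtype.ext e
      · rw [cast_eq] at e; omega
      · rw [cast_eq] at e; omega
      · exact absurd h' hc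
    · rintro rfl
      exact ⟨stein_not_cusp, (cast_eq _ _).mp steinSL_one⟩
  have np : (N (Fintype.card F + 1)).card = (principalSL F).card := by
    rw [← Finset.card_image_of_injective (N (Fintype.card F + 1)) Subtype.val_injective]
    congr 1
    ext f
    simp only [Finset.mem_image, hN, Finset.mem_filter, Finset.mem_univ, true_and]
    constructor
    · rintro ⟨χ, ⟨hc, hd⟩, rfl⟩
      rcases hkind χ with ⟨-, ⟨-, e⟩ | ⟨-, e⟩ | ⟨e, -⟩ | ⟨-, e⟩⟩ | ⟨h', -⟩
      · rw [cast_eq] at e; omega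
      · rw [cast_eq] at e; omega
      · exact e
      · rw [cast_eq] at e; omega
      · exact absurd h' hc
    · intro hf
      obtain ⟨α, hα, rfl⟩ := mem_principalSL.mp hf
      refine ⟨⟨indSL α, (isIrr_indSL_iff α).mpr hα⟩, ⟨indSL_not_cusp hα, (cast_eq _ _).mp ?_⟩, rfl⟩
      push_cast
      exact indSL_one α
  have nh : (N ((Fintype.card F + 1) / 2)).card = 2 := by
    rw [show N ((Fintype.card F + 1) / 2) = {HI, HI'} from ?_,
      Finset.card_pair (fun e => hHne (congrArg Subtype.val e).symm)]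
    ext χ
    simp only [hN, Finset.mem_filter, Finset.mem_univ, true_and, Finset.mem_insert, Finset.mem_singleton]
    constructor
    · rintro ⟨hc, hd⟩
      rcases hkind χ with ⟨-, ⟨-, e⟩ | ⟨-, e⟩ | ⟨-, e⟩ | ⟨e, -⟩⟩ | ⟨h', -⟩
      · rw [cast_eq] at e; omega
      · rw [cast_eq] at e; omega
      · rw [cast_eq] at e; omega
      · exact e.imp Subtype.ext Subtype.ext
      · exact absurd h' hc
    · rintro (rfl | rfl)
      · exact ⟨hHc, (cast_eq _ _).mp hH1⟩
      · exact ⟨not_cuspSL_comp_sigma ν hHc, (cast_eq _ _).mp (by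
          change (H ∘ sigma ν) 1 = _
          rw [Function.comp_apply, map_one, hH1])⟩
  have hP : 2 * (principalSL F).card = Fintype.card F - 3 := by rw [card_principalSL, card_sq_ne_one_odd hodd]
  -- weighted sums
  have key : ∀ (w : ℕ → ℕ), ∑ χ : I, w (deg χ) =
      w 1 * (N 1).card + w (Fintype.card F) * (N (Fintype.card F)).card +
      w (Fintype.card F + 1) * (N (Fintype.card F + 1)).card + w (h + 1) * (N (h + 1)).card +
      w h * (C h).card + w (2 * h) * (C (2 * h)).card := by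
    intro w
    simp only [hN, hC, ← card_filter_eq_sum_indicator, Finset.mul_sum, ← Finset.sum_add_distrib]
    refine Finset.sum_congr rfl fun χ _ => ?_
    rcases hkind χ with ⟨hc, hh⟩ | ⟨hc, hh⟩
    · simp only [hc, not_false_eq_true, true_and, false_and, if_false, mul_zero, add_zero, e1] at hh ⊢
      rcases hh with ⟨-, e⟩ | ⟨-, e⟩ | ⟨-, e⟩ | ⟨-, e⟩ <;> rw [cast_eq] at e <;> rw [e]
      · rw [if_pos rfl, if_neg (by omega), if_neg (by omega), if_neg (by omega)]; ring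
      · rw [if_neg (by omega), if_pos rfl, if_neg (by omega), if_neg (by omega)]; ring
      · rw [if_neg (by omega), if_neg (by omega), if_pos rfl, if_neg (by omega)]; ring
      · rw [if_neg (by omega), if_neg (by omega), if_neg (by omega), if_pos rfl]; ring
    · simp only [hc, not_true_eq_false, true_and, false_and, if_false, mul_zero, zero_add] at hh ⊢
      rw [e2, e3] at hh
      rcases hh with e | e <;> rw [cast_eq] at e <;> rw [e]
      · rw [if_pos rfl, if_neg (by omega)]; ring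
      · rw [if_neg (by omega), if_pos rfl]; ring
  have hcount := key fun _ => 1
  have hsq := key fun d => d ^ 2
  rw [n1, nq, np, show (N (h + 1)).card = 2 by rw [← e1]; exact nh] at hcount hsq
  have hclasses : Fintype.card I = Fintype.card F + 4 := by
    rw [← Nat.card_eq_fintype_card (α := I), card_irrCharacter, card_conjClasses_SL2_odd hodd]
  have hsum : ∑ χ : I, deg χ ^ 2 = Fintype.card F * (Fintype.card F ^ 2 - 1) := by
    have h0 := sum_degree_sq (G := Matrix.SpecialLinearGroup (Fin 2) F)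
    rw [card_SL2] at h0
    have : ((∑ χ : I, deg χ ^ 2 : ℕ) : ℂ) = ((Fintype.card F * (Fintype.card F ^ 2 - 1) : ℕ) : ℂ) := by
      rw [← h0]
      push_cast
      exact Finset.sum_congr rfl fun χ _ => by rw [hdeg χ]
    exact_mod_cast this
  simp only [Finset.sum_const, Finset.card_univ, smul_eq_mul, mul_one, one_mul, hclasses] at hcount
  rw [hsum] at hsq
  obtain ⟨s, hs⟩ : ∃ s, (C h).card = s := ⟨_, rfl⟩
  obtain ⟨t, ht⟩ : ∃ t, (C (2 * h)).card = t := ⟨_, rfl⟩
  obtain ⟨p, hp⟩ : ∃ p, (principalSL F).card = p := ⟨_, rfl⟩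
  rw [hs, ht, hp] at hcount hsq
  rw [hp] at hP np
  rw [hqh] at hcount hsq hP
  have hh0 : 0 < h := by omega
  have hst : s + t = h + 2 := by omega
  have hs4 : s + 4 * t = 4 * h + 2 := by
    have hq2 : (2 * h + 1) ^ 2 - 1 = 4 * h * h + 4 * h := by
      have : (2 * h + 1) ^ 2 = 4 * h * h + 4 * h + 1 := by ring
      omega
    rw [hq2] at hsq
    have hp' : (p : ℤ) = (h : ℤ) - 1 := by omega
    zify at hsq
    rw [hp'] at hsq
    have : ((h : ℤ) ^ 2) * ((s : ℤ) + 4 * t) = (h : ℤ) ^ 2 * (4 * h + 2) := by linear_combination -hsq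
    have := mul_left_cancel₀ (pow_ne_zero 2 (by omega : (h : ℤ) ≠ 0)) this
    omega
  have hs2 : s = 2 := by omega
  have ht2 : t = h := by omega
  have conv : ∀ (P : I → Prop) (n : ℕ) (c : ℂ), c = (n : ℂ) →
      Nat.card {χ : I // P χ ∧ χ.1 1 = c} = (Finset.univ.filter fun χ : I => P χ ∧ deg χ = n).card := by
    intro P n c hc
    rw [Nat.card_eq_fintype_card, Fintype.card_subtype]
    simp only [hc, cast_eq]
  simp only [hN] at n1 nq np nh
  simp only [hC] at hs ht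
  refine ⟨?_, ?_, ?_, ?_, ?_, ?_⟩
  · rw [conv (fun χ => ¬ CuspSL χ.1) 1 1 Nat.cast_one.symm]; convert n1
  · rw [conv (fun χ => ¬ CuspSL χ.1) (Fintype.card F) _ rfl]; convert nq
  · rw [conv (fun χ => ¬ CuspSL χ.1) (Fintype.card F + 1) _ (by push_cast; rfl)]
    convert np.trans (show p = (Fintype.card F - 3) / 2 by omega)
  · rw [conv (fun χ => ¬ CuspSL χ.1) ((Fintype.card F + 1) / 2) _ rfl]; convert nh
  · rw [conv (fun χ => CuspSL χ.1) (2 * h) _ (by rw [hqh]; push_cast; ring), e2]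
    convert ht.trans ht2
  · rw [conv (fun χ => CuspSL χ.1) h _ (by rw [e2])]
    convert hs.trans hs2

end odd

end Cfsg.Agent.Lib.KnownA
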