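import Mathlib
import Cfsg.Agent.Lib.KnownA.SL2Irr

/-! Values of the irreducible characters of `SL₂(q)`. -/

set_option autoImplicit false

namespace Cfsg.Agent.Lib.KnownA

open scoped ComplexConjugate
open Matrix Cfsg Cfsg.Agent.Lib.Characters

section
variable {F : Type*} [Field F] [Fintype F] [DecidableEq F]

theorem uni_one_eq {u : Matrix.SpecialLinearGroup (Fin 2) F}
    (hu : (u : Matrix (Fin 2) (Fin 2) F) = !![1, 1; 0, 1]) : u = uni 1 :=
  Subtype.ext (hu.trans (uni_coe 1).symm)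

theorem indSL_uni_one (α : MulChar F ℂ) : indSL α (uni (1 : F)) = 1 := by
  rw [indSL_apply]
  simp [uni_coe, qv]

theorem indSL_noEigen (α : MulChar F ℂ) {g : Matrix.SpecialLinearGroup (Fin 2) F}
    (h : ∀ (c : F) (v : Fin 2 → F), v ≠ 0 → (g : Matrix (Fin 2) (Fin 2) F).mulVec v ≠ c • v) :
    indSL α g = 0 := by
  obtain ⟨h10, hq⟩ := qv_ne_zero_of_noEigen h
  rw [indSL_apply]
  simp [h10, hq]

theorem steinSL_apply (g : Matrix.SpecialLinearGroup (Fin 2) F) :
    steinSL F g = indSL 1 g - 1 := rfl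

theorem steinSL_diag {g : Matrix.SpecialLinearGroup (Fin 2) F}
    (h01 : (g : Matrix (Fin 2) (Fin 2) F) 0 1 = 0) (h10 : (g : Matrix (Fin 2) (Fin 2) F) 1 0 = 0)
    (ha : (g : Matrix (Fin 2) (Fin 2) F) 0 0 ^ 2 ≠ 1) : steinSL F g = 1 := by
  have hdet := g.det_coe
  rw [Matrix.det_fin_two, h01, zero_mul, sub_zero] at hdet
  have h00 : (g : Matrix (Fin 2) (Fin 2) F) 0 0 ≠ 0 := left_ne_zero_of_mul_eq_one hdet
  have h11 : (g : Matrix (Fin 2) (Fin 2) F) 1 1 ≠ 0 := right_ne_zero_of_mul_eq_one hdet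
  have hne : (g : Matrix (Fin 2) (Fin 2) F) 1 1 - (g : Matrix (Fin 2) (Fin 2) F) 0 0 ≠ 0 := fun e => ha (by
    rw [sq]
    nth_rewrite 2 [← sub_eq_zero.mp e]
    exact hdet)
  rw [steinSL_apply, indSL_apply, if_pos h10, Finset.sum_eq_single (0 : F)]
  · rw [if_pos (by simp [qv, h01]), MulChar.one_apply (IsUnit.mk0 _ h00),
      MulChar.one_apply (by rw [zero_mul, add_zero]; exact IsUnit.mk0 _ h11)]
    ring
  · intro x _ hx
    rw [if_neg]
    simp [qv, h01, h10, hne, hx]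
  · simp

theorem steinSL_noEigen {g : Matrix.SpecialLinearGroup (Fin 2) F}
    (h : ∀ (c : F) (v : Fin 2 → F), v ≠ 0 → (g : Matrix (Fin 2) (Fin 2) F).mulVec v ≠ c • v) :
    steinSL F g = -1 := by
  rw [steinSL_apply, indSL_noEigen 1 h, zero_sub]

theorem steinSL_upper {g : Matrix.SpecialLinearGroup (Fin 2) F}
    (h10 : (g : Matrix (Fin 2) (Fin 2) F) 1 0 = 0)
    (he : (g : Matrix (Fin 2) (Fin 2) F) 0 0 = (g : Matrix (Fin 2) (Fin 2) F) 1 1)
    (h01 : (g : Matrix (Fin 2) (Fin 2) F) 0 1 ≠ 0) : steinSL F g = 0 := by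
  have hdet := g.det_coe
  rw [Matrix.det_fin_two, h10, mul_zero, sub_zero] at hdet
  rw [steinSL_apply, indSL_apply, if_pos h10, Finset.sum_eq_zero, MulChar.one_apply
    (IsUnit.mk0 _ (left_ne_zero_of_mul_eq_one hdet))]
  · ring
  · intro x _
    rw [if_neg]
    simp [qv, h10, he, h01]

theorem sl2_cusp_diag {χ : Matrix.SpecialLinearGroup (Fin 2) F → ℂ}
    (hχ : IsIrrCharacter (Matrix.SpecialLinearGroup (Fin 2) F) χ) (hc : CuspSL χ)
    {g : Matrix.SpecialLinearGroup (Fin 2) F}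
    (h01 : (g : Matrix (Fin 2) (Fin 2) F) 0 1 = 0) (h10 : (g : Matrix (Fin 2) (Fin 2) F) 1 0 = 0)
    (ha : (g : Matrix (Fin 2) (Fin 2) F) 0 0 ^ 2 ≠ 1) : χ g = 0 := by
  have hdet := g.det_coe
  rw [Matrix.det_fin_two, h01, zero_mul, sub_zero] at hdet
  let a : Fˣ := Units.mk0 _ (left_ne_zero_of_mul_eq_one hdet)
  have hg : g = bSL a 0 := by
    apply Subtype.ext
    change (g : Matrix (Fin 2) (Fin 2) F) = (bSL a 0 : Matrix (Fin 2) (Fin 2) F)
    rw [bSL_coe]
    have := eq_inv_of_mul_eq_one_right hdet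
    ext i j
    fin_cases i <;> fin_cases j <;> simp [a, h01, h10, this]
  have hne : a ≠ a⁻¹ := fun e => ha (by
    have e2 : a * a = 1 := by nth_rewrite 2 [e]; exact mul_inv_cancel a
    have := congrArg Units.val e2
    rw [sq]; simpa [a] using this)
  have hcl := IsCharacter.isClassFunction (IsIrrCharacter.isCharacter hχ)
  have h := hc a
  rw [csumSL, Finset.sum_congr rfl (fun c _ => IsClassFunction.eq_of_isConj hcl (isConj_bSL_inv a hne c)),
    Finset.sum_const, Finset.card_univ, nsmul_eq_mul] at h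
  rw [hg, IsClassFunction.eq_of_isConj hcl (isConj_bSL_inv a hne 0)]
  exact (mul_eq_zero.mp h).resolve_left card_F_ne_zero

theorem trace_ne_of_noEigen {g : Matrix.SpecialLinearGroup (Fin 2) F}
    (h : ∀ (c : F) (v : Fin 2 → F), v ≠ 0 → (g : Matrix (Fin 2) (Fin 2) F).mulVec v ≠ c • v) :
    (g : Matrix (Fin 2) (Fin 2) F).trace ≠ 2 ∧ (g : Matrix (Fin 2) (Fin 2) F).trace ≠ -2 := by
  have key : ∀ e : F, e * e = 1 → (g : Matrix (Fin 2) (Fin 2) F).trace ≠ 2 * e := by
    intro e he ht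
    have hd : ((g : Matrix (Fin 2) (Fin 2) F) - e • 1).det = 0 := by
      have hdet := g.det_coe
      rw [Matrix.det_fin_two] at hdet
      rw [Matrix.trace_fin_two] at ht
      rw [Matrix.det_fin_two]
      simp
      linear_combination hdet - e * ht - he
    obtain ⟨v, hv, hv0⟩ := Matrix.exists_mulVec_eq_zero_iff.mpr hd
    rw [Matrix.sub_mulVec, Matrix.smul_mulVec, Matrix.one_mulVec, sub_eq_zero] at hv0
    exact h e v hv hv0
  exact ⟨fun e => key 1 (one_mul 1) (by rw [e, mul_one]), fun e => key (-1) (by ring) (by rw [e]; ring)⟩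

/-- The sum of the two values at transvections determines the kind. -/
theorem half_sum (hodd : Odd (Fintype.card F)) (ν : Fˣ) (hν : ¬ IsSquare (ν : F))
    {χ : Matrix.SpecialLinearGroup (Fin 2) F → ℂ}
    (hχ : IsIrrCharacter (Matrix.SpecialLinearGroup (Fin 2) F) χ) (hc : ¬ CuspSL χ)
    (hd : χ 1 = (((Fintype.card F + 1) / 2 : ℕ) : ℂ)) :
    χ (uni 1) + χ (uni (ν : F)) = 1 ∧
      ∀ g : Matrix.SpecialLinearGroup (Fin 2) F,
        (∀ (c : F) (v : Fin 2 → F), v ≠ 0 → (g : Matrix (Fin 2) (Fin 2) F).mulVec v ≠ c • v) → χ g = 0 := by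
  obtain ⟨η, hη, hη1⟩ := exists_quadratic hodd
  obtain ⟨H, hH, -, hHd, hH1, -, hHs, -⟩ := exists_halves hodd hη hη1 ν hν
  have hcl := IsCharacter.isClassFunction (IsIrrCharacter.isCharacter hH)
  have hσσ : ∀ g, H (sigma ν (sigma ν g)) = H g := fun g =>
    (IsClassFunction.eq_of_isConj hcl (sigma_sq_isConj ν g)).symm
  have hσu : sigma ν (uni (1 : F)) = uni (ν : F) := by rw [sigma_uni, mul_one]
  have hzero : ∀ g : Matrix.SpecialLinearGroup (Fin 2) F,
      (∀ (c : F) (v : Fin 2 → F), v ≠ 0 → (g : Matrix (Fin 2) (Fin 2) F).mulVec v ≠ c • v) →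
      H g = 0 ∧ H (sigma ν g) = 0 := by
    intro g hg
    obtain ⟨t1, t2⟩ := trace_ne_of_noEigen hg
    obtain ⟨h10, -⟩ := qv_ne_zero_of_noEigen hg
    have he := IsClassFunction.eq_of_isConj hcl (isConj_sigma_of_ne ν (fun hs => h10 hs.2.1) t1 t2)
    have hsum := congrFun hHd g
    rw [indSL_noEigen η hg, Pi.add_apply, Function.comp_apply, ← he] at hsum
    have : H g = 0 := by linear_combination -hsum / 2
    exact ⟨this, he ▸ this⟩
  have hmod := Nat.odd_iff.mp hodd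
  have hq := Fintype.one_lt_card (α := F)
  rcases kinds_odd hodd ν hν hη hη1 hH hHd hH1 hχ with ⟨-, ⟨-, e⟩ | ⟨-, e⟩ | ⟨-, e⟩ | ⟨e, -⟩⟩ | ⟨h, -⟩
  · rw [hd, Nat.cast_inj] at e; omega
  · rw [hd, Nat.cast_inj] at e; omega
  · rw [hd, Nat.cast_inj] at e; omega
  · rcases e with rfl | rfl
    · exact ⟨hHs, fun g hg => (hzero g hg).1⟩
    · refine ⟨?_, fun g hg => (hzero g hg).2⟩
      simp only [Function.comp_apply]
      rw [hσu, show H (sigma ν (uni (ν : F))) = H (uni 1) by rw [← hσu, hσσ], ← hHs, add_comm]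
  · exact absurd h hc

/-- The four characters which separate the two classes of transvections. -/
theorem cusp_top_value (hodd : Odd (Fintype.card F)) {χ : Matrix.SpecialLinearGroup (Fin 2) F → ℂ}
    (hχ : IsIrrCharacter (Matrix.SpecialLinearGroup (Fin 2) F) χ) (hc : CuspSL χ)
    (hd : χ 1 = ((Fintype.card F - 1 : ℕ) : ℂ)) : χ (uni 1) = -1 := by
  classical
  haveI : Fintype (IrrCharacter (Matrix.SpecialLinearGroup (Fin 2) F)) := Fintype.ofFinite _
  obtain ⟨ν₀, hν₀⟩ := FiniteField.exists_nonsquare (ringChar_ne_two hodd)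
  let ν : Fˣ := Units.mk0 ν₀ (fun h => hν₀ (h ▸ IsSquare.zero))
  have hν : ¬ IsSquare (ν : F) := hν₀
  have hmod := Nat.odd_iff.mp hodd
  have hq := Fintype.one_lt_card (α := F)
  obtain ⟨-, -, -, c1, -, c2⟩ := counts_odd hodd
  set S := Finset.univ.filter fun ψ : IrrCharacter (Matrix.SpecialLinearGroup (Fin 2) F) =>
    (¬ CuspSL ψ.1 ∧ ψ.1 1 = (((Fintype.card F + 1) / 2 : ℕ) : ℂ)) ∨
      (CuspSL ψ.1 ∧ ψ.1 1 = (((Fintype.card F - 1) / 2 : ℕ) : ℂ)) with hS
  have hcard : S.card = 4 := by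
    rw [Nat.card_eq_fintype_card, Fintype.card_subtype] at c1 c2
    rw [hS, Finset.filter_or, Finset.card_union_of_disjoint, c1, c2]
    rw [Finset.disjoint_filter]
    exact fun ψ _ h1 h2 => h1.1 h2.1
  let D : IrrCharacter (Matrix.SpecialLinearGroup (Fin 2) F) → ℝ :=
    fun ψ => Complex.normSq (ψ.1 (uni 1) - ψ.1 (uni (ν : F)))
  have hnc : ¬ IsConj (uni (1 : F)) (uni (ν : F)) := by
    rw [isConj_uni one_ne_zero ν.ne_zero, one_mul]; exact hν
  have hC : ∀ c : F, c ≠ 0 →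
      Nat.card (Subgroup.centralizer ({uni c} : Set (Matrix.SpecialLinearGroup (Fin 2) F))) = 2 * Fintype.card F := by
    intro c hc
    rw [card_centralizer_trace_two (trace_uni c) (not_isScal_uni hc), card_sqrt_one_odd (two_ne_zero_of_odd hodd)]
  have htot : ((∑ ψ, D ψ : ℝ) : ℂ) = ((4 * Fintype.card F : ℕ) : ℂ) := by
    simp only [D, Complex.ofReal_sum, ← Complex.mul_conj, map_sub, sub_mul, mul_sub, Finset.sum_sub_distrib,
      sum_irr_mul_conj, if_pos (IsConj.refl _), if_neg hnc, if_neg (fun h : IsConj _ _ => hnc h.symm),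
      hC 1 one_ne_zero, hC (ν : F) ν.ne_zero]
    push_cast
    ring
  have hin : ∀ ψ ∈ S, D ψ = (Fintype.card F : ℝ) := by
    intro ψ hψ
    have hε : ∃ ε : ℤ, (ε = 1 ∨ ε = -1) ∧ ψ.1 (uni 1) + ψ.1 (uni (ν : F)) = (ε : ℂ) := by
      rcases (Finset.mem_filter.mp hψ).2 with ⟨h1, h2⟩ | ⟨h1, h2⟩
      · exact ⟨1, Or.inl rfl, by rw [(half_sum hodd ν hν ψ.2 h1 h2).1, Int.cast_one]⟩
      · refine ⟨-1, Or.inr rfl, ?_⟩
        rcases cusp_odd hodd ν hν ψ.2 h1 with ⟨-, h3⟩ | ⟨h3, -⟩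
        · rw [h3]; norm_num
        · rw [h2, Nat.cast_inj] at h3; omega
    obtain ⟨ε, hε1, hε2⟩ := hε
    apply Complex.ofReal_injective
    simp only [D, ← Complex.mul_conj]
    rw [(signed_pair hodd ψ.2 ν hν ε hε1 hε2).2.2, Complex.ofReal_natCast]
  have hout : ∑ ψ ∈ Sᶜ, D ψ = 0 := by
    have h := Finset.sum_add_sum_compl S D
    rw [Finset.sum_congr rfl hin, Finset.sum_const, hcard] at h
    have h4 : (∑ ψ, D ψ) = 4 * (Fintype.card F : ℝ) := by
      apply Complex.ofReal_injective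
      rw [htot]
      push_cast
      ring
    rw [h4, nsmul_eq_mul] at h
    push_cast at h
    linarith
  have hχS : (⟨χ, hχ⟩ : IrrCharacter (Matrix.SpecialLinearGroup (Fin 2) F)) ∈ Sᶜ := by
    rw [Finset.mem_compl, hS, Finset.mem_filter]
    rintro ⟨-, ⟨h, -⟩ | ⟨-, h⟩⟩
    · exact h hc
    · change χ 1 = _ at h
      rw [hd, Nat.cast_inj] at h; omega
  have h0 := (Finset.sum_eq_zero_iff_of_nonneg (fun ψ _ => Complex.normSq_nonneg _)).mp hout _ hχS
  have heq : χ (uni 1) - χ (uni (ν : F)) = 0 := Complex.normSq_eq_zero.mp h0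
  rcases cusp_odd hodd ν hν hχ hc with ⟨h3, -⟩ | ⟨-, h3⟩
  · rw [hd, Nat.cast_inj] at h3; omega
  · linear_combination (heq + h3) / 2

theorem charP_two_of_not_odd (h : ¬ Odd (Fintype.card F)) : CharP F 2 := by
  have h2 : ringChar F = 2 := FiniteField.even_card_iff_char_two.mpr (by rw [Nat.odd_iff] at h; omega)
  exact h2 ▸ ringChar.charP F

theorem kinds_two [CharP F 2] {χ : Matrix.SpecialLinearGroup (Fin 2) F → ℂ}
    (hχ : IsIrrCharacter (Matrix.SpecialLinearGroup (Fin 2) F) χ) :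
    (¬ CuspSL χ ∧ ((χ = trivSL F ∧ χ 1 = ((1 : ℕ) : ℂ)) ∨ (χ = steinSL F ∧ χ 1 = (Fintype.card F : ℂ)) ∨
      (χ ∈ principalSL F ∧ χ 1 = ((Fintype.card F + 1 : ℕ) : ℂ)))) ∨
    (CuspSL χ ∧ χ 1 = ((Fintype.card F - 1 : ℕ) : ℂ)) := by
  classical
  by_cases hc : CuspSL χ
  · exact Or.inr ⟨hc, (cusp_two hχ hc).1⟩
  refine Or.inl ⟨hc, ?_⟩
  rcases classification_SL2 hχ with h | h | h | ⟨α, hα, h⟩ | ⟨η, hη, hη1, -⟩
  · exact absurd h hc
  · exact Or.inl ⟨h, by rw [h, trivSL_one, Nat.cast_one]⟩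
  · exact Or.inr (Or.inl ⟨h, by rw [h, steinSL_one]⟩)
  · exact Or.inr (Or.inr ⟨mem_principalSL.mpr ⟨α, hα, h⟩, by rw [h, indSL_one]; push_cast; rfl⟩)
  · exact absurd (eq_one_of_sq_eq_one_two hη) hη1

/-- All kinds at once. -/
theorem kinds_all {χ : Matrix.SpecialLinearGroup (Fin 2) F → ℂ}
    (hχ : IsIrrCharacter (Matrix.SpecialLinearGroup (Fin 2) F) χ) :
    (¬ CuspSL χ ∧ ((χ = trivSL F ∧ χ 1 = ((1 : ℕ) : ℂ)) ∨ (χ = steinSL F ∧ χ 1 = (Fintype.card F : ℂ)) ∨
      (χ ∈ principalSL F ∧ χ 1 = ((Fintype.card F + 1 : ℕ) : ℂ)) ∨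
      (Odd (Fintype.card F) ∧ χ 1 = (((Fintype.card F + 1) / 2 : ℕ) : ℂ)))) ∨
    (CuspSL χ ∧ ((Odd (Fintype.card F) ∧ χ 1 = (((Fintype.card F - 1) / 2 : ℕ) : ℂ)) ∨
      χ 1 = ((Fintype.card F - 1 : ℕ) : ℂ))) := by
  by_cases hodd : Odd (Fintype.card F)
  · obtain ⟨ν₀, hν₀⟩ := FiniteField.exists_nonsquare (ringChar_ne_two hodd)
    let ν : Fˣ := Units.mk0 ν₀ (fun h => hν₀ (h ▸ IsSquare.zero))
    have hν : ¬ IsSquare (ν : F) := hν₀
    obtain ⟨η, hη, hη1⟩ := exists_quadratic hodd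
    obtain ⟨H, hH, -, hHd, hH1, -, -, -⟩ := exists_halves hodd hη hη1 ν hν
    rcases kinds_odd hodd ν hν hη hη1 hH hHd hH1 hχ with ⟨hc, h | h | h | ⟨-, h⟩⟩ | ⟨hc, h⟩
    · exact Or.inl ⟨hc, Or.inl h⟩
    · exact Or.inl ⟨hc, Or.inr (Or.inl h)⟩
    · exact Or.inl ⟨hc, Or.inr (Or.inr (Or.inl h))⟩
    · exact Or.inl ⟨hc, Or.inr (Or.inr (Or.inr ⟨hodd, h⟩))⟩
    · exact Or.inr ⟨hc, h.imp (fun e => ⟨hodd, e⟩) id⟩
  · haveI := charP_two_of_not_odd hodd
    rcases kinds_two hχ with ⟨hc, h | h | h⟩ | ⟨hc, h⟩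
    · exact Or.inl ⟨hc, Or.inl h⟩
    · exact Or.inl ⟨hc, Or.inr (Or.inl h)⟩
    · exact Or.inl ⟨hc, Or.inr (Or.inr (Or.inl h))⟩
    · exact Or.inr ⟨hc, Or.inr h⟩

theorem counts_two [CharP F 2] (h4 : 4 ≤ Fintype.card F) :
    let I := IrrCharacter (Matrix.SpecialLinearGroup (Fin 2) F)
    Nat.card {χ : I // χ.1 1 = 1} = 1 ∧
    Nat.card {χ : I // χ.1 1 = (Fintype.card F : ℂ)} = 1 ∧
    Nat.card {χ : I // χ.1 1 = (Fintype.card F : ℂ) + 1} = (Fintype.card F - 2) / 2 ∧
    Nat.card {χ : I // χ.1 1 = (Fintype.card F : ℂ) - 1} = Fintype.card F / 2 := by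
  classical
  intro I
  haveI : Fintype I := Fintype.ofFinite _
  choose deg hdeg0 hdeg using fun χ : I => IsIrrCharacter.exists_apply_one χ.2
  have cast_eq : ∀ (χ : I) (n : ℕ), χ.1 1 = (n : ℂ) ↔ deg χ = n := fun χ n => by
    rw [hdeg χ, Nat.cast_inj]
  obtain ⟨q, hq⟩ : ∃ q, Fintype.card F = q := ⟨_, rfl⟩
  have conv : ∀ (n : ℕ) (c : ℂ), c = (n : ℂ) →
      Nat.card {χ : I // χ.1 1 = c} = (Finset.univ.filter fun χ : I => deg χ = n).card := by
    intro n c hc
    rw [Nat.card_eq_fintype_card, Fintype.card_subtype]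
    simp only [hc, cast_eq]
  have hkind := fun χ : I => kinds_two χ.2
  set N : ℕ → Finset I := fun d => Finset.univ.filter fun χ : I => deg χ = d with hN
  have n1 : (N 1).card = 1 := by
    rw [show N 1 = {⟨trivSL F, isIrr_trivSL⟩} from ?_, Finset.card_singleton]
    ext χ
    simp only [hN, Finset.mem_filter, Finset.mem_univ, true_and, Finset.mem_singleton]
    constructor
    · intro hd
      rcases hkind χ with ⟨-, ⟨e, -⟩ | ⟨-, e⟩ | ⟨-, e⟩⟩ | ⟨-, e⟩
      · exact Subtype.ext e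
      all_goals rw [cast_eq] at e; omega
    · rintro rfl
      exact (cast_eq _ _).mp (by rw [Nat.cast_one]; rfl)
  have nq : (N q).card = 1 := by
    rw [show N q = {⟨steinSL F, isIrr_steinSL⟩} from ?_, Finset.card_singleton]
    ext χ
    simp only [hN, Finset.mem_filter, Finset.mem_univ, true_and, Finset.mem_singleton]
    constructor
    · intro hd
      rcases hkind χ with ⟨-, ⟨-, e⟩ | ⟨e, -⟩ | ⟨-, e⟩⟩ | ⟨-, e⟩
      · rw [cast_eq] at e; omega
      · exact Subtype.ext e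
      all_goals rw [cast_eq] at e; omega
    · rintro rfl
      exact (cast_eq _ _).mp (by rw [← hq]; exact steinSL_one)
  have np : (N (q + 1)).card = (principalSL F).card := by
    rw [← Finset.card_image_of_injective (N (q + 1)) Subtype.val_injective]
    congr 1
    ext f
    simp only [Finset.mem_image, hN, Finset.mem_filter, Finset.mem_univ, true_and]
    constructor
    · rintro ⟨χ, hd, rfl⟩
      rcases hkind χ with ⟨-, ⟨-, e⟩ | ⟨-, e⟩ | ⟨e, -⟩⟩ | ⟨-, e⟩
      · rw [cast_eq] at e; omega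
      · rw [cast_eq] at e; omega
      · exact e
      · rw [cast_eq] at e; omega
    · intro hf
      obtain ⟨α, hα, rfl⟩ := mem_principalSL.mp hf
      refine ⟨⟨indSL α, (isIrr_indSL_iff α).mpr hα⟩, (cast_eq _ _).mp ?_, rfl⟩
      rw [← hq]
      push_cast
      exact indSL_one α
  have hP : 2 * (principalSL F).card = q - 2 := by rw [card_principalSL, card_sq_ne_one_two, hq]
  have htot : Fintype.card I = (N 1).card + (N q).card + (N (q + 1)).card + (N (q - 1)).card := by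
    rw [← Finset.card_univ, Finset.card_eq_sum_ones]
    simp only [hN, ← card_filter_eq_sum_indicator, ← Finset.sum_add_distrib]
    refine Finset.sum_congr rfl fun χ _ => ?_
    rcases hkind χ with ⟨-, ⟨-, e⟩ | ⟨-, e⟩ | ⟨-, e⟩⟩ | ⟨-, e⟩ <;> rw [cast_eq] at e <;> rw [e] <;> try rw [hq]
    · rw [if_pos rfl, if_neg (by omega), if_neg (by omega), if_neg (by omega)]
    · rw [if_neg (by omega), if_pos rfl, if_neg (by omega), if_neg (by omega)]
    · rw [if_neg (by omega), if_neg (by omega), if_pos rfl, if_neg (by omega)]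
    · rw [if_neg (by omega), if_neg (by omega), if_neg (by omega), if_pos rfl]
  rw [← Nat.card_eq_fintype_card (α := I), card_irrCharacter, card_conjClasses_SL2_two, hq, n1, nq, np] at htot
  obtain ⟨p, hp⟩ : ∃ p, (principalSL F).card = p := ⟨_, rfl⟩
  rw [hp] at hP np htot
  have nm : (N (q - 1)).card = q / 2 := by
    have hev : q % 2 = 0 := by
      rw [← hq]; exact FiniteField.even_card_iff_char_two.mp (ringChar.eq F 2)
    omega
  have np' : (N (q + 1)).card = (q - 2) / 2 := np.trans (by omega)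
  simp only [hN] at n1 nq np' nm
  rw [hq]
  refine ⟨?_, ?_, ?_, ?_⟩
  · rw [conv 1 1 Nat.cast_one.symm]; convert n1
  · rw [conv q _ rfl]; convert nq
  · rw [conv (q + 1) _ (by push_cast; rfl)]; convert np'
  · rw [conv (q - 1) _ (by rw [Nat.cast_sub (by omega), Nat.cast_one])]; convert nm

theorem card_centralizer_noEigen_three (h3 : Fintype.card F = 3)
    {g : Matrix.SpecialLinearGroup (Fin 2) F}
    (hg : ∀ (c : F) (v : Fin 2 → F), v ≠ 0 → (g : Matrix (Fin 2) (Fin 2) F).mulVec v ≠ c • v) :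
    Nat.card (Subgroup.centralizer ({g} : Set (Matrix.SpecialLinearGroup (Fin 2) F))) = 4 := by
  classical
  obtain ⟨h10, -⟩ := qv_ne_zero_of_noEigen hg
  have hodd : Odd (Fintype.card F) := by rw [h3]; decide
  have h2 := two_ne_zero_of_odd hodd
  have hsq : ∀ a : F, a ≠ 0 → a * a = 1 := fun a ha => by
    have := FiniteField.pow_card_sub_one_eq_one a ha
    rw [h3] at this
    rw [← sq]; exact this
  have ht : (g : Matrix (Fin 2) (Fin 2) F).trace = 0 := by
    by_contra h0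
    obtain ⟨t1, t2⟩ := trace_ne_of_noEigen hg
    have hm : (g : Matrix (Fin 2) (Fin 2) F).trace * (g : Matrix (Fin 2) (Fin 2) F).trace = (-1) * (-1) := by
      rw [hsq _ h0]; ring
    have h21 : (2 : F) = -1 := by
      have := hsq 2 h2
      have h3' : (2 : F) * 2 - 1 = 0 := by rw [this, sub_self]
      linear_combination h3'
    rcases mul_self_eq_mul_self_iff.mp (hm.trans rfl) with e | e
    · exact t1 (by rw [e, h21])
    · exact t2 (by rw [e, h21])
  rw [card_centralizer_SL2 (fun hs => h10 hs.2.1), ht, Nat.card_eq_fintype_card, Fintype.card_subtype]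
  have : (Finset.univ.filter fun v : F × F => v.1 * v.1 + v.1 * v.2 * 0 + v.2 * v.2 = 1) =
      ({0} : Finset F) ×ˢ ({1, -1} : Finset F) ∪ ({1, -1} : Finset F) ×ˢ ({0} : Finset F) := by
    ext ⟨a, b⟩
    simp only [Finset.mem_filter, Finset.mem_univ, true_and, Finset.mem_union, Finset.mem_product,
      Finset.mem_singleton, Finset.mem_insert, ← mul_self_eq_one_iff, mul_zero, add_zero]
    by_cases ha : a = 0 <;> by_cases hb : b = 0
    · simp [ha, hb]
    · simp [ha, hb, hsq b hb]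
    · simp [ha, hb, hsq a ha]
    · simp [ha, hb, hsq a ha, hsq b hb]
  have hpm : (1 : F) ≠ -1 := fun e => h2 (by linear_combination e)
  rw [this, Finset.card_union_of_disjoint, Finset.card_product, Finset.card_product, Finset.card_pair hpm,
    Finset.card_singleton]
  rw [Finset.disjoint_left]
  simp

theorem cusp_noEigen_three (hodd : Odd (Fintype.card F)) (h3 : Fintype.card F = 3)
    {χ : Matrix.SpecialLinearGroup (Fin 2) F → ℂ}
    (hχ : IsIrrCharacter (Matrix.SpecialLinearGroup (Fin 2) F) χ) (hc : CuspSL χ) (hd : χ 1 = ((2 : ℕ) : ℂ))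
    {g : Matrix.SpecialLinearGroup (Fin 2) F}
    (hg : ∀ (c : F) (v : Fin 2 → F), v ≠ 0 → (g : Matrix (Fin 2) (Fin 2) F).mulVec v ≠ c • v) :
    χ g = 0 := by
  classical
  haveI : Fintype (IrrCharacter (Matrix.SpecialLinearGroup (Fin 2) F)) := Fintype.ofFinite _
  obtain ⟨-, -, -, -, -, c2⟩ := counts_odd hodd
  let D : IrrCharacter (Matrix.SpecialLinearGroup (Fin 2) F) → ℝ := fun ψ => Complex.normSq (ψ.1 g)
  set S := Finset.univ.filter fun ψ : IrrCharacter (Matrix.SpecialLinearGroup (Fin 2) F) =>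
    ψ.1 1 = 1 ∨ ψ = ⟨steinSL F, isIrr_steinSL⟩ with hS
  have hin : ∀ ψ ∈ S, D ψ = 1 := by
    intro ψ hψ
    rcases (Finset.mem_filter.mp hψ).2 with h | rfl
    · obtain ⟨lam, hlam⟩ := IsCharacter.exists_hom_of_apply_one (irr_isCharacter ψ) h
      apply Complex.ofReal_injective
      simp only [D, ← Complex.mul_conj, Complex.ofReal_one]
      rw [← IsCharacter.apply_inv (irr_isCharacter ψ), hlam]
      simp
    · simp [D, steinSL_noEigen hg]
  have hcard : 4 ≤ S.card := by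
    have hsub : ({⟨trivSL F, isIrr_trivSL⟩, ⟨steinSL F, isIrr_steinSL⟩} : Finset (IrrCharacter _)) ∪
        (Finset.univ.filter fun ψ : IrrCharacter (Matrix.SpecialLinearGroup (Fin 2) F) =>
          CuspSL ψ.1 ∧ ψ.1 1 = (((Fintype.card F - 1) / 2 : ℕ) : ℂ)) ⊆ S := by
      intro ψ hψ
      simp only [Finset.mem_union, Finset.mem_insert, Finset.mem_singleton, Finset.mem_filter,
        Finset.mem_univ, true_and] at hψ
      rw [hS, Finset.mem_filter]
      rcases hψ with (rfl | rfl) | ⟨-, h⟩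
      · exact ⟨Finset.mem_univ _, Or.inl rfl⟩
      · exact ⟨Finset.mem_univ _, Or.inr rfl⟩
      · exact ⟨Finset.mem_univ _, Or.inl (by rw [h, h3]; norm_num)⟩
    refine le_trans (le_of_eq ?_) (Finset.card_le_card hsub)
    rw [Nat.card_eq_fintype_card, Fintype.card_subtype] at c2
    rw [Finset.card_union_of_disjoint, Finset.card_pair, c2]
    · intro e
      have e2 : trivSL F = steinSL F := congrArg Subtype.val e
      have e3 := congrFun e2 1
      rw [trivSL_one, steinSL_one, h3] at e3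
      norm_num at e3
    · rw [Finset.disjoint_left]
      simp only [Finset.mem_insert, Finset.mem_singleton, Finset.mem_filter, Finset.mem_univ, true_and]
      rintro ψ (rfl | rfl) ⟨h, -⟩
      · exact triv_not_cusp h
      · exact stein_not_cusp h
  have htot : ∑ ψ, D ψ = 4 := by
    apply Complex.ofReal_injective
    simp only [D, Complex.ofReal_sum, ← Complex.mul_conj, sum_irr_mul_conj, if_pos (IsConj.refl g),
      card_centralizer_noEigen_three h3 hg]
    norm_num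
  have hout : ∑ ψ ∈ Sᶜ, D ψ = 0 := by
    have h := Finset.sum_add_sum_compl S D
    rw [Finset.sum_congr rfl hin, Finset.sum_const, htot, nsmul_one] at h
    have h4 : (4 : ℝ) ≤ (S.card : ℝ) := by exact_mod_cast hcard
    have h0 : 0 ≤ ∑ ψ ∈ Sᶜ, D ψ := Finset.sum_nonneg fun ψ _ => Complex.normSq_nonneg _
    linarith
  have hmem : (⟨χ, hχ⟩ : IrrCharacter (Matrix.SpecialLinearGroup (Fin 2) F)) ∈ Sᶜ := by
    rw [Finset.mem_compl, hS, Finset.mem_filter]
    rintro ⟨-, h | h⟩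
    · change χ 1 = 1 at h
      rw [hd] at h
      norm_num at h
    · have e : χ = steinSL F := congrArg Subtype.val h
      exact stein_not_cusp (e ▸ hc)
  exact Complex.normSq_eq_zero.mp
    ((Finset.sum_eq_zero_iff_of_nonneg fun ψ _ => Complex.normSq_nonneg _).mp hout _ hmem)

end

end Cfsg.Agent.Lib.KnownA
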