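import Mathlib
import Cfsg.Agent.Lib.KnownA.JordanPlane
import Cfsg.Agent.Lib.KnownA.FieldGen

/-! `SL_n`, `n ≥ 4`, of a finite field is generated by three conjugate regular unipotent elements. -/

set_option autoImplicit false

namespace Cfsg.Agent.Lib.KnownA

open Matrix

variable {F : Type*} [Field F]

theorem jordan_det (n : ℕ) : (jordan F n).det = 1 := by
  rw [Matrix.det_of_isUpperTriangular]
  · simp [jordan_apply]
  · intro i j h
    rw [jordan_apply, if_neg]
    simp at h ⊢
    omega

/-- The Jordan block as an element of `SL_n`. -/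
def jordanSL (F : Type*) [Field F] (n : ℕ) : SpecialLinearGroup (Fin n) F := ⟨jordan F n, jordan_det n⟩

theorem jordanSL_coe (n : ℕ) : (jordanSL F n : Matrix (Fin n) (Fin n) F) = jordan F n := rfl

theorem jordan_sub_one_pow (n k : ℕ) (i j : Fin n) :
    ((jordan F n - 1) ^ k) i j = if (j : ℕ) = i + k then 1 else 0 := by
  induction k generalizing j with
  | zero => simp [Matrix.one_apply, Fin.ext_iff, eq_comm]
  | succ k ih =>
    rw [pow_succ, Matrix.mul_apply]
    simp only [ih, ite_mul, one_mul, zero_mul]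
    by_cases h : (i : ℕ) + k < n
    · rw [Finset.sum_eq_single ⟨(i : ℕ) + k, h⟩]
      · simp only [if_pos, Matrix.sub_apply, jordan_apply, Matrix.one_apply, Fin.ext_iff]
        split_ifs <;> first | (exfalso; omega) | simp
      · intro b _ hb
        rw [if_neg]
        exact fun e => hb (Fin.ext e)
      · simp
    · rw [Finset.sum_eq_zero, if_neg]
      · omega
      · intro b _
        rw [if_neg]
        omega

theorem isNilpotent_jordan (n : ℕ) : IsNilpotent (jordan F n - 1) :=
  ⟨n, by ext i j; rw [jordan_sub_one_pow, if_neg (by omega)]; rfl⟩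

theorem jordan_pow_ne_zero {n : ℕ} (hn : 1 ≤ n) : (jordan F n - 1) ^ (n - 1) ≠ 0 := by
  intro h
  have e := jordan_sub_one_pow (F := F) n (n - 1) ⟨0, by omega⟩ ⟨n - 1, by omega⟩
  rw [h, if_pos (by simp)] at e
  exact zero_ne_one e

/-- The matrix sending `e_j` to `a_j e_{σ j}`. -/
def monoMat {n : ℕ} (σ : Equiv.Perm (Fin n)) (a : Fin n → F) : Matrix (Fin n) (Fin n) F :=
  (σ⁻¹).permMatrix F * Matrix.diagonal a

theorem monoMat_apply {n : ℕ} (σ : Equiv.Perm (Fin n)) (a : Fin n → F) (i j : Fin n) :
    monoMat σ a i j = if i = σ j then a j else 0 := by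
  rw [monoMat, Matrix.mul_diagonal, Equiv.Perm.permMatrix, PEquiv.toMatrix_apply]
  by_cases h : i = σ j
  · subst h; simp
  · rw [if_neg h, if_neg, zero_mul]
    simp only [Equiv.toPEquiv_apply, Option.mem_def, Option.some.injEq]
    exact fun e => h (by rw [← e, ← Equiv.Perm.mul_apply, mul_inv_cancel, Equiv.Perm.one_apply])

theorem monoMat_det {n : ℕ} (σ : Equiv.Perm (Fin n)) (a : Fin n → F) :
    (monoMat σ a).det = ((Equiv.Perm.sign σ : ℤ) : F) * ∏ i, a i := by
  rw [monoMat, Matrix.det_mul, Matrix.det_permutation, Matrix.det_diagonal, Equiv.Perm.sign_inv]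

theorem sl_three_gen_large [Fintype F] (m : ℕ) :
    ∃ u g h : SpecialLinearGroup (Fin (m + 4)) F,
      (IsNilpotent ((u : Matrix (Fin (m + 4)) (Fin (m + 4)) F) - 1) ∧
        ((u : Matrix (Fin (m + 4)) (Fin (m + 4)) F) - 1) ^ (m + 4 - 1) ≠ 0) ∧
      Subgroup.closure ({u, g * u * g⁻¹, h * u * h⁻¹} : Set (SpecialLinearGroup (Fin (m + 4)) F)) = ⊤ := by
  obtain ⟨ζ, hζ, hgen, -⟩ := exists_field_generator (F := F)
  let σ : Equiv.Perm (Fin (m + 4)) := finRotate (m + 4)
  let s : F := ((Equiv.Perm.sign σ : ℤ) : F)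
  have hs : s = 1 ∨ s = -1 := by
    simp only [s]
    rcases Int.units_eq_one_or (Equiv.Perm.sign σ) with e | e <;> rw [e] <;> simp
  have hs2 : s * s = 1 := by rcases hs with e | e <;> rw [e] <;> ring
  have hσ : ∀ i j : Fin (m + 4), (j : ℕ) = i + 1 → σ i = j := by
    intro i j h
    apply Fin.ext
    simp only [σ]
    rw [coe_finRotate_of_ne_last (by intro e; rw [e] at h; simp at h; omega)]
    omega
  have hσl : σ ⟨m + 3, by omega⟩ = ⟨0, by omega⟩ := by
    simp only [σ]
    exact finRotate_last
  obtain ⟨f, hfv⟩ : ∃ i : Fin (m + 4), (i : ℕ) = 0 := ⟨⟨0, by omega⟩, rfl⟩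
  obtain ⟨l, hlv⟩ : ∃ i : Fin (m + 4), (i : ℕ) = m + 3 := ⟨⟨m + 3, by omega⟩, rfl⟩
  obtain ⟨p, hpv⟩ : ∃ i : Fin (m + 4), (i : ℕ) = m + 2 := ⟨⟨m + 2, by omega⟩, rfl⟩
  obtain ⟨o, hov⟩ : ∃ i : Fin (m + 4), (i : ℕ) = 1 := ⟨⟨1, by omega⟩, rfl⟩
  obtain ⟨two, htv⟩ : ∃ i : Fin (m + 4), (i : ℕ) = 2 := ⟨⟨2, by omega⟩, rfl⟩
  have hσlf : σ l = f := by
    rw [show l = ⟨m + 3, by omega⟩ from Fin.ext hlv, hσl]
    exact Fin.ext hfv.symm
  let a : Fin (m + 4) → F := fun i => if (i : ℕ) = 0 then ζ else if (i : ℕ) = 1 then s / ζ else 1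
  have hfo : f ≠ o := by simp [hfv, hov, Fin.ext_iff]
  have haf : a f = ζ := if_pos hfv
  have hao : a o = s / ζ := by simp only [a]; rw [if_neg (by omega), if_pos hov]
  have hae : ∀ i : Fin (m + 4), 2 ≤ (i : ℕ) → a i = 1 := fun i hi => by
    simp only [a]; rw [if_neg (by omega), if_neg (by omega)]
  have ha : ∏ i, a i = s := by
    rw [Finset.prod_eq_mul f o hfo]
    · rw [haf, hao]; field_simp
    · intro c _ hc
      refine hae c ?_
      have h1 : (c : ℕ) ≠ 0 := fun e => hc.1 (Fin.ext (e.trans hfv.symm))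
      have h2 : (c : ℕ) ≠ 1 := fun e => hc.2 (Fin.ext (e.trans hov.symm))
      omega
    all_goals simp
  have ha0 : ∀ i, a i ≠ 0 := by
    intro i
    simp only [a]
    split_ifs
    · exact hζ
    · refine div_ne_zero ?_ hζ
      rcases hs with e | e <;> rw [e] <;> simp
    · exact one_ne_zero
  have hfl : f ≠ l := by simp [hfv, hlv, Fin.ext_iff]
  have hol : o ≠ l := by simp [hov, hlv, Fin.ext_iff]
  let u := jordanSL F (m + 4)
  let g : SpecialLinearGroup (Fin (m + 4)) F := SpecialLinearGroup.transvection hol (-1 : F)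
  let h : SpecialLinearGroup (Fin (m + 4)) F := ⟨monoMat σ a, by rw [monoMat_det, ha]; exact hs2⟩
  refine ⟨u, g, h, ⟨isNilpotent_jordan _, jordan_pow_ne_zero (by omega)⟩, ?_⟩
  set H := Subgroup.closure ({u, g * u * g⁻¹, h * u * h⁻¹} : Set (SpecialLinearGroup (Fin (m + 4)) F))
  have hu : u ∈ H := Subgroup.subset_closure (by simp)
  have hgu : g * u * g⁻¹ = u * SpecialLinearGroup.transvection hfl (1 : F) := by
    rw [mul_inv_eq_iff_eq_mul]
    apply Subtype.ext
    refine (slmul _ _).trans (Eq.trans ?_ (slmul _ _).symm)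
    rw [slmul]
    simp only [g, u, jordanSL_coe, SpecialLinearGroup.transvection_coe]
    have f1 : ∀ c : F, Matrix.single o l c * jordan F (m + 4) = Matrix.single o l c := by
      intro c
      ext i j
      by_cases hi : i = o
      · subst hi
        rw [Matrix.single_mul_apply_same, jordan_apply]
        by_cases hj : j = l
        · subst hj; simp
        · have : ¬ ((j : ℕ) = l ∨ (j : ℕ) = l + 1) := by
            rintro (e | e)
            · exact hj (Fin.ext e)
            · omega
          rw [if_neg this, mul_zero]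
          simp [Ne.symm hj]
      · rw [Matrix.single_mul_apply_of_ne _ _ _ _ _ hi]
        simp [Ne.symm hi]
    have f2 : jordan F (m + 4) * Matrix.single f l 1 = Matrix.single f l (1 : F) := by
      ext i j
      by_cases hj : j = l
      · subst hj
        rw [Matrix.mul_single_apply_same, jordan_apply, mul_one]
        by_cases hi : i = f
        · subst hi; simp
        · have : ¬ ((f : ℕ) = i ∨ (f : ℕ) = i + 1) := by
            rintro (e | e)
            · exact hi (Fin.ext e.symm)
            · omega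
          rw [if_neg this]
          simp [Ne.symm hi]
      · rw [Matrix.mul_single_apply_of_ne _ _ _ _ _ hj]
        simp [Ne.symm hj]
    have f3 : ∀ c : F, jordan F (m + 4) * Matrix.single o l c = Matrix.single f l c + Matrix.single o l c := by
      intro c
      ext i j
      by_cases hj : j = l
      · subst hj
        rw [Matrix.mul_single_apply_same, jordan_apply, Matrix.add_apply]
        rcases eq_or_ne i f with rfl | hi
        · rw [if_pos (by omega), one_mul]; simp [hfo.symm]
        rcases eq_or_ne i o with rfl | hi'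
        · rw [if_pos (by omega), one_mul]; simp [hfo]
        · have : ¬ ((o : ℕ) = i ∨ (o : ℕ) = i + 1) := by
            rintro (e | e)
            · exact hi' (Fin.ext e.symm)
            · exact hi (Fin.ext (by omega))
          rw [if_neg this, zero_mul]
          simp [hi.symm, hi'.symm]
      · rw [Matrix.mul_single_apply_of_ne _ _ _ _ _ hj, Matrix.add_apply]
        simp [Ne.symm hj]
    have f4 : Matrix.single f l (1 : F) * Matrix.single o l (-1 : F) = 0 :=
      Matrix.single_mul_single_of_ne _ _ _ _ hol.symm _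
    simp only [add_mul, mul_add, one_mul, mul_one, f1, f2, f3, f4]
    rw [show Matrix.single f l (-1 : F) = -Matrix.single f l (1 : F) by rw [← Matrix.single_neg]]
    abel
  have ht : InR H f l 1 := fun _ => by
    have : SpecialLinearGroup.transvection hfl (1 : F) = u⁻¹ * (g * u * g⁻¹) := by
      rw [hgu, inv_mul_cancel_left]
    rw [this]
    exact H.mul_mem (H.inv_mem hu) (Subgroup.subset_closure (by simp))
  set v := h * u * h⁻¹ with hv
  have hvH : v ∈ H := Subgroup.subset_closure (Set.mem_insert_of_mem _ (Set.mem_insert_of_mem _ rfl))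
  have ve : ∀ k j : Fin (m + 4), (v : Matrix _ _ F) (σ k) (σ j) * a j = a k * jordan F (m + 4) k j := by
    intro k j
    have e : v * h = h * u := by rw [hv, inv_mul_cancel_right]
    have e2 := congrArg (fun x : SpecialLinearGroup (Fin (m + 4)) F => (x : Matrix _ _ F) (σ k) j) e
    simp only [slmul, Matrix.mul_apply] at e2
    rw [Finset.sum_eq_single (σ j), Finset.sum_eq_single k] at e2
    · simpa [h, u, monoMat_apply, jordanSL_coe] using e2
    all_goals first
      | (intro b _ hb; simp [h, monoMat_apply, hb, Ne.symm hb, σ.injective.eq_iff])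
      | simp
  have hval : ∀ k j : Fin (m + 4), (v : Matrix _ _ F) (σ k) (σ j) = a k * jordan F (m + 4) k j / a j :=
    fun k j => by rw [eq_div_iff (ha0 j), ve]
  have hal : a l = 1 := hae l (by omega)
  have hap : a p = 1 := hae p (by omega)
  -- column `f`
  have hpl : σ p = l := hσ _ _ (by omega)
  have hcol : (v : Matrix _ _ F) *ᵥ Pi.single f 1 = Pi.single f 1 + Pi.single l 1 := by
    ext i
    obtain ⟨k, rfl⟩ := σ.surjective i
    rw [Matrix.mulVec_single_one, Matrix.col_apply]
    conv_lhs => rw [← hσlf, hval, hal, div_one]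
    have e1 : σ k = f ↔ k = l := by rw [← hσlf, σ.injective.eq_iff]
    have e2 : σ k = l ↔ k = p := by rw [← hpl, σ.injective.eq_iff]
    simp only [Pi.add_apply, Pi.single_apply, e1, e2, jordan_apply]
    rcases eq_or_ne k l with rfl | h1
    · rw [if_pos (Or.inl rfl), if_pos rfl, if_neg (fun e => by rw [Fin.ext_iff] at e; omega), hal]; ring
    rcases eq_or_ne k p with rfl | h2
    · rw [if_pos (by omega), if_neg h1, if_pos rfl, hap]; ring
    · rw [if_neg h1, if_neg h2, if_neg]
      · ring
      · rw [Ne, Fin.ext_iff] at h1 h2; omega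
  -- the rows `f` and `l`
  have hrowf : (Pi.single f (1 : F)) ᵥ* (v : Matrix _ _ F) = Pi.single f 1 := by
    ext i
    obtain ⟨j, rfl⟩ := σ.surjective i
    rw [Matrix.single_one_vecMul, Matrix.row_apply]
    conv_lhs => rw [← hσlf, hval, hal, one_mul]
    have e1 : σ j = f ↔ j = l := by rw [← hσlf, σ.injective.eq_iff]
    simp only [Pi.single_apply, e1, jordan_apply]
    rcases eq_or_ne j l with rfl | h1
    · rw [if_pos (Or.inl rfl), if_pos rfl, hal, div_one]
    · rw [if_neg h1, if_neg, zero_div]
      rw [Ne, Fin.ext_iff] at h1; omega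
  have hrowl : (Pi.single l (1 : F)) ᵥ* (v : Matrix _ _ F) = Pi.single f 1 + Pi.single l 1 := by
    ext i
    obtain ⟨j, rfl⟩ := σ.surjective i
    rw [Matrix.single_one_vecMul, Matrix.row_apply]
    conv_lhs => rw [← hpl, hval, hap, one_mul]
    have e1 : σ j = f ↔ j = l := by rw [← hσlf, σ.injective.eq_iff]
    have e2 : σ j = l ↔ j = p := by rw [← hpl, σ.injective.eq_iff]
    simp only [Pi.add_apply, Pi.single_apply, e1, e2, jordan_apply]
    rcases eq_or_ne j l with rfl | h1
    · rw [if_pos (by omega), if_pos rfl, if_neg (fun e => by rw [Fin.ext_iff] at e; omega), hal]; ring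
    rcases eq_or_ne j p with rfl | h2
    · rw [if_pos (Or.inl rfl), if_neg h1, if_pos rfl, hap]; ring
    · rw [if_neg h1, if_neg h2, if_neg]
      · ring
      · rw [Ne, Fin.ext_iff] at h1 h2; omega
  have hs1 : InR H l f 1 := by
    have T : InT H (Pi.single f 1 + Pi.single l 1) (Pi.single l 1 - Pi.single f 1) :=
      InT.conj hvH ((inR_iff hfl).mp ht) hcol (by rw [sub_vecMul, hrowl, hrowf, add_sub_cancel_left])
    have T' : InT H (Pi.single l 1) (Pi.single f (-1)) := by
      refine InT.conj ((InR.neg ht) hfl) T ?_ ?_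
      · rw [transvection_mulVec']
        ext i
        simp [Pi.single_apply, hfl.symm]
        split_ifs <;> ring
      · rw [transvection_vecMul']
        ext i
        simp [Pi.single_apply, hfl]
        split_ifs <;> ring
    have := InR.neg (inR_mk T')
    rwa [neg_neg] at this
  have h1 := ones_of_plane_aux (show 3 ≤ m + 4 by omega) hu (jordanSL_coe _) f l p o hfv (by omega) (by omega) hov ht hs1
  -- a new coefficient
  have htf : two ≠ f := by simp [htv, hfv, Fin.ext_iff]
  have hto : two ≠ o := by simp [htv, hov, Fin.ext_iff]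
  have hσo : σ o = two := hσ _ _ (by omega)
  have hσf : σ f = o := hσ _ _ (by omega)
  have hcol2 : (v : Matrix _ _ F) *ᵥ Pi.single two 1 = Pi.single two 1 + Pi.single o (s * (ζ * ζ)) := by
    ext i
    obtain ⟨k, rfl⟩ := σ.surjective i
    rw [Matrix.mulVec_single_one, Matrix.col_apply]
    conv_lhs => rw [← hσo, hval]
    have e1 : σ k = two ↔ k = o := by rw [← hσo, σ.injective.eq_iff]
    have e2 : σ k = o ↔ k = f := by rw [← hσf, σ.injective.eq_iff]
    simp only [Pi.add_apply, Pi.single_apply, e1, e2, jordan_apply]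
    rcases eq_or_ne k f with rfl | hkf
    · rw [if_pos (by omega), if_neg hfo, if_pos rfl, haf, hao]
      rcases hs with e | e <;> rw [e] <;> field_simp <;> ring
    rcases eq_or_ne k o with rfl | hko
    · rw [if_pos (Or.inl rfl), if_pos rfl, if_neg hkf, mul_one, div_self (ha0 _), add_zero]
    · rw [if_neg hkf, if_neg hko, if_neg]
      · ring
      · rw [Ne, Fin.ext_iff] at hkf hko; omega
  have hnew : InR H o f (s * (ζ * ζ)) := by
    have T : InT H (Pi.single two 1 + Pi.single o (s * (ζ * ζ))) (Pi.single f 1) :=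
      InT.conj hvH ((inR_iff htf).mp (h1 two f)) hcol2 hrowf
    have T2 := InT.add_centre T (InT.neg_centre ((inR_iff htf).mp (h1 two f)) (by simp [htf.symm]))
      (by simp [htf.symm])
    rw [add_neg_cancel_comm] at T2
    obtain ⟨x, hx, hxm⟩ := T2
    refine inR_mk ⟨x, hx, hxm.trans ?_⟩
    ext i j
    simp only [Matrix.add_apply, Matrix.vecMulVec_apply, Pi.single_apply]
    split_ifs <;> ring
  exact eq_top_of_ones (by simp) h1 (show o ≠ f from hfo.symm) hnew (closure_signed_sq_eq_top hgen s hs)

end Cfsg.Agent.Lib.KnownA
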