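import Mathlib
import Cfsg.Agent.Lib.KnownA.JordanPlane
import Cfsg.Agent.Lib.KnownA.FieldGen

/-! `SL₃` of a finite field is generated by two conjugate regular unipotent elements. -/

set_option autoImplicit false

namespace Cfsg.Agent.Lib.KnownA

open Matrix

set_option maxHeartbeats 400000
variable {F : Type*} [Field F]

/-- The upper unitriangular `3 × 3` matrix with entries `a`, `b`, `c`. -/
def uthree (a b c : F) : SpecialLinearGroup (Fin 3) F :=
  ⟨!![1, a, c; 0, 1, b; 0, 0, 1], by simp [Matrix.det_fin_three]⟩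

theorem uthree_coe (a b c : F) :
    (uthree a b c : Matrix (Fin 3) (Fin 3) F) = !![1, a, c; 0, 1, b; 0, 0, 1] := rfl

theorem uthree_mul (a b c a' b' c' : F) :
    uthree a b c * uthree a' b' c' = uthree (a + a') (b + b') (c + c' + a * b') := by
  apply Subtype.ext
  change ((uthree a b c * uthree a' b' c' : SpecialLinearGroup (Fin 3) F) : Matrix (Fin 3) (Fin 3) F) =
    (uthree (a + a') (b + b') (c + c' + a * b') : Matrix (Fin 3) (Fin 3) F)
  rw [slmul, uthree_coe, uthree_coe, uthree_coe]
  ext i j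
  fin_cases i <;> fin_cases j <;> simp [Matrix.mul_apply, Fin.sum_univ_three] <;> ring

theorem uthree_zero_zero (c : F) :
    uthree 0 0 c = SpecialLinearGroup.transvection (show (0 : Fin 3) ≠ 2 by decide) c := by
  apply Subtype.ext
  change (uthree 0 0 c : Matrix (Fin 3) (Fin 3) F) = _
  rw [uthree_coe, SpecialLinearGroup.transvection_coe]
  ext i j
  fin_cases i <;> fin_cases j <;> simp [Matrix.single]

theorem uthree_zero_one (b : F) :
    uthree 0 b 0 = SpecialLinearGroup.transvection (show (1 : Fin 3) ≠ 2 by decide) b := by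
  apply Subtype.ext
  change (uthree 0 b 0 : Matrix (Fin 3) (Fin 3) F) = _
  rw [uthree_coe, SpecialLinearGroup.transvection_coe]
  ext i j
  fin_cases i <;> fin_cases j <;> simp [Matrix.single]

theorem uthree_one_zero (a : F) :
    uthree a 0 0 = SpecialLinearGroup.transvection (show (0 : Fin 3) ≠ 1 by decide) a := by
  apply Subtype.ext
  change (uthree a 0 0 : Matrix (Fin 3) (Fin 3) F) = _
  rw [uthree_coe, SpecialLinearGroup.transvection_coe]
  ext i j
  fin_cases i <;> fin_cases j <;> simp [Matrix.single]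

theorem isNilpotent_uthree (a b c : F) :
    IsNilpotent ((uthree a b c : Matrix (Fin 3) (Fin 3) F) - 1) := by
  refine ⟨3, ?_⟩
  rw [uthree_coe, pow_succ, pow_succ, pow_one]
  ext i j
  fin_cases i <;> fin_cases j <;> simp [Matrix.mul_apply, Fin.sum_univ_three]

theorem uthree_sq_ne_zero {a b : F} (ha : a ≠ 0) (hb : b ≠ 0) (c : F) :
    ((uthree a b c : Matrix (Fin 3) (Fin 3) F) - 1) ^ (3 - 1) ≠ 0 := by
  intro h
  have e : ((((uthree a b c : Matrix (Fin 3) (Fin 3) F) - 1) ^ (3 - 1) : Matrix (Fin 3) (Fin 3) F)) 0 2 = a * b := by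
    rw [show (3 : ℕ) - 1 = 1 + 1 from rfl, pow_succ, pow_one, uthree_coe]
    simp [Matrix.mul_apply, Fin.sum_univ_three]
  rw [h] at e
  exact mul_ne_zero ha hb e.symm

/-- The statement, as a predicate. -/
def TwoConjGen (F : Type*) [Field F] : Prop :=
  ∃ u g : SpecialLinearGroup (Fin 3) F, IsNilpotent ((u : Matrix (Fin 3) (Fin 3) F) - 1) ∧
    ((u : Matrix (Fin 3) (Fin 3) F) - 1) ^ (3 - 1) ≠ 0 ∧
    Subgroup.closure ({u, g * u * g⁻¹} : Set (SpecialLinearGroup (Fin 3) F)) = ⊤

theorem twoConjGen_mk {a b c : F} (ha : a ≠ 0) (hb : b ≠ 0) {v g : SpecialLinearGroup (Fin 3) F}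
    (hg : (g : Matrix (Fin 3) (Fin 3) F) * (uthree a b c : Matrix (Fin 3) (Fin 3) F) =
      (v : Matrix (Fin 3) (Fin 3) F) * (g : Matrix (Fin 3) (Fin 3) F))
    (h : ∀ H : Subgroup (SpecialLinearGroup (Fin 3) F), uthree a b c ∈ H → v ∈ H → H = ⊤) :
    TwoConjGen F := by
  refine ⟨uthree a b c, g, isNilpotent_uthree a b c, uthree_sq_ne_zero ha hb c, h _ ?_ ?_⟩
  · exact Subgroup.subset_closure (by simp)
  · have e : g * uthree a b c * g⁻¹ = v := by
      rw [mul_inv_eq_iff_eq_mul]
      exact Subtype.ext ((slmul _ _).trans (hg.trans (slmul _ _).symm))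
    exact Subgroup.subset_closure (by rw [e]; simp)

theorem inR_of_uthree {H : Subgroup (SpecialLinearGroup (Fin 3) F)} {c : F} (h : uthree 0 0 c ∈ H) :
    InR H 0 2 c := fun _ => by rwa [uthree_zero_zero] at h

theorem twoConjGen_char_two [Fintype F] [CharP F 2] : TwoConjGen F := by
  obtain ⟨θ, -, hgen, -⟩ := exists_field_generator (F := F)
  let v : SpecialLinearGroup (Fin 3) F := ⟨!![1, 0, 0; 1, 1, 0; θ, 1, 1], by simp [Matrix.det_fin_three]⟩
  let g : SpecialLinearGroup (Fin 3) F :=
    ⟨!![0, 0, 1; 0, 1, 0; 1, θ, 0], by simp [Matrix.det_fin_three, CharTwo.neg_eq]⟩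
  refine twoConjGen_mk (a := 1) (b := 1) (c := 0) one_ne_zero one_ne_zero (v := v) (g := g) ?_ ?_
  · rw [uthree_coe]
    ext i j
    fin_cases i <;> fin_cases j <;> simp [v, g, Matrix.mul_apply, Fin.sum_univ_three] <;> ring
  intro H hu hv
  have ht : InR H (⟨0, by omega⟩ : Fin 3) ⟨3 - 1, by omega⟩ 1 := by
    have h := H.mul_mem hu hu
    rw [uthree_mul, CharTwo.add_self_eq_zero] at h
    simp at h
    exact inR_of_uthree h
  have hs : InR H (⟨3 - 1, by omega⟩ : Fin 3) ⟨0, by omega⟩ 1 := by
    have e : ∀ h : (2 : Fin 3) ≠ 0, v * v = SpecialLinearGroup.transvection h (1 : F) := by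
      intro h
      apply Subtype.ext
      change ((v * v : SpecialLinearGroup (Fin 3) F) : Matrix (Fin 3) (Fin 3) F) = _
      rw [slmul, SpecialLinearGroup.transvection_coe]
      ext i j
      fin_cases i <;> fin_cases j <;>
        simp [v, Matrix.mul_apply, Fin.sum_univ_three, Matrix.single, CharTwo.add_self_eq_zero] <;>
        linear_combination (θ) * (CharTwo.two_eq_zero : (2 : F) = 0)
    exact fun h => e h ▸ H.mul_mem hv hv
  have hum : (uthree (1 : F) 1 0 : Matrix (Fin 3) (Fin 3) F) = jordan F 3 := by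
    rw [uthree_coe]
    ext i j
    fin_cases i <;> fin_cases j <;> simp [jordan_apply]
  have h1 := ones_of_plane le_rfl hu hum ht hs
  refine eq_top_of_ones (by simp) h1 (show (2 : Fin 3) ≠ 0 by decide) (θ := θ) (fun h => ?_)
    (closure_eq_top_of_powers hgen)
  have e : SpecialLinearGroup.transvection h θ =
      (SpecialLinearGroup.transvection (show (1 : Fin 3) ≠ 0 by decide) (1 : F) *
        SpecialLinearGroup.transvection (show (2 : Fin 3) ≠ 1 by decide) (1 : F))⁻¹ * v := by
    rw [eq_inv_mul_iff_mul_eq]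
    apply Subtype.ext
    change ((_ * _ * _ : SpecialLinearGroup (Fin 3) F) : Matrix (Fin 3) (Fin 3) F) = (v : Matrix (Fin 3) (Fin 3) F)
    rw [slmul, slmul, SpecialLinearGroup.transvection_coe, SpecialLinearGroup.transvection_coe,
      SpecialLinearGroup.transvection_coe]
    ext i j
    fin_cases i <;> fin_cases j <;> simp [v, Matrix.mul_apply, Fin.sum_univ_three, Matrix.single]
  rw [e]
  exact H.mul_mem (H.inv_mem (H.mul_mem (h1 _ _ _) (h1 _ _ _))) hv

/-- The additive subgroup of available coefficients in position `(i, j)`. -/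
def coeffGroup {n : ℕ} (H : Subgroup (SpecialLinearGroup (Fin n) F)) (i j : Fin n) : AddSubgroup F where
  carrier := {c | InR H i j c}
  zero_mem' := InR.zero i j
  add_mem' := InR.add
  neg_mem' := InR.neg

/-- Once both long root groups are present, a regular `u` finishes the job. -/
theorem top_of_full_plane {H : Subgroup (SpecialLinearGroup (Fin 3) F)} {e c : F} (he : e ≠ 0)
    (hu : uthree e 1 c ∈ H) (h02 : ∀ f, InR H 0 2 f) (h20 : ∀ f, InR H 2 0 f) : H = ⊤ := by
  have T : InT H ![c, 1, 1] ![1, -e, e - c] := by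
    refine InT.conj hu ((inR_iff (show (2 : Fin 3) ≠ 0 by decide)).mp (h20 1)) ?_ ?_
    · rw [uthree_coe]; ext i; fin_cases i <;> simp [mulVec, dotProduct, Fin.sum_univ_three]
    · rw [uthree_coe]; ext i; fin_cases i <;> simp [vecMul, dotProduct, Fin.sum_univ_three] <;> ring
  have T1 : InT H ![0, 1, 1] ![1, -e, e] := by
    refine InT.conj (h02 (-c) (show (0 : Fin 3) ≠ 2 by decide)) T ?_ ?_
    · rw [transvection_mulVec']; ext i; fin_cases i <;> simp
    · rw [transvection_vecMul']; ext i; fin_cases i <;> simp; ring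
  have T2 : InT H ![1, 1, 1] ![1, -e, e - 1] := by
    refine InT.conj (h02 1 (show (0 : Fin 3) ≠ 2 by decide)) T1 ?_ ?_
    · rw [transvection_mulVec']; ext i; fin_cases i <;> simp
    · rw [transvection_vecMul']; ext i; fin_cases i <;> simp
  have T3 : InT H ![1, 1, 0] ![e, -e, e - 1] := by
    refine InT.conj (h20 (-1) (show (2 : Fin 3) ≠ 0 by decide)) T2 ?_ ?_
    · rw [transvection_mulVec']; ext i; fin_cases i <;> simp
    · rw [transvection_vecMul']; ext i; fin_cases i <;> simp
  have c1 := InT.comm T3 ((inR_iff (show (0 : Fin 3) ≠ 2 by decide)).mp (h02 1))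
    (by simp [dotProduct, Fin.sum_univ_three]) (by simp) (by simp [dotProduct, Fin.sum_univ_three])
  have c2 : InT H (Pi.single 1 1) (Pi.single 2 e) := by
    have c3 := InT.add_centre c1 (InT.neg_centre ((inR_iff (show (0 : Fin 3) ≠ 2 by decide)).mp (h02 1))
      (by simp) |> fun h => (?_ : InT H (-(Pi.single 0 1)) ((![e, -e, e - 1] ⬝ᵥ Pi.single 0 1) • Pi.single 2 1)))
      (by simp [dotProduct, Fin.sum_univ_three])
    · convert c3 using 1
      · ext i; fin_cases i <;> simp
      · ext i; fin_cases i <;> simp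
    · obtain ⟨g, hg, hgm⟩ := InT.neg_centre ((inR_iff (show (0 : Fin 3) ≠ 2 by decide)).mp (h02 e)) (by simp)
      refine ⟨g, hg, hgm.trans ?_⟩
      congr 2
      ext i; fin_cases i <;> simp
  have h12e : InR H 1 2 e := inR_mk c2
  have h10 : ∀ f, InR H 1 0 f := fun f => by
    have := InR.mul (show (1 : Fin 3) ≠ 2 by decide) (show (2 : Fin 3) ≠ 0 by decide) h12e (h20 (f / e))
    rwa [mul_div_cancel₀ f he] at this
  have h12 : ∀ f, InR H 1 2 f := fun f => by
    have := InR.mul (show (1 : Fin 3) ≠ 0 by decide) (show (0 : Fin 3) ≠ 2 by decide) (h10 f) (h02 1)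
    rwa [mul_one] at this
  have h01e : InR H 0 1 e := fun h => by
    have e1 : uthree e 1 c * (uthree 0 1 (c - e))⁻¹ = uthree e 0 0 := by
      rw [mul_inv_eq_iff_eq_mul, uthree_mul]; congr 1 <;> ring
    have e2 : uthree 0 1 (c - e) = uthree 0 1 0 * uthree 0 0 (c - e) := by
      rw [uthree_mul]; congr 1 <;> ring
    rw [uthree_zero_one, uthree_zero_zero] at e2
    rw [← uthree_one_zero, ← e1, e2]
    exact H.mul_mem hu (H.inv_mem (H.mul_mem (h12 1 _) (h02 _ _)))
  have h21 : ∀ f, InR H 2 1 f := fun f => by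
    have := InR.mul (show (2 : Fin 3) ≠ 0 by decide) (show (0 : Fin 3) ≠ 1 by decide) (h20 (f / e)) h01e
    rwa [div_mul_cancel₀ f he] at this
  have h01 : ∀ f, InR H 0 1 f := fun f => by
    have := InR.mul (show (0 : Fin 3) ≠ 2 by decide) (show (2 : Fin 3) ≠ 1 by decide) (h02 f) (h21 1)
    rwa [mul_one] at this
  refine eq_top_of_inR fun i j f => ?_
  fin_cases i <;> fin_cases j <;>
    first | exact h01 f | exact h02 f | exact h10 f | exact h12 f | exact h20 f | exact h21 f | exact fun h => absurd rfl h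

theorem twoConjGen_odd [Fintype F] (hodd : Odd (Fintype.card F)) (h5 : 5 ≤ Fintype.card F) : TwoConjGen F := by
  obtain ⟨ζ, hζ, hgen, hord⟩ := exists_field_generator (F := F)
  set β : F := -ζ⁻¹ with hβ
  have hβ0 : β ≠ 0 := neg_ne_zero.mpr (inv_ne_zero hζ)
  have hζ1 : ζ ≠ -1 := by
    intro e
    have : orderOf ζ ≤ 2 := orderOf_le_of_pow_eq_one (by norm_num) (by rw [e]; ring)
    omega
  have hβ1 : (1 : F) - β ≠ 0 := by
    intro e
    apply hζ1
    have h1 : -ζ⁻¹ = (1 : F) := by rw [← hβ]; linear_combination -e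
    field_simp at h1
    linear_combination -h1
  set e : F := (1 - β) ^ 3 / β ^ 2 with he
  set c : F := 3 - β with hc
  have he0 : e ≠ 0 := div_ne_zero (pow_ne_zero _ hβ1) (pow_ne_zero _ hβ0)
  set s : F := (1 - β) / β with hs
  let v : SpecialLinearGroup (Fin 3) F := ⟨!![0, 0, -β⁻¹; 0, β, β; 1, e, c], by
    simp [Matrix.det_fin_three]; field_simp⟩
  let g : SpecialLinearGroup (Fin 3) F :=
    ⟨!![s * (1 - β⁻¹) / e, -s - c * (s * (1 - β⁻¹) / e), s;
        s * β / e, -(c * (s * β / e)), 0;
        s * (c - 2) / e + s * (0 * e) / e, s - c * (s * (c - 2) / e), 0], by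
      simp [Matrix.det_fin_three]
      simp only [hs, he, hc]
      field_simp
      ring⟩
  refine twoConjGen_mk (a := e) (b := 1) (c := c) he0 one_ne_zero (v := v) (g := g) ?_ ?_
  · rw [uthree_coe]
    ext i j
    fin_cases i <;> fin_cases j <;> simp [v, g, Matrix.mul_apply, Fin.sum_univ_three] <;>
      simp only [hs, he, hc] <;> field_simp <;> ring
  intro H hu hv
  let m : SpecialLinearGroup (Fin 3) F :=
    ⟨!![0, 0, -β⁻¹; 0, β, 0; 1, 0, 0], by simp [Matrix.det_fin_three]; field_simp⟩
  have hm : m ∈ H := by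
    have : v = m * uthree e 1 c := by
      apply Subtype.ext
      change (v : Matrix (Fin 3) (Fin 3) F) = ((m * uthree e 1 c : SpecialLinearGroup (Fin 3) F) : Matrix (Fin 3) (Fin 3) F)
      rw [slmul, uthree_coe]
      ext i j
      fin_cases i <;> fin_cases j <;> simp [v, m, Matrix.mul_apply, Fin.sum_univ_three]
    rw [show m = v * (uthree e 1 c)⁻¹ by rw [this, mul_inv_cancel_right]]
    exact H.mul_mem hv (H.inv_mem hu)
  set ρ : F := ζ ^ 3 with hρ
  have hρ0 : ρ ≠ 0 := pow_ne_zero 3 hζ
  have hD : ∀ a b d : F, uthree a b d ∈ H → uthree (ρ * a) (b / ρ) d ∈ H := by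
    intro a b d h
    have e1 : uthree (ρ * a) (b / ρ) d = m * m * uthree a b d * (m * m)⁻¹ := by
      rw [eq_mul_inv_iff_mul_eq]
      apply Subtype.ext
      change ((_ * (m * m) : SpecialLinearGroup (Fin 3) F) : Matrix (Fin 3) (Fin 3) F) =
        ((m * m * _ : SpecialLinearGroup (Fin 3) F) : Matrix (Fin 3) (Fin 3) F)
      simp only [slmul, uthree_coe]
      ext i j
      fin_cases i <;> fin_cases j <;> simp [m, Matrix.mul_apply, Fin.sum_univ_three] <;>
        simp only [hρ, hβ] <;> field_simp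
    rw [e1]
    exact H.mul_mem (H.mul_mem (H.mul_mem hm hm) h) (H.inv_mem (H.mul_mem hm hm))
  have hP : ∀ k : ℕ, uthree (ρ ^ k * e) ((ρ ^ k)⁻¹) c ∈ H := by
    intro k
    induction k with
    | zero => simpa using hu
    | succ k ih =>
      have := hD _ _ _ ih
      rwa [pow_succ', mul_assoc, _root_.mul_inv_rev, ← div_eq_mul_inv]
  have hcomm : ∀ a b d a' b' d' : F, uthree a b d ∈ H → uthree a' b' d' ∈ H →
      uthree 0 0 (a * b' - a' * b) ∈ H := by
    intro a b d a' b' d' h h'
    have e1 : uthree 0 0 (a * b' - a' * b) = uthree a b d * uthree a' b' d' *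
        (uthree a' b' d' * uthree a b d)⁻¹ := by
      rw [eq_mul_inv_iff_mul_eq, uthree_mul, uthree_mul, uthree_mul]
      congr 1 <;> ring
    rw [e1]
    exact H.mul_mem (H.mul_mem h h') (H.inv_mem (H.mul_mem h' h))
  set K := coeffGroup H 0 2 with hK
  have hK1 : ∀ k : ℕ, e * (ρ ^ k - (ρ ^ k)⁻¹) ∈ K := fun k => by
    have := inR_of_uthree (hcomm _ _ _ _ _ _ (hP k) (hP 0))
    simp at this
    change InR H 0 2 _
    convert this using 1
    ring
  set τ : F := ρ + ρ⁻¹ with hτ
  have hτgen : Subring.closure ({τ} : Set F) = ⊤ := closure_cube_trace_eq_top hodd hord hζ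
  -- a nonzero subgroup of coefficients stable under `τ`
  have hK' : ∃ K₀ : AddSubgroup F, K₀ ≤ K ∧ (∀ y ∈ K₀, τ * y ∈ K₀) ∧ ∃ y ∈ K₀, y ≠ 0 := by
    by_cases hρ1 : ρ * ρ = 1
    · have hρm : ρ = -1 := by
        refine (mul_self_eq_one_iff.mp hρ1).resolve_left fun h1 => ?_
        have : orderOf ζ ≤ 3 := orderOf_le_of_pow_eq_one (by norm_num) h1
        omega
      have hd : InR H 0 2 (2 * c - e) := by
        have h := H.mul_mem hu (hD _ _ _ hu)
        rw [hρm, uthree_mul] at h
        refine inR_of_uthree ?_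
        convert h using 1
        congr 1 <;> ring
      have hne : 2 * c - e ≠ 0 := by
        have hq7 : Fintype.card F = 7 := by
          have h6 : orderOf ζ ∣ 6 := by
            refine orderOf_dvd_of_pow_eq_one ?_
            rw [show ζ ^ 6 = ρ * ρ by rw [hρ]; ring, hρ1]
          rw [hord] at h6
          have := Nat.le_of_dvd (by norm_num) h6
          have := Nat.odd_iff.mp hodd
          have h57 : Fintype.card F = 5 ∨ Fintype.card F = 7 := by omega
          rcases h57 with h | h
          · rw [h] at h6; norm_num at h6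
          · exact h
        have h5 : (5 : F) ≠ 0 := by
          intro h0
          obtain ⟨p, hp⟩ := CharP.exists F
          haveI := hp
          have hpp := CharP.char_is_prime F p
          have h1 : p ∣ 5 := (CharP.cast_eq_zero_iff F p 5).mp (by exact_mod_cast h0)
          have h2 : p = 5 := (Nat.prime_dvd_prime_iff_eq hpp (by norm_num)).mp h1
          obtain ⟨m', -, hm'⟩ := FiniteField.card F p
          rw [hq7, h2] at hm'
          have : 5 ∣ 7 := hm' ▸ dvd_pow_self 5 m'.ne_zero
          norm_num at this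
        have hβ3 : β ^ 2 + β + 1 = 0 := by
          have h3 : ζ ^ 3 = -1 := by rw [← hρ]; exact hρm
          have : (β - 1) * (β ^ 2 + β + 1) = 0 := by
            have : β ^ 3 = 1 := by
              rw [hβ, neg_pow, inv_pow, h3]; norm_num
            linear_combination this
          exact (mul_eq_zero.mp this).resolve_left fun h => hβ1 (by linear_combination -h)
        intro h0
        have : (5 : F) * β ^ 3 = 0 := by
          simp only [hc, he] at h0
          field_simp at h0
          linear_combination (-1 : F) * h0 + (4 * β - 1) * hβ3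
        rcases mul_eq_zero.mp this with h | h
        · exact h5 h
        · exact pow_ne_zero 3 hβ0 h
      refine ⟨AddSubgroup.closure {2 * c - e}, (AddSubgroup.closure_le _).mpr (Set.singleton_subset_iff.mpr hd),
        fun y hy => ?_, _, AddSubgroup.subset_closure rfl, hne⟩
      have e2 : τ * y = -(y + y) := by rw [hτ, hρm]; ring
      rw [e2]
      exact neg_mem (add_mem hy hy)
    · refine ⟨AddSubgroup.closure (Set.range fun k : ℕ => e * (ρ ^ k - (ρ ^ k)⁻¹)),
        (AddSubgroup.closure_le _).mpr (by rintro _ ⟨k, rfl⟩; exact hK1 k), fun y hy => ?_,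
        e * (ρ ^ 1 - (ρ ^ 1)⁻¹), AddSubgroup.subset_closure ⟨1, rfl⟩, mul_ne_zero he0 ?_⟩
      · induction hy using AddSubgroup.closure_induction with
        | mem y hy =>
          obtain ⟨k, rfl⟩ := hy
          rcases k with _ | k
          · simp
          · have e1 : τ * (e * (ρ ^ (k + 1) - (ρ ^ (k + 1))⁻¹)) =
                e * (ρ ^ (k + 2) - (ρ ^ (k + 2))⁻¹) + e * (ρ ^ k - (ρ ^ k)⁻¹) := by
              rw [hτ]; field_simp; ring
            rw [e1]
            exact add_mem (AddSubgroup.subset_closure ⟨_, rfl⟩) (AddSubgroup.subset_closure ⟨_, rfl⟩)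
        | zero => simp
        | add x y _ _ hx hy => rw [mul_add]; exact add_mem hx hy
        | neg x _ hx => rw [mul_neg]; exact neg_mem hx
      · rw [pow_one, sub_ne_zero]
        intro h
        apply hρ1
        nth_rewrite 2 [h]
        exact mul_inv_cancel₀ hρ0
  obtain ⟨K₀, hle, hstab, y, hy, hy0⟩ := hK'
  let M : Subring F :=
    { carrier := {x | ∀ z ∈ K₀, x * z ∈ K₀}
      one_mem' := fun z hz => by rwa [one_mul]
      zero_mem' := fun z _ => by rw [zero_mul]; exact zero_mem _
      add_mem' := fun ha hb z hz => by rw [add_mul]; exact add_mem (ha z hz) (hb z hz)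
      neg_mem' := fun ha z hz => by rw [neg_mul]; exact neg_mem (ha z hz)
      mul_mem' := fun ha hb z hz => by rw [mul_assoc]; exact ha _ (hb z hz) }
  have hM : Subring.closure ({τ} : Set F) ≤ M := Subring.closure_le.mpr (Set.singleton_subset_iff.mpr hstab)
  rw [hτgen] at hM
  have h02 : ∀ f, InR H 0 2 f := fun f => by
    have := hle ((hM (Subring.mem_top (f / y))) y hy)
    rwa [div_mul_cancel₀ f hy0] at this
  refine top_of_full_plane he0 hu h02 fun f => inR_mk ?_
  refine InT.conj hm ((inR_iff (show (0 : Fin 3) ≠ 2 by decide)).mp (h02 (-β⁻¹ * f))) ?_ ?_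
  · ext i; fin_cases i <;> simp [m, mulVec, dotProduct, Fin.sum_univ_three]
  · ext i; fin_cases i <;> simp [m, vecMul, dotProduct, Fin.sum_univ_three]; ring

theorem twoConjGen_three [Fintype F] (h3 : Fintype.card F = 3) : TwoConjGen F := by
  haveI : CharP F 3 := charP_of_card_eq_prime h3
  let e : ZMod 3 ≃+* F := ZMod.ringEquiv F (show Fintype.card F = 3 from h3)
  let φ : SpecialLinearGroup (Fin 3) (ZMod 3) →* SpecialLinearGroup (Fin 3) F :=
    SpecialLinearGroup.map e.toRingHom
  let v₀ : SpecialLinearGroup (Fin 3) (ZMod 3) := ⟨!![0, 1, 1; 1, 1, 0; 1, 1, 2], by decide⟩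
  let u₀ : SpecialLinearGroup (Fin 3) (ZMod 3) := ⟨!![1, 1, 0; 0, 1, 1; 0, 0, 1], by decide⟩
  let g₀ : SpecialLinearGroup (Fin 3) (ZMod 3) := ⟨!![0, 2, 0; 2, 0, 0; 1, 2, 2], by decide⟩
  have hφ : ∀ x, (φ x : Matrix (Fin 3) (Fin 3) F) = (x : Matrix (Fin 3) (Fin 3) (ZMod 3)).map e := fun x => rfl
  have hu : φ u₀ = uthree (1 : F) 1 0 := by
    apply Subtype.ext
    change (φ u₀ : Matrix (Fin 3) (Fin 3) F) = (uthree (1 : F) 1 0 : Matrix (Fin 3) (Fin 3) F)
    rw [uthree_coe, hφ]
    ext i j
    fin_cases i <;> fin_cases j <;> simp [u₀]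
  refine twoConjGen_mk (a := 1) (b := 1) (c := 0) one_ne_zero one_ne_zero (v := φ v₀) (g := φ g₀) ?_ ?_
  · rw [← hu, ← slmul, ← slmul, ← map_mul, ← map_mul]
    exact congrArg (fun x => ((φ x : SpecialLinearGroup (Fin 3) F) : Matrix (Fin 3) (Fin 3) F))
      (show g₀ * u₀ = v₀ * g₀ by decide)
  intro H hu' hv'
  rw [← hu] at hu'
  have key : ∀ (i j : Fin 3) (h : i ≠ j) (w : List Bool),
      (w.map fun b => if b then u₀ else v₀).prod = SpecialLinearGroup.transvection h (1 : ZMod 3) →
      InR H i j (1 : F) := by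
    intro i j h w hw h'
    have e1 : φ (SpecialLinearGroup.transvection h (1 : ZMod 3)) = SpecialLinearGroup.transvection h' (1 : F) := by
      apply Subtype.ext
      change (φ _ : Matrix (Fin 3) (Fin 3) F) = _
      rw [SpecialLinearGroup.transvection_coe, hφ]
      ext a b
      by_cases hab : i = a ∧ j = b <;> by_cases hd : a = b <;>
        simp [SpecialLinearGroup.transvection_coe, Matrix.single, hab, hd, Matrix.one_apply]
    rw [← e1, ← hw, map_list_prod]
    refine Subgroup.list_prod_mem H fun x hx => ?_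
    simp only [List.map_map, List.mem_map, Function.comp_apply] at hx
    obtain ⟨b, -, rfl⟩ := hx
    cases b
    · exact hv'
    · exact hu'
  let U : Bool := true
  let V : Bool := false
  have h01 := key 0 1 (by decide) [U,V,U,V,U,U,V,U,V,V] (by decide)
  have h10 := key 1 0 (by decide) [U,V,V,U,V,U,V,U,U,V] (by decide)
  have h12 := key 1 2 (by decide) [V,V,U,V,U,U,V,U,V,U] (by decide)
  have h20 := key 2 0 (by decide) [U,U,V,U,V,U,V,U,U,V,U,V,U] (by decide)
  have h21 := key 2 1 (by decide) [V,V,U,V,U,V,U,V,V,U,V,U,V] (by decide)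
  have h02 := key 0 2 (by decide) [U,V,U,V,U,U,V,U,V,U,V,U,U,V,U,V] (by decide)
  have h1 : ∀ i j, InR H i j (1 : F) := by
    intro i j
    fin_cases i <;> fin_cases j <;>
      first | exact h01 | exact h02 | exact h10 | exact h12 | exact h20 | exact h21 | exact fun h => absurd rfl h
  refine eq_top_of_ones (by simp) h1 (show (0 : Fin 3) ≠ 1 by decide) h01 ?_
  refine eq_top_iff.mpr fun x _ => ?_
  obtain ⟨k, hk⟩ := ZMod.natCast_zmod_surjective (e.symm x)
  have : x = (k : F) := by rw [← e.apply_symm_apply x, ← hk, map_natCast]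
  rw [this]
  exact natCast_mem _ k

theorem twoConjGen (F : Type*) [Field F] [Fintype F] : TwoConjGen F := by
  by_cases hodd : Odd (Fintype.card F)
  · by_cases h5 : 5 ≤ Fintype.card F
    · exact twoConjGen_odd hodd h5
    · refine twoConjGen_three ?_
      have := Fintype.one_lt_card (α := F)
      have := Nat.odd_iff.mp hodd
      omega
  · haveI : CharP F 2 := by
      have h2 : ringChar F = 2 := FiniteField.even_card_iff_char_two.mpr (by rw [Nat.odd_iff] at hodd; omega)
      exact h2 ▸ ringChar.charP F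
    exact twoConjGen_char_two

end Cfsg.Agent.Lib.KnownA
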