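import Mathlib
import Cfsg.Agent.Lib.Similar.UFam
import Cfsg.Agent.Lib.Similar.SUFibre

/-!
Characteristic polynomials of semisimple special unitary matrices.
-/

set_option autoImplicit false
set_option linter.unusedSectionVars false

namespace Cfsg.Agent.Lib.KnownA.SUSemisimple

open Polynomial Cfsg.Agent.Lib.Similar
open Cfsg.Agent.Lib.FamCount (powFam mem_factors factors_prod prod_factors weight_powFam mem_fam fam card_fixed_le)
open Cfsg.Agent.Lib.Classical (conjHom conjHom_apply conjHom_conjHom)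
open Cfsg.Agent.S2478 (Mon)

variable {F : Type*} [Field F] [Fintype F] {q n : ℕ}

/-- The semisimple part keeps the characteristic polynomial. -/
theorem exists_coprime_charpoly {G m : Type*} [Group G] [Finite G] [Fintype m] [DecidableEq m]
    (φ : G →* Matrix m m F) (p : ℕ) [Fact p.Prime] [CharP F p] (g : G) :
    ∃ s : G, (orderOf s).Coprime p ∧ (φ s).charpoly = (φ g).charpoly := by
  classical
  have key : ∀ (M : Matrix m m F) (a : ℕ), (M ^ Fintype.card F ^ a).charpoly = M.charpoly := by
    intro M a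
    induction a with
    | zero => simp
    | succ a ih => rw [pow_succ, pow_mul, FiniteField.Matrix.charpoly_pow_card, ih]
  have hp : p.Prime := Fact.out
  obtain ⟨a, o, ho, hord⟩ := Nat.exists_eq_pow_mul_and_not_dvd (orderOf_pos g).ne' p hp.ne_one
  have hcop : Nat.Coprime (p ^ a) o := Nat.Coprime.pow_left a (hp.coprime_iff_not_dvd.mpr ho)
  obtain ⟨N, hN0, hN1⟩ := Nat.chineseRemainder hcop 0 1
  refine ⟨g ^ N, ?_, ?_⟩
  · refine Nat.Coprime.coprime_dvd_left (orderOf_dvd_of_pow_eq_one ?_) (Nat.Coprime.symm (hp.coprime_iff_not_dvd.mpr ho))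
    rw [← pow_mul, ← orderOf_dvd_iff_pow_eq_one, hord]
    exact mul_dvd_mul_right (Nat.modEq_zero_iff_dvd.mp hN0) o
  · obtain ⟨f, -, hf⟩ := FiniteField.card F p
    have he : (g ^ N) ^ Fintype.card F ^ a = g ^ Fintype.card F ^ a := by
      rw [← pow_mul, pow_eq_pow_iff_modEq, hord]
      refine ((Nat.modEq_and_modEq_iff_modEq_mul hcop).mp ⟨?_, ?_⟩)
      · have hd : p ^ a ∣ Fintype.card F ^ a := pow_dvd_pow_of_dvd (hf ▸ dvd_pow_self p f.pos.ne') a
        exact (Nat.modEq_zero_iff_dvd.mpr (dvd_mul_of_dvd_right hd N)).trans (Nat.modEq_zero_iff_dvd.mpr hd).symm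
      · simpa using hN1.mul_right (Fintype.card F ^ a)
    rw [← key (φ (g ^ N)) a, ← map_pow, he, map_pow, key]

theorem starP_pow (σ : F →+* F) (f : F[X]) (k : ℕ) : starP σ (f ^ k) = starP σ f ^ k := by
  induction k with
  | zero => simp [starP_one]
  | succ k ih => rw [pow_succ, starP_mul, ih, pow_succ]

/-- The characteristic polynomial of a unitary matrix is fixed. -/
theorem starP_charpoly (hF : Fintype.card F = q ^ 2) (B : Cfsg.GU n F q) :
    starP (conjHom hF) ((B : GL (Fin n) F) : Matrix (Fin n) (Fin n) F).charpoly =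
      ((B : GL (Fin n) F) : Matrix (Fin n) (Fin n) F).charpoly := by
  classical
  have h := (Finset.mem_filter.1 (matInv_GU hF B)).2
  rw [charpoly_eq_matInv]
  conv_rhs => rw [← h]
  rw [starP_multiset_prod, starM, Multiset.map_map, Multiset.map_map]
  simp only [Function.comp_def, starP_pow]

/-- Every fixed polynomial is the characteristic polynomial of a unitary matrix. -/
theorem exists_GU_charpoly (hF : Fintype.card F = q ^ 2) {g : F[X]} (hg : g ∈ Mon F n)
    (hfix : starP (conjHom hF) g = g) :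
    ∃ B : Cfsg.GU n F q, ((B : GL (Fin n) F) : Matrix (Fin n) (Fin n) F).charpoly = g := by
  classical
  obtain ⟨σ, hσd⟩ : ∃ σ, σ = conjHom hF := ⟨_, rfl⟩
  have hσ : ∀ x, σ (σ x) = x := hσd ▸ conjHom_conjHom hF
  obtain ⟨hm, hd, h0⟩ := hg
  rw [← hσd] at hfix
  have hfac : (UniqueFactorizationMonoid.normalizedFactors g).map (starP σ) = UniqueFactorizationMonoid.normalizedFactors g := by
    conv_rhs => rw [← hfix, ← prod_factors hm, starP_multiset_prod, factors_prod (s := (UniqueFactorizationMonoid.normalizedFactors g).map (starP σ)) (by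
      intro f hf
      obtain ⟨u, hu, rfl⟩ := Multiset.mem_map.1 hf
      obtain ⟨h1, h2, h3⟩ := mem_factors h0 hu
      exact ⟨monic_starP h3, irreducible_starP hσ h2 h1 h3⟩)]
  obtain ⟨B, hB⟩ := exists_GU_matInv (n := n) hF (m := powFam 1 g) (Finset.mem_filter.2 ⟨mem_fam.2 ⟨fun y hy => by
      obtain ⟨f, hf, rfl⟩ := Multiset.mem_map.1 hy
      obtain ⟨h1, h2, h3⟩ := mem_factors h0 hf
      exact ⟨h1, h2, h3, le_rfl, le_rfl⟩, by rw [weight_powFam 1 hm h0, one_mul, hd]⟩, by
      rw [← hσd, powFam, starM, Multiset.map_map]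
      conv_rhs => rw [← hfac, Multiset.map_map]
      rfl⟩)
  refine ⟨B, ?_⟩
  rw [charpoly_eq_matInv, hB, powFam, Multiset.map_map]
  simp only [Function.comp_def, pow_one, Multiset.map_id']
  exact prod_factors hm

/-- At least `q` elements satisfy `c = s * c ^ q` when `s = ± 1`. -/
theorem card_mid_ge (hF : Fintype.card F = q ^ 2) {s : F} (hss : s * s = 1) (hσs : conjHom hF s = s) :
    q ≤ Nat.card {c : F // s * conjHom hF c = c} := by
  classical
  have hq := Cfsg.Agent.Lib.Classical.two_le_q hF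
  obtain ⟨σ, hσd⟩ : ∃ σ, σ = conjHom hF := ⟨_, rfl⟩
  have hσ : ∀ x, σ (σ x) = x := hσd ▸ conjHom_conjHom hF
  rw [← hσd] at hσs ⊢
  let f : F →+ F := AddMonoidHom.mk' (fun c => c + s * σ c) fun a b => by rw [map_add]; ring
  have hs : s ≠ 0 := fun h => by rw [h, mul_zero] at hss; exact zero_ne_one hss
  have hker : Nat.card f.ker ≤ q := by
    have hne : (C s * X ^ q + X : F[X]) ≠ 0 := fun h => by
      have := congrArg (fun p => coeff p q) h
      simp [coeff_X, show ¬ (1 : ℕ) = q by omega, hs] at this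
    refine le_trans (Nat.card_le_card_of_injective (fun x : f.ker => (⟨x.1, ?_⟩ : ((C s * X ^ q + X : F[X]).roots.toFinset : Finset F)))
      (fun a b h => Subtype.ext (by simpa using h))) ?_
    · rw [Multiset.mem_toFinset, mem_roots hne, IsRoot.def]
      have h := x.2
      rw [AddMonoidHom.mem_ker] at h
      simp only [f, AddMonoidHom.mk'_apply, hσd, conjHom_apply] at h
      rw [eval_add, eval_mul, eval_C, eval_pow, eval_X, add_comm]
      exact h
    · rw [Nat.card_eq_finsetCard]
      refine (Multiset.toFinset_card_le _).trans ((card_roots' _).trans ?_)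
      refine (natDegree_add_le _ _).trans (max_le (natDegree_C_mul_X_pow_le _ _) ?_)
      rw [natDegree_X]; omega
  have hrange : Nat.card f.range ≤ Nat.card {c : F // s * σ c = c} := by
    refine Nat.card_le_card_of_injective (fun x => ⟨x.1, ?_⟩) (fun a b h => Subtype.ext (congrArg Subtype.val h :))
    obtain ⟨c, hc⟩ := x.2
    rw [← hc]
    simp only [f, AddMonoidHom.mk'_apply]
    rw [map_add, map_mul, hσ, hσs]
    linear_combination c * hss
  have hprod : q ^ 2 = Nat.card f.range * Nat.card f.ker := by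
    rw [← hF, ← Nat.card_eq_fintype_card, AddSubgroup.card_eq_card_quotient_mul_card_addSubgroup f.ker,
      Nat.card_congr (QuotientAddGroup.quotientKerEquivRange f).toEquiv]
  refine le_trans ?_ hrange
  by_contra hlt
  have : Nat.card f.range * Nat.card f.ker < q ^ 2 := by
    rw [pow_two]; exact Nat.mul_lt_mul_of_lt_of_le (by omega) hker (by omega)
  omega

/-- The number of fixed polynomials with constant term `± 1`. -/
theorem card_fixed (hF : Fintype.card F = q ^ 2) {d : ℕ} {s : F} (hss : s * s = 1) (hσs : conjHom hF s = s) :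
    Nat.card {g : Mon F (d + 1) // starP (conjHom hF) g.1 = g.1 ∧ g.1.coeff 0 ∈ ({s} : Finset F)} = q ^ d := by
  classical
  have hs : s ≠ 0 := fun h => by rw [h, mul_zero] at hss; exact zero_ne_one hss
  refine le_antisymm ((card_fixed_le hF {s} fun c hc => (Finset.mem_singleton.1 hc) ▸ hs).trans (by simp)) ?_
  obtain ⟨σ, hσd⟩ : ∃ σ, σ = conjHom hF := ⟨_, rfl⟩
  have hσ : ∀ x, σ (σ x) = x := hσd ▸ conjHom_conjHom hF
  have hMge : q ≤ Nat.card {c : F // s * σ c = c} := hσd ▸ card_mid_ge hF hss hσs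
  rw [← hσd] at hσs ⊢
  let M := {c : F // if Odd d then s * σ c = c else c = 0}
  let co : (Fin (d / 2) → F) × M → Fin (d + 1) → F := fun w i =>
    if (i : ℕ) = 0 then s else if h : (i : ℕ) - 1 < d / 2 then w.1 ⟨(i : ℕ) - 1, h⟩
      else if 2 * (i : ℕ) = d + 1 then w.2.1
      else if h' : d - (i : ℕ) < d / 2 then s * σ (w.1 ⟨d - (i : ℕ), h'⟩) else 0
  let E := (Polynomial.monicEquivDegreeLT (R := F) (d + 1)).trans (Polynomial.degreeLTEquiv F (d + 1)).toEquiv
  have hcoeff : ∀ (c : Fin (d + 1) → F) (i : Fin (d + 1)), (E.symm c).1.coeff i = c i := by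
    intro c i
    conv_rhs => rw [← E.apply_symm_apply c]
    show _ = ((E.symm c).1).eraseLead.coeff i
    rw [Polynomial.eraseLead_coeff_of_ne]
    rw [(E.symm c).2.2]
    exact (i.2).ne
  have key : ∀ w, (E.symm (co w)).1 ∈ Mon F (d + 1) ∧ starP σ (E.symm (co w)).1 = (E.symm (co w)).1 ∧
      (E.symm (co w)).1.coeff 0 = s := by
    intro w
    obtain ⟨hm, hdeg⟩ := (E.symm (co w)).2
    set g := (E.symm (co w)).1 with hg
    have hg0 : g.coeff 0 = s := by
      exact (hcoeff (co w) 0).trans (if_pos rfl)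
    have hc : ∀ i : ℕ, ∀ hi : i < d + 1, g.coeff i = co w ⟨i, hi⟩ := fun i hi => hcoeff (co w) ⟨i, hi⟩
    refine ⟨⟨hm, hdeg, by rw [hg0]; exact hs⟩, Polynomial.ext fun j => ?_, hg0⟩
    have hinv : (σ s)⁻¹ = s := by rw [hσs]; exact inv_eq_of_mul_eq_one_left hss
    rcases Nat.lt_or_ge (d + 1) j with hj | hj
    · rw [coeff_eq_zero_of_natDegree_lt (by rw [natDegree_starP (by rw [hg0]; exact hs), hdeg]; exact hj),
        coeff_eq_zero_of_natDegree_lt (by rw [hdeg]; exact hj)]
    rw [coeff_starP (by rw [hdeg]; exact hj), hdeg, hg0, hinv]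
    rcases Nat.eq_zero_or_pos j with rfl | hj0
    · rw [Nat.sub_zero, hg0, ← hdeg, hm.coeff_natDegree, map_one, mul_one]
    rcases eq_or_lt_of_le hj with rfl | hj1
    · rw [Nat.sub_self, hg0, hσs, hss, ← hdeg, hm.coeff_natDegree]
    rw [hc j hj1, hc (d + 1 - j) (by omega)]
    simp only [co]
    rw [if_neg (show ¬ j = 0 by omega), if_neg (show ¬ d + 1 - j = 0 by omega)]
    by_cases h1 : j - 1 < d / 2
    · rw [dif_pos h1, dif_neg (show ¬ d + 1 - j - 1 < d / 2 by omega), if_neg (show ¬ 2 * (d + 1 - j) = d + 1 by omega),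
        dif_pos (show d - (d + 1 - j) < d / 2 by omega), map_mul, hσ, hσs, ← mul_assoc, hss, one_mul]
      exact congrArg w.1 (Fin.ext (by simp only; omega))
    · rw [dif_neg h1]
      by_cases h2 : 2 * j = d + 1
      · rw [if_pos h2, dif_neg (show ¬ d + 1 - j - 1 < d / 2 by omega), if_pos (show 2 * (d + 1 - j) = d + 1 by omega)]
        have := w.2.2
        rwa [if_pos (show Odd d from Nat.odd_iff.2 (by omega))] at this
      · rw [if_neg h2, dif_pos (show d - j < d / 2 by omega), dif_pos (show d + 1 - j - 1 < d / 2 by omega)]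
        exact congrArg (fun z => s * σ (w.1 z)) (Fin.ext (by simp only; omega))
  have := Cfsg.Agent.S2478.finite_mon (F := F) (d + 1)
  have hV := Nat.card_le_card_of_injective (fun w => (⟨⟨_, (key w).1⟩, (key w).2.1, Finset.mem_singleton.2 (key w).2.2⟩ :
      {g : Mon F (d + 1) // starP σ g.1 = g.1 ∧ g.1.coeff 0 ∈ ({s} : Finset F)})) (by
    intro w v h
    have e : co w = co v := E.symm.injective (Subtype.ext (congrArg (fun x : {g : Mon F (d + 1) // starP σ g.1 = g.1 ∧ g.1.coeff 0 ∈ ({s} : Finset F)} => x.1.1) h))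
    refine Prod.ext (funext fun i => ?_) (Subtype.ext ?_)
    · have := congrFun e ⟨(i : ℕ) + 1, by omega⟩
      simpa [co] using this
    · by_cases hd : Odd d
      · have := congrFun e ⟨(d + 1) / 2, by omega⟩
        have ho := Nat.odd_iff.1 hd
        simp only [co] at this
        simpa only [if_neg (show ¬ (d + 1) / 2 = 0 by omega), dif_neg (show ¬ (d + 1) / 2 - 1 < d / 2 by omega),
          if_pos (show 2 * ((d + 1) / 2) = d + 1 by omega)] using this
      · have h1 := w.2.2
        have h2 := v.2.2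
        rw [if_neg hd] at h1 h2
        rw [h1, h2])
  refine le_trans ?_ hV
  rw [Nat.card_prod, Nat.card_fun, Nat.card_eq_fintype_card (α := F), hF, Nat.card_eq_fintype_card (α := Fin _),
    Fintype.card_fin, ← pow_mul]
  by_cases hd : Odd d
  · obtain ⟨k, rfl⟩ := hd
    rw [show (2 * k + 1) / 2 = k by omega, pow_succ]
    refine Nat.mul_le_mul_left _ (hMge.trans (le_of_eq (Nat.card_congr (Equiv.subtypeEquivRight fun c => ?_))))
    rw [if_pos ⟨k, rfl⟩]
  · obtain ⟨k, rfl⟩ := Nat.not_odd_iff_even.1 hd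
    have : Nonempty M := ⟨⟨0, by rw [if_neg hd]⟩⟩
    refine le_trans ?_ (Nat.le_mul_of_pos_right _ Nat.card_pos)
    rw [show (k + k) / 2 = k by omega, two_mul]

end Cfsg.Agent.Lib.KnownA.SUSemisimple
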