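import Cfsg.Agent.Lib.OddLocal.UniquenessPassing
import Cfsg.Agent.Lib.Coprime.Action

/-!
A coprime action in which the fixed spaces of two generating sets span pairwise is trivial.
-/

set_option autoImplicit false
set_option linter.unusedSectionVars false

namespace Cfsg.Agent.Lib.KnownA.SplitTransfer

open scoped Pointwise

universe u

variable {A : Type u} [Group A] [Finite A] {V : Type u} [CommGroup V] [Finite V]

/-- Fixed points of an element. -/
def fixOf (φ : A →* MulAut V) (a : A) : Subgroup V where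
  carrier := {v | φ a v = v}
  mul_mem' := fun {x y} hx hy => by
    show φ a (x * y) = x * y
    rw [map_mul, show φ a x = x from hx, show φ a y = y from hy]
  one_mem' := map_one (φ a)
  inv_mem' := fun {x} hx => by
    show φ a x⁻¹ = x⁻¹
    rw [map_inv, show φ a x = x from hx]

theorem fixOf_central (φ : A →* MulAut V) {z : A} (hz : ∀ a, a * z = z * a) :
    ∀ a, ∀ v ∈ fixOf φ z, φ a v ∈ fixOf φ z := by
  intro a v hv
  show φ z (φ a v) = φ a v
  rw [← MulAut.mul_apply, ← map_mul, ← hz, map_mul, MulAut.mul_apply, show φ z v = v from hv]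

theorem action_trivial {p : ℕ} [hp : Fact p.Prime] (hp2 : p ≠ 2) (hA : IsPGroup p A)
    (hV : (Nat.card V).Coprime p) (φ : A →* MulAut V) (hinj : Function.Injective φ)
    (hirr : ∀ W : Subgroup V, (∀ a, ∀ w ∈ W, φ a w ∈ W) → W = ⊥ ∨ W = ⊤)
    (C D : Set A) (hC : Subgroup.closure C = ⊤) (hD : Subgroup.closure D = ⊤)
    (hfac : ∀ c ∈ C, ∀ d ∈ D, ∀ x, ∃ u w, x = u * w ∧ φ c u = u ∧ φ d w = w) : ∀ a : A, a = 1 := by
  classical
  by_contra hne
  push Not at hne
  obtain ⟨a₀, ha₀⟩ := hne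
  have hV1 : ∃ v : V, v ≠ 1 := by
    by_contra! hcon
    exact ha₀ (hinj (MulEquiv.ext fun v => by rw [hcon (φ a₀ v), hcon (φ 1 v)]))
  have hfix0 : ∀ z : A, z ≠ 1 → (∀ a, a * z = z * a) → fixOf φ z = ⊥ := by
    intro z hz1 hzc
    refine (hirr _ (fixOf_central φ hzc)).resolve_right fun h => hz1 (hinj ?_)
    rw [map_one]
    exact MulEquiv.ext fun v => show v ∈ fixOf φ z from h ▸ Subgroup.mem_top v
  have hpick : ∀ (K : Subgroup A) (S : Set A), Subgroup.closure S = ⊤ → K ≠ ⊤ → ∃ s ∈ S, s ∉ K := by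
    intro K S hS hK
    by_contra! hcon
    exact hK (top_le_iff.mp (hS ▸ (Subgroup.closure_le K).mpr hcon))
  have hbt : (⊥ : Subgroup A) ≠ ⊤ := fun h => ha₀ (Subgroup.mem_bot.mp (h ▸ Subgroup.mem_top a₀))
  have hbound : ∀ c ∈ C, ∀ d ∈ D, Nat.card V ≤ Nat.card (fixOf φ c) * Nat.card (fixOf φ d) := by
    intro c hc d hd
    rw [← Nat.card_prod]
    refine Nat.card_le_card_of_surjective (fun x : fixOf φ c × fixOf φ d => (x.1 : V) * x.2) fun x => ?_
    obtain ⟨u, w, h, hu, hw⟩ := hfac c hc d hd x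
    exact ⟨(⟨u, hu⟩, ⟨w, hw⟩), h.symm⟩
  by_cases hcyc : IsCyclic A
  · obtain ⟨c, hc, hc1⟩ := hpick ⊥ C hC hbt
    obtain ⟨d, hd, hd1⟩ := hpick ⊥ D hD hbt
    letI := hcyc.commGroup
    have h := hbound c hc d hd
    rw [hfix0 c (fun h => hc1 (Subgroup.mem_bot.mpr h)) (fun a => mul_comm a c),
      hfix0 d (fun h => hd1 (Subgroup.mem_bot.mpr h)) (fun a => mul_comm a d), Subgroup.card_bot] at h
    obtain ⟨v, hv⟩ := hV1
    exact hv ((Finite.card_le_one_iff_subsingleton.mp h).elim v 1)
  -- a normal elementary subgroup of order `p ^ 2`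
  obtain ⟨E₀, -, hE₀, hE₀c⟩ := OddLocal.exists_elementary_sq_of_not_cyclic hp2 (⊤ : Subgroup A)
    (hA.to_subgroup ⊤) (fun h => hcyc (Subgroup.topEquiv.isCyclic.mp h))
  obtain ⟨E, hEn, hE, hEc⟩ := OddLocal.exists_normal_elementary_sq hp2 hA hE₀
    (by rw [hE₀c]; nlinarith [hp.out.two_le])
  obtain ⟨z, hzE, hz1, hzc⟩ : ∃ z ∈ E, z ≠ 1 ∧ ∀ a, a * z = z * a := by
    haveI := hEn
    letI : MulAction A ↥E := MulAction.compHom ↥E (MulAut.conjNormal : A →* MulAut ↥E)
    obtain ⟨z, hz, hzne⟩ := hA.exists_fixed_point_of_prime_dvd_card_of_fixed_point ↥E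
      (by rw [hEc]; exact dvd_pow_self p two_ne_zero) (a := 1)
      (fun a => show (MulAut.conjNormal a : MulAut ↥E) 1 = 1 from map_one _)
    refine ⟨z.1, z.2, fun h => hzne (Subtype.ext h.symm), fun a => ?_⟩
    have h : a * z.1 * a⁻¹ = z.1 := congrArg Subtype.val (hz a)
    calc a * z.1 = a * z.1 * a⁻¹ * a := by group
      _ = z.1 * a := by rw [h]
  have hEcomm : ∀ {x y}, x ∈ E → y ∈ E → x * y = y * x := fun {x y} hx hy =>
    congrArg Subtype.val (hE.1.is_comm.comm ⟨x, hx⟩ ⟨y, hy⟩)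
  have hzp : z ^ p = 1 := hE.2 z hzE
  let Z := Subgroup.zpowers z
  have hZc : Nat.card Z = p := by rw [Nat.card_zpowers, orderOf_eq_prime hzp hz1]
  have hM : Subgroup.centralizer (E : Set A) ≠ ⊤ := by
    intro htop
    have hEcen : ∀ e ∈ E, ∀ a, a * e = e * a := fun e he a =>
      (Subgroup.mem_centralizer_iff.mp (htop ▸ Subgroup.mem_top a) e he).symm
    -- a central subgroup with trivial fixed points is cyclic
    obtain ⟨e, he, heZ⟩ : ∃ e ∈ E, e ∉ Z := by
      by_contra! hcon
      have := Subgroup.card_le_of_le (show E ≤ Z from hcon)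
      rw [hEc, hZc] at this
      nlinarith [hp.out.two_le]
    obtain ⟨v, hv⟩ := hV1
    let O : A → V → V := fun g w => ∏ l ∈ Finset.range p, φ (g ^ l) w
    have hOfix : ∀ g ∈ E, ∀ w, φ g (O g w) = O g w := by
      intro g hg w
      have h1 := Finset.prod_range_succ' (fun l => φ (g ^ l) w) p
      have h2 := Finset.prod_range_succ (fun l => φ (g ^ l) w) p
      rw [h1, pow_zero, hE.2 g hg] at h2
      have h3 := mul_right_cancel h2
      show φ g (∏ l ∈ Finset.range p, φ (g ^ l) w) = ∏ l ∈ Finset.range p, φ (g ^ l) w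
      rw [map_prod]
      exact (Finset.prod_congr rfl fun l _ => by rw [← MulAut.mul_apply, ← map_mul, ← pow_succ']).trans h3
    have hO1 : ∀ g ∈ E, g ≠ 1 → ∀ w, O g w = 1 := fun g hg hg1 w => by
      have : O g w ∈ fixOf φ g := hOfix g hg w
      rw [hfix0 g hg1 (hEcen g hg)] at this
      exact Subgroup.mem_bot.mp this
    -- the product over the lines through the identity
    have hall : (∏ s ∈ Finset.range p, O (e * z ^ s) v) = 1 :=
      Finset.prod_eq_one fun s _ => hO1 _ (E.mul_mem he (E.pow_mem hzE s))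
        (fun h => heZ (by
          rw [eq_inv_of_mul_eq_one_left h]
          exact Z.inv_mem (Subgroup.pow_mem _ (Subgroup.mem_zpowers z) s))) v
    have hsum : (∏ s ∈ Finset.range p, O (e * z ^ s) v) = v ^ p := by
      show ∏ s ∈ Finset.range p, ∏ l ∈ Finset.range p, φ ((e * z ^ s) ^ l) v = v ^ p
      rw [Finset.prod_comm, Finset.prod_eq_single 0]
      · simp
      · intro l hl hl0
        have h1 : ∀ s, φ ((e * z ^ s) ^ l) v = φ ((z ^ l) ^ s) (φ (e ^ l) v) := fun s => by
          rw [(Commute.pow_right (show Commute e z from hEcomm he hzE) s).mul_pow, ← pow_mul, ← pow_mul,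
            mul_comm l s, (Commute.pow_pow (show Commute e z from hEcomm he hzE) l (s * l)).eq, map_mul,
            MulAut.mul_apply]
        rw [Finset.prod_congr rfl fun s _ => h1 s]
        refine hO1 (z ^ l) (E.pow_mem hzE l) (fun h => ?_) (φ (e ^ l) v)
        have h2 := orderOf_dvd_of_pow_eq_one h
        rw [orderOf_eq_prime hzp hz1] at h2
        have := Nat.le_of_dvd (by omega) h2
        have := Finset.mem_range.mp hl
        omega
      · intro h
        exact absurd (Finset.mem_range.mpr hp.out.pos) h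
    rw [hall] at hsum
    have h3 := orderOf_dvd_of_pow_eq_one hsum.symm
    have h4 : orderOf v ∣ 1 := hV ▸ Nat.dvd_gcd (orderOf_dvd_natCard v) h3
    exact hv (orderOf_eq_one_iff.mp (Nat.dvd_one.mp h4))
  -- an element outside the centre of `A`
  have hroot : ∀ v : V, v ^ p = 1 → v = 1 := fun v h =>
    orderOf_eq_one_iff.mp (Nat.dvd_one.mp (hV ▸ Nat.dvd_gcd (orderOf_dvd_natCard v) (orderOf_dvd_of_pow_eq_one h)))
  obtain ⟨e, he, heZ⟩ : ∃ e ∈ E, e ∉ Z := by
    by_contra! hcon
    have := Subgroup.card_le_of_le (show E ≤ Z from hcon)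
    rw [hEc, hZc] at this
    nlinarith [hp.out.two_le]
  haveI : NeZero p := ⟨hp.out.ne_zero⟩
  have hzmod : ∀ a b : ℕ, (a : ZMod p) = b → z ^ a = z ^ b := fun a b h =>
    pow_eq_pow_iff_modEq.mpr (orderOf_eq_prime hzp hz1 ▸ (ZMod.natCast_eq_natCast_iff a b p).mp h)
  let g : ZMod p → A := fun t => e * z ^ t.val
  have hgE : ∀ t, g t ∈ E := fun t => E.mul_mem he (E.pow_mem hzE _)
  let N : ZMod p → V → V := fun t v => ∏ l ∈ Finset.range p, φ (g t ^ l) v
  have hNmul : ∀ t v w, N t (v * w) = N t v * N t w := fun t v w => by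
    simp [N, map_mul, Finset.prod_mul_distrib]
  have hN1 : ∀ t, N t 1 = 1 := fun t => by simp [N]
  have hNfix : ∀ t v, φ (g t) (N t v) = N t v := by
    intro t v
    have h1 := Finset.prod_range_succ' (fun l => φ (g t ^ l) v) p
    have h2 := Finset.prod_range_succ (fun l => φ (g t ^ l) v) p
    rw [h1, pow_zero, hE.2 _ (hgE t)] at h2
    have h3 := mul_right_cancel h2
    show φ (g t) (∏ l ∈ Finset.range p, φ (g t ^ l) v) = ∏ l ∈ Finset.range p, φ (g t ^ l) v
    rw [map_prod]
    exact (Finset.prod_congr rfl fun l _ => by rw [← MulAut.mul_apply, ← map_mul, ← pow_succ']).trans h3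
  have hNp : ∀ t v, φ (g t) v = v → N t v = v ^ p := by
    intro t v hv
    have : ∀ l : ℕ, φ (g t ^ l) v = v := fun l => by
      induction l with
      | zero => simp
      | succ l ih => rw [pow_succ', map_mul, MulAut.mul_apply, ih, hv]
    show ∏ l ∈ Finset.range p, φ (g t ^ l) v = v ^ p
    rw [Finset.prod_congr rfl fun l _ => this l, Finset.prod_const, Finset.card_range]
  have hNN : ∀ s t, s ≠ t → ∀ v, N t (N s v) = 1 := by
    intro s t hst v
    have h1 : φ (g s) (N t (N s v)) = N t (N s v) := by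
      show φ (g s) (∏ l ∈ Finset.range p, φ (g t ^ l) (N s v)) = ∏ l ∈ Finset.range p, φ (g t ^ l) (N s v)
      rw [map_prod]
      refine Finset.prod_congr rfl fun l _ => ?_
      rw [← MulAut.mul_apply, ← map_mul, hEcomm (hgE s) (E.pow_mem (hgE t) l), map_mul, MulAut.mul_apply, hNfix]
    have h2 := hNfix t (N s v)
    have h3 : N t (N s v) ∈ fixOf φ (g t * (g s)⁻¹) := by
      show φ (g t * (g s)⁻¹) _ = _
      rw [map_mul, MulAut.mul_apply]
      conv_lhs => arg 2; rw [← h1, ← MulAut.mul_apply, ← map_mul, inv_mul_cancel, map_one, MulAut.one_apply]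
      exact h2
    have h4 : g t * (g s)⁻¹ = z ^ (t - s).val := by
      rw [mul_inv_eq_iff_eq_mul]
      show e * z ^ t.val = z ^ (t - s).val * (e * z ^ s.val)
      rw [← mul_assoc, ← hEcomm he (E.pow_mem hzE _), mul_assoc, ← pow_add]
      exact congrArg _ (hzmod _ _ (by simp))
    rw [h4, hfix0] at h3
    · exact Subgroup.mem_bot.mp h3
    · intro h
      have h5 := orderOf_dvd_of_pow_eq_one h
      rw [orderOf_eq_prime hzp hz1] at h5
      rcases Nat.eq_zero_or_pos (t - s).val with h6 | h6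
      · exact hst ((sub_eq_zero.mp ((ZMod.val_eq_zero _).mp h6)).symm)
      · exact absurd (Nat.le_of_dvd h6 h5) (not_le.mpr (ZMod.val_lt _))
    · intro a
      exact (Commute.pow_right (show Commute a z from hzc a) _).eq
  have hNsum : ∀ v, ∏ t : ZMod p, N t v = v ^ p := by
    intro v
    show ∏ t : ZMod p, ∏ l ∈ Finset.range p, φ (g t ^ l) v = v ^ p
    rw [Finset.prod_comm, Finset.prod_eq_single 0]
    · simp
    · intro l hl hl0
      have h1 : ∀ t : ZMod p, φ (g t ^ l) v = φ (z ^ (l * t.val)) (φ (e ^ l) v) := fun t => by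
        show φ ((e * z ^ t.val) ^ l) v = _
        rw [(Commute.pow_right (show Commute e z from hEcomm he hzE) t.val).mul_pow, ← pow_mul,
          mul_comm t.val l, (Commute.pow_pow (show Commute e z from hEcomm he hzE) l (l * t.val)).eq, map_mul,
          MulAut.mul_apply]
      rw [Finset.prod_congr rfl fun t _ => h1 t]
      -- reindex by the unit `l`
      have hl' : (l : ZMod p) ≠ 0 := fun h => by
        rw [ZMod.natCast_eq_zero_iff] at h
        have := Nat.le_of_dvd (Nat.pos_of_ne_zero hl0) h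
        have := Finset.mem_range.mp hl
        omega
      have h2 : ∏ t : ZMod p, φ (z ^ (l * t.val)) (φ (e ^ l) v) = ∏ s : ZMod p, φ (z ^ s.val) (φ (e ^ l) v) :=
        Fintype.prod_equiv (Equiv.mulLeft₀ (l : ZMod p) hl') _ _ fun t => by
          rw [hzmod (l * t.val) ((Equiv.mulLeft₀ (l : ZMod p) hl') t).val (by simp)]
      rw [h2]
      set w := φ (e ^ l) v with hw
      have h3 : φ z (∏ s : ZMod p, φ (z ^ s.val) w) = ∏ s : ZMod p, φ (z ^ s.val) w := by
        rw [map_prod]
        refine Fintype.prod_equiv (Equiv.addLeft 1) _ _ fun s => ?_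
        rw [← MulAut.mul_apply, ← map_mul, ← pow_succ', hzmod (s.val + 1) ((Equiv.addLeft 1) s).val (by simp [add_comm])]
      have h4 : ∏ s : ZMod p, φ (z ^ s.val) w ∈ fixOf φ z := h3
      rw [hfix0 z hz1 hzc] at h4
      exact Subgroup.mem_bot.mp h4
    · intro h
      exact absurd (Finset.mem_range.mpr hp.out.pos) h
  -- elements outside the centralizer of `E` permute the lines cyclically
  have hkey : ∀ x, x ∉ Subgroup.centralizer (E : Set A) → Nat.card (fixOf φ x) ^ p ≤ Nat.card V := by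
    intro x hx
    obtain ⟨j, hj⟩ : ∃ j : ZMod p, x * e * x⁻¹ = e * z ^ j.val := by
      obtain ⟨i, hi, k, hk⟩ : ∃ i : ℕ, i < p ∧ ∃ k : ℕ, x * e * x⁻¹ = e ^ i * z ^ k := by
        let f : Fin p × Fin p → E := fun q => ⟨e ^ (q.1 : ℕ) * z ^ (q.2 : ℕ), E.mul_mem (E.pow_mem he _) (E.pow_mem hzE _)⟩
        have hf : Function.Injective f := by
          rintro ⟨a, b⟩ ⟨a', b'⟩ h
          have h' : e ^ (a : ℕ) * z ^ (b : ℕ) = e ^ (a' : ℕ) * z ^ (b' : ℕ) := congrArg Subtype.val h
          have hm : e ^ (((a : ℕ) : ℤ) - (a' : ℕ)) ∈ Z := by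
            have h'' : (e ^ (a' : ℕ))⁻¹ * e ^ (a : ℕ) = z ^ (b' : ℕ) * (z ^ (b : ℕ))⁻¹ := by
              rw [eq_mul_inv_iff_mul_eq, mul_assoc, h', inv_mul_cancel_left]
            rw [sub_eq_neg_add, zpow_add, zpow_neg, zpow_natCast, zpow_natCast, h'']
            exact Z.mul_mem (Subgroup.pow_mem _ (Subgroup.mem_zpowers z) _) (Z.inv_mem (Subgroup.pow_mem _ (Subgroup.mem_zpowers z) _))
          have haa : a = a' := by
            by_contra hne'
            have hne'' : (((a : ℕ) : ℤ) - (a' : ℕ)) ≠ 0 := sub_ne_zero.mpr (by exact_mod_cast Fin.val_ne_of_ne hne')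
            have hcop : Int.gcd (((a : ℕ) : ℤ) - (a' : ℕ)) p = 1 := by
              rw [Int.gcd_comm, ← Int.isCoprime_iff_gcd_eq_one]
              refine (Nat.prime_iff_prime_int.mp hp.out).coprime_iff_not_dvd.mpr fun hd => hne'' ?_
              exact Int.eq_zero_of_abs_lt_dvd hd (by have := a.isLt; have := a'.isLt; rw [abs_lt]; omega)
            refine heZ ?_
            have hb := Int.gcd_eq_gcd_ab (((a : ℕ) : ℤ) - (a' : ℕ)) p
            rw [hcop, Nat.cast_one] at hb
            rw [← zpow_one e, hb, zpow_add, zpow_mul, zpow_mul, zpow_natCast, hE.2 e he, one_zpow, mul_one]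
            exact Z.zpow_mem hm _
          subst haa
          have h3 := mul_left_cancel h'
          rw [pow_eq_pow_iff_modEq, orderOf_eq_prime hzp hz1] at h3
          exact Prod.ext rfl (Fin.ext (Nat.ModEq.eq_of_lt_of_lt h3 b.isLt b'.isLt))
        have hfb : Function.Bijective f := (Nat.bijective_iff_injective_and_card f).mpr
          ⟨hf, by rw [hEc, Nat.card_prod, Nat.card_fin, pow_two]⟩
        obtain ⟨⟨a, b⟩, hab⟩ := hfb.2 ⟨x * e * x⁻¹, hEn.conj_mem e he x⟩
        exact ⟨a, a.isLt, b, (congrArg Subtype.val hab).symm⟩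
      have hiter : ∀ m : ℕ, ∃ k' : ℕ, x ^ m * e * (x ^ m)⁻¹ = e ^ i ^ m * z ^ k' := by
        intro m
        induction m with
        | zero => exact ⟨0, by simp⟩
        | succ m ih =>
          obtain ⟨k', hk'⟩ := ih
          refine ⟨k * i ^ m + k', ?_⟩
          have hz' : x * z ^ k' * x⁻¹ = z ^ k' := by
            rw [(Commute.pow_right (show Commute x z from hzc x) k').eq, mul_inv_cancel_right]
          calc x ^ (m + 1) * e * (x ^ (m + 1))⁻¹ = x * (x ^ m * e * (x ^ m)⁻¹) * x⁻¹ := by rw [pow_succ']; group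
            _ = (x * e * x⁻¹) ^ i ^ m * (x * z ^ k' * x⁻¹) := by rw [hk', conj_pow]; group
            _ = e ^ i ^ (m + 1) * z ^ (k * i ^ m + k') := by
                rw [hz', hk, (Commute.pow_pow (show Commute e z from hEcomm he hzE) i k).mul_pow, ← pow_mul, ← pow_mul,
                  mul_assoc, ← pow_add, ← pow_succ']
      obtain ⟨m, hm⟩ := hA x
      obtain ⟨k', hk'⟩ := hiter (p ^ m)
      rw [hm, one_mul, inv_one, mul_one] at hk'
      have hi1 : i = 1 := by
        have h1 : e ^ ((i ^ p ^ m : ℕ) : ℤ) * e⁻¹ ∈ Z := by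
          rw [zpow_natCast, show e ^ i ^ p ^ m = e * (z ^ k')⁻¹ from eq_mul_inv_of_mul_eq hk'.symm]
          rw [hEcomm he (E.inv_mem (E.pow_mem hzE k')), mul_inv_cancel_right]
          exact Z.inv_mem (Subgroup.pow_mem _ (Subgroup.mem_zpowers z) _)
        rw [← zpow_sub_one] at h1
        have hdvd : (p : ℤ) ∣ ((i ^ p ^ m : ℕ) : ℤ) - 1 := by
          by_contra hnd
          have hcop := (Nat.prime_iff_prime_int.mp hp.out).coprime_iff_not_dvd.mpr hnd
          obtain ⟨a, b, hab⟩ := hcop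
          refine heZ ?_
          rw [← zpow_one e, ← hab, zpow_add, mul_comm a, zpow_mul, zpow_natCast, hE.2 e he, one_zpow, one_mul,
            mul_comm b, zpow_mul]
          exact Z.zpow_mem h1 _
        have h2 : (((i ^ p ^ m : ℕ) : ℤ) : ZMod p) = ((1 : ℤ) : ZMod p) :=
          ((ZMod.intCast_eq_intCast_iff_dvd_sub 1 _ p).mpr hdvd).symm
        push_cast at h2
        rw [ZMod.pow_card_pow] at h2
        rw [← Nat.cast_one, ZMod.natCast_eq_natCast_iff'] at h2
        rwa [Nat.mod_eq_of_lt hi, Nat.mod_eq_of_lt hp.out.one_lt] at h2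
      subst hi1
      exact ⟨(k : ZMod p), by rw [hk, pow_one, hzmod k (k : ZMod p).val (by simp)]⟩
    have hj0 : j ≠ 0 := by
      rintro rfl
      rw [ZMod.val_zero, pow_zero, mul_one] at hj
      refine hx (Subgroup.mem_centralizer_iff.mpr fun y hy => ?_)
      -- `E` is generated by `e` and `z`
      let K : Subgroup A := E ⊓ Subgroup.centralizer ({x} : Set A)
      have hKe : e ∈ K := ⟨he, Subgroup.mem_centralizer_singleton_iff.mpr (mul_inv_eq_iff_eq_mul.mp hj).symm⟩
      have hKz : z ∈ K := ⟨hzE, Subgroup.mem_centralizer_singleton_iff.mpr (hzc x).symm⟩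
      have hlt : Z < K := lt_of_le_of_ne (Subgroup.zpowers_le.mpr hKz) fun h => heZ (h ▸ hKe)
      have hdvd := Subgroup.card_dvd_of_le (inf_le_left : K ≤ E)
      rw [hEc] at hdvd
      obtain ⟨l, hl, hl'⟩ := (Nat.dvd_prime_pow hp.out).mp hdvd
      have h5 : Nat.card Z < Nat.card K := by
        by_contra h
        exact hlt.ne (Subgroup.eq_of_le_of_card_ge hlt.le (not_lt.mp h))
      rw [hZc, hl'] at h5
      have hl2 : l = 2 := by
        by_contra h
        have := Nat.pow_le_pow_right hp.out.pos (show l ≤ 1 by omega)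
        rw [pow_one] at this
        omega
      have hKE : K = E := Subgroup.eq_of_le_of_card_ge inf_le_left (by rw [hl', hl2, hEc])
      have hyK : y ∈ K := hKE.symm ▸ hy
      exact (Subgroup.mem_centralizer_singleton_iff.mp hyK.2)
    have hconj : ∀ t, x * g t * x⁻¹ = g (t + j) := fun t => by
      show x * (e * z ^ t.val) * x⁻¹ = e * z ^ (t + j).val
      calc x * (e * z ^ t.val) * x⁻¹ = (x * e * x⁻¹) * (x * z ^ t.val * x⁻¹) := by group
        _ = e * z ^ j.val * z ^ t.val := by
            rw [hj, (Commute.pow_right (show Commute x z from hzc x) t.val).eq, mul_inv_cancel_right]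
        _ = _ := by
            rw [mul_assoc, ← pow_add]
            exact congrArg _ (hzmod _ _ (by simp [add_comm]))
    have hNshift : ∀ t v, φ x (N t v) = N (t + j) (φ x v) := fun t v => by
      show φ x (∏ l ∈ Finset.range p, φ (g t ^ l) v) = ∏ l ∈ Finset.range p, φ (g (t + j) ^ l) (φ x v)
      rw [map_prod]
      refine Finset.prod_congr rfl fun l _ => ?_
      rw [← hconj, conj_pow, ← MulAut.mul_apply, ← map_mul, ← MulAut.mul_apply, ← map_mul]
      congr 2
      group
    have hNiter : ∀ (k : ℕ) t v, φ (x ^ k) (N t v) = N (t + k * j) (φ (x ^ k) v) := by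
      intro k
      induction k with
      | zero => intro t v; simp
      | succ k ih =>
        intro t v
        rw [pow_succ', map_mul, MulAut.mul_apply, ih, hNshift, MulAut.mul_apply]
        congr 1
        push_cast
        ring
    have hidx : ∀ t : ZMod p, ((t / j).val : ZMod p) * j = t := fun t => by
      rw [ZMod.natCast_zmod_val, div_mul_cancel₀ t hj0]
    let R : Subgroup V :=
      { carrier := Set.range (N 0)
        mul_mem' := by rintro _ _ ⟨a, rfl⟩ ⟨b, rfl⟩; exact ⟨a * b, hNmul 0 a b⟩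
        one_mem' := ⟨1, hN1 0⟩
        inv_mem' := by
          rintro _ ⟨a, rfl⟩
          exact ⟨a⁻¹, eq_inv_of_mul_eq_one_left (by rw [← hNmul, inv_mul_cancel, hN1])⟩ }
    have hfixR : Nat.card (fixOf φ x) ≤ Nat.card R := by
      refine Nat.card_le_card_of_injective (fun v => (⟨N 0 v.1, v.1, rfl⟩ : R)) fun v w h => ?_
      have h0 : N 0 v.1 = N 0 w.1 := congrArg Subtype.val h
      have hfix : ∀ (k : ℕ) (u : fixOf φ x), φ (x ^ k) u.1 = u.1 := fun k u => by
        induction k with
        | zero => simp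
        | succ k ih => rw [pow_succ', map_mul, MulAut.mul_apply, ih]; exact u.2
      have hall : ∀ t, N t v.1 = N t w.1 := fun t => by
        have h1 := congrArg (φ (x ^ (t / j).val)) h0
        rwa [hNiter, hNiter, hfix, hfix, hidx, zero_add] at h1
      have hvw : v.1 ^ p = w.1 ^ p := by rw [← hNsum, ← hNsum]; exact Finset.prod_congr rfl fun t _ => hall t
      refine Subtype.ext (div_eq_one.mp (hroot _ ?_))
      rw [div_pow, hvw, div_self']
    refine (Nat.pow_le_pow_left hfixR p).trans ?_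
    have hR : Nat.card (ZMod p → R) = Nat.card R ^ p := by rw [Nat.card_fun, Nat.card_zmod]
    rw [← hR]
    refine Nat.card_le_card_of_injective (fun r => ∏ t : ZMod p, φ (x ^ (t / j).val) (r t : V)) fun r r' h => ?_
    funext s
    apply Subtype.ext
    have hcalc : ∀ r : ZMod p → R, N s (∏ t : ZMod p, φ (x ^ (t / j).val) (r t : V)) =
        φ (x ^ (s / j).val) (r s : V) ^ p := by
      intro r
      have hm : ∀ (f : ZMod p → V), N s (∏ t, f t) = ∏ t, N s (f t) := fun f =>
        map_prod ({ toFun := N s, map_one' := hN1 s, map_mul' := hNmul s } : V →* V) f Finset.univ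
      rw [hm, Finset.prod_eq_single s]
      · obtain ⟨a, ha⟩ := (r s).2
        rw [← ha, hNiter, hidx, zero_add]
        exact hNp s _ (hNfix s _)
      · intro t _ hts
        obtain ⟨a, ha⟩ := (r t).2
        rw [← ha, hNiter, hidx, zero_add]
        exact hNN t s hts _
      · simp
    have h1 := congrArg (N s) h
    simp only [hcalc] at h1
    have h2 : φ (x ^ (s / j).val) (r s : V) = φ (x ^ (s / j).val) (r' s : V) :=
      div_eq_one.mp (hroot _ (by rw [div_pow, h1, div_self']))
    exact (φ (x ^ (s / j).val)).injective h2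
  obtain ⟨c, hc, hcM⟩ := hpick _ C hC hM
  obtain ⟨d, hd, hdM⟩ := hpick _ D hD hM
  have h1 := hkey c hcM
  have h2 := hkey d hdM
  have h3 := hbound c hc d hd
  have h4 : Nat.card V ^ p ≤ Nat.card V ^ 2 := by
    calc Nat.card V ^ p ≤ (Nat.card (fixOf φ c) * Nat.card (fixOf φ d)) ^ p := Nat.pow_le_pow_left h3 p
      _ ≤ Nat.card V * Nat.card V := by rw [mul_pow]; exact Nat.mul_le_mul h1 h2
      _ = _ := (pow_two _).symm
  obtain ⟨v, hv⟩ := hV1
  have h5 : 1 < Nat.card V := Finite.one_lt_card_iff_nontrivial.mpr ⟨v, 1, hv⟩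
  have h6 := (Nat.pow_le_pow_iff_right h5).mp h4
  have := hp.out.two_le
  omega

end Cfsg.Agent.Lib.KnownA.SplitTransfer

namespace Cfsg.Agent.Lib.KnownA.SplitTransfer

open scoped Pointwise

universe v

theorem centralizes_invariant {G : Type v} [Group G] [Finite G] {p q : ℕ} [hp : Fact p.Prime] [hq : Fact q.Prime]
    (hp2 : p ≠ 2) {P : Subgroup G} (hP : IsPGroup p P) (C D : Set G) (hC : Subgroup.closure C = P)
    (hD : Subgroup.closure D = P) :
    ∀ Q : Subgroup G, IsPGroup q Q → (Nat.card Q).Coprime p → P ≤ Subgroup.normalizer (Q : Set G) →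
      (∀ x ∈ Q, ∀ c ∈ C, ∀ d ∈ D, IsPGroup p ↥(Subgroup.closure ({x * c * x⁻¹, d} : Set G))) →
      ∀ a ∈ P, ∀ x ∈ Q, a * x = x * a := by
  intro Q
  induction' hn : Nat.card Q using Nat.strongRecOn with n ih generalizing Q
  subst hn
  intro hQ hcop hPQ h a ha x hx
  classical
  by_cases hQ1 : Q = ⊥
  · rw [Subgroup.mem_bot.mp (hQ1 ▸ hx : x ∈ (⊥ : Subgroup G))]; simp
  -- a maximal proper invariant normal subgroup
  let S : Set (Subgroup G) := {W | W < Q ∧ P ≤ Subgroup.normalizer (W : Set G) ∧ Q ≤ Subgroup.normalizer (W : Set G)}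
  obtain ⟨W, ⟨hWQ, hPW, hQW⟩, hmax⟩ : ∃ W ∈ S, ∀ U ∈ S, W ≤ U → U = W := by
    obtain ⟨W, hW⟩ := S.toFinite.exists_maximal ⟨⊥, bot_lt_iff_ne_bot.mpr hQ1, by
      rw [Subgroup.normalizer_eq_top]; exact le_top, by rw [Subgroup.normalizer_eq_top]; exact le_top⟩
    exact ⟨W, hW.1, fun U hU hle => le_antisymm (hW.2 hU hle) hle⟩
  have hW : ∀ b ∈ P, ∀ w ∈ W, b * w = w * b :=
    ih (Nat.card W) (by
      refine lt_of_le_of_ne (Subgroup.card_le_of_le hWQ.le) fun he => hWQ.ne ?_
      exact Subgroup.eq_of_le_of_card_ge hWQ.le he.ge) W rfl (hQ.to_le hWQ.le)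
      (hcop.coprime_dvd_left (Subgroup.card_dvd_of_le hWQ.le)) hPW
      (fun y hy => h y (hWQ.le hy))
  let W' : Subgroup Q := W.subgroupOf Q
  haveI : W'.Normal := ⟨fun w hw g => (Subgroup.mem_normalizer_iff.mp (hQW g.2) w).mp hw⟩
  haveI : Nontrivial (Q ⧸ W') := QuotientGroup.nontrivial_iff.mpr fun e => hWQ.not_ge (Subgroup.subgroupOf_eq_top.mp e)
  have hQV : IsPGroup q (Q ⧸ W') := hQ.to_quotient W'
  haveI := hQV.isNilpotent
  -- the quotient is commutative
  have hnorm : ∀ U : Subgroup Q, U.Normal → P ≤ Subgroup.normalizer (U.map Q.subtype : Set G) → W' ≤ U →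
      U = W' ∨ U = ⊤ := by
    intro U hU hPU hWU
    by_contra! hne
    refine hne.1 ?_
    have hUS : U.map Q.subtype ∈ S := by
      refine ⟨lt_of_le_of_ne (Subgroup.map_subtype_le U) fun e => hne.2 ?_, hPU, ?_⟩
      · refine Subgroup.map_injective Q.subtype_injective ?_
        rw [e, ← MonoidHom.range_eq_map, Subgroup.range_subtype]
      · intro g hg
        rw [Subgroup.mem_normalizer_iff]
        intro y
        constructor
        · rintro ⟨u, hu, rfl⟩
          exact ⟨⟨g, hg⟩ * u * ⟨g, hg⟩⁻¹, hU.conj_mem u hu _, rfl⟩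
        · rintro ⟨u, hu, hu'⟩
          refine ⟨⟨g, hg⟩⁻¹ * u * (⟨g, hg⟩⁻¹)⁻¹, hU.conj_mem u hu _, ?_⟩
          simp only [map_mul, map_inv, Subgroup.coe_subtype] at hu' ⊢
          rw [hu']
          group
    have := hmax _ hUS (by
      intro w hw
      exact ⟨⟨w, hWQ.le hw⟩, hWU (show (⟨w, hWQ.le hw⟩ : Q) ∈ W' from hw), rfl⟩)
    show U = W.subgroupOf Q
    rw [← this, Subgroup.subgroupOf, Subgroup.comap_map_eq_self_of_injective Q.subtype_injective]
  -- the automorphism induced on the quotient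
  let conjQ : P →* MulAut Q :=
    { toFun := fun b =>
        { toFun := fun y => ⟨b * y * (b : G)⁻¹, (Subgroup.mem_normalizer_iff.mp (hPQ b.2) y).mp y.2⟩
          invFun := fun y => ⟨(b : G)⁻¹ * y * b, (Subgroup.mem_normalizer_iff''.mp (hPQ b.2) y).mp y.2⟩
          left_inv := fun y => Subtype.ext (by simp [mul_assoc])
          right_inv := fun y => Subtype.ext (by simp [mul_assoc])
          map_mul' := fun y y' => Subtype.ext (by simp [mul_assoc]) }
      map_one' := by ext y; simp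
      map_mul' := fun b b' => by ext y; simp [mul_assoc] }
  have hinvW : ∀ (b : P), ∀ w ∈ W', conjQ b w ∈ W' := fun b w hw =>
    (Subgroup.mem_normalizer_iff.mp (hPW b.2) w).mp hw
  have hmapU : ∀ (U : Subgroup Q), (∀ b, ∀ u ∈ U, conjQ b u ∈ U) →
      P ≤ Subgroup.normalizer (U.map Q.subtype : Set G) := by
    intro U hU b hb
    rw [Subgroup.mem_normalizer_iff]
    intro y
    constructor
    · rintro ⟨u, hu, rfl⟩
      exact ⟨conjQ ⟨b, hb⟩ u, hU _ u hu, rfl⟩
    · rintro ⟨u, hu, hu'⟩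
      refine ⟨conjQ ⟨b, hb⟩⁻¹ u, hU _ u hu, ?_⟩
      show b⁻¹ * (u : G) * b⁻¹⁻¹ = y
      rw [show (u : G) = b * y * b⁻¹ from hu']
      group
  let mk := QuotientGroup.mk' W'
  have hmk : Function.Surjective mk := QuotientGroup.mk'_surjective W'
  have hcomm : commutator (Q ⧸ W') = ⊥ := by
    have hlt := IsSolvable.commutator_lt_top_of_nontrivial (G := Q ⧸ W')
    have hinv : ∀ b, ∀ u ∈ (commutator (Q ⧸ W')).comap mk, conjQ b u ∈ (commutator (Q ⧸ W')).comap mk := by
      intro b u hu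
      have := Subgroup.mem_map_of_mem (QuotientGroup.map W' W' (conjQ b).toMonoidHom (fun w hw => hinvW b w hw)) (Subgroup.mem_comap.mp hu)
      show (QuotientGroup.map W' W' (conjQ b).toMonoidHom (fun w hw => hinvW b w hw)) (mk u) ∈ commutator (Q ⧸ W')
      refine SetLike.le_def.mp ?_ this
      rw [commutator_def, Subgroup.map_commutator]
      exact Subgroup.commutator_mono le_top le_top
    rcases hnorm ((commutator (Q ⧸ W')).comap mk) inferInstance (hmapU _ hinv)
      (fun w hw => by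
        show mk w ∈ commutator (Q ⧸ W')
        rw [QuotientGroup.mk'_apply, (QuotientGroup.eq_one_iff w).mpr hw]
        exact one_mem _) with e | e
    · rw [← Subgroup.map_comap_eq_self_of_surjective hmk (commutator _), e]
      exact (Subgroup.map_eq_bot_iff _).mpr (QuotientGroup.ker_mk' W').ge
    · exact absurd (Subgroup.comap_injective hmk (by rw [e, Subgroup.comap_top])) hlt.ne
  letI : CommGroup (Q ⧸ W') := { (inferInstance : Group (Q ⧸ W')) with
    mul_comm := fun u w => by
      have := Subgroup.commutator_mem_commutator (Subgroup.mem_top u) (Subgroup.mem_top w)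
      rw [← commutator_def, hcomm, Subgroup.mem_bot] at this
      exact commutatorElement_eq_one_iff_mul_comm.mp this }
  let φ₀ : P →* MulAut (Q ⧸ W') :=
    { toFun := fun b => QuotientGroup.congr W' W' (conjQ b) (le_antisymm
        (Subgroup.map_le_iff_le_comap.mpr fun w hw => hinvW b w hw) (fun w hw =>
          ⟨conjQ b⁻¹ w, hinvW b⁻¹ w hw, by
            show conjQ b (conjQ b⁻¹ w) = w
            rw [← MulAut.mul_apply, ← map_mul, mul_inv_cancel, map_one, MulAut.one_apply]⟩))
      map_one' := by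
        ext u; obtain ⟨y, rfl⟩ := hmk u
        show mk (conjQ 1 y) = mk y
        rw [map_one, MulAut.one_apply]
      map_mul' := fun b b' => by
        ext u; obtain ⟨y, rfl⟩ := hmk u
        show mk (conjQ (b * b') y) = mk (conjQ b (conjQ b' y))
        rw [map_mul, MulAut.mul_apply] }
  have hφ₀ : ∀ b y, φ₀ b (mk y) = mk (conjQ b y) := fun b y => rfl
  have hgen : ∀ T : Set G, Subgroup.closure T = P →
      Subgroup.closure ((φ₀.rangeRestrict) '' {b : P | (b : G) ∈ T}) = ⊤ := by
    intro T hT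
    rw [← MonoidHom.map_closure]
    have hcl : Subgroup.closure {b : P | (b : G) ∈ T} = ⊤ := by
      subst hT
      exact Subgroup.closure_closure_coe_preimage
    rw [hcl, ← MonoidHom.range_eq_map, MonoidHom.range_eq_top.mpr φ₀.rangeRestrict_surjective]
  have htriv := action_trivial (A := φ₀.range) (V := Q ⧸ W') hp2 (hP.of_surjective φ₀.rangeRestrict φ₀.rangeRestrict_surjective)
    (hcop.coprime_dvd_left (Subgroup.card_quotient_dvd_card W')) φ₀.range.subtype φ₀.range.subtype_injective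
    (fun U hU => by
      rcases hnorm (U.comap mk) inferInstance (hmapU _ fun b u hu => hU ⟨φ₀ b, b, rfl⟩ _ hu) (fun w hw => by
        show mk w ∈ U
        rw [QuotientGroup.mk'_apply, (QuotientGroup.eq_one_iff w).mpr hw]
        exact one_mem _) with e | e
      · left
        rw [← Subgroup.map_comap_eq_self_of_surjective hmk U, e]
        exact (Subgroup.map_eq_bot_iff _).mpr (QuotientGroup.ker_mk' W').ge
      · exact Or.inr (Subgroup.comap_injective hmk (by rw [e, Subgroup.comap_top])))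
    _ _ (hgen C hC) (hgen D hD) (by
      rintro _ ⟨c, hc, rfl⟩ _ ⟨d, hd, rfl⟩ X
      obtain ⟨y, rfl⟩ := hmk X
      have hbot : ∀ g, g ∈ Q → g ∈ P → g = 1 := fun g hgQ hgP => by
        obtain ⟨k, hk⟩ := hP ⟨g, hgP⟩
        have h1 : orderOf g ∣ p ^ k := orderOf_dvd_of_pow_eq_one (congrArg Subtype.val hk)
        exact orderOf_eq_one_iff.mp (Nat.dvd_one.mp ((hcop.pow_right k).gcd_eq_one ▸
          Nat.dvd_gcd (Subgroup.orderOf_dvd_natCard Q hgQ) h1))
      -- a Sylow subgroup of `Q ⊔ P` containing both conjugates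
      obtain ⟨w, hw, hcw, hdw⟩ : ∃ w ∈ Q, w⁻¹ * ((y : G) * c * (y : G)⁻¹) * w ∈ P ∧ w⁻¹ * (d : G) * w ∈ P := by
        let L : Subgroup G := Q ⊔ P
        have hmem : ∀ l ∈ L, ∃ w ∈ Q, ∃ b ∈ P, l = w * b := by
          intro l hl
          have h' : l ∈ ((Q : Set G) * (P : Set G)) := by
            rw [← Subgroup.coe_mul_of_right_le_normalizer_left Q P hPQ]; exact hl
          obtain ⟨w, hw, b, hb, e⟩ := Set.mem_mul.mp h'
          exact ⟨w, hw, b, hb, e.symm⟩
        have hcp : (Nat.card Q).Coprime (Nat.card P) := by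
          obtain ⟨k, hk⟩ := IsPGroup.iff_card.mp hP
          rw [hk]; exact hcop.pow_right k
        have hcard : Nat.card L = Nat.card Q * Nat.card P := by
          rw [← Nat.card_prod]
          refine (Nat.card_eq_of_bijective (fun z : Q × P =>
            (⟨z.1 * z.2, L.mul_mem (le_sup_left (a := Q) z.1.2) (le_sup_right (a := Q) z.2.2)⟩ : L)) ⟨?_, ?_⟩).symm
          · rintro ⟨w, b⟩ ⟨w', b'⟩ e
            have e' : (w : G) * b = w' * b' := congrArg Subtype.val e
            have e2 : (w' : G)⁻¹ * w = b' * (b : G)⁻¹ := by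
              rw [eq_mul_inv_iff_mul_eq, mul_assoc, e', inv_mul_cancel_left]
            have h1 := hbot _ (Q.mul_mem (Q.inv_mem w'.2) w.2) (e2 ▸ P.mul_mem b'.2 (P.inv_mem b.2))
            have h2 : w = w' := Subtype.ext (inv_mul_eq_one.mp h1).symm
            subst h2
            exact Prod.ext rfl (Subtype.ext (mul_left_cancel e'))
          · rintro ⟨l, hl⟩
            obtain ⟨w, hw, b, hb, e⟩ := hmem l hl
            exact ⟨(⟨w, hw⟩, ⟨b, hb⟩), Subtype.ext e.symm⟩
        obtain ⟨S₀, hS₀⟩ := (hP.comap_of_injective L.subtype L.subtype_injective).exists_le_sylow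
        have hHL : Subgroup.closure ({(y : G) * c * (y : G)⁻¹, (d : G)} : Set G) ≤ L := by
          rw [Subgroup.closure_le]
          rintro g (rfl | rfl)
          · exact L.mul_mem (L.mul_mem (le_sup_left (a := Q) y.2) (le_sup_right (a := Q) c.2))
              (L.inv_mem (le_sup_left (a := Q) y.2))
          · exact le_sup_right (a := Q) d.2
        obtain ⟨S₁, hS₁⟩ := ((h y y.2 c hc d hd).comap_of_injective L.subtype L.subtype_injective).exists_le_sylow
        have hS₀P : (S₀ : Subgroup L) = P.subgroupOf L := by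
          symm
          refine Subgroup.eq_of_le_of_card_ge hS₀ ?_
          rw [Nat.card_congr (Subgroup.subgroupOfEquivOfLe (le_sup_right (a := Q) (b := P))).toEquiv]
          refine Nat.le_of_dvd Nat.card_pos ?_
          refine Nat.Coprime.dvd_of_dvd_mul_left ?_ ((Subgroup.card_subgroup_dvd_card _).trans hcard.dvd)
          obtain ⟨k, hk⟩ := IsPGroup.iff_card.mp S₀.2
          rw [hk]; exact (hcop.pow_right k).symm
        obtain ⟨g, hg⟩ := MulAction.exists_smul_eq L S₀ S₁
        obtain ⟨w, hw, b, hb, e⟩ := hmem g g.2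
        have hin : ∀ l ∈ Subgroup.closure ({(y : G) * c * (y : G)⁻¹, (d : G)} : Set G), w⁻¹ * l * w ∈ P := by
          intro l hl
          have h1 : (⟨l, hHL hl⟩ : L) ∈ (g • S₀ : Sylow p L) := by rw [hg]; exact hS₁ hl
          change (⟨l, hHL hl⟩ : L) ∈ MulAut.conj g • (S₀ : Subgroup L) at h1
          rw [Subgroup.mem_pointwise_smul_iff_inv_smul_mem, hS₀P] at h1
          have h2 : (g : G)⁻¹ * l * (g : G) ∈ P := by
            have h3 : ((MulAut.conj g)⁻¹ • (⟨l, hHL hl⟩ : L) : L).1 ∈ P := h1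
            simpa [MulAut.conj_inv_apply, MulAut.smul_def] using h3
          rw [e] at h2
          have h4 := P.mul_mem (P.mul_mem hb h2) (P.inv_mem hb)
          convert h4 using 1
          group
        exact ⟨w, hw, hin _ (Subgroup.subset_closure (Set.mem_insert _ _)),
          hin _ (Subgroup.subset_closure (Set.mem_insert_of_mem _ rfl))⟩
      have hnQ : ∀ b ∈ P, ∀ g ∈ Q, b * g * b⁻¹ ∈ Q := fun b hb g hg =>
        (Subgroup.mem_normalizer_iff.mp (hPQ hb) g).mp hg
      refine ⟨mk (⟨w, hw⟩⁻¹ * y), mk ⟨w, hw⟩, by rw [← map_mul, map_mul, map_mul, mul_comm (mk _⁻¹ * mk y), ← mul_assoc, ← map_mul, mul_inv_cancel, map_one, one_mul], ?_, ?_⟩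
      · show φ₀ c (mk _) = _
        rw [hφ₀]
        congr 1
        apply Subtype.ext
        show (c : G) * (w⁻¹ * y) * (c : G)⁻¹ = w⁻¹ * y
        have hu : w⁻¹ * (y : G) ∈ Q := Q.mul_mem (Q.inv_mem hw) y.2
        have he := hbot (w⁻¹ * y * (c : G) * (w⁻¹ * y)⁻¹ * (c : G)⁻¹) (by
            have := Q.mul_mem hu (hnQ c c.2 _ (Q.inv_mem hu))
            simpa [mul_assoc] using this) (by
            have := P.mul_mem hcw (P.inv_mem c.2)
            simpa [mul_assoc] using this)
        calc (c : G) * (w⁻¹ * y) * (c : G)⁻¹ = (w⁻¹ * y * (c : G) * (w⁻¹ * y)⁻¹ * (c : G)⁻¹)⁻¹ * (w⁻¹ * y) := by group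
          _ = w⁻¹ * y := by rw [he, inv_one, one_mul]
      · show φ₀ d (mk _) = _
        rw [hφ₀]
        congr 1
        apply Subtype.ext
        show (d : G) * w * (d : G)⁻¹ = w
        have he := hbot (w⁻¹ * (d : G) * w * (d : G)⁻¹) (by
            have := Q.mul_mem (Q.inv_mem hw) (hnQ d d.2 _ hw)
            simpa [mul_assoc] using this) (P.mul_mem hdw (P.inv_mem d.2))
        calc (d : G) * w * (d : G)⁻¹ = w * (w⁻¹ * (d : G) * w * (d : G)⁻¹) := by group
          _ = w := by rw [he, mul_one])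
  -- the action is trivial modulo `W`, hence trivial
  have hfix : mk (conjQ ⟨a, ha⟩ ⟨x, hx⟩) = mk ⟨x, hx⟩ := by
    have h1 : φ₀ ⟨a, ha⟩ = 1 := congrArg Subtype.val (htriv ⟨φ₀ ⟨a, ha⟩, ⟨a, ha⟩, rfl⟩)
    rw [← hφ₀, h1, MulAut.one_apply]
  obtain ⟨w', hw', hxw⟩ : ∃ w' ∈ W, a * x * a⁻¹ = x * w' := by
    refine ⟨x⁻¹ * (a * x * a⁻¹), ?_, by group⟩
    exact (QuotientGroup.eq (s := W') (a := ⟨x, hx⟩) (b := conjQ ⟨a, ha⟩ ⟨x, hx⟩)).mp hfix.symm
  have hit : ∀ k : ℕ, a ^ k * x * (a ^ k)⁻¹ = x * w' ^ k := by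
    intro k
    induction k with
    | zero => simp
    | succ k ih' =>
      have hc : a * w' ^ k * a⁻¹ = w' ^ k := by
        rw [show a * w' ^ k = w' ^ k * a from hW a ha _ (W.pow_mem hw' k), mul_inv_cancel_right]
      calc a ^ (k + 1) * x * (a ^ (k + 1))⁻¹ = a * (a ^ k * x * (a ^ k)⁻¹) * a⁻¹ := by rw [pow_succ']; group
        _ = (a * x * a⁻¹) * (a * w' ^ k * a⁻¹) := by rw [ih']; group
        _ = x * w' ^ (k + 1) := by rw [hxw, hc, mul_assoc, pow_succ']
  obtain ⟨m, hm⟩ := hP ⟨a, ha⟩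
  have hm' : a ^ p ^ m = 1 := congrArg Subtype.val hm
  have h1 := hit (p ^ m)
  rw [hm', one_mul, inv_one, mul_one, left_eq_mul] at h1
  have h2 : w' = 1 := orderOf_eq_one_iff.mp (Nat.dvd_one.mp ((hcop.pow_right m).gcd_eq_one ▸
    Nat.dvd_gcd (Subgroup.orderOf_dvd_natCard Q (hWQ.le hw')) (orderOf_dvd_of_pow_eq_one h1)))
  rw [h2, mul_one] at hxw
  exact mul_inv_eq_iff_eq_mul.mp hxw

end Cfsg.Agent.Lib.KnownA.SplitTransfer
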