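import Mathlib
import Cfsg.Agent.Lib.KnownA.SuzukiAut
import Cfsg.Prelude.Def_KGroupFacts

/-! Outer automorphisms and subfield subgroups of the Suzuki group. -/

set_option autoImplicit false
set_option maxHeartbeats 400000

namespace Cfsg.Agent.Lib.KnownA.Suz

open Matrix Cfsg.Lie

set_option linter.unusedSectionVars false

noncomputable section

variable {F : Type*} [Field F] [Fintype F] [CharP F 2] {m : ℕ} (hθ : ∀ x : F, szTh m (szTh m x) = x * x)

theorem ringAut_card (hF : Fintype.card F = 2 ^ (2 * m + 1)) : Nat.card (F ≃+* F) = 2 * m + 1 := by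
  haveI : Fact (Nat.Prime 2) := ⟨Nat.prime_two⟩
  letI := ZMod.algebra F 2
  let e : (F ≃ₐ[ZMod 2] F) ≃ (F ≃+* F) :=
    { toFun := fun σ => σ.toRingEquiv
      invFun := fun σ => AlgEquiv.ofRingEquiv (f := σ) fun x => by
        rw [show σ (algebraMap (ZMod 2) F x) = σ.toRingHom.comp (algebraMap (ZMod 2) F) x from rfl,
          RingHom.ext_zmod (σ.toRingHom.comp (algebraMap (ZMod 2) F)) (algebraMap (ZMod 2) F)]
      left_inv := fun σ => AlgEquiv.ext fun _ => rfl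
      right_inv := fun σ => RingEquiv.ext fun _ => rfl }
  rw [← Nat.card_congr e, IsGalois.card_aut_eq_finrank]
  have h := Module.natCard_eq_pow_finrank (K := ZMod 2) (V := F)
  rw [Nat.card_eq_fintype_card, Nat.card_zmod, hF] at h
  exact (Nat.pow_right_injective le_rfl h).symm

theorem exists_embedding {K : Type*} [Field K] [Fintype K] [CharP K 2] {k : ℕ}
    (hK : Fintype.card K = 2 ^ (2 * k + 1)) (hF : Fintype.card F = 2 ^ (2 * m + 1)) (hdiv : 2 * k + 1 ∣ 2 * m + 1) :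
    Nonempty (K →+* F) := by
  haveI : Fact (Nat.Prime 2) := ⟨Nat.prime_two⟩
  letI := ZMod.algebra F 2
  letI := ZMod.algebra K 2
  have key : ∀ (L : Type _) [Field L] [Fintype L] [Algebra (ZMod 2) L] (n : ℕ), Fintype.card L = 2 ^ n →
      Module.finrank (ZMod 2) L = n := by
    intro L _ _ _ n hn
    have h := Module.natCard_eq_pow_finrank (K := ZMod 2) (V := L)
    rw [Nat.card_eq_fintype_card, Nat.card_zmod, hn] at h
    exact (Nat.pow_right_injective le_rfl h).symm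
  have hfk : Module.finrank (ZMod 2) K = 2 * k + 1 := key K _ hK
  have hfF : Module.finrank (ZMod 2) F = 2 * m + 1 := by
    have h := Module.natCard_eq_pow_finrank (K := ZMod 2) (V := F)
    rw [Nat.card_eq_fintype_card, Nat.card_zmod, hF] at h
    exact (Nat.pow_right_injective le_rfl h).symm
  obtain ⟨φ⟩ := FiniteField.nonempty_algHom_of_finrank_dvd (F := ZMod 2) (K := K) (L := F) (by rw [hfk, hfF]; exact hdiv)
  exact ⟨φ.toRingHom⟩

theorem autComp (σ : F ≃+* F) (x : F) : (σ : F →+* F) (szTh m x) = szTh m ((σ : F →+* F) x) := by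
  rw [szTh_apply, szTh_apply, map_pow]

include hθ

/-- Field automorphisms of the Suzuki group. -/
def autSz : (F ≃+* F) →* MulAut ↥(G F m) where
  toFun σ := MulEquiv.ofBijective (mapSz hθ hθ (σ : F →+* F) (autComp σ))
    (Finite.injective_iff_bijective.mp (mapSz_injective hθ hθ _ _))
  map_one' := by
    ext g : 1
    exact Subtype.ext (Units.ext (Matrix.ext fun i j => rfl))
  map_mul' σ τ := by
    ext g : 1
    exact Subtype.ext (Units.ext (Matrix.ext fun i j => rfl))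

theorem autSz_apply (σ : F ≃+* F) (g : ↥(G F m)) :
    autSz hθ σ g = mapSz hθ hθ (σ : F →+* F) (autComp σ) g := rfl

theorem autSz_inn {σ : F ≃+* F} (h : autSz hθ σ ∈ Cfsg.Inn ↥(G F m)) : σ = 1 := by
  obtain ⟨g, hg⟩ := h
  have e : ∀ z, g * z * g⁻¹ = mapSz hθ hθ (σ : F →+* F) (autComp σ) z := fun z =>
    (MulAut.conj_apply g z).symm.trans (DFunLike.congr_fun hg z)
  have hgB : g ∈ B hθ := by
    refine mem_B_of_conj hθ (v := u hθ 0 1) (u_mem hθ 0 1) ?_ ?_
    · exact fun e => one_ne_zero (u_injective hθ (e.trans (u_zero hθ).symm)).2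
    · rw [e, mapSz_u]; exact u_mem hθ _ _
  obtain ⟨a, b, c, rfl⟩ := stab_none hθ hgB
  refine RingEquiv.ext fun x => ?_
  rcases eq_or_ne x 0 with rfl | hx
  · simp
  have e' := e (tor hθ (Units.mk0 x hx))
  rw [mapSz_tor] at e'
  set l := Units.mk0 x hx
  set l' := Units.map (σ : F →+* F).toMonoidHom l with hl'
  have e2 : u hθ a b * tor hθ (c * l * c⁻¹) * (u hθ a b)⁻¹ = tor hθ l' := by
    rw [← e', ← tor_mul hθ, ← tor_mul hθ, ← tor_inv]; group
  rw [mul_inv_eq_iff_eq_mul, tor_u] at e2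
  have h3 := (bor_injective hθ e2).2.2
  rw [mul_comm c, mul_inv_cancel_right] at h3
  have h4 := congrArg Units.val h3
  rw [hl'] at h4
  exact (RingEquiv.ext_iff.mp (rfl : σ = σ) x).trans (by simpa [l] using h4.symm)

theorem out_card (hm : 1 ≤ m) (hF : Fintype.card F = 2 ^ (2 * m + 1)) :
    Nat.card (Cfsg.Out ↥(G F m)) = 2 * m + 1 := by
  rw [← ringAut_card hF]
  refine (Nat.card_congr (Equiv.ofBijective
    ((QuotientGroup.mk' (Cfsg.Inn ↥(G F m))).comp (autSz hθ)) ⟨?_, ?_⟩)).symm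
  · rw [injective_iff_map_eq_one]
    intro σ h
    exact autSz_inn hθ ((QuotientGroup.eq_one_iff _).mp h)
  · intro q
    obtain ⟨φ, rfl⟩ := QuotientGroup.mk'_surjective _ q
    obtain ⟨ι, hc, x, hx⟩ := hom_classify hθ hθ hm hF hF φ.toMonoidHom φ.injective
    let σ : F ≃+* F := RingEquiv.ofBijective ι (Finite.injective_iff_bijective.mp ι.injective)
    refine ⟨σ, ?_⟩
    have hφ : φ = MulAut.conj x * autSz hθ σ := by
      ext g : 1
      exact hx g
    rw [hφ, map_mul]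
    show QuotientGroup.mk' _ (autSz hθ σ) = _
    have h1 : QuotientGroup.mk' (Cfsg.Inn ↥(G F m)) (MulAut.conj x) = 1 :=
      (QuotientGroup.eq_one_iff _).mpr (MonoidHom.mem_range.mpr ⟨x, rfl⟩)
    rw [h1, one_mul]

theorem subfield_subgroups {K : Type*} [Field K] [Fintype K] [CharP K 2] {k : ℕ}
    (hθK : ∀ x : K, szTh k (szTh k x) = x * x) (hk : 1 ≤ k) (hK : Fintype.card K = 2 ^ (2 * k + 1))
    (hF : Fintype.card F = 2 ^ (2 * m + 1)) (hdiv : 2 * k + 1 ∣ 2 * m + 1) :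
    (∃ S : Subgroup ↥(G F m), Nonempty (↥S ≃* ↥(G K k))) ∧
    ∀ ψ₁ ψ₂ : ↥(G K k) →* ↥(G F m), Function.Injective ψ₁ → Function.Injective ψ₂ →
      ∃ g : ↥(G F m), ψ₂.range = ψ₁.range.map (MulAut.conj g).toMonoidHom := by
  refine ⟨?_, ?_⟩
  · obtain ⟨ι⟩ := exists_embedding (F := F) hK hF hdiv
    exact ⟨_, ⟨(MonoidHom.ofInjective (mapSz_injective hθ hθK ι (hcomp_of_dvd hK hdiv ι))).symm⟩⟩
  · intro ψ₁ ψ₂ h₁ h₂
    obtain ⟨ι₁, c₁, x₁, e₁⟩ := hom_classify hθ hθK hk hK hF ψ₁ h₁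
    obtain ⟨ι₂, c₂, x₂, e₂⟩ := hom_classify hθ hθK hk hK hF ψ₂ h₂
    have hr : (mapSz hθ hθK ι₂ c₂).range = (mapSz hθ hθK ι₁ c₁).range :=
      le_antisymm (range_le_range hθ hθK ι₁ ι₂ c₁ c₂ (card_range_eq hK ι₁ ι₂))
        (range_le_range hθ hθK ι₂ ι₁ c₂ c₁ (card_range_eq hK ι₂ ι₁))
    refine ⟨x₂ * x₁⁻¹, ?_⟩
    rw [show ψ₁ = (MulAut.conj x₁).toMonoidHom.comp (mapSz hθ hθK ι₁ c₁) from MonoidHom.ext e₁,
      show ψ₂ = (MulAut.conj x₂).toMonoidHom.comp (mapSz hθ hθK ι₂ c₂) from MonoidHom.ext e₂,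
      MonoidHom.range_comp, MonoidHom.range_comp, hr, Subgroup.map_map]
    refine congrArg (fun f => Subgroup.map f _) (MonoidHom.ext fun z => ?_)
    show x₂ * z * x₂⁻¹ = x₂ * x₁⁻¹ * (x₁ * z * x₁⁻¹) * (x₂ * x₁⁻¹)⁻¹
    group

end

end Cfsg.Agent.Lib.KnownA.Suz
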