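import Mathlib
import Cfsg.Agent.Lib.KnownA.SuzukiCentralizer

/-! The non-split tori of the Suzuki group, found by counting. -/

set_option autoImplicit false
set_option maxHeartbeats 800000

namespace Cfsg.Agent.Lib.KnownA.Suz

open Matrix Cfsg.Lie

set_option linter.unusedSectionVars false

noncomputable section

variable {F : Type*} [Field F] [Fintype F] [CharP F 2] {m : ℕ} (hθ : ∀ x : F, szTh m (szTh m x) = x * x)

include hθ

/-- The maximal abelian subgroups containing a fixed-point-free element. -/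
def IsTorus (A : Subgroup ↥(G F m)) : Prop :=
  ∃ g, (∀ o, act hθ g o ≠ o) ∧ Subgroup.centralizer {g} = A

theorem torus_mem_fpf {A : Subgroup ↥(G F m)} (hA : IsTorus hθ A) {y : ↥(G F m)} (hy : y ∈ A) (hy1 : y ≠ 1) :
    ∀ o, act hθ y o ≠ o := by
  obtain ⟨g, hg, rfl⟩ := hA
  exact fpf_of_commute hθ hg hy1 (Subgroup.mem_centralizer_singleton_iff.mp hy).symm

theorem torus_centralizer (hF : Fintype.card F = 2 ^ (2 * m + 1)) {A : Subgroup ↥(G F m)} (hA : IsTorus hθ A)
    {y : ↥(G F m)} (hy : y ∈ A) (hy1 : y ≠ 1) : Subgroup.centralizer {y} = A := by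
  obtain ⟨g, hg, rfl⟩ := hA
  exact centralizer_eq_of_mem hθ hF hg hy hy1

theorem torus_cyclic (hF : Fintype.card F = 2 ^ (2 * m + 1)) {A : Subgroup ↥(G F m)} (hA : IsTorus hθ A) :
    IsCyclic ↥A := by
  obtain ⟨g, hg, rfl⟩ := hA
  exact cyclic_centralizer_fpf hθ hF hg

theorem torus_one_lt {A : Subgroup ↥(G F m)} (hA : IsTorus hθ A) : 1 < Nat.card A := by
  obtain ⟨g, hg, rfl⟩ := hA
  rw [Finite.one_lt_card_iff_nontrivial]
  refine ⟨⟨g, Subgroup.mem_centralizer_singleton_iff.mpr rfl⟩, 1, fun e => hg none ?_⟩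
  rw [show g = 1 from congrArg Subtype.val e, act_one]

theorem torus_conj {A : Subgroup ↥(G F m)} (hA : IsTorus hθ A) (c : ↥(G F m)) :
    IsTorus hθ (A.map (MulAut.conj c).toMonoidHom) := by
  obtain ⟨g, hg, rfl⟩ := hA
  refine ⟨c * g * c⁻¹, fun o ho => hg (act hθ c⁻¹ o) ((fix_iff_conj hθ (c := c)).mp ?_), ?_⟩
  · rw [show act hθ c (act hθ c⁻¹ o) = o by rw [← act_mul, mul_inv_cancel, act_one], ho]
  · ext x
    rw [Subgroup.mem_map_equiv, Subgroup.mem_centralizer_singleton_iff, Subgroup.mem_centralizer_singleton_iff,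
      MulAut.conj_symm_apply]
    constructor
    · exact fun h => centralizer_conj hθ h
    · intro h
      calc x * (c * g * c⁻¹) = c * (c⁻¹ * x * c * g) * c⁻¹ := by group
        _ = c * (g * (c⁻¹ * x * c)) * c⁻¹ := by rw [h]
        _ = c * g * c⁻¹ * x := by group

theorem torus_prime (hF : Fintype.card F = 2 ^ (2 * m + 1)) {A : Subgroup ↥(G F m)} (hA : IsTorus hθ A) {p : ℕ}
    (hp : p.Prime) (hd : p ∣ Nat.card A) :
    ∃ x ∈ A, orderOf x = p ∧ x ≠ 1 ∧ p ∣ Fintype.card F * Fintype.card F + 1 ∧ p ≠ 2 := by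
  haveI : Fact p.Prime := ⟨hp⟩
  obtain ⟨⟨x, hx⟩, hox⟩ := exists_prime_orderOf_dvd_card' p hd
  rw [Subgroup.orderOf_mk] at hox
  have hx1 : x ≠ 1 := fun e => hp.ne_one (hox ▸ e ▸ orderOf_one)
  exact ⟨x, hx, hox, hx1, prime_fpf hθ hF hp hox (torus_mem_fpf hθ hA hx hx1)⟩

theorem torus_dvd (hF : Fintype.card F = 2 ^ (2 * m + 1)) {A : Subgroup ↥(G F m)} (hA : IsTorus hθ A) :
    Nat.card A ∣ Fintype.card F * Fintype.card F + 1 := by
  have hd : Nat.card A ∣ Nat.card ↥(G F m) := Subgroup.card_subgroup_dvd_card A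
  rw [card_sz hθ] at hd
  refine Nat.Coprime.dvd_of_dvd_mul_right ?_ hd
  refine Nat.coprime_of_dvd fun p hp h1 h2 => ?_
  obtain ⟨-, -, -, -, hpq, hp2⟩ := torus_prime hθ hF hA hp h1
  rcases card_dvd_facts hθ hF hp (h1.trans (Subgroup.card_subgroup_dvd_card A)) with h | ⟨-, h, -⟩ | ⟨-, h, -⟩
  · exact hp2 h
  · exact h hpq
  · rcases hp.dvd_mul.mp h2 with h3 | h3
    · have h4 : p ∣ Fintype.card F := by rcases hp.dvd_mul.mp h3 with h5 | h5 <;> exact h5
      rw [hF] at h4
      exact hp2 ((Nat.prime_dvd_prime_iff_eq hp Nat.prime_two).mp (hp.dvd_of_dvd_pow h4))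
    · exact h h3

theorem not_three_dvd_card (hF : Fintype.card F = 2 ^ (2 * m + 1)) : ¬ 3 ∣ Nat.card ↥(G F m) := by
  rw [card_sz hθ]
  have h3 : (2 : ℕ) ^ (2 * m + 1) % 3 = 2 := by
    rw [pow_succ, pow_mul, Nat.mul_mod, Nat.pow_mod]
    norm_num
  rw [Nat.dvd_iff_mod_eq_zero]
  have h1 : 1 ≤ Fintype.card F := Fintype.card_pos
  have h4 : (Fintype.card F - 1) % 3 = 1 := by omega
  have h5 : Fintype.card F % 3 = 2 := by omega
  simp [Nat.mul_mod, Nat.add_mod, h4, h5]

theorem torus_five_le (hF : Fintype.card F = 2 ^ (2 * m + 1)) {A : Subgroup ↥(G F m)} (hA : IsTorus hθ A) :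
    5 ≤ Nat.card A := by
  have h1 := torus_one_lt hθ hA
  obtain ⟨p, hp, hd⟩ := Nat.exists_prime_and_dvd h1.ne'
  obtain ⟨-, -, -, -, -, hp2⟩ := torus_prime hθ hF hA hp hd
  have hp3 : p ≠ 3 := by rintro rfl; exact not_three_dvd_card hθ hF (hd.trans (Subgroup.card_subgroup_dvd_card A))
  have := hp.two_le
  have := Nat.le_of_dvd (by omega) hd
  have hp4 : p ≠ 4 := by rintro rfl; norm_num at hp
  omega

theorem torus_normalizer (hF : Fintype.card F = 2 ^ (2 * m + 1)) {A : Subgroup ↥(G F m)} (hA : IsTorus hθ A) :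
    ∃ n, (n = 1 ∨ n = 2 ∨ n = 4) ∧ Nat.card (Subgroup.normalizer (A : Set ↥(G F m))) = n * Nat.card A := by
  obtain ⟨p, hp, hd⟩ := Nat.exists_prime_and_dvd (torus_one_lt hθ hA).ne'
  obtain ⟨x, hx, hox, hx1, hpq, hp2⟩ := torus_prime hθ hF hA hp hd
  obtain ⟨hp0, hord⟩ := ord_hyp hθ hF hp hpq hp2
  set N := Subgroup.normalizer (A : Set ↥(G F m)) with hN
  haveI := torus_cyclic hθ hF hA
  let ι : Type _ := {y : ↥(G F m) // ∃ g ∈ N, g * x * g⁻¹ = y}
  have hι : Nat.card ι ≤ 4 := by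
    refine GLFourIrred.conj_count hp hp0 hord (x := x.1) ?_ ?_ (fun i : ι => i.1.1) ?_ ?_ ?_
    · rw [← SubgroupClass.coe_pow, ← hox, pow_orderOf_eq_one]; rfl
    · exact fun e => hx1 (Subtype.ext e)
    · exact fun i j h => Subtype.ext (Subtype.ext h)
    · rintro ⟨y, g, hg, rfl⟩
      have hy : g * x * g⁻¹ ∈ A := ((Subgroup.mem_normalizer_iff.mp hg) x).mp hx
      rw [← torus_centralizer hθ hF hA hx hx1, Subgroup.mem_centralizer_singleton_iff] at hy
      exact congrArg Subtype.val hy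
    · rintro ⟨y, g, hg, rfl⟩
      exact ⟨g.1, rfl⟩
  have hle : Nat.card N ≤ 4 * Nat.card A := by
    classical
    choose r hr hr' using fun i : ι => i.2
    have hmem : ∀ g : ↥N, (r ⟨g * x * g⁻¹, g, g.2, rfl⟩)⁻¹ * g.1 ∈ A := fun g => by
      rw [← torus_centralizer hθ hF hA hx hx1, Subgroup.mem_centralizer_singleton_iff]
      have e : r ⟨g * x * g⁻¹, g, g.2, rfl⟩ * x * (r ⟨g * x * g⁻¹, g, g.2, rfl⟩)⁻¹ = g.1 * x * g.1⁻¹ :=
        hr' ⟨g * x * g⁻¹, g, g.2, rfl⟩
      set c := r ⟨g * x * g⁻¹, g, g.2, rfl⟩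
      calc c⁻¹ * g.1 * x = c⁻¹ * (g.1 * x * g.1⁻¹) * g.1 := by group
        _ = c⁻¹ * (c * x * c⁻¹) * g.1 := by rw [e]
        _ = x * (c⁻¹ * g.1) := by group
    let f : ↥N → ι × ↥A := fun g => (⟨g * x * g⁻¹, g, g.2, rfl⟩, ⟨_, hmem g⟩)
    have hf : Function.Injective f := by
      intro g h e
      obtain ⟨e1, e2⟩ := Prod.mk.inj e
      have e2' := congrArg Subtype.val e2
      simp only at e2'
      rw [e1, mul_right_inj] at e2'
      exact Subtype.ext e2'
    calc Nat.card N ≤ Nat.card (ι × ↥A) := Nat.card_le_card_of_injective f hf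
      _ ≤ 4 * Nat.card A := by rw [Nat.card_prod]; exact Nat.mul_le_mul_right _ hι
  obtain ⟨n, hn⟩ : Nat.card A ∣ Nat.card N := Subgroup.card_dvd_of_le Subgroup.le_normalizer
  rw [mul_comm] at hn
  refine ⟨n, ?_, hn⟩
  have hn4 : n ≤ 4 := by
    rw [hn] at hle
    exact Nat.le_of_mul_le_mul_right hle Nat.card_pos
  have hn0 : n ≠ 0 := fun h => by rw [h, zero_mul] at hn; exact Nat.card_pos.ne' hn
  have hn3 : n ≠ 3 := by
    rintro rfl
    exact not_three_dvd_card hθ hF ((Dvd.intro _ hn.symm).trans (Subgroup.card_subgroup_dvd_card N))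
  omega

theorem orbit_card (A : Subgroup ↥(G F m)) :
    Set.ncard (Set.range fun c : ↥(G F m) => A.map (MulAut.conj c).toMonoidHom) *
      Nat.card (Subgroup.normalizer (A : Set ↥(G F m))) = Nat.card ↥(G F m) := by
  classical
  set N := Subgroup.normalizer (A : Set ↥(G F m))
  have key : ∀ c d : ↥(G F m), A.map (MulAut.conj c).toMonoidHom = A.map (MulAut.conj d).toMonoidHom ↔ c⁻¹ * d ∈ N := by
    intro c d
    rw [Subgroup.mem_normalizer_iff]
    constructor
    · intro h x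
      have h' := SetLike.ext_iff.mp h (d * x * d⁻¹)
      rw [Subgroup.mem_map_equiv, Subgroup.mem_map_equiv, MulAut.conj_symm_apply, MulAut.conj_symm_apply] at h'
      rw [show d⁻¹ * (d * x * d⁻¹) * d = x by group] at h'
      rw [← h']
      rw [show c⁻¹ * d * x * (c⁻¹ * d)⁻¹ = c⁻¹ * (d * x * d⁻¹) * c by group]
    · intro h
      ext y
      rw [Subgroup.mem_map_equiv, Subgroup.mem_map_equiv, MulAut.conj_symm_apply, MulAut.conj_symm_apply,
        h (d⁻¹ * y * d), show c⁻¹ * d * (d⁻¹ * y * d) * (c⁻¹ * d)⁻¹ = c⁻¹ * y * c by group]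
  let e : ↥(G F m) ⧸ N ≃ Set.range fun c : ↥(G F m) => A.map (MulAut.conj c).toMonoidHom :=
    Equiv.ofBijective (fun q => Quotient.liftOn' q (fun c => ⟨_, c, rfl⟩)
      (fun c d h => Subtype.ext ((key c d).mpr (QuotientGroup.leftRel_apply.mp h)))) ⟨by
        intro q q' h
        induction q using QuotientGroup.induction_on with | _ c =>
        induction q' using QuotientGroup.induction_on with | _ d =>
        exact QuotientGroup.eq.mpr ((key c d).mp (congrArg Subtype.val h)), by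
        rintro ⟨_, c, rfl⟩; exact ⟨(c : ↥(G F m) ⧸ N), rfl⟩⟩
  rw [← Nat.card_coe_set_eq, ← Nat.card_congr e, Subgroup.card_eq_card_quotient_mul_card_subgroup N]

theorem card_stab (o : Pts F) : Nat.card {g : ↥(G F m) // act hθ g o = o} = Nat.card (B hθ) := by
  obtain ⟨o', ho'⟩ : ∃ o' : Pts F, o ≠ o' := exists_ne o |>.imp fun _ h => h.symm
  obtain ⟨c, hc, -⟩ := two_transitive hθ ho'
  refine (Nat.card_congr (Equiv.subtypeEquiv (MulAut.conj c).toEquiv fun g => ?_)).symm
  show act hθ g none = none ↔ act hθ (c * g * c⁻¹) o = o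
  rw [← hc, fix_iff_conj]

theorem card_stab_two {o₁ o₂ : Pts F} (h : o₁ ≠ o₂) :
    Nat.card {g : ↥(G F m) // act hθ g o₁ = o₁ ∧ act hθ g o₂ = o₂} = Fintype.card F - 1 := by
  obtain ⟨c, hc1, hc2⟩ := two_transitive hθ h
  rw [← card_T hθ]
  refine (Nat.card_congr (Equiv.subtypeEquiv (MulAut.conj c).toEquiv fun g => ?_)).symm
  show g ∈ T hθ ↔ act hθ (c * g * c⁻¹) o₁ = o₁ ∧ act hθ (c * g * c⁻¹) o₂ = o₂
  rw [← hc1, ← hc2, fix_iff_conj, fix_iff_conj]
  constructor
  · rintro ⟨l, rfl⟩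
    exact ⟨act_tor_none hθ l, by show act hθ (tor hθ l) _ = _; rw [act_tor_some]; simp⟩
  · rintro ⟨h1, h2⟩
    obtain ⟨l, rfl⟩ := stab_two hθ h1 h2
    exact ⟨l, rfl⟩

theorem fpf_count [DecidablePred fun g : ↥(G F m) => ∀ o, act hθ g o ≠ o] [Fintype ↥(G F m)] :
    2 * (Finset.univ.filter fun g : ↥(G F m) => ∀ o, act hθ g o ≠ o).card =
      Fintype.card F * Fintype.card F * Fintype.card F * (Fintype.card F - 1) * (Fintype.card F - 1) := by
  classical
  set q := Fintype.card F with hq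
  set E := (Finset.univ : Finset ↥(G F m)).erase 1 with hE
  let Fx : ↥(G F m) → Finset (Pts F) := fun g => Finset.univ.filter fun o => act hθ g o = o
  have hPts : Fintype.card (Pts F) = q * q + 1 := by rw [Fintype.card_option, Fintype.card_prod]
  have hle2 : ∀ g ∈ E, (Fx g).card ≤ 2 := by
    intro g hg
    by_contra hcon
    obtain ⟨a, b, c, ha, hb, hc, hab, hac, hbc⟩ := Finset.two_lt_card_iff.mp (not_le.mp hcon)
    exact (Finset.mem_erase.mp hg).1 (three_fixed hθ hab hbc hac (Finset.mem_filter.mp ha).2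
      (Finset.mem_filter.mp hb).2 (Finset.mem_filter.mp hc).2)
  have hs1 : ∑ g ∈ E, (Fx g).card = (q * q + 1) * (q * q * (q - 1) - 1) := by
    calc ∑ g ∈ E, (Fx g).card = ∑ g ∈ E, ∑ o : Pts F, (if act hθ g o = o then 1 else 0) := by
          simp only [Fx, Finset.card_filter]
      _ = ∑ o : Pts F, (E.filter fun g => act hθ g o = o).card := by
          rw [Finset.sum_comm]; simp only [Finset.card_filter]
      _ = ∑ o : Pts F, (q * q * (q - 1) - 1) := by
          refine Finset.sum_congr rfl fun o _ => ?_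
          have h1m : (1 : ↥(G F m)) ∈ Finset.univ.filter fun g => act hθ g o = o :=
            Finset.mem_filter.mpr ⟨Finset.mem_univ _, act_one hθ o⟩
          rw [hE, Finset.filter_erase, Finset.card_erase_of_mem h1m, ← Fintype.card_subtype, ← Nat.card_eq_fintype_card, card_stab hθ,
            card_B hθ]
      _ = _ := by rw [Finset.sum_const, Finset.card_univ, hPts, smul_eq_mul]
  have hs2 : ∑ g ∈ E, (Fx g).offDiag.card = (q * q + 1) * (q * q) * (q - 1 - 1) := by
    calc ∑ g ∈ E, (Fx g).offDiag.card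
        = ∑ g ∈ E, ∑ x ∈ (Finset.univ : Finset (Pts F)).offDiag,
            (if act hθ g x.1 = x.1 ∧ act hθ g x.2 = x.2 then 1 else 0) := by
          refine Finset.sum_congr rfl fun g _ => ?_
          rw [← Finset.card_filter]
          congr 1
          ext x; simp [Fx]; tauto
      _ = ∑ x ∈ (Finset.univ : Finset (Pts F)).offDiag,
            (E.filter fun g => act hθ g x.1 = x.1 ∧ act hθ g x.2 = x.2).card := by
          rw [Finset.sum_comm]; simp only [Finset.card_filter]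
      _ = ∑ x ∈ (Finset.univ : Finset (Pts F)).offDiag, (q - 1 - 1) := by
          refine Finset.sum_congr rfl fun x hx => ?_
          have h1m : (1 : ↥(G F m)) ∈ Finset.univ.filter fun g => act hθ g x.1 = x.1 ∧ act hθ g x.2 = x.2 :=
            Finset.mem_filter.mpr ⟨Finset.mem_univ _, act_one hθ _, act_one hθ _⟩
          rw [hE, Finset.filter_erase, Finset.card_erase_of_mem h1m, ← Fintype.card_subtype, ← Nat.card_eq_fintype_card,
            card_stab_two hθ (Finset.mem_offDiag.mp hx).2.2]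
      _ = _ := by
          rw [Finset.sum_const, Finset.offDiag_card, Finset.card_univ, hPts, smul_eq_mul,
            show (q * q + 1) * (q * q + 1) - (q * q + 1) = (q * q + 1) * (q * q) from
              Nat.sub_eq_of_eq_add (by ring)]
  have hid : ∀ g ∈ E, 2 * (if ∀ o, act hθ g o ≠ o then 1 else 0) + 2 * (Fx g).card = 2 + (Fx g).offDiag.card := by
    intro g hg
    have h2 := hle2 g hg
    rw [Finset.offDiag_card]
    have hiff : (∀ o, act hθ g o ≠ o) ↔ (Fx g).card = 0 := by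
      simp [Fx, Finset.card_eq_zero, Finset.filter_eq_empty_iff]
    interval_cases hc : (Fx g).card <;> simp [hiff]
  have hsum := Finset.sum_congr (rfl : E = E) hid
  rw [Finset.sum_add_distrib, Finset.sum_add_distrib, ← Finset.mul_sum, ← Finset.mul_sum, hs1, hs2,
    ← Finset.card_filter, Finset.sum_const, smul_eq_mul] at hsum
  have hEf : E.filter (fun g => ∀ o, act hθ g o ≠ o) = Finset.univ.filter (fun g : ↥(G F m) => ∀ o, act hθ g o ≠ o) := by
    rw [hE, Finset.filter_erase]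
    exact Finset.erase_eq_of_notMem fun h => (Finset.mem_filter.mp h).2 none (act_one hθ none)
  have hEc : E.card = (q * q + 1) * (q * q * (q - 1)) - 1 := by
    rw [hE, Finset.card_erase_of_mem (Finset.mem_univ _), Finset.card_univ, ← Nat.card_eq_fintype_card, card_sz hθ]
  rw [hEf, hEc] at hsum
  have hq1 : 1 < q := Fintype.one_lt_card
  have i1 : 1 ≤ q * q * (q - 1) := Nat.one_le_iff_ne_zero.mpr (Nat.mul_ne_zero (by positivity) (by omega))
  have i2 : 1 ≤ (q * q + 1) * (q * q * (q - 1)) :=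
    Nat.one_le_iff_ne_zero.mpr (Nat.mul_ne_zero (by omega) (by omega))
  have i3 : 1 ≤ q - 1 := by omega
  zify [hq1.le, i1, i2, i3] at hsum ⊢
  linear_combination hsum

theorem fpf_subset_card [Fintype ↥(G F m)] [DecidableEq (Subgroup ↥(G F m))]
    [DecidablePred fun g : ↥(G F m) => ∀ o, act hθ g o ≠ o] (hF : Fintype.card F = 2 ^ (2 * m + 1))
    (O : Finset (Subgroup ↥(G F m))) (hO : ∀ A ∈ O, IsTorus hθ A) :
    ((Finset.univ.filter fun g : ↥(G F m) => ∀ o, act hθ g o ≠ o).filter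
      fun g => Subgroup.centralizer {g} ∈ O).card = ∑ A ∈ O, (Nat.card A - 1) := by
  classical
  refine (Finset.card_eq_sum_card_fiberwise
    (f := fun g : ↥(G F m) => Subgroup.centralizer ({g} : Set ↥(G F m))) (t := O) ?_).trans ?_
  · intro g hg; exact (Finset.mem_filter.mp hg).2
  refine Finset.sum_congr rfl fun A hA => ?_
  have : ((Finset.univ.filter fun g : ↥(G F m) => ∀ o, act hθ g o ≠ o).filter
      fun g => Subgroup.centralizer {g} ∈ O).filter (fun g => Subgroup.centralizer {g} = A) =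
      (Finset.univ.filter fun g => g ∈ A).erase 1 := by
    ext g
    simp only [Finset.mem_filter, Finset.mem_univ, true_and, Finset.mem_erase]
    constructor
    · rintro ⟨⟨hg, -⟩, rfl⟩
      exact ⟨fun e => hg none (by rw [e, act_one]), Subgroup.mem_centralizer_singleton_iff.mpr rfl⟩
    · rintro ⟨hg1, hgA⟩
      have hc := torus_centralizer hθ hF (hO A hA) hgA hg1
      exact ⟨⟨torus_mem_fpf hθ (hO A hA) hgA hg1, hc ▸ hA⟩, hc⟩
  rw [this, Finset.card_erase_of_mem (by simp [one_mem]), ← Fintype.card_subtype, ← Nat.card_eq_fintype_card]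

theorem torus_unique_of_dvd (hF : Fintype.card F = 2 ^ (2 * m + 1)) {A B' : Subgroup ↥(G F m)}
    (hA : IsTorus hθ A) (hB : IsTorus hθ B') {p : ℕ} (hp : p.Prime) (ha : p ∣ Nat.card A) (hb : p ∣ Nat.card B') :
    ∃ c : ↥(G F m), B' = A.map (MulAut.conj c).toMonoidHom := by
  haveI : Fact p.Prime := ⟨hp⟩
  obtain ⟨x, hx, hox, hx1, -, hp2⟩ := torus_prime hθ hF hA hp ha
  obtain ⟨y, hy, hoy, hy1, -, -⟩ := torus_prime hθ hF hB hp hb
  have key : ∀ z : ↥(G F m), orderOf z = p → ∀ C : Subgroup ↥(G F m), IsTorus hθ C → z ∈ C → z ≠ 1 →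
      ∃ P : Sylow p ↥(G F m), z ∈ (P : Subgroup ↥(G F m)) ∧ (P : Subgroup ↥(G F m)) ≤ C := by
    intro z hz C hC hzC hz1
    have hpg : IsPGroup p ↥(Subgroup.zpowers z) := IsPGroup.of_card (n := 1) (by rw [Nat.card_zpowers, hz, pow_one])
    obtain ⟨P, hP⟩ := hpg.exists_le_sylow
    have hzP : z ∈ (P : Subgroup ↥(G F m)) := hP (Subgroup.mem_zpowers z)
    refine ⟨P, hzP, fun w hw => ?_⟩
    haveI := sylow_odd_cyclic hθ hF hp2 P
    letI := IsCyclic.commGroup (α := ↥(P : Subgroup ↥(G F m)))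
    rw [← torus_centralizer hθ hF hC hzC hz1, Subgroup.mem_centralizer_singleton_iff]
    exact congrArg Subtype.val (mul_comm (⟨w, hw⟩ : ↥(P : Subgroup ↥(G F m))) ⟨z, hzP⟩)
  obtain ⟨P, -, hPA⟩ := key x hox A hA hx hx1
  obtain ⟨Q, hyQ, -⟩ := key y hoy B' hB hy hy1
  obtain ⟨c, hc⟩ := MulAction.exists_smul_eq ↥(G F m) P Q
  refine ⟨c, ?_⟩
  rw [← hc, Sylow.coe_subgroup_smul] at hyQ
  obtain ⟨y', hy', e⟩ := Subgroup.mem_map.mp hyQ
  have hyA : y ∈ A.map (MulAut.conj c).toMonoidHom := ⟨y', hPA hy', e⟩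
  rw [← torus_centralizer hθ hF hB hy hy1, ← torus_centralizer hθ hF (torus_conj hθ hA c) hyA hy1]

theorem exists_tori (hm : 1 ≤ m) (hF : Fintype.card F = 2 ^ (2 * m + 1)) :
    ∃ A₁ A₂ : Subgroup ↥(G F m), IsTorus hθ A₁ ∧ IsTorus hθ A₂ ∧
      Nat.card A₁ = 2 ^ (2 * m + 1) + 2 ^ (m + 1) + 1 ∧ Nat.card A₂ = 2 ^ (2 * m + 1) - 2 ^ (m + 1) + 1 ∧
      Nat.Coprime (Nat.card A₁) (Nat.card A₂) ∧
      (∀ A, IsTorus hθ A → Nat.card (Subgroup.normalizer (A : Set ↥(G F m))) = 4 * Nat.card A) ∧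
      ∀ A, IsTorus hθ A → ∃ c : ↥(G F m),
        A = A₁.map (MulAut.conj c).toMonoidHom ∨ A = A₂.map (MulAut.conj c).toMonoidHom := by
  classical
  haveI := Fintype.ofFinite ↥(G F m)
  set q := Fintype.card F with hq
  set S := Finset.univ.filter fun g : ↥(G F m) => ∀ o, act hθ g o ≠ o with hSdef
  have hS : 2 * S.card = q * q * q * (q - 1) * (q - 1) := fpf_count hθ
  have hG : Fintype.card ↥(G F m) = (q * q + 1) * (q * q * (q - 1)) := by
    rw [← Nat.card_eq_fintype_card, card_sz hθ]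
  have hq8 : 8 ≤ q := by
    rw [hF]; exact (Nat.pow_le_pow_right (by norm_num) (show 3 ≤ 2 * m + 1 by omega) : 2 ^ 3 ≤ _)
  have hG0 : 0 < Fintype.card ↥(G F m) := Fintype.card_pos
  -- the key relation between the count and the group order
  have hR : 2 * (q * q + 1) * S.card = Fintype.card ↥(G F m) * (q * (q - 1)) := by
    rw [hG, show 2 * (q * q + 1) * S.card = (q * q + 1) * (2 * S.card) by ring, hS]; ring
  let orb : Subgroup ↥(G F m) → Finset (Subgroup ↥(G F m)) := fun A =>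
    Finset.univ.image fun c : ↥(G F m) => A.map (MulAut.conj c).toMonoidHom
  have horbT : ∀ A, IsTorus hθ A → ∀ A' ∈ orb A, IsTorus hθ A' := fun A hA A' h => by
    obtain ⟨c, -, rfl⟩ := Finset.mem_image.mp h
    exact torus_conj hθ hA c
  have hterm : ∀ A, IsTorus hθ A → ∀ n, Nat.card (Subgroup.normalizer (A : Set ↥(G F m))) = n * Nat.card A →
      (∑ A' ∈ orb A, (Nat.card A' - 1)) * (n * Nat.card A) = Fintype.card ↥(G F m) * (Nat.card A - 1) := by
    intro A hA n hn
    have hc : ∀ A' ∈ orb A, Nat.card A' - 1 = Nat.card A - 1 := fun A' h => by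
      obtain ⟨c, -, rfl⟩ := Finset.mem_image.mp h
      rw [Subgroup.card_map_of_injective (MulAut.conj c).injective]
    rw [Finset.sum_congr rfl hc, Finset.sum_const, smul_eq_mul, mul_right_comm, ← hn,
      ← Nat.card_eq_fintype_card, ← orbit_card hθ A]
    congr 2
    rw [Set.ncard_eq_toFinset_card', Set.toFinset_range]
  have hdisj : ∀ A A', A' ∉ orb A → Disjoint (orb A) (orb A') := fun A A' h => by
    rw [Finset.disjoint_left]
    intro C h1 h2
    obtain ⟨c, -, rfl⟩ := Finset.mem_image.mp h1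
    obtain ⟨d, -, hd⟩ := Finset.mem_image.mp h2
    apply h
    refine Finset.mem_image.mpr ⟨d⁻¹ * c, Finset.mem_univ _, ?_⟩
    apply Subgroup.map_injective (f := (MulAut.conj d).toMonoidHom) (MulAut.conj d).injective
    rw [hd, Subgroup.map_map]
    refine congrArg (fun f => A.map f) (MonoidHom.ext fun x => ?_)
    show d * (d⁻¹ * c * x * (d⁻¹ * c)⁻¹) * d⁻¹ = c * x * c⁻¹
    group
  have hsub : ∀ O : Finset (Subgroup ↥(G F m)), (∀ A ∈ O, IsTorus hθ A) →
      ∑ A ∈ O, (Nat.card A - 1) ≤ S.card := fun O hO => by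
    rw [← fpf_subset_card hθ hF O hO]; exact Finset.card_filter_le _ _
  have hall : ∀ O : Finset (Subgroup ↥(G F m)), (∀ A ∈ O, IsTorus hθ A) → (∀ A, IsTorus hθ A → A ∈ O) →
      ∑ A ∈ O, (Nat.card A - 1) = S.card := fun O hO h => by
    rw [← fpf_subset_card hθ hF O hO]
    exact congrArg Finset.card (Finset.filter_true_of_mem fun g hg => h _ ⟨g, (Finset.mem_filter.mp hg).2, rfl⟩)
  -- bounds on the contribution of a class
  have hlow : ∀ A, IsTorus hθ A → ∀ n, Nat.card (Subgroup.normalizer (A : Set ↥(G F m))) = n * Nat.card A →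
      4 * Fintype.card ↥(G F m) ≤ (∑ A' ∈ orb A, (Nat.card A' - 1)) * (5 * n) := by
    intro A hA n hn
    have h5 := torus_five_le hθ hF hA
    have e := hterm A hA n hn
    obtain ⟨a, ha⟩ : ∃ a, Nat.card A = a + 1 := ⟨Nat.card A - 1, by omega⟩
    rw [ha, Nat.add_sub_cancel] at e
    rw [ha] at h5
    nlinarith
  have hhigh : ∀ A, IsTorus hθ A → ∀ n, Nat.card (Subgroup.normalizer (A : Set ↥(G F m))) = n * Nat.card A →
      (∑ A' ∈ orb A, (Nat.card A' - 1)) * n < Fintype.card ↥(G F m) := by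
    intro A hA n hn
    have h5 := torus_five_le hθ hF hA
    have e := hterm A hA n hn
    obtain ⟨a, ha⟩ : ∃ a, Nat.card A = a + 1 := ⟨Nat.card A - 1, by omega⟩
    rw [ha, Nat.add_sub_cancel] at e
    nlinarith
  have hS2 : 2 * S.card < Fintype.card ↥(G F m) := by
    have : q * (q - 1) < q * q + 1 := by
      have := Nat.mul_le_mul_left q (Nat.sub_le q 1); omega
    nlinarith
  have hS4 : 5 * S.card > 2 * Fintype.card ↥(G F m) := by
    have : 5 * (q * (q - 1)) > 4 * (q * q + 1) := by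
      obtain ⟨r, hr⟩ : ∃ r, q = r + 1 := ⟨q - 1, by omega⟩
      rw [hr, Nat.add_sub_cancel]
      nlinarith
    nlinarith
  have hn4 : ∀ A, IsTorus hθ A → Nat.card (Subgroup.normalizer (A : Set ↥(G F m))) = 4 * Nat.card A := by
    intro A hA
    obtain ⟨n, hn, hcard⟩ := torus_normalizer hθ hF hA
    rcases hn with rfl | rfl | rfl
    · exfalso
      have := hlow A hA 1 hcard
      have := hsub (orb A) (horbT A hA)
      omega
    · exfalso
      by_cases hex : ∃ A', IsTorus hθ A' ∧ A' ∉ orb A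
      · obtain ⟨A', hA', hne⟩ := hex
        obtain ⟨n', hn', hcard'⟩ := torus_normalizer hθ hF hA'
        have h1 := hlow A hA 2 hcard
        have h2 := hlow A' hA' n' hcard'
        have h3 := hsub (orb A ∪ orb A') (fun C hC => (Finset.mem_union.mp hC).elim (horbT A hA C) (horbT A' hA' C))
        rw [Finset.sum_union (hdisj A A' hne)] at h3
        rcases hn' with rfl | rfl | rfl <;> omega
      · push Not at hex
        have e := hterm A hA 2 hcard
        rw [hall (orb A) (horbT A hA) hex] at e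
        set a := Nat.card A with ha
        have h5 := torus_five_le hθ hF hA
        have e2 : a * (q * (q - 1)) = (q * q + 1) * (a - 1) := by
          refine Nat.eq_of_mul_eq_mul_left hG0 ?_
          calc Fintype.card ↥(G F m) * (a * (q * (q - 1))) = a * (Fintype.card ↥(G F m) * (q * (q - 1))) := by ring
            _ = (q * q + 1) * (S.card * (2 * a)) := by rw [← hR]; ring
            _ = _ := by rw [e]; ring
        have e3 : a * (q + 1) = q * q + 1 := by
          zify [show 1 ≤ q by omega, show 1 ≤ a by omega] at e2 ⊢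
          linear_combination -e2
        obtain ⟨r, hr⟩ : ∃ r, q = r + 1 := ⟨q - 1, by omega⟩
        rw [hr] at e3 hq8
        have hd1 : r + 1 + 1 ∣ r * (r + 1 + 1) := dvd_mul_left _ _
        have hd2 : r + 1 + 1 ∣ r * (r + 1 + 1) + 2 := ⟨a, by linear_combination -e3⟩
        have := Nat.le_of_dvd (by norm_num) ((Nat.dvd_add_right hd1).mp hd2)
        omega
    · exact hcard
  obtain ⟨g₁, hg₁⟩ : S.Nonempty := Finset.card_pos.mp (by omega)
  obtain ⟨A, hA, -⟩ : ∃ A, IsTorus hθ A ∧ A = A :=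
    ⟨_, ⟨g₁, (Finset.mem_filter.mp hg₁).2, rfl⟩, rfl⟩
  obtain ⟨A', hA', hne⟩ : ∃ A', IsTorus hθ A' ∧ A' ∉ orb A := by
    by_contra hcon
    push Not at hcon
    have e := hhigh A hA 4 (hn4 A hA)
    rw [hall (orb A) (horbT A hA) hcon] at e
    omega
  have hUT : ∀ C ∈ orb A ∪ orb A', IsTorus hθ C := fun C hC =>
    (Finset.mem_union.mp hC).elim (horbT A hA C) (horbT A' hA' C)
  have hcover : ∀ C, IsTorus hθ C → C ∈ orb A ∪ orb A' := by
    intro C hC
    by_contra hC'
    rw [Finset.mem_union, not_or] at hC'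
    have h3 := hsub (orb A ∪ orb A' ∪ orb C) (fun D hD =>
      (Finset.mem_union.mp hD).elim (hUT D) (horbT C hC D))
    rw [Finset.sum_union (Finset.disjoint_union_left.mpr ⟨hdisj A C hC'.1, hdisj A' C hC'.2⟩),
      Finset.sum_union (hdisj A A' hne)] at h3
    have h1 := hlow A hA 4 (hn4 A hA)
    have h2 := hlow A' hA' 4 (hn4 A' hA')
    have h4 := hlow C hC 4 (hn4 C hC)
    omega
  have hsum := hall (orb A ∪ orb A') hUT hcover
  rw [Finset.sum_union (hdisj A A' hne)] at hsum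
  have e₁ := hterm A hA 4 (hn4 A hA)
  have e₂ := hterm A' hA' 4 (hn4 A' hA')
  have hcop : Nat.Coprime (Nat.card A) (Nat.card A') := Nat.coprime_of_dvd fun p hp h1 h2 => by
    obtain ⟨c, hc⟩ := torus_unique_of_dvd hθ hF hA hA' hp h1 h2
    exact hne (Finset.mem_image.mpr ⟨c, Finset.mem_univ _, hc.symm⟩)
  set a := Nat.card A with ha
  set b := Nat.card A' with hb
  obtain ⟨c, hc⟩ := hcop.mul_dvd_of_dvd_of_dvd (torus_dvd hθ hF hA) (torus_dvd hθ hF hA')
  rw [← hq] at hc
  have hkey : c * (a + b) = 2 * (q + 1) := by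
    have h5a : 5 ≤ a := torus_five_le hθ hF hA
    have h5b : 5 ≤ b := torus_five_le hθ hF hA'
    have hne0 : (Fintype.card ↥(G F m) : ℤ) * a * b ≠ 0 := by positivity
    zify [show 1 ≤ q by omega] at hR
    zify [show 1 ≤ a by omega] at e₁
    zify [show 1 ≤ b by omega] at e₂
    zify at hsum hc ⊢
    refine mul_left_cancel₀ hne0 ?_
    linear_combination -(Fintype.card ↥(G F m) : ℤ) * ((a : ℤ) + b) * hc
      - 4 * ((q : ℤ) * q + 1) * a * b * hsum + ((q : ℤ) * q + 1) * b * e₁ + ((q : ℤ) * q + 1) * a * e₂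
      - 2 * (a : ℤ) * b * hR
  have h2q : 2 ∣ q := by rw [hF]; exact dvd_pow_self 2 (by omega)
  have hc1 : c = 1 := by
    have hd1 : c ∣ q * q + 1 := ⟨a * b, by rw [hc]; ring⟩
    have hd2 : c ∣ 2 * (q + 1) := ⟨a + b, hkey.symm⟩
    have hodd : ¬ 2 ∣ c := fun h => by
      have h' := h.trans hd1
      have : 2 ∣ q * q := h2q.mul_right q
      omega
    have hd3 : c ∣ q + 1 :=
      (Nat.Prime.coprime_iff_not_dvd Nat.prime_two).mpr hodd |>.symm.dvd_of_dvd_mul_left hd2
    have hd4 : c ∣ 2 := by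
      have he : (q - 1) * (q + 1) + 2 = q * q + 1 := by
        obtain ⟨r, hr⟩ : ∃ r, q = r + 1 := ⟨q - 1, by omega⟩
        rw [hr, Nat.add_sub_cancel]; ring
      exact (Nat.dvd_add_right (hd3.mul_left _)).mp (he ▸ hd1)
    rcases (Nat.dvd_prime Nat.prime_two).mp hd4 with h | h
    · exact h
    · exact absurd (by rw [h]) hodd
  subst hc1
  rw [mul_one] at hc
  rw [one_mul] at hkey
  set s := 2 ^ (m + 1) with hs
  have hss : s * s = 2 * q := by rw [hs, hF, ← pow_add, ← pow_succ']; congr 1; ring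
  have hsq : s ≤ q := by rw [hs, hF]; exact Nat.pow_le_pow_right (by norm_num) (by omega)
  have hroots : (a = q + s + 1 ∧ b = q - s + 1) ∨ (a = q - s + 1 ∧ b = q + s + 1) := by
    have h0 : ((a : ℤ) - (q + s + 1)) * ((a : ℤ) - (q - s + 1)) = 0 := by
      zify at hc hkey hss
      linear_combination hc + (a : ℤ) * hkey - hss
    rcases mul_eq_zero.mp h0 with h | h
    · left; omega
    · right; omega
  rw [hF] at hroots
  rcases hroots with ⟨h1, h2⟩ | ⟨h1, h2⟩
  · refine ⟨A, A', hA, hA', h1, h2, hcop, hn4, fun C hC => ?_⟩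
    rcases Finset.mem_union.mp (hcover C hC) with h | h <;> obtain ⟨c, -, rfl⟩ := Finset.mem_image.mp h
    · exact ⟨c, Or.inl rfl⟩
    · exact ⟨c, Or.inr rfl⟩
  · refine ⟨A', A, hA', hA, h2, h1, hcop.symm, hn4, fun C hC => ?_⟩
    rcases Finset.mem_union.mp (hcover C hC) with h | h <;> obtain ⟨c, -, rfl⟩ := Finset.mem_image.mp h
    · exact ⟨c, Or.inr rfl⟩
    · exact ⟨c, Or.inl rfl⟩

end

end Cfsg.Agent.Lib.KnownA.Suz
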