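import Mathlib
import Cfsg.Agent.Lib.KnownA.SuzukiTori

/-! Solvable subgroups of the Suzuki group. -/

set_option autoImplicit false
set_option maxHeartbeats 400000

namespace Cfsg.Agent.Lib.KnownA.Suz

open Matrix Cfsg.Lie

set_option linter.unusedSectionVars false

noncomputable section

variable {F : Type*} [Field F] [Fintype F] [CharP F 2] {m : ℕ} (hθ : ∀ x : F, szTh m (szTh m x) = x * x)

include hθ

/-- Maximal tori, split or not. -/
def IsSS (X : Subgroup ↥(G F m)) : Prop :=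
  (∃ c : ↥(G F m), X = (T hθ).map (MulAut.conj c).toMonoidHom) ∨ IsTorus hθ X

theorem ss_conj {X : Subgroup ↥(G F m)} (hX : IsSS hθ X) (d : ↥(G F m)) :
    IsSS hθ (X.map (MulAut.conj d).toMonoidHom) := by
  rcases hX with ⟨c, rfl⟩ | hX
  · refine Or.inl ⟨d * c, ?_⟩
    rw [Subgroup.map_map]
    refine congrArg (fun f => Subgroup.map f (T hθ)) (MonoidHom.ext fun z => ?_)
    show d * (c * z * c⁻¹) * d⁻¹ = d * c * z * (d * c)⁻¹
    group
  · exact Or.inr (torus_conj hθ hX d)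

theorem ss_cyclic (hF : Fintype.card F = 2 ^ (2 * m + 1)) {X : Subgroup ↥(G F m)} (hX : IsSS hθ X) :
    IsCyclic ↥X := by
  rcases hX with ⟨c, rfl⟩ | hX
  · haveI := T_cyclic hθ
    exact isCyclic_of_surjective _ ((T hθ).equivMapOfInjective _ (MulAut.conj c).injective).surjective
  · exact torus_cyclic hθ hF hX

theorem ss_centralizer (hF : Fintype.card F = 2 ^ (2 * m + 1)) {X : Subgroup ↥(G F m)} (hX : IsSS hθ X)
    {y : ↥(G F m)} (hy : y ∈ X) (hy1 : y ≠ 1) : Subgroup.centralizer {y} = X := by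
  rcases hX with ⟨c, rfl⟩ | hX
  · obtain ⟨t, ⟨k, rfl⟩, rfl⟩ := hy
    have hk : k ≠ 1 := fun h => hy1 (by rw [h, map_one, map_one])
    exact centralizer_tor_le hθ hk
  · exact torus_centralizer hθ hF hX hy hy1

theorem ss_not_two_dvd (hF : Fintype.card F = 2 ^ (2 * m + 1)) {X : Subgroup ↥(G F m)} (hX : IsSS hθ X) :
    ¬ 2 ∣ Nat.card X := by
  rcases hX with ⟨c, rfl⟩ | hX
  · rw [Subgroup.card_map_of_injective (MulAut.conj c).injective, card_T hθ]
    have : 2 ∣ Fintype.card F := by rw [hF]; exact dvd_pow_self 2 (by omega)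
    have := Fintype.one_lt_card (α := F)
    omega
  · intro h
    obtain ⟨-, -, -, -, -, h2⟩ := torus_prime hθ hF hX Nat.prime_two h
    exact h2 rfl

theorem ss_one_lt (hm : 1 ≤ m) (hF : Fintype.card F = 2 ^ (2 * m + 1)) {X : Subgroup ↥(G F m)} (hX : IsSS hθ X) :
    1 < Nat.card X := by
  rcases hX with ⟨c, rfl⟩ | hX
  · rw [Subgroup.card_map_of_injective (MulAut.conj c).injective, card_T hθ, hF]
    have : 2 ^ 3 ≤ 2 ^ (2 * m + 1) := Nat.pow_le_pow_right (by norm_num) (by omega)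
    omega
  · exact torus_one_lt hθ hX

theorem ss_unique (hF : Fintype.card F = 2 ^ (2 * m + 1)) {X Y : Subgroup ↥(G F m)} (hX : IsSS hθ X)
    (hY : IsSS hθ Y) {z : ↥(G F m)} (hz : z ≠ 1) (hzX : z ∈ X) (hzY : z ∈ Y) : X = Y := by
  rw [← ss_centralizer hθ hF hX hzX hz, ← ss_centralizer hθ hF hY hzY hz]

theorem ss_mem_normalizer (hF : Fintype.card F = 2 ^ (2 * m + 1)) {X : Subgroup ↥(G F m)} (hX : IsSS hθ X)
    {g z : ↥(G F m)} (hz : z ≠ 1) (hzX : z ∈ X) (hg : g * z * g⁻¹ ∈ X) :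
    g ∈ Subgroup.normalizer (X : Set ↥(G F m)) := by
  have e : X.map (MulAut.conj g).toMonoidHom = X :=
    ss_unique hθ hF (ss_conj hθ hX g) hX (z := g * z * g⁻¹) (fun e => hz (conj_eq_one_iff.mp e)) ⟨z, hzX, rfl⟩ hg
  rw [Subgroup.mem_normalizer_iff]
  intro y
  constructor
  · intro hy; rw [← e]; exact ⟨y, hy, rfl⟩
  · intro hy
    rw [← e, Subgroup.mem_map_equiv, MulAut.conj_symm_apply] at hy
    simpa [mul_assoc] using hy

theorem T_normalizer {g : ↥(G F m)} {k : Fˣ} (hk : k ≠ 1) (h : g * tor hθ k * g⁻¹ ∈ T hθ) :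
    (∃ l, g = tor hθ l) ∨ ∃ l, g = wel hθ * tor hθ l := by
  obtain ⟨k', hk'⟩ := h
  have hk1 : k' ≠ 1 := by
    intro e
    rw [e, map_one] at hk'
    exact hk (tor_injective hθ ((conj_eq_one_iff.mp hk'.symm).trans (tor_one hθ).symm))
  have hmove : ∀ o, act hθ (tor hθ k) o = o → act hθ g o = none ∨ act hθ g o = some (0, 0) := fun o ho => by
    refine tor_fix hθ hk1 ?_
    show act hθ (torHom hθ k') (act hθ g o) = act hθ g o
    rw [hk', fix_iff_conj]
    exact ho
  have h0 := hmove none (act_tor_none hθ k)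
  have h1 := hmove (some (0, 0)) (by rw [act_tor_some]; simp)
  rcases h0 with h0 | h0
  · rcases h1 with h1 | h1
    · exact absurd (act_injective hθ g (h0.trans h1.symm)) (by simp)
    · exact Or.inl (stab_two hθ h0 h1)
  · rcases h1 with h1 | h1
    · obtain ⟨l, hl⟩ := stab_two hθ (g := wel hθ * g) (by rw [act_mul, h0, act_wel_zero])
        (by rw [act_mul, h1, act_wel_none])
      exact Or.inr ⟨l, by rw [← hl, ← mul_assoc, wel_mul_self, one_mul]⟩
    · exact absurd (act_injective hθ g (h0.trans h1.symm)) (by simp)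

theorem card_normalizer_map {H : Type*} [Group H] (X : Subgroup H) (c : H) :
    Nat.card (Subgroup.normalizer (X.map (MulAut.conj c).toMonoidHom : Set H)) =
      Nat.card (Subgroup.normalizer (X : Set H)) := by
  refine (Nat.card_congr (Equiv.subtypeEquiv (MulAut.conj c).toEquiv fun g => ?_)).symm
  show g ∈ Subgroup.normalizer (X : Set H) ↔
    MulAut.conj c g ∈ Subgroup.normalizer (X.map (MulAut.conj c).toMonoidHom : Set H)
  rw [Subgroup.mem_normalizer_iff, Subgroup.mem_normalizer_iff, (MulAut.conj c).toEquiv.forall_congr_left]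
  refine forall_congr' fun y => ?_
  rw [Subgroup.mem_map_equiv, Subgroup.mem_map_equiv]
  simp [mul_assoc]

theorem card_normalizer_T (hm : 1 ≤ m) (hF : Fintype.card F = 2 ^ (2 * m + 1)) :
    Nat.card (Subgroup.normalizer (T hθ : Set ↥(G F m))) = 2 * Nat.card (T hθ) := by
  obtain ⟨t, ht0, ht1⟩ := exists_two hθ hm hF
  set k := Units.mk0 t ht0
  have hk : k ≠ 1 := fun e => ht1 (congrArg Units.val e)
  have hX : IsSS hθ (T hθ) := Or.inl ⟨1, by
    ext x; simp⟩
  have hw : wel hθ ∈ Subgroup.normalizer (T hθ : Set ↥(G F m)) := by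
    refine ss_mem_normalizer hθ hF hX (z := tor hθ k) (fun e => hk (tor_injective hθ (e.trans (tor_one hθ).symm))) ⟨k, rfl⟩ ?_
    rw [wel_tor, mul_inv_cancel_right]
    exact ⟨k⁻¹, rfl⟩
  have hT : T hθ ≤ Subgroup.normalizer (T hθ : Set ↥(G F m)) := Subgroup.le_normalizer
  let f : Bool × ↥(T hθ) → ↥(Subgroup.normalizer (T hθ : Set ↥(G F m))) := fun x =>
    ⟨(if x.1 then wel hθ else 1) * x.2.1, mul_mem (by split_ifs; exacts [hw, one_mem _]) (hT x.2.2)⟩
  have hwT : wel hθ ∉ T hθ := by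
    rintro ⟨l, hl⟩
    have := act_wel_none hθ
    rw [← hl] at this
    exact Option.some_ne_none _ (this.symm.trans (act_tor_none hθ l))
  have hf : Function.Bijective f := by
    constructor
    · rintro ⟨b, x⟩ ⟨b', x'⟩ h
      have h' : (if b then wel hθ else 1) * x.1 = (if b' then wel hθ else 1) * x'.1 := congrArg Subtype.val h
      have hbb : b = b' := by
        cases b <;> cases b' <;> simp only [Bool.false_eq_true, if_false, if_true, one_mul] at h' ⊢
        · exact (hwT (by rw [show wel hθ = x.1 * x'.1⁻¹ by rw [h', mul_inv_cancel_right]];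
                         exact mul_mem x.2 (inv_mem x'.2))).elim
        · exact (hwT (by rw [show wel hθ = x'.1 * x.1⁻¹ by rw [← h', mul_inv_cancel_right]];
                         exact mul_mem x'.2 (inv_mem x.2))).elim
      subst hbb
      exact Prod.ext rfl (Subtype.ext (mul_left_cancel h'))
    · rintro ⟨g, hg⟩
      rcases T_normalizer hθ hk ((Subgroup.mem_normalizer_iff.mp hg _).mp ⟨k, rfl⟩) with ⟨l, rfl⟩ | ⟨l, rfl⟩
      · exact ⟨(false, ⟨tor hθ l, l, rfl⟩), Subtype.ext (by simp [f])⟩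
      · exact ⟨(true, ⟨tor hθ l, l, rfl⟩), Subtype.ext (by simp [f])⟩
  rw [← Nat.card_congr (Equiv.ofBijective f hf), Nat.card_prod, Nat.card_eq_fintype_card (α := Bool), Fintype.card_bool]

theorem ss_normalizer_card (hm : 1 ≤ m) (hF : Fintype.card F = 2 ^ (2 * m + 1)) {X : Subgroup ↥(G F m)}
    (hX : IsSS hθ X) :
    ∃ j, (j = 1 ∨ j = 2) ∧ Nat.card (Subgroup.normalizer (X : Set ↥(G F m))) = 2 ^ j * Nat.card X := by
  rcases hX with ⟨c, rfl⟩ | hX
  · exact ⟨1, Or.inl rfl, by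
      rw [card_normalizer_map hθ, card_normalizer_T hθ hm hF, pow_one,
        Subgroup.card_map_of_injective (MulAut.conj c).injective]⟩
  · obtain ⟨A₁, A₂, -, -, -, -, -, hN, -⟩ := exists_tori hθ hm hF
    exact ⟨2, Or.inr rfl, hN X hX⟩

theorem ss_pow_mem (hm : 1 ≤ m) (hF : Fintype.card F = 2 ^ (2 * m + 1)) {X : Subgroup ↥(G F m)}
    (hX : IsSS hθ X) {y : ↥(G F m)} (hy : y ∈ Subgroup.normalizer (X : Set ↥(G F m))) : y ^ 4 ∈ X := by
  obtain ⟨j, hj, hN⟩ := ss_normalizer_card hθ hm hF hX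
  set N := Subgroup.normalizer (X : Set ↥(G F m))
  set X' : Subgroup ↥N := X.subgroupOf N
  haveI : X'.Normal := Subgroup.normal_in_normalizer
  have hidx : X'.index = 2 ^ j := by
    have h := X'.card_mul_index
    rw [Nat.card_congr (Subgroup.subgroupOfEquivOfLe Subgroup.le_normalizer).toEquiv, hN, mul_comm] at h
    exact Nat.eq_of_mul_eq_mul_right Nat.card_pos h
  have h4 : X'.index ∣ 4 := by rw [hidx]; rcases hj with rfl | rfl <;> norm_num
  have hm' : (⟨y, hy⟩ : ↥N) ^ X'.index ∈ X' := X'.pow_index_mem _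
  obtain ⟨i, hi⟩ := h4
  have h := Subgroup.pow_mem _ hm' i
  rw [← pow_mul, ← hi] at h
  exact h

theorem ss_odd_mem (hm : 1 ≤ m) (hF : Fintype.card F = 2 ^ (2 * m + 1)) {X : Subgroup ↥(G F m)}
    (hX : IsSS hθ X) {z : ↥(G F m)} (hz : z ∈ Subgroup.normalizer (X : Set ↥(G F m))) (ho : ¬ 2 ∣ orderOf z) :
    z ∈ X := by
  have h4 := ss_pow_mem hθ hm hF hX hz
  have hcop : Nat.Coprime (orderOf z) 4 := by
    simpa using Nat.Coprime.pow_right 2 ((Nat.Prime.coprime_iff_not_dvd Nat.prime_two).mpr ho).symm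
  obtain ⟨i, hi⟩ := exists_pow_eq_self_of_coprime (G := ↥(G F m)) (n := 4) (x := z) hcop.symm
  rw [← hi]
  exact pow_mem h4 i

theorem ss_normalizer_solvable (hm : 1 ≤ m) (hF : Fintype.card F = 2 ^ (2 * m + 1)) {X : Subgroup ↥(G F m)}
    (hX : IsSS hθ X) : Group.IsSolvable ↥(Subgroup.normalizer (X : Set ↥(G F m))) := by
  haveI : Fact (Nat.Prime 2) := ⟨Nat.prime_two⟩
  set N := Subgroup.normalizer (X : Set ↥(G F m))
  set X' : Subgroup ↥N := X.subgroupOf N
  haveI : X'.Normal := Subgroup.normal_in_normalizer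
  haveI := ss_cyclic hθ hF hX
  letI := IsCyclic.commGroup (α := ↥X)
  haveI : Group.IsSolvable ↥X' :=
    let e : ↥X' ≃* ↥X := Subgroup.subgroupOfEquivOfLe Subgroup.le_normalizer
    solvable_of_solvable_injective (f := e.toMonoidHom) e.injective
  haveI : Group.IsSolvable (↥N ⧸ X') := by
    obtain ⟨j, -, hN⟩ := ss_normalizer_card hθ hm hF hX
    haveI : Group.IsNilpotent (↥N ⧸ X') := IsPGroup.isNilpotent (IsPGroup.of_card (p := 2) (n := j) (by
      have h := X'.card_mul_index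
      rw [Nat.card_congr (Subgroup.subgroupOfEquivOfLe Subgroup.le_normalizer).toEquiv, hN, mul_comm] at h
      exact Nat.eq_of_mul_eq_mul_right Nat.card_pos h))
    infer_instance
  exact solvable_of_ker_le_range X'.subtype (QuotientGroup.mk' X') (by rw [QuotientGroup.ker_mk', Subgroup.range_subtype])

/-- The stabiliser of an ovoid point. -/
def Stab (o : Pts F) : Subgroup ↥(G F m) where
  carrier := {g | act hθ g o = o}
  mul_mem' {g h} hg hh := by show act hθ (g * h) o = o; rw [act_mul, hh, hg]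
  one_mem' := act_one hθ o
  inv_mem' {g} hg := by
    show act hθ g⁻¹ o = o
    conv_lhs => rw [← (show act hθ g o = o from hg), act_inv_act]

theorem mem_Stab {g : ↥(G F m)} {o : Pts F} : g ∈ Stab hθ o ↔ act hθ g o = o := Iff.rfl

theorem exists_conj_stab (o : Pts F) : ∃ c : ↥(G F m), act hθ c none = o := by
  obtain ⟨o', ho'⟩ : ∃ o' : Pts F, o ≠ o' := exists_ne o |>.imp fun _ h => h.symm
  obtain ⟨c, hc, -⟩ := two_transitive hθ ho'
  exact ⟨c, hc⟩

theorem stab_eq_map {c : ↥(G F m)} {o : Pts F} (hc : act hθ c none = o) :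
    Stab hθ o = (B hθ).map (MulAut.conj c).toMonoidHom := by
  ext g
  rw [mem_Stab, Subgroup.mem_map_equiv, MulAut.conj_symm_apply, mem_B, ← hc]
  conv_lhs => rw [show g = c * (c⁻¹ * g * c) * c⁻¹ by group, fix_iff_conj]

theorem stab_solvable (hF : Fintype.card F = 2 ^ (2 * m + 1)) (o : Pts F) : Group.IsSolvable ↥(Stab hθ o) := by
  obtain ⟨c, hc⟩ := exists_conj_stab hθ o
  rw [stab_eq_map hθ hc]
  haveI := B_solvable hθ hF
  exact solvable_of_surjective (f := ((B hθ).equivMapOfInjective (MulAut.conj c).toMonoidHom (MulAut.conj c).injective).toMonoidHom)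
    (MulEquiv.surjective _)

theorem solvable_cases (hm : 1 ≤ m) (hF : Fintype.card F = 2 ^ (2 * m + 1)) (M : Subgroup ↥(G F m))
    (hM : Group.IsSolvable ↥M) :
    (∃ o, M ≤ Stab hθ o) ∨ ∃ X, IsSS hθ X ∧ M ≤ Subgroup.normalizer (X : Set ↥(G F m)) := by
  classical
  rcases eq_or_ne M ⊥ with rfl | hne
  · exact Or.inl ⟨none, bot_le⟩
  haveI : Nontrivial ↥M := M.nontrivial_iff_ne_bot.mpr hne
  obtain ⟨N, hN1, hNn, hNc⟩ : ∃ N : Subgroup ↥M, N ≠ ⊥ ∧ N.Normal ∧ ∀ a ∈ N, ∀ b ∈ N, a * b = b * a := by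
    obtain ⟨i, hi⟩ := hM.solvable
    have hex : ∃ i, derivedSeries ↥M i = ⊥ := ⟨i, hi⟩
    obtain ⟨i₀, h0⟩ : ∃ i₀, Nat.find hex = i₀ + 1 := by
      refine ⟨Nat.find hex - 1, ?_⟩
      have : Nat.find hex ≠ 0 := fun h => by
        have := Nat.find_spec hex
        rw [h, derivedSeries_zero] at this
        exact top_ne_bot this
      omega
    refine ⟨derivedSeries ↥M i₀, Nat.find_min hex (by omega), derivedSeries_normal ↥M i₀, fun a ha b hb => ?_⟩
    have h := Nat.find_spec hex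
    rw [h0, derivedSeries_succ, Subgroup.commutator_eq_bot_iff_le_centralizer] at h
    exact (Subgroup.mem_centralizer_iff.mp (h ha) b hb).symm
  obtain ⟨g, hg, hg1⟩ := N.bot_or_exists_ne_one.resolve_left hN1
  have hg1' : g.1 ≠ 1 := fun e => hg1 (Subtype.ext e)
  have hconj : ∀ x : ↥M, x.1 * g.1 * x.1⁻¹ * g.1 = g.1 * (x.1 * g.1 * x.1⁻¹) := fun x =>
    congrArg Subtype.val (hNc _ (hNn.conj_mem g hg x) g hg)
  by_cases hfix : ∃ o, act hθ g.1 o = o
  · obtain ⟨o, ho⟩ := hfix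
    rcases fixed_cases hθ ho with ⟨c, a, b, hgc⟩ | ⟨c, k, hk, hgc⟩
    · refine Or.inl ⟨act hθ c none, fun x hx => ?_⟩
      have hne : u hθ a b ≠ 1 := fun e => hg1' (by rw [hgc, e, mul_one, mul_inv_cancel])
      have h := hconj ⟨x, hx⟩
      simp only [hgc] at h
      obtain ⟨a', b', hab⟩ := commute_u hθ hne (centralizer_conj hθ h)
      have hB : c⁻¹ * x * c ∈ B hθ := mem_B_of_conj hθ (u_mem hθ a b) hne ⟨a', b', by rw [← hab]; group⟩
      rw [mem_Stab, show x = c * (c⁻¹ * x * c) * c⁻¹ by group, fix_iff_conj]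
      exact hB
    · refine Or.inr ⟨_, Or.inl ⟨c, rfl⟩, fun x hx => ?_⟩
      refine ss_mem_normalizer hθ hF (Or.inl ⟨c, rfl⟩) hg1' ⟨tor hθ k, ⟨k, rfl⟩, hgc.symm⟩ ?_
      rw [← centralizer_tor_le hθ (c := c) hk, Subgroup.mem_centralizer_singleton_iff, ← hgc]
      exact hconj ⟨x, hx⟩
  · push Not at hfix
    have hT : IsTorus hθ (Subgroup.centralizer {g.1}) := ⟨g.1, hfix, rfl⟩
    refine Or.inr ⟨_, Or.inr hT, fun x hx => ?_⟩
    exact ss_mem_normalizer hθ hF (Or.inr hT) hg1' (Subgroup.mem_centralizer_singleton_iff.mpr rfl)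
      (Subgroup.mem_centralizer_singleton_iff.mpr (hconj ⟨x, hx⟩))

theorem closure_solvable_iff (hm : 1 ≤ m) (hF : Fintype.card F = 2 ^ (2 * m + 1)) (x y : ↥(G F m)) :
    Group.IsSolvable ↥(Subgroup.closure ({x, y} : Set ↥(G F m))) ↔
      (∃ o, act hθ x o = o ∧ act hθ y o = o) ∨
      ∃ X, IsSS hθ X ∧ x ∈ Subgroup.normalizer (X : Set ↥(G F m)) ∧ y ∈ Subgroup.normalizer (X : Set ↥(G F m)) := by
  have hxmem : x ∈ Subgroup.closure ({x, y} : Set ↥(G F m)) := Subgroup.subset_closure (Set.mem_insert x _)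
  have hymem : y ∈ Subgroup.closure ({x, y} : Set ↥(G F m)) :=
    Subgroup.subset_closure (Set.mem_insert_of_mem x rfl)
  constructor
  · intro h
    rcases solvable_cases hθ hm hF _ h with ⟨o, ho⟩ | ⟨X, hX, hle⟩
    · exact Or.inl ⟨o, ho hxmem, ho hymem⟩
    · exact Or.inr ⟨X, hX, hle hxmem, hle hymem⟩
  · rintro (⟨o, h1, h2⟩ | ⟨X, hX, h1, h2⟩)
    · haveI := stab_solvable hθ hF o
      refine solvable_of_solvable_injective (f := Subgroup.inclusion (K := Stab hθ o) ?_) (Subgroup.inclusion_injective _)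
      rw [Subgroup.closure_le]
      rintro z (rfl | rfl)
      · exact h1
      · exact h2
    · haveI := ss_normalizer_solvable hθ hm hF hX
      refine solvable_of_solvable_injective
        (f := Subgroup.inclusion (K := Subgroup.normalizer (X : Set ↥(G F m))) ?_) (Subgroup.inclusion_injective _)
      rw [Subgroup.closure_le]
      rintro z (rfl | rfl)
      · exact h1
      · exact h2

end

end Cfsg.Agent.Lib.KnownA.Suz
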