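import Mathlib
import Cfsg.Agent.Lib.KnownA.SuzukiSolvable

/-! Solubilisers in the Suzuki group. -/

set_option autoImplicit false
set_option maxHeartbeats 800000

namespace Cfsg.Agent.Lib.KnownA.Suz

open Matrix Cfsg.Lie
open scoped Classical

set_option linter.unusedSectionVars false

noncomputable section

variable {F : Type*} [Field F] [Fintype F] [CharP F 2] {m : ℕ} (hθ : ∀ x : F, szTh m (szTh m x) = x * x)

include hθ

theorem two_element_fixed (hF : Fintype.card F = 2 ^ (2 * m + 1)) {y : ↥(G F m)} (hy : y ≠ 1)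
    (hr : ∃ r, orderOf y = 2 ^ r) :
    ∃ o, act hθ y o = o ∧ (∀ o', act hθ y o' = o' → o' = o) ∧
      ∀ c, act hθ c none = o → ∃ a b, y = c * u hθ a b * c⁻¹ := by
  obtain ⟨r, hr⟩ := hr
  have hfix : ∃ o, act hθ y o = o := by
    by_contra hcon
    push Not at hcon
    have hr1 : 1 ≤ r := Nat.one_le_iff_ne_zero.mpr fun h => hy (orderOf_eq_one_iff.mp (by rw [hr, h, pow_zero]))
    have ho : orderOf (y ^ 2 ^ (r - 1)) = 2 := by
      rw [orderOf_pow' _ (by positivity), hr, Nat.gcd_eq_right (pow_dvd_pow 2 (Nat.sub_le r 1)),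
        Nat.pow_div (Nat.sub_le r 1) (by norm_num), show r - (r - 1) = 1 by omega, pow_one]
    have hne : y ^ 2 ^ (r - 1) ≠ 1 := fun h => by rw [h, orderOf_one] at ho; norm_num at ho
    exact (prime_fpf hθ hF Nat.prime_two ho (fpf_pow hθ hcon _ hne)).2 rfl
  obtain ⟨o, ho⟩ := hfix
  rcases fixed_cases hθ ho with ⟨c, a, b, hyc⟩ | ⟨c, k, hk, hyc⟩
  · have hne : u hθ a b ≠ 1 := fun e => hy (by rw [hyc, e, mul_one, mul_inv_cancel])
    have huniq : ∀ o', act hθ y o' = o' → o' = act hθ c none := fun o' h => by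
      have e : act hθ (u hθ a b) (act hθ c⁻¹ o') = act hθ c⁻¹ o' := by
        refine (fix_iff_conj hθ (c := c)).mp ?_
        rw [← act_mul hθ c c⁻¹, mul_inv_cancel, act_one, ← hyc, h]
      rw [← u_fix_only hθ hne e, ← act_mul, mul_inv_cancel, act_one]
    refine ⟨act hθ c none, by rw [hyc, fix_iff_conj, act_u_none], huniq, fun c' hc' => ?_⟩
    have hB : c'⁻¹ * c ∈ B hθ := by rw [mem_B, act_mul, ← hc', act_inv_act]
    obtain ⟨a', b', hab⟩ := conj_mem_U hθ hB (u_mem hθ a b)
    exact ⟨a', b', by rw [hyc, ← hab]; group⟩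
  · exfalso
    have h := tor_order hθ c k
    rw [← hyc, hr] at h
    have h2q : 2 ∣ Fintype.card F := by rw [hF]; exact dvd_pow_self 2 (by omega)
    have := Fintype.one_lt_card (α := F)
    have hr1 : r ≠ 0 := fun h0 => hy (orderOf_eq_one_iff.mp (by rw [hr, h0, pow_zero]))
    have h2 : 2 ∣ Fintype.card F - 1 := (dvd_pow_self 2 hr1).trans h
    omega

omit hθ [Fintype F] [CharP F 2] in
theorem orderOf_conj' (c y : ↥(G F m)) : orderOf (c * y * c⁻¹) = orderOf y := (MulAut.conj c).orderOf_eq y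

theorem orderOf_u (a b : F) :
    (a ≠ 0 → orderOf (u hθ a b) = 4) ∧ (a = 0 → b ≠ 0 → orderOf (u hθ a b) = 2) := by
  haveI : Fact (Nat.Prime 2) := ⟨Nat.prime_two⟩
  constructor
  · intro ha
    refine orderOf_eq_prime_pow (p := 2) (n := 1) ?_ ?_
    · rw [pow_one, sq, u_sq, ← u_zero hθ]
      exact fun h => mul_ne_zero ((map_ne_zero _).mpr ha) ha (u_injective hθ h).2
    · show u hθ a b ^ (2 ^ 2) = 1
      rw [show (2 ^ 2 : ℕ) = 2 * 2 from rfl, pow_mul, sq, sq, u_sq, u_sq, map_zero, zero_mul, u_zero]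
  · rintro rfl hb
    refine orderOf_eq_prime ?_ fun h => hb (u_injective hθ (h.trans (u_zero hθ).symm)).2
    rw [sq, u_sq, map_zero, zero_mul, u_zero]

theorem card_order_eq (hF : Fintype.card F = 2 ^ (2 * m + 1)) [Fintype ↥(G F m)] (j : ℕ) (S : Finset (F × F))
    (hj : ∃ r, j = 2 ^ r) (hj1 : j ≠ 1) (hS : ∀ a b, (a, b) ∈ S ↔ orderOf (u hθ a b) = j) :
    (Finset.univ.filter fun y : ↥(G F m) => orderOf y = j).card =
      (Fintype.card F * Fintype.card F + 1) * S.card := by
  choose c hc using exists_conj_stab hθ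
  have hcard : Fintype.card (Pts F) = Fintype.card F * Fintype.card F + 1 := by
    rw [Fintype.card_option, Fintype.card_prod]
  rw [← hcard, ← Finset.card_univ, ← Finset.card_product]
  refine (Finset.card_bij (fun x _ => c x.1 * u hθ x.2.1 x.2.2 * (c x.1)⁻¹) ?_ ?_ ?_).symm
  · intro x hx
    rw [Finset.mem_filter]
    refine ⟨Finset.mem_univ _, ?_⟩
    rw [orderOf_conj']
    exact (hS _ _).mp (Finset.mem_product.mp hx).2
  · rintro ⟨o, a, b⟩ hx ⟨o', a', b'⟩ hx' h
    simp only at h
    have hne : u hθ a b ≠ 1 := fun e => hj1 (by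
      rw [← (hS a b).mp (Finset.mem_product.mp hx).2, e, orderOf_one])
    have h2 := (fix_iff_conj hθ (c := c o') (o := none)).mpr (act_u_none hθ a' b')
    rw [hc o', ← h] at h2
    have hcc : act hθ (c o) (act hθ (c o)⁻¹ o') = o' := by rw [← act_mul, mul_inv_cancel, act_one]
    have h1 : act hθ (u hθ a b) (act hθ (c o)⁻¹ o') = act hθ (c o)⁻¹ o' :=
      (fix_iff_conj hθ (c := c o)).mp (by rw [hcc]; exact h2)
    have ho : o = o' := by
      have e := u_fix_only hθ hne h1
      calc o = act hθ (c o) none := (hc o).symm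
        _ = act hθ (c o) (act hθ (c o)⁻¹ o') := by rw [e]
        _ = o' := hcc
    subst ho
    obtain ⟨e1, e2⟩ := u_injective hθ (mul_left_cancel (mul_right_cancel h))
    rw [e1, e2]
  · intro y hy
    have hy' := (Finset.mem_filter.mp hy).2
    have hy1 : y ≠ 1 := fun e => hj1 (by rw [← hy', e, orderOf_one])
    obtain ⟨o, -, -, h⟩ := two_element_fixed hθ hF hy1 (by rw [hy']; exact hj)
    obtain ⟨a, b, hab⟩ := h (c o) (hc o)
    refine ⟨(o, a, b), Finset.mem_product.mpr ⟨Finset.mem_univ _, (hS a b).mpr ?_⟩, hab.symm⟩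
    rw [← hy', hab, orderOf_conj']

theorem card_order_elems (hF : Fintype.card F = 2 ^ (2 * m + 1)) [Fintype ↥(G F m)] :
    (Finset.univ.filter fun y : ↥(G F m) => orderOf y = 2).card =
        (Fintype.card F * Fintype.card F + 1) * (Fintype.card F - 1) ∧
      (Finset.univ.filter fun y : ↥(G F m) => orderOf y = 4).card =
        (Fintype.card F * Fintype.card F + 1) * ((Fintype.card F - 1) * Fintype.card F) := by
  constructor
  · rw [card_order_eq hθ hF 2 (({0} : Finset F) ×ˢ (Finset.univ.erase 0)) ⟨1, rfl⟩ (by norm_num) (fun a b => ?_),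
      Finset.card_product, Finset.card_singleton, one_mul, Finset.card_erase_of_mem (Finset.mem_univ _),
      Finset.card_univ]
    simp only [Finset.mem_product, Finset.mem_singleton, Finset.mem_erase, Finset.mem_univ, and_true]
    refine ⟨fun h => (orderOf_u hθ a b).2 h.1 h.2, fun h => ?_⟩
    rcases eq_or_ne a 0 with ha | ha
    · refine ⟨ha, fun hb => ?_⟩
      rw [ha, hb, u_zero, orderOf_one] at h
      norm_num at h
    · rw [(orderOf_u hθ a b).1 ha] at h; norm_num at h
  · rw [card_order_eq hθ hF 4 ((Finset.univ.erase (0 : F)) ×ˢ (Finset.univ : Finset F)) ⟨2, rfl⟩ (by norm_num) (fun a b => ?_),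
      Finset.card_product, Finset.card_erase_of_mem (Finset.mem_univ _), Finset.card_univ]
    simp only [Finset.mem_product, Finset.mem_erase, Finset.mem_univ, and_true]
    refine ⟨fun h => (orderOf_u hθ a b).1 h, fun h ha => ?_⟩
    rcases eq_or_ne b 0 with hb | hb
    · rw [ha, hb, u_zero, orderOf_one] at h; norm_num at h
    · rw [(orderOf_u hθ a b).2 ha hb] at h; norm_num at h

theorem involution_conj {y : ↥(G F m)} (hF : Fintype.card F = 2 ^ (2 * m + 1)) (hy : orderOf y = 2) :
    ∃ c, y = c * u hθ 0 1 * c⁻¹ := by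
  have hy1 : y ≠ 1 := fun e => by rw [e, orderOf_one] at hy; norm_num at hy
  obtain ⟨o, -, -, h⟩ := two_element_fixed hθ hF hy1 ⟨1, by rw [hy]; rfl⟩
  obtain ⟨c, hc⟩ := exists_conj_stab hθ o
  obtain ⟨a, b, hab⟩ := h c hc
  have ho : orderOf (u hθ a b) = 2 := by
    have h := hy; rw [hab, orderOf_conj'] at h; exact h
  have ha : a = 0 := by
    by_contra ha
    rw [(orderOf_u hθ a b).1 ha] at ho; norm_num at ho
  subst ha
  have hb : b ≠ 0 := fun hb => by rw [hb, u_zero, orderOf_one] at ho; norm_num at ho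
  obtain ⟨x, hx⟩ := Finite.surjective_of_injective (szTh (F := F) m).injective b⁻¹
  have hx0 : x ≠ 0 := fun h0 => inv_ne_zero hb (by rw [← hx, h0, map_zero])
  refine ⟨c * tor hθ (Units.mk0 x hx0), ?_⟩
  rw [hab, show c * tor hθ (Units.mk0 x hx0) * u hθ 0 1 * (c * tor hθ (Units.mk0 x hx0))⁻¹ =
    c * (tor hθ (Units.mk0 x hx0) * u hθ 0 1 * (tor hθ (Units.mk0 x hx0))⁻¹) * c⁻¹ by group, conj_u, Units.val_mk0, hx,
    zero_mul, zero_div, one_div, inv_inv]

theorem order_four_conj (hm : 1 ≤ m) (hF : Fintype.card F = 2 ^ (2 * m + 1)) {y : ↥(G F m)} (hy : orderOf y = 4) :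
    ∃ c, y = c * u hθ 1 0 * c⁻¹ ∨ y = c * (u hθ 1 0)⁻¹ * c⁻¹ := by
  have hy1 : y ≠ 1 := fun e => by rw [e, orderOf_one] at hy; norm_num at hy
  obtain ⟨o, -, -, h⟩ := two_element_fixed hθ hF hy1 ⟨2, by rw [hy]; rfl⟩
  obtain ⟨c, hc⟩ := exists_conj_stab hθ o
  obtain ⟨a, b, hab⟩ := h c hc
  have ho : orderOf (u hθ a b) = 4 := by
    have h := hy; rw [hab, orderOf_conj'] at h; exact h
  have ha : a ≠ 0 := fun ha => by
    rcases eq_or_ne b 0 with hb | hb
    · rw [ha, hb, u_zero, orderOf_one] at ho; norm_num at ho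
    · rw [(orderOf_u hθ a b).2 ha hb] at ho; norm_num at ho
  obtain ⟨k, hk⟩ := exists_weight hθ ha
  -- the image of `x ↦ θ x + x`
  let f : F →+ F := (szTh (F := F) m).toAddMonoidHom + AddMonoidHom.id F
  have hf : ∀ x, f x = szTh m x + x := fun _ => rfl
  have h1 : (1 : F) ∉ f.range := by
    rintro ⟨x, hx⟩
    rw [hf] at hx
    have hreal := real_U hθ (u hθ x 0) (a := 1) (b := 0) ?_
    · exact one_ne_zero hreal
    · rw [mul_inv_eq_iff_eq_mul, u_inv, u_mul, u_mul]
      congr 1
      · exact add_comm x 1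
      · rw [map_one]
        linear_combination hx + (-x) * (CharTwo.two_eq_zero : (2 : F) = 0)
  have hsurj : ∀ t : F, t ∈ f.range ∨ t + 1 ∈ f.range := by
    intro t
    by_contra hcon
    rw [not_or] at hcon
    have hker : Nat.card f.ker ≤ 2 := by
      have hsub : ∀ x : f.ker, x.1 = 0 ∨ x.1 = 1 := fun x => by
        have hx : szTh m x.1 + x.1 = 0 := x.2
        have h4 := hθ x.1
        rw [CharTwo.add_eq_zero.mp hx, CharTwo.add_eq_zero.mp hx] at h4
        rcases eq_or_ne x.1 0 with e | e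
        · exact Or.inl e
        · exact Or.inr (mul_left_cancel₀ e (by rw [← h4, mul_one]))
      calc Nat.card f.ker ≤ Nat.card Bool := Nat.card_le_card_of_injective (fun x => decide (x.1 = 0)) (fun x y e => by
            simp only [decide_eq_decide] at e
            apply Subtype.ext
            rcases hsub x with e1 | e1 <;> rcases hsub y with e2 | e2
            · rw [e1, e2]
            · exact absurd (e.mp e1) (by rw [e2]; exact one_ne_zero)
            · exact absurd (e.mpr e2) (by rw [e1]; exact one_ne_zero)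
            · rw [e1, e2])
        _ = 2 := by simp
    have hidx : f.range.index ≤ 2 := by
      have h1' := AddSubgroup.card_mul_index f.range
      have h2' : Nat.card f.range * Nat.card f.ker = Nat.card F := by
        rw [← Nat.card_congr (QuotientAddGroup.quotientKerEquivRange f).toEquiv]
        exact (AddSubgroup.card_eq_card_quotient_mul_card_addSubgroup f.ker).symm
      rw [← h2'] at h1'
      rw [Nat.eq_of_mul_eq_mul_left Nat.card_pos h1']
      exact hker
    have h3 : Nat.card (F ⧸ f.range) ≥ 3 := by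
      haveI : Fintype (F ⧸ f.range) := Fintype.ofFinite _
      have n01 : (QuotientAddGroup.mk 0 : F ⧸ f.range) ≠ QuotientAddGroup.mk 1 := fun e => h1 (by
        have := QuotientAddGroup.eq.mp e; simpa using this)
      have n0t : (QuotientAddGroup.mk 0 : F ⧸ f.range) ≠ QuotientAddGroup.mk t := fun e => hcon.1 (by
        have := QuotientAddGroup.eq.mp e; simpa using this)
      have n1t : (QuotientAddGroup.mk 1 : F ⧸ f.range) ≠ QuotientAddGroup.mk t := fun e => hcon.2 (by
        have := QuotientAddGroup.eq.mp e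
        rwa [CharTwo.neg_eq, add_comm] at this)
      rw [Nat.card_eq_fintype_card]
      calc 3 = ({QuotientAddGroup.mk 0, QuotientAddGroup.mk 1, QuotientAddGroup.mk t} : Finset (F ⧸ f.range)).card := by
            rw [Finset.card_insert_of_notMem (by simp only [Finset.mem_insert, Finset.mem_singleton, not_or]; exact ⟨n01, n0t⟩),
              Finset.card_insert_of_notMem (by simp only [Finset.mem_singleton]; exact n1t), Finset.card_singleton]
        _ ≤ _ := Finset.card_le_univ _
    rw [← AddSubgroup.index_eq_card] at h3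
    omega
  -- `y` is conjugate to `u 1 (b θ k)`
  have hy' : y = c * tor hθ k * u hθ 1 (b * szTh m (k : F)) * (c * tor hθ k)⁻¹ := by
    rw [hab, show c * tor hθ k * u hθ 1 (b * szTh m (k : F)) * (c * tor hθ k)⁻¹ =
      c * (tor hθ k * u hθ 1 (b * szTh m (k : F)) * (tor hθ k)⁻¹) * c⁻¹ by group, conj_u, one_mul, hk,
      mul_div_cancel_right₀ b ((map_ne_zero _).mpr k.ne_zero)]
  set t := b * szTh m (k : F)
  have hshift : ∀ x d, u hθ x 0 * u hθ 1 d * (u hθ x 0)⁻¹ = u hθ 1 (d + (szTh m x + x)) := fun x d => by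
    rw [mul_inv_eq_iff_eq_mul, u_mul, u_mul]
    congr 1
    · exact add_comm x 1
    · rw [map_one]
      linear_combination (-x) * (CharTwo.two_eq_zero : (2 : F) = 0)
  rcases hsurj t with ⟨x, hx⟩ | ⟨x, hx⟩
  · refine ⟨c * tor hθ k * u hθ x 0, Or.inl ?_⟩
    have e : u hθ 1 t = u hθ x 0 * u hθ 1 0 * (u hθ x 0)⁻¹ := by rw [hshift, zero_add, ← hf, hx]
    rw [hy', e]; group
  · refine ⟨c * tor hθ k * u hθ x 0, Or.inr ?_⟩
    have e : u hθ 1 t = u hθ x 0 * (u hθ 1 0)⁻¹ * (u hθ x 0)⁻¹ := by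
      rw [u_inv, hshift, ← hf, hx, map_one]
      congr 1
      linear_combination (-1 : F) * (CharTwo.two_eq_zero : (2 : F) = 0)
    rw [hy', e]; group

/-- The members of a class of tori whose normaliser contains an element. -/
theorem cnt_conj [Fintype ↥(G F m)] (X : Subgroup ↥(G F m)) (c x : ↥(G F m)) :
    ((Finset.univ.image fun d : ↥(G F m) => X.map (MulAut.conj d).toMonoidHom).filter
        fun Y : Subgroup ↥(G F m) => c * x * c⁻¹ ∈ Subgroup.normalizer (Y : Set ↥(G F m))).card =
      ((Finset.univ.image fun d : ↥(G F m) => X.map (MulAut.conj d).toMonoidHom).filter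
        fun Y : Subgroup ↥(G F m) => x ∈ Subgroup.normalizer (Y : Set ↥(G F m))).card := by
  have hmm : ∀ (Y : Subgroup ↥(G F m)) (z : ↥(G F m)), z ∈ Subgroup.normalizer (Y : Set ↥(G F m)) ↔
      c * z * c⁻¹ ∈ Subgroup.normalizer (Y.map (MulAut.conj c).toMonoidHom : Set ↥(G F m)) := by
    intro Y z
    rw [Subgroup.mem_normalizer_iff, Subgroup.mem_normalizer_iff, (MulAut.conj c).toEquiv.forall_congr_left]
    refine forall_congr' fun y => ?_
    rw [Subgroup.mem_map_equiv, Subgroup.mem_map_equiv]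
    simp [mul_assoc]
  symm
  refine Finset.card_bij (fun Y _ => Y.map (MulAut.conj c).toMonoidHom) ?_ ?_ ?_
  · intro Y hY
    obtain ⟨hY, hxY⟩ := Finset.mem_filter.mp hY
    obtain ⟨d, -, rfl⟩ := Finset.mem_image.mp hY
    refine Finset.mem_filter.mpr ⟨Finset.mem_image.mpr ⟨c * d, Finset.mem_univ _, ?_⟩, (hmm _ x).mp hxY⟩
    rw [Subgroup.map_map]
    refine congrArg (fun f => Subgroup.map f X) (MonoidHom.ext fun z => ?_)
    show c * d * z * (c * d)⁻¹ = c * (d * z * d⁻¹) * c⁻¹
    group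
  · intro Y _ Y' _ h
    exact Subgroup.map_injective (f := (MulAut.conj c).toMonoidHom) (MulAut.conj c).injective h
  · intro Y hY
    obtain ⟨hY, hxY⟩ := Finset.mem_filter.mp hY
    obtain ⟨d, -, rfl⟩ := Finset.mem_image.mp hY
    have e : (X.map (MulAut.conj (c⁻¹ * d)).toMonoidHom).map (MulAut.conj c).toMonoidHom =
        X.map (MulAut.conj d).toMonoidHom := by
      rw [Subgroup.map_map]
      refine congrArg (fun f => Subgroup.map f X) (MonoidHom.ext fun z => ?_)
      show c * (c⁻¹ * d * z * (c⁻¹ * d)⁻¹) * c⁻¹ = d * z * d⁻¹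
      group
    exact ⟨X.map (MulAut.conj (c⁻¹ * d)).toMonoidHom, Finset.mem_filter.mpr
      ⟨Finset.mem_image.mpr ⟨c⁻¹ * d, Finset.mem_univ _, rfl⟩, (hmm _ x).mpr (by rw [e]; exact hxY)⟩, e⟩

theorem normalizer_outside (hm : 1 ≤ m) (hF : Fintype.card F = 2 ^ (2 * m + 1)) {X : Subgroup ↥(G F m)}
    (hX : IsSS hθ X) {y : ↥(G F m)} (hy : y ∈ Subgroup.normalizer (X : Set ↥(G F m))) (hyX : y ∉ X) : y ^ 4 = 1 := by
  by_contra h
  apply hyX
  rw [← ss_centralizer hθ hF hX (ss_pow_mem hθ hm hF hX hy) h, Subgroup.mem_centralizer_singleton_iff,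
    ← pow_succ, ← pow_succ']

theorem normalizer_order_counts (hm : 1 ≤ m) (hF : Fintype.card F = 2 ^ (2 * m + 1)) {X : Subgroup ↥(G F m)}
    [Fintype ↥(G F m)]
    (hX : IsSS hθ X) {k : ℕ} (hk : Nat.card (Subgroup.normalizer (X : Set ↥(G F m))) = k * Nat.card X)
    (hk2 : k = 2 ∨ k = 4) :
    ((Finset.univ.filter fun y : ↥(G F m) => orderOf y = 2).filter
        fun y => y ∈ Subgroup.normalizer (X : Set ↥(G F m))).card = Nat.card X ∧
      ((Finset.univ.filter fun y : ↥(G F m) => orderOf y = 4).filter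
        fun y => y ∈ Subgroup.normalizer (X : Set ↥(G F m))).card = (k - 2) * Nat.card X := by
  haveI : Fact (Nat.Prime 2) := ⟨Nat.prime_two⟩
  set N := Subgroup.normalizer (X : Set ↥(G F m)) with hN
  haveI := ss_cyclic hθ hF hX
  letI := IsCyclic.commGroup (α := ↥X)
  obtain ⟨t, ht⟩ := exists_prime_orderOf_dvd_card' (G := ↥N) 2 (by
    rw [hk]; rcases hk2 with rfl | rfl <;> exact Dvd.dvd.mul_right (by norm_num) _)
  set t₀ : ↥(G F m) := t.1 with ht₀
  rw [← Subgroup.orderOf_coe] at ht
  have htt : t₀ * t₀ = 1 := by rw [← sq, ← ht]; exact pow_orderOf_eq_one _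
  have hXodd : ∀ y ∈ X, ¬ 2 ∣ orderOf y := fun y hy h => ss_not_two_dvd hθ hF hX (h.trans (by
    rw [← Subgroup.orderOf_mk y hy]; exact orderOf_dvd_natCard _))
  have hinv : ∀ s : ↥(G F m), s ∈ N → orderOf s = 2 → ∀ z ∈ X, s * z * s⁻¹ = z⁻¹ := by
    intro s hs hso z hz
    have hsz : s * z * s⁻¹ ∈ X := ((Subgroup.mem_normalizer_iff.mp hs) z).mp hz
    set w := z * (s * z * s⁻¹) with hw
    have hwX : w ∈ X := mul_mem hz hsz
    have hss : s * s = 1 := by rw [← sq, ← hso]; exact pow_orderOf_eq_one _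
    have hsi : s⁻¹ = s := inv_eq_of_mul_eq_one_right hss
    have hcomm : s * w * s⁻¹ = w := by
      have e1 : s * w * s⁻¹ = (s * z * s⁻¹) * (s * s * z * (s * s)⁻¹) := by rw [hw]; group
      rw [e1, hss, one_mul, inv_one, mul_one, hw]
      exact congrArg Subtype.val (mul_comm (⟨_, hsz⟩ : ↥X) ⟨_, hz⟩)
    by_contra hne
    have hw1 : w ≠ 1 := fun h => hne (inv_eq_of_mul_eq_one_right h).symm
    have hsX : s ∈ X := by
      rw [← ss_centralizer hθ hF hX hwX hw1, Subgroup.mem_centralizer_singleton_iff]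
      exact mul_inv_eq_iff_eq_mul.mp hcomm
    exact hXodd s hsX (by rw [hso])
  have htX : t₀ ∉ X := fun h => hXodd t₀ h (by rw [ht])
  have hXN : X ≤ N := Subgroup.le_normalizer
  have hinvol : ((Finset.univ.filter fun y : ↥(G F m) => orderOf y = 2).filter fun y => y ∈ N) =
      (Finset.univ.filter fun z : ↥(G F m) => z ∈ X).image fun z => t₀ * z := by
    ext y
    simp only [Finset.mem_filter, Finset.mem_univ, true_and, Finset.mem_image]
    constructor
    · rintro ⟨hy, hyN⟩
      refine ⟨t₀⁻¹ * y, ?_, mul_inv_cancel_left _ _⟩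
      obtain ⟨z, hz, hz1⟩ : ∃ z ∈ X, z ≠ 1 := by
        have := ss_one_lt hθ hm hF hX
        rw [Finite.one_lt_card_iff_nontrivial] at this
        obtain ⟨z, hz⟩ := exists_ne (1 : ↥X)
        exact ⟨z.1, z.2, fun e => hz (Subtype.ext e)⟩
      rw [← ss_centralizer hθ hF hX hz hz1, Subgroup.mem_centralizer_singleton_iff]
      have e1 := hinv y hyN hy z hz
      have e2 := hinv t₀ t.2 ht z hz
      have e3 : t₀ * z * t₀⁻¹ = y * z * y⁻¹ := e2.trans e1.symm
      calc t₀⁻¹ * y * z = t₀⁻¹ * (y * z * y⁻¹) * y := by group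
        _ = t₀⁻¹ * (t₀ * z * t₀⁻¹) * y := by rw [e3]
        _ = z * (t₀⁻¹ * y) := by group
    · rintro ⟨z, hz, rfl⟩
      refine ⟨orderOf_eq_prime ?_ (fun e => htX ?_), mul_mem t.2 (hXN hz)⟩
      · have e := hinv t₀ t.2 ht z hz
        rw [sq]
        calc t₀ * z * (t₀ * z) = t₀ * z * t₀⁻¹ * (t₀ * t₀) * z := by group
          _ = 1 := by rw [e, htt, mul_one, inv_mul_cancel]
      · rw [eq_inv_of_mul_eq_one_left e]; exact inv_mem hz
  have hXcard : (Finset.univ.filter fun z : ↥(G F m) => z ∈ X).card = Nat.card X := by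
    rw [← Fintype.card_subtype, Nat.card_eq_fintype_card]
  have c2 : ((Finset.univ.filter fun y : ↥(G F m) => orderOf y = 2).filter fun y => y ∈ N).card = Nat.card X := by
    rw [hinvol, Finset.card_image_of_injective _ (mul_right_injective t₀), hXcard]
  refine ⟨c2, ?_⟩
  have hsplit : (Finset.univ.filter fun y : ↥(G F m) => y ∈ N) =
      (Finset.univ.filter fun z : ↥(G F m) => z ∈ X) ∪
        ((Finset.univ.filter fun y : ↥(G F m) => orderOf y = 2).filter fun y => y ∈ N) ∪
        ((Finset.univ.filter fun y : ↥(G F m) => orderOf y = 4).filter fun y => y ∈ N) := by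
    ext y
    simp only [Finset.mem_filter, Finset.mem_univ, true_and, Finset.mem_union]
    constructor
    · intro hy
      by_cases hyX : y ∈ X
      · exact Or.inl (Or.inl hyX)
      have hd : orderOf y ∣ 2 ^ 2 := orderOf_dvd_of_pow_eq_one (normalizer_outside hθ hm hF hX hy hyX)
      obtain ⟨i, hi, hi'⟩ := (Nat.dvd_prime_pow Nat.prime_two).mp hd
      interval_cases i
      · exact absurd (orderOf_eq_one_iff.mp (by simpa using hi')) (fun e => hyX (by rw [e]; exact one_mem X))
      · exact Or.inl (Or.inr ⟨by simpa using hi', hy⟩)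
      · exact Or.inr ⟨by simpa using hi', hy⟩
    · rintro ((h | h) | h)
      · exact hXN h
      · exact h.2
      · exact h.2
  have hcard := congrArg Finset.card hsplit
  rw [Finset.card_union_of_disjoint, Finset.card_union_of_disjoint, c2, hXcard, ← Fintype.card_subtype,
    ← Nat.card_eq_fintype_card, hk] at hcard
  · rw [Nat.sub_mul]
    have : 2 * Nat.card X ≤ k * Nat.card X := Nat.mul_le_mul_right _ (by omega)
    omega
  · rw [Finset.disjoint_left]
    intro y h1 h2
    simp only [Finset.mem_filter, Finset.mem_univ, true_and] at h1 h2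
    exact hXodd y h1 (by rw [h2.1])
  · rw [Finset.disjoint_left]
    intro y h1 h2
    simp only [Finset.mem_filter, Finset.mem_univ, true_and, Finset.mem_union] at h1 h2
    rcases h1 with h1 | ⟨h1, -⟩
    · exact hXodd y h1 (by rw [h2.1]; norm_num)
    · omega

theorem class_count (hm : 1 ≤ m) (hF : Fintype.card F = 2 ^ (2 * m + 1)) [Fintype ↥(G F m)]
    {X : Subgroup ↥(G F m)}
    (hX : IsSS hθ X) {k : ℕ} (hk : Nat.card (Subgroup.normalizer (X : Set ↥(G F m))) = k * Nat.card X)
    (hk2 : k = 2 ∨ k = 4) (x : ↥(G F m)) :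
    (orderOf x = 2 → ((Finset.univ.image fun d : ↥(G F m) => X.map (MulAut.conj d).toMonoidHom).filter
        fun Y : Subgroup ↥(G F m) => x ∈ Subgroup.normalizer (Y : Set ↥(G F m))).card * k =
      Fintype.card F * Fintype.card F) ∧
    (orderOf x = 4 → ((Finset.univ.image fun d : ↥(G F m) => X.map (MulAut.conj d).toMonoidHom).filter
        fun Y : Subgroup ↥(G F m) => x ∈ Subgroup.normalizer (Y : Set ↥(G F m))).card * k =
      Fintype.card F * (k - 2)) := by
  set O := Finset.univ.image fun d : ↥(G F m) => X.map (MulAut.conj d).toMonoidHom with hO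
  let cnt : ↥(G F m) → ℕ := fun y => (O.filter fun Y : Subgroup ↥(G F m) => y ∈ Subgroup.normalizer (Y : Set ↥(G F m))).card
  have hgoal : ((O.filter fun Y : Subgroup ↥(G F m) => x ∈ Subgroup.normalizer (Y : Set ↥(G F m))).card = cnt x) := by
    show _ = (Finset.filter _ O).card
    congr 1
  rw [hgoal]
  have hOcard : O.card * (k * Nat.card X) = Nat.card ↥(G F m) := by
    rw [← hk, ← orbit_card hθ X]
    congr 1
    rw [Set.ncard_eq_toFinset_card', Set.toFinset_range]
  have hconj : ∀ c y : ↥(G F m), cnt (c * y * c⁻¹) = cnt y := fun c y => cnt_conj hθ X c y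
  have hinvc : ∀ y : ↥(G F m), cnt y⁻¹ = cnt y := fun y =>
    congrArg Finset.card (Finset.filter_congr fun Y _ => inv_mem_iff)
  -- double counting
  have key : ∀ (j e : ℕ) (v : ↥(G F m)), orderOf x = j → (∀ y : ↥(G F m), orderOf y = j → cnt y = cnt v) →
      (∀ Y : Subgroup ↥(G F m), IsSS hθ Y → Nat.card (Subgroup.normalizer (Y : Set ↥(G F m))) = k * Nat.card Y →
        ((Finset.univ.filter fun y : ↥(G F m) => orderOf y = j).filter
          fun y => y ∈ Subgroup.normalizer (Y : Set ↥(G F m))).card = e * Nat.card Y) →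
      cnt x * (Finset.univ.filter fun y : ↥(G F m) => orderOf y = j).card = O.card * (e * Nat.card X) := by
    intro j e v hx hv he
    calc cnt x * (Finset.univ.filter fun y : ↥(G F m) => orderOf y = j).card
        = ∑ y ∈ Finset.univ.filter fun y : ↥(G F m) => orderOf y = j, cnt y := by
          rw [Finset.sum_congr rfl (fun y hy => (hv y (Finset.mem_filter.mp hy).2).trans (hv x hx).symm),
            Finset.sum_const, smul_eq_mul, mul_comm]
      _ = ∑ Y ∈ O, ((Finset.univ.filter fun y : ↥(G F m) => orderOf y = j).filter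
            fun y => y ∈ Subgroup.normalizer (Y : Set ↥(G F m))).card := by
          simp only [cnt, Finset.card_filter]
          rw [Finset.sum_comm]
      _ = ∑ Y ∈ O, e * Nat.card X := by
          refine Finset.sum_congr rfl fun Y hY => ?_
          obtain ⟨d, -, rfl⟩ := Finset.mem_image.mp hY
          have hcd : Nat.card (X.map (MulAut.conj d).toMonoidHom) = Nat.card X :=
            Subgroup.card_map_of_injective (MulAut.conj d).injective
          rw [he _ (ss_conj hθ hX d) (by rw [card_normalizer_map hθ, hk, hcd]), hcd]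
      _ = _ := by rw [Finset.sum_const, smul_eq_mul]
  obtain ⟨hE2, hE4⟩ := card_order_elems hθ hF
  have hq1 : 1 < Fintype.card F := Fintype.one_lt_card
  constructor
  · intro hx
    have h := key 2 1 (u hθ 0 1) hx (fun y hy => by
        obtain ⟨c, rfl⟩ := involution_conj hθ hF hy; exact hconj c _)
      (fun Y hY hYk => by rw [one_mul]; exact (normalizer_order_counts hθ hm hF hY hYk hk2).1)
    rw [hE2, one_mul] at h
    have h2 : cnt x * k * ((Fintype.card F * Fintype.card F + 1) * (Fintype.card F - 1)) =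
        Fintype.card F * Fintype.card F * ((Fintype.card F * Fintype.card F + 1) * (Fintype.card F - 1)) := by
      rw [card_sz hθ] at hOcard
      linear_combination k * h + hOcard
    exact Nat.eq_of_mul_eq_mul_right (Nat.mul_pos (by omega) (by omega)) h2
  · intro hx
    have h := key 4 (k - 2) (u hθ 1 0) hx (fun y hy => by
        obtain ⟨c, rfl | rfl⟩ := order_four_conj hθ hm hF hy
        · exact hconj c _
        · rw [hconj c, hinvc])
      (fun Y hY hYk => (normalizer_order_counts hθ hm hF hY hYk hk2).2)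
    rw [hE4] at h
    have h2 : cnt x * k * ((Fintype.card F * Fintype.card F + 1) * ((Fintype.card F - 1) * Fintype.card F)) =
        Fintype.card F * (k - 2) * ((Fintype.card F * Fintype.card F + 1) * ((Fintype.card F - 1) * Fintype.card F)) := by
      rw [card_sz hθ] at hOcard
      linear_combination k * h + (k - 2) * hOcard
    exact Nat.eq_of_mul_eq_mul_right (Nat.mul_pos (by omega) (Nat.mul_pos (by omega) (by omega))) h2

theorem ss_member_unique (hm : 1 ≤ m) (hF : Fintype.card F = 2 ^ (2 * m + 1)) {x y : ↥(G F m)}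
    {X Y : Subgroup ↥(G F m)} (hX : IsSS hθ X) (hY : IsSS hθ Y)
    (hxX : x ∈ Subgroup.normalizer (X : Set ↥(G F m))) (hyX : y ∈ Subgroup.normalizer (X : Set ↥(G F m)))
    (hxY : x ∈ Subgroup.normalizer (Y : Set ↥(G F m))) (hyY : y ∈ Subgroup.normalizer (Y : Set ↥(G F m)))
    (hno : ¬ ∃ o, act hθ x o = o ∧ act hθ y o = o) : X = Y := by
  haveI : Fact (Nat.Prime 2) := ⟨Nat.prime_two⟩
  set M := Subgroup.closure ({x, y} : Set ↥(G F m)) with hM
  have hMX : M ≤ Subgroup.normalizer (X : Set ↥(G F m)) := by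
    rw [hM, Subgroup.closure_le]; rintro z (rfl | rfl) <;> assumption
  have hMY : M ≤ Subgroup.normalizer (Y : Set ↥(G F m)) := by
    rw [hM, Subgroup.closure_le]; rintro z (rfl | rfl) <;> assumption
  by_cases hz : ∃ z ∈ M, z ∈ X ∧ z ≠ 1
  · obtain ⟨z, hzM, hzX, hz1⟩ := hz
    have ho : ¬ 2 ∣ orderOf z := fun h => ss_not_two_dvd hθ hF hX (h.trans (by
      rw [← Subgroup.orderOf_mk z hzX]; exact orderOf_dvd_natCard _))
    exact ss_unique hθ hF hX hY hz1 hzX (ss_odd_mem hθ hm hF hY (hMY hzM) ho)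
  · exfalso
    push Not at hz
    have hp : IsPGroup 2 ↥M := fun z => ⟨2, Subtype.ext (hz _ (pow_mem z.2 _) (ss_pow_mem hθ hm hF hX (hMX z.2)))⟩
    obtain ⟨P, hP⟩ := hp.exists_le_sylow
    obtain ⟨c, hc⟩ := MulAction.exists_smul_eq ↥(G F m) (sylow hθ hF) P
    apply hno
    refine ⟨act hθ c none, ?_, ?_⟩
    all_goals
      refine (mem_Stab hθ).mp ?_
      rw [stab_eq_map hθ rfl]
      refine Subgroup.map_mono (U_le_B hθ) ?_
      rw [← sylow_coe hθ hF]
      rw [← hc, Sylow.coe_subgroup_smul] at hP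
      apply hP
    · exact Subgroup.subset_closure (Set.mem_insert x _)
    · exact Subgroup.subset_closure (Set.mem_insert_of_mem x rfl)

/-- The solubiliser as a finite set. -/
def Fx [Fintype ↥(G F m)] (x : ↥(G F m)) : Finset ↥(G F m) :=
  Finset.univ.filter fun y : ↥(G F m) => ∃ o, act hθ x o = o ∧ act hθ y o = o

theorem mem_Fx [Fintype ↥(G F m)] {x y : ↥(G F m)} :
    y ∈ Fx hθ x ↔ ∃ o, act hθ x o = o ∧ act hθ y o = o := by simp [Fx]

theorem sol_decomp (hm : 1 ≤ m) (hF : Fintype.card F = 2 ^ (2 * m + 1)) [Fintype ↥(G F m)] (x : ↥(G F m))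
    (S : Finset (Subgroup ↥(G F m)))
    (hS : ∀ Y, Y ∈ S ↔ IsSS hθ Y ∧ x ∈ Subgroup.normalizer (Y : Set ↥(G F m))) :
    Nat.card {y : ↥(G F m) // Group.IsSolvable ↥(Subgroup.closure ({x, y} : Set ↥(G F m)))} =
      (Fx hθ x).card +
        ∑ Y ∈ S, ((Finset.univ.filter fun y : ↥(G F m) => y ∈ Subgroup.normalizer (Y : Set ↥(G F m))) \ Fx hθ x).card := by
  rw [← Finset.card_biUnion, ← Finset.card_union_of_disjoint, Nat.card_eq_fintype_card, Fintype.card_subtype]
  · congr 1
    ext y
    simp only [Finset.mem_filter, Finset.mem_univ, true_and, Finset.mem_union, mem_Fx, Finset.mem_biUnion,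
      Finset.mem_sdiff, hS, closure_solvable_iff hθ hm hF]
    constructor
    · rintro (h | ⟨Y, hY, hx, hy⟩)
      · exact Or.inl h
      · by_cases h : ∃ o, act hθ x o = o ∧ act hθ y o = o
        · exact Or.inl h
        · exact Or.inr ⟨Y, ⟨hY, hx⟩, hy, h⟩
    · rintro (h | ⟨Y, ⟨hY, hx⟩, hy, -⟩)
      · exact Or.inl h
      · exact Or.inr ⟨Y, hY, hx, hy⟩
  · rw [Finset.disjoint_left]
    intro y hy h
    obtain ⟨Y, -, hY⟩ := Finset.mem_biUnion.mp h
    exact (Finset.mem_sdiff.mp hY).2 hy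
  · intro Y hY Z hZ hne
    simp only [Function.onFun]
    rw [Finset.disjoint_left]
    intro y h1 h2
    simp only [Finset.mem_sdiff, Finset.mem_filter, Finset.mem_univ, true_and, mem_Fx] at h1 h2
    exact hne (ss_member_unique hθ hm hF ((hS Y).mp hY).1 ((hS Z).mp hZ).1 ((hS Y).mp hY).2 h1.1
      ((hS Z).mp hZ).2 h2.1 h1.2)

end

end Cfsg.Agent.Lib.KnownA.Suz
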