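import Mathlib
import Cfsg.Agent.Lib.KnownA.SuzukiSolubilizer
import Cfsg.Agent.Lib.KnownA.SuzukiOut
import Cfsg.Agent.Lib.KnownA.SuzukiElemAbelian

/-! The subgroups of the Suzuki group. -/

set_option autoImplicit false
set_option maxHeartbeats 400000

namespace Cfsg.Agent.Lib.KnownA.Suz

open Matrix Cfsg.Lie
open scoped Classical

set_option linter.unusedSectionVars false

noncomputable section

variable {F : Type*} [Field F] [Fintype F] [CharP F 2] {m : ℕ} (hθ : ∀ x : F, szTh m (szTh m x) = x * x)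
include hθ

theorem inv_data (hF : Fintype.card F = 2 ^ (2 * m + 1)) {s : ↥(G F m)} (h2 : s * s = 1) (h1 : s ≠ 1) :
    ∃ o, act hθ s o = o ∧ (∀ o', act hθ s o' = o' → o' = o) ∧
      ∀ c, act hθ c none = o → ∃ b, b ≠ 0 ∧ s = c * u hθ 0 b * c⁻¹ := by
  haveI : Fact (Nat.Prime 2) := ⟨Nat.prime_two⟩
  have ho : orderOf s = 2 := orderOf_eq_prime (by rw [sq, h2]) h1
  obtain ⟨o, hfix, huniq, h⟩ := two_element_fixed hθ hF h1 ⟨1, by rw [ho, pow_one]⟩
  refine ⟨o, hfix, huniq, fun c hc => ?_⟩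
  obtain ⟨a, b, rfl⟩ := h c hc
  have h3 : c * (u hθ a b * u hθ a b) * c⁻¹ = 1 := by rw [← h2]; group
  rw [conj_eq_one_iff, u_sq, ← u_zero hθ] at h3
  have ha : a = 0 := by
    rcases mul_eq_zero.mp (u_injective hθ h3).2 with h | h
    · exact (map_eq_zero _).mp h
    · exact h
  subst ha
  exact ⟨b, fun hb => h1 (by rw [hb, u_zero, mul_one, mul_inv_cancel]), rfl⟩

theorem swapper (hF : Fintype.card F = 2 ^ (2 * m + 1)) (M : Subgroup ↥(G F m)) {s t : ↥(G F m)} (hs : s ∈ M)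
    (ht : t ∈ M) (hs2 : s * s = 1) (ht2 : t * t = 1) (ht1 : t ≠ 1) {os ot : Pts F} (hos : act hθ s os = os)
    (hsu : ∀ o, act hθ s o = o → o = os) (hot : act hθ t ot = ot) (htu : ∀ o, act hθ t o = o → o = ot) (hne : os ≠ ot) :
    ∃ d ∈ M, s = d * t * d⁻¹ ∧ act hθ d ot = os ∧ (d * t) * (d * t) = 1 := by
  set n := orderOf (s * t) with hn
  have hst : s * t ∈ M := mul_mem hs ht
  have hsi : s⁻¹ = s := inv_eq_of_mul_eq_one_right hs2
  have hti : t⁻¹ = t := inv_eq_of_mul_eq_one_right ht2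
  have hinv : ∀ i : ℕ, t * (s * t) ^ i * t⁻¹ = ((s * t) ^ i)⁻¹ := fun i => by
    rw [← conj_pow, ← inv_pow]
    congr 1
    rw [_root_.mul_inv_rev, hsi, hti]
    rw [show t * (s * t) * t = t * s * (t * t) by group, ht2, mul_one]
  have hn0 : 0 < n := orderOf_pos _
  obtain ⟨j, hj⟩ : ∃ j, n = 2 * j + 1 := by
    refine ⟨n / 2, ?_⟩
    by_contra hcon
    obtain ⟨i, hi⟩ : ∃ i, n = 2 * i := ⟨n / 2, by omega⟩
    set z := (s * t) ^ i with hz
    have hz1 : z ≠ 1 := fun h => by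
      have := orderOf_dvd_of_pow_eq_one h
      have := Nat.le_of_dvd (by omega) this
      omega
    have hz2 : z * z = 1 := by rw [hz, ← pow_add, ← two_mul, ← hi, hn, pow_orderOf_eq_one]
    obtain ⟨oz, hoz, huz, -⟩ := inv_data hθ hF hz2 hz1
    have hzt : z * t = t * z := by
      have h := hinv i
      rw [← hz, inv_eq_of_mul_eq_one_right hz2, mul_inv_eq_iff_eq_mul] at h
      exact h.symm
    have hzs : z * s = s * z := by
      have hs' : s = (s * t) * t := by rw [mul_assoc, ht2, mul_one]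
      rw [hs', hz]
      exact ((Commute.pow_self (s * t) i).mul_right hzt).eq
    refine hne ?_
    have h1 : oz = os := hsu _ (huz _ (by rw [← act_mul, hzs, act_mul, hoz]))
    have h2 : oz = ot := htu _ (huz _ (by rw [← act_mul, hzt, act_mul, hoz]))
    exact h1.symm.trans h2
  set d := (s * t) ^ (j + 1) with hd
  have htd : t * d⁻¹ * t⁻¹ = d := by
    have h := hinv (j + 1)
    rw [← hd] at h
    calc t * d⁻¹ * t⁻¹ = (t * d * t⁻¹)⁻¹ := by group
      _ = d := by rw [h, inv_inv]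
  have hdd : d * d = s * t := by
    rw [hd, ← pow_add, show j + 1 + (j + 1) = n + 1 by omega, pow_succ, hn, pow_orderOf_eq_one, one_mul]
  have hs' : s = d * t * d⁻¹ := by
    calc s = d * d * t := by rw [hdd, mul_assoc, ht2, mul_one]
      _ = d * (t * d⁻¹ * t⁻¹) * t := by rw [htd]
      _ = d * t * d⁻¹ := by group
  refine ⟨d, pow_mem hst _, hs', hsu _ ?_, ?_⟩
  · rw [← act_mul, hs', inv_mul_cancel_right, act_mul, hot]
  · calc d * t * (d * t) = d * (t * d * t⁻¹) * (t * t) := by group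
      _ = 1 := by rw [hinv (j + 1), ← hd, mul_inv_cancel, ht2, one_mul]

theorem not_le_stab (hF : Fintype.card F = 2 ^ (2 * m + 1)) {M : Subgroup ↥(G F m)} (hns : ¬ Group.IsSolvable ↥M)
    (o : Pts F) : ¬ M ≤ Stab hθ o := fun h => by
  haveI := stab_solvable hθ hF o
  exact hns (solvable_of_solvable_injective (f := Subgroup.inclusion h) (Subgroup.inclusion_injective h))

theorem core (hF : Fintype.card F = 2 ^ (2 * m + 1)) (M : Subgroup ↥(G F m))
    (hns : ¬ Group.IsSolvable ↥M) (hw : wel hθ ∈ M) {c : F} (hc0 : c ≠ 0) (hc : u hθ 0 c ∈ M) :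
    ∃ S : Subfield F, 2 < Nat.card S ∧ (∀ a b, a ∈ S → b ∈ S → u hθ a b ∈ M) ∧ (∀ k : Fˣ, (k : F) ∈ S → tor hθ k ∈ M) ∧
      ∀ g ∈ M, ∃ a b a' b' : F, ∃ k : Fˣ, a ∈ S ∧ b ∈ S ∧ a' ∈ S ∧ b' ∈ S ∧ (k : F) ∈ S ∧
        (g = u hθ a b * tor hθ k ∨ g = u hθ a b * wel hθ * (u hθ a' b' * tor hθ k)) := by
  haveI := Fintype.ofFinite ↥(G F m)
  haveI : Fact (Nat.Prime 2) := ⟨Nat.prime_two⟩
  set t := u hθ 0 c with ht
  have ht2 : t * t = 1 := by rw [ht, u_sq, map_zero, zero_mul, u_zero]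
  have ht1 : t ≠ 1 := fun h => hc0 (u_injective hθ (h.trans (u_zero hθ).symm)).2
  have htf : act hθ t none = none := act_u_none hθ 0 c
  have htu : ∀ o, act hθ t o = o → o = none := fun o ho => u_fix_only hθ ht1 ho
  -- every involution of `M` is conjugate in `M` to one fixing `none`
  have hinvO : ∀ s ∈ M, s * s = 1 → s ≠ 1 → ∀ o, act hθ s o = o → ∃ h ∈ M, act hθ h none = o := by
    intro s hs hs2 hs1 o ho
    rcases eq_or_ne o none with rfl | hne
    · exact ⟨1, one_mem _, act_one hθ _⟩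
    obtain ⟨os, hos, hsu, -⟩ := inv_data hθ hF hs2 hs1
    obtain rfl := hsu o ho
    obtain ⟨d, hd, -, hdo, -⟩ := swapper hθ hF M hs hc hs2 ht2 ht1 hos hsu htf htu hne
    exact ⟨d, hd, hdo⟩
  -- the torus component
  let Dp : Finset Fˣ := Finset.univ.filter fun k => ∃ a b, u hθ a b * tor hθ k ∈ M
  let Ss : Finset F := Finset.univ.filter fun b => b ≠ 0 ∧ u hθ 0 b ∈ M
  have hDmem : ∀ k, k ∈ Dp ↔ ∃ a b, u hθ a b * tor hθ k ∈ M := fun k => by
    simp only [Dp, Finset.mem_filter, Finset.mem_univ, true_and]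
  have hSmem : ∀ b, b ∈ Ss ↔ b ≠ 0 ∧ u hθ 0 b ∈ M := fun b => by
    simp only [Ss, Finset.mem_filter, Finset.mem_univ, true_and]
  have hstab : ∀ k ∈ Dp, ∀ b ∈ Ss, b / szTh m (k : F) ∈ Ss := by
    intro k hk b hb
    obtain ⟨a', b', hg⟩ := (hDmem k).mp hk
    rw [hSmem] at hb ⊢
    refine ⟨div_ne_zero hb.1 ((map_ne_zero _).mpr k.ne_zero), ?_⟩
    rw [← conj_center hθ a' b' k b]
    exact M.mul_mem (M.mul_mem hg hb.2) (M.inv_mem hg)
  have hconjS : ∀ b ∈ Ss, ∃ k ∈ Dp, c / szTh m (k : F) = b := by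
    intro b hb
    obtain ⟨hb0, hbM⟩ := (hSmem b).mp hb
    set t' := wel hθ * t * (wel hθ)⁻¹
    have ht'M : t' ∈ M := M.mul_mem (M.mul_mem hw hc) (M.inv_mem hw)
    have ht'2 : t' * t' = 1 := by rw [show t' * t' = wel hθ * (t * t) * (wel hθ)⁻¹ by simp [t', mul_assoc], ht2]; group
    have ht'1 : t' ≠ 1 := fun h => ht1 (conj_eq_one_iff.mp h)
    have ht'f : act hθ t' (some (0, 0)) = some (0, 0) := by
      rw [← act_wel_none hθ]; simp only [t']; rw [← act_mul, inv_mul_cancel_right, act_mul, htf]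
    have ht'u : ∀ o, act hθ t' o = o → o = some (0, 0) := by
      intro o ho
      have : act hθ t (act hθ (wel hθ)⁻¹ o) = act hθ (wel hθ)⁻¹ o := by
        conv_rhs => rw [← ho]
        rw [← act_mul, ← act_mul]; congr 1; simp [t', mul_assoc]
      have h2 := congrArg (act hθ (wel hθ)) (htu _ this)
      rwa [← act_mul, mul_inv_cancel, act_one, act_wel_none] at h2
    set s := u hθ 0 b
    have hs2 : s * s = 1 := by simp only [s]; rw [u_sq, map_zero, zero_mul, u_zero]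
    have hs1 : s ≠ 1 := fun h => hb0 (u_injective hθ (h.trans (u_zero hθ).symm)).2
    have hsf : act hθ s none = none := act_u_none hθ 0 b
    have hsu : ∀ o, act hθ s o = o → o = none := fun o ho => u_fix_only hθ hs1 ho
    obtain ⟨d, hd, hds, hdo, -⟩ := swapper hθ hF M hbM ht'M hs2 ht'2 ht'1 hsf hsu ht'f ht'u (by simp)
    have hg : act hθ (d * wel hθ) none = none := by rw [act_mul, act_wel_none, hdo]
    obtain ⟨a', b', k, hk⟩ := stab_none hθ hg
    refine ⟨k, (hDmem k).mpr ⟨a', b', hk ▸ M.mul_mem hd hw⟩, ?_⟩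
    have h : u hθ 0 (c / szTh m (k : F)) = u hθ 0 b := by
      rw [← conj_center hθ a' b' k c, ← hk]
      show _ = s
      rw [hds]; simp only [t', ← ht]; group
    exact (u_injective hθ h).2
  have hcard : Ss.card = Dp.card := by
    refine (Finset.card_bij (s := Dp) (t := Ss) (fun k _ => c / szTh m (k : F)) (fun k hk => hstab k hk c ((hSmem c).mpr ⟨hc0, hc⟩)) ?_ ?_).symm
    · intro k _ k' _ h
      rw [div_eq_mul_inv, div_eq_mul_inv] at h
      exact Units.ext ((szTh (F := F) m).injective (inv_injective (mul_left_cancel₀ hc0 h)))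
    · intro b hb
      obtain ⟨k, hk, h⟩ := hconjS b hb
      exact ⟨k, hk, h⟩
  let fp : ↥(G F m) → Pts F := fun s => if h : ∃ o, act hθ s o = o then h.choose else none
  have hfp : ∀ s, s * s = 1 → s ≠ 1 → act hθ s (fp s) = fp s ∧ ∀ o, act hθ s o = o → o = fp s := by
    intro s h2 h1
    obtain ⟨o, ho, hu, -⟩ := inv_data hθ hF h2 h1
    have hex : ∃ o, act hθ s o = o := ⟨o, ho⟩
    simp only [fp, dif_pos hex]
    exact ⟨hex.choose_spec, fun o' ho' => (hu o' ho').trans (hu _ hex.choose_spec).symm⟩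
  let Iv : Finset ↥(G F m) := Finset.univ.filter fun s => s ∈ M ∧ s * s = 1 ∧ act hθ s none ≠ none
  let Op : Finset (Pts F) := Finset.univ.filter fun o => (∃ h ∈ M, act hθ h none = o) ∧ o ≠ none
  have hIv : ∀ s, s ∈ Iv ↔ s ∈ M ∧ s * s = 1 ∧ act hθ s none ≠ none := fun s => by
    simp only [Iv, Finset.mem_filter, Finset.mem_univ, true_and]
  have hOp : ∀ o, o ∈ Op ↔ (∃ h ∈ M, act hθ h none = o) ∧ o ≠ none := fun o => by
    simp only [Op, Finset.mem_filter, Finset.mem_univ, true_and]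
  have hIv1 : ∀ s ∈ Iv, s ≠ 1 := fun s hs h => ((hIv s).mp hs).2.2 (by rw [h, act_one])
  have hfib1 : ∀ o ∈ Op, (Iv.filter fun s => fp s = o).card = Ss.card := by
    intro o ho
    obtain ⟨⟨h, hh, rfl⟩, hne⟩ := (hOp o).mp ho
    refine (Finset.card_bij (fun b _ => h * u hθ 0 b * h⁻¹) ?_ ?_ ?_).symm
    · intro b hb
      obtain ⟨hb0, hbM⟩ := (hSmem b).mp hb
      have h2 : h * u hθ 0 b * h⁻¹ * (h * u hθ 0 b * h⁻¹) = 1 := by
        rw [show h * u hθ 0 b * h⁻¹ * (h * u hθ 0 b * h⁻¹) = h * (u hθ 0 b * u hθ 0 b) * h⁻¹ by group, u_sq, map_zero,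
          zero_mul, u_zero]; group
      have h1 : h * u hθ 0 b * h⁻¹ ≠ 1 := fun e => hb0 (u_injective hθ ((conj_eq_one_iff.mp e).trans (u_zero hθ).symm)).2
      have hf : act hθ (h * u hθ 0 b * h⁻¹) (act hθ h none) = act hθ h none := by
        rw [← act_mul, inv_mul_cancel_right, act_mul, act_u_none]
      refine Finset.mem_filter.mpr ⟨(hIv _).mpr ⟨M.mul_mem (M.mul_mem hh hbM) (M.inv_mem hh), h2, fun e => ?_⟩,
        ((hfp _ h2 h1).2 _ hf).symm⟩
      exact hne ((hfp _ h2 h1).2 _ hf |>.trans ((hfp _ h2 h1).2 _ e).symm)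
    · intro b _ b' _ e
      exact (u_injective hθ (mul_left_cancel (mul_right_cancel e))).2
    · intro s hs
      obtain ⟨hsI, hso⟩ := Finset.mem_filter.mp hs
      obtain ⟨hsM, hs2, -⟩ := (hIv s).mp hsI
      obtain ⟨os, hos, hsu, hform⟩ := inv_data hθ hF hs2 (hIv1 s hsI)
      have e : os = act hθ h none := ((hfp s hs2 (hIv1 s hsI)).2 os hos).trans hso
      obtain ⟨b, hb0, rfl⟩ := hform h e.symm
      refine ⟨b, (hSmem b).mpr ⟨hb0, ?_⟩, rfl⟩
      have := M.mul_mem (M.mul_mem (M.inv_mem hh) hsM) hh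
      rwa [show h⁻¹ * (h * u hθ 0 b * h⁻¹) * h = u hθ 0 b by group] at this
  have hmap1 : ∀ s ∈ Iv, fp s ∈ Op := fun s hs => by
    obtain ⟨hsM, hs2, hsn⟩ := (hIv s).mp hs
    obtain ⟨hf, -⟩ := hfp s hs2 (hIv1 s hs)
    exact (hOp _).mpr ⟨hinvO s hsM hs2 (hIv1 s hs) _ hf, fun e => hsn (by rw [e] at hf; exact hf)⟩
  have hmap2 : ∀ s ∈ Iv, act hθ s none ∈ Op := fun s hs =>
    (hOp _).mpr ⟨⟨s, ((hIv s).mp hs).1, rfl⟩, ((hIv s).mp hs).2.2⟩
  let kk : ↥(G F m) → Fˣ := fun g => if h : ∃ k a b, g = u hθ a b * tor hθ k then h.choose else 1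
  have hkk : ∀ a b k, kk (u hθ a b * tor hθ k) = k := by
    intro a b k
    have hex : ∃ k' a' b', u hθ a b * tor hθ k = u hθ a' b' * tor hθ k' := ⟨k, a, b, rfl⟩
    simp only [kk, dif_pos hex]
    obtain ⟨a', b', h⟩ := hex.choose_spec
    exact ((bor_injective hθ h).2.2).symm
  let W2 : Pts F → Finset ↥(G F m) := fun o => Iv.filter fun s => act hθ s none = o
  have hfib2 : ∀ o ∈ Op, (W2 o).card ≤ Dp.card ∧ ((W2 o).card = Dp.card → ∀ k ∈ Dp,
      ∃ a b, u hθ a b * tor hθ k ∈ M ∧ act hθ (u hθ a b * tor hθ k) o = o) := by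
    intro o ho
    rcases (W2 o).eq_empty_or_nonempty with he | ⟨s0, hs0⟩
    · rw [he, Finset.card_empty]
      refine ⟨Nat.zero_le _, fun h k hk => ?_⟩
      have := Finset.card_pos.mpr ⟨k, hk⟩
      omega
    have hW : ∀ s ∈ W2 o, ∃ a b k, s0 * s = u hθ a b * tor hθ k ∧ u hθ a b * tor hθ k ∈ M ∧
        act hθ (u hθ a b * tor hθ k) o = o := by
      intro s hs
      obtain ⟨h0I, h0o⟩ := Finset.mem_filter.mp hs0
      obtain ⟨hsI, hso⟩ := Finset.mem_filter.mp hs
      obtain ⟨h0M, h02, -⟩ := (hIv _).mp h0I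
      obtain ⟨hsM, hs2, -⟩ := (hIv _).mp hsI
      have e0 : act hθ s0 o = none := by rw [← h0o, ← act_mul, h02, act_one]
      have es : act hθ s o = none := by rw [← hso, ← act_mul, hs2, act_one]
      obtain ⟨a, b, k, hk⟩ := stab_none hθ (g := s0 * s) (by rw [act_mul, hso, e0])
      exact ⟨a, b, k, hk, hk ▸ M.mul_mem h0M hsM, by rw [← hk, act_mul, es, h0o]⟩
    have hinj : Set.InjOn (fun s => kk (s0 * s)) (W2 o : Set ↥(G F m)) := by
      intro s hs s' hs' e
      obtain ⟨a, b, k, hk, -, hko⟩ := hW s hs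
      obtain ⟨a', b', k', hk', -, hko'⟩ := hW s' hs'
      simp only [hk, hk', hkk] at e
      subst e
      have hd : u hθ a b * (u hθ a' b')⁻¹ = s0 * s * (s0 * s')⁻¹ := by rw [hk, hk']; group
      have hfo : act hθ (u hθ a b * (u hθ a' b')⁻¹) o = o := by
        rw [show u hθ a b * (u hθ a' b')⁻¹ = u hθ a b * tor hθ k * (u hθ a' b' * tor hθ k)⁻¹ by group, act_mul]
        conv_lhs => rw [← hko', act_inv_act]
        exact hko
      rw [u_inv, u_mul] at hfo hd
      by_contra hne'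
      refine ((hOp o).mp ho).2 (u_fix_only hθ (fun h1 => hne' ?_) hfo)
      rw [h1] at hd
      exact mul_left_cancel (mul_inv_eq_one.mp hd.symm)
    have hmaps : Set.MapsTo (fun s => kk (s0 * s)) (W2 o : Set ↥(G F m)) (Dp : Set Fˣ) := fun s hs => by
      obtain ⟨a, b, k, hk, hkM, -⟩ := hW s hs
      simp only [hk, hkk]
      exact (hDmem k).mpr ⟨a, b, hkM⟩
    refine ⟨Finset.card_le_card_of_injOn _ hmaps hinj, fun h k hk => ?_⟩
    obtain ⟨s, hs, rfl⟩ := Finset.surj_on_of_inj_on_of_card_le (fun s _ => kk (s0 * s)) (fun s hs => hmaps hs)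
      (fun s s' hs hs' e => hinj hs hs' e) h.ge k hk
    obtain ⟨a, b, k, hk', hkM, hko⟩ := hW s hs
    exact ⟨a, b, by rw [hk', hkk]; exact ⟨hkM, hko⟩⟩
  have hfull : ∀ o ∈ Op, ∀ k ∈ Dp, ∃ a b, u hθ a b * tor hθ k ∈ M ∧ act hθ (u hθ a b * tor hθ k) o = o := by
    have h1 := Finset.card_eq_sum_card_fiberwise (s := Iv) (t := Op) (f := fp) hmap1
    have h2 := Finset.card_eq_sum_card_fiberwise (s := Iv) (t := Op) (f := fun s => act hθ s none) hmap2
    rw [Finset.sum_congr rfl fun o ho => (hfib1 o ho).trans hcard] at h1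
    intro o ho
    exact (hfib2 o ho).2 ((Finset.sum_eq_sum_iff_of_le fun o ho => (hfib2 o ho).1).mp (h2.symm.trans h1) o ho)
  have h0Op : (some (0, 0) : Pts F) ∈ Op := (hOp _).mpr ⟨⟨wel hθ, hw, act_wel_none hθ⟩, by simp⟩
  have htorM : ∀ k ∈ Dp, tor hθ k ∈ M := by
    intro k hk
    obtain ⟨a, b, hM, h0⟩ := hfull _ h0Op k hk
    obtain ⟨l, hl⟩ := stab_two hθ (g := u hθ a b * tor hθ k) (by rw [act_mul, act_tor_none, act_u_none]) h0
    rw [show u hθ a b * tor hθ k = u hθ 0 0 * tor hθ k from ?_, u_zero, one_mul] at hM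
    · exact hM
    · obtain ⟨ha, hb, -⟩ := bor_injective hθ (show u hθ a b * tor hθ k = u hθ 0 0 * tor hθ l by rw [hl, u_zero, one_mul])
      rw [ha, hb]
  have hUM : ∀ a b, ∀ k ∈ Dp, u hθ a b * tor hθ k ∈ M → u hθ a b ∈ M := fun a b k hk h => by
    have := M.mul_mem h (M.inv_mem (htorM k hk))
    rwa [mul_inv_cancel_right] at this
  -- the torus part is nontrivial
  obtain ⟨k₀, hk₀, hk₀1⟩ : ∃ k ∈ Dp, k ≠ 1 := by
    by_contra hcon
    push Not at hcon
    have hS1 : ∀ b, u hθ 0 b ∈ M → b = 0 ∨ b = c := fun b hb => by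
      by_cases hb0 : b = 0
      · exact Or.inl hb0
      · obtain ⟨k, hk, h⟩ := hconjS b ((hSmem b).mpr ⟨hb0, hb⟩)
        rw [hcon k hk, Units.val_one, map_one, div_one] at h
        exact Or.inr h.symm
    have hVc : IsCyclic ↥(M ⊓ U hθ) := by
      have hsq : ∀ a b, u hθ a b ∈ M → szTh m a * a = 0 ∨ szTh m a * a = c := fun a b h =>
        hS1 _ (by rw [← u_sq hθ a b]; exact M.mul_mem h h)
      by_cases hA : ∃ a b, a ≠ 0 ∧ u hθ a b ∈ M
      · obtain ⟨a, b, ha, hab⟩ := hA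
        have hac : szTh m a * a = c := (hsq a b hab).resolve_left (mul_ne_zero ((map_ne_zero _).mpr ha) ha)
        have hV : ∀ x ∈ M ⊓ U hθ, x ∈ Subgroup.zpowers (u hθ a b) := by
          have h0 : ∀ b', u hθ 0 b' ∈ M → u hθ 0 b' ∈ Subgroup.zpowers (u hθ a b) := fun b' h => by
            rcases hS1 b' h with rfl | rfl
            · rw [u_zero]; exact one_mem _
            · rw [← hac, ← u_sq hθ a b]; exact mul_mem (Subgroup.mem_zpowers _) (Subgroup.mem_zpowers _)
          rintro _ ⟨hxM, a', b', rfl⟩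
          rcases eq_or_ne a' 0 with rfl | ha'
          · exact h0 b' hxM
          · have e : a' = a := (th_mul_self_bij hθ).1
              (((hsq a' b' hxM).resolve_left (mul_ne_zero ((map_ne_zero _).mpr ha') ha')).trans hac.symm)
            subst e
            have := M.mul_mem (M.inv_mem hab) hxM
            rw [u_inv, u_mul, CharTwo.add_self_eq_zero] at this
            have hm' := h0 _ this
            rw [show u hθ a' b' = u hθ a' b * ((u hθ a' b)⁻¹ * u hθ a' b') by group]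
            refine mul_mem (Subgroup.mem_zpowers _) ?_
            rwa [u_inv, u_mul, CharTwo.add_self_eq_zero]
        exact isCyclic_of_injective (Subgroup.inclusion hV) (Subgroup.inclusion_injective hV)
      · push Not at hA
        have hV : ∀ x ∈ M ⊓ U hθ, x ∈ Subgroup.zpowers t := by
          rintro _ ⟨hxM, a', b', rfl⟩
          rcases eq_or_ne a' 0 with rfl | ha'
          · rcases hS1 b' hxM with rfl | rfl
            · rw [u_zero]; exact one_mem _
            · exact Subgroup.mem_zpowers _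
          · exact absurd hxM (hA a' b' ha')
        exact isCyclic_of_injective (Subgroup.inclusion hV) (Subgroup.inclusion_injective hV)
    apply hns
    haveI : IsZGroup ↥M := by
      refine ⟨fun p hp P => ?_⟩
      haveI : Fact p.Prime := ⟨hp⟩
      have hPm : IsPGroup p ↥((P : Subgroup ↥M).map M.subtype) := P.2.map M.subtype
      let e := ((P : Subgroup ↥M).equivMapOfInjective M.subtype M.subtype_injective)
      suffices hcyc : IsCyclic ↥((P : Subgroup ↥M).map M.subtype) from isCyclic_of_injective e.toMonoidHom e.injective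
      set P' := (P : Subgroup ↥M).map M.subtype
      have hP'M : P' ≤ M := Subgroup.map_subtype_le _
      by_cases hp2 : p = 2
      · subst hp2
        by_cases hbot : Nontrivial ↥P'
        · haveI := hPm.center_nontrivial
          obtain ⟨⟨z0, hz0⟩, hz01⟩ := exists_ne (1 : ↥(Subgroup.center ↥P'))
          obtain ⟨r, hr⟩ := IsPGroup.iff_orderOf.mp hPm z0
          have hz01' : z0 ≠ 1 := fun e => hz01 (Subtype.ext e)
          have hzz : (z0.1 : ↥(G F m)) ≠ 1 := fun e => hz01' (Subtype.ext e)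
          rw [← Subgroup.orderOf_coe] at hr
          obtain ⟨oz, hozf, hozu, -⟩ := two_element_fixed hθ hF hzz ⟨r, hr⟩
          have hr1 : 1 ≤ r := Nat.one_le_iff_ne_zero.mpr fun h => hzz (orderOf_eq_one_iff.mp (by rw [hr, h, pow_zero]))
          set s := (z0.1 : ↥(G F m)) ^ 2 ^ (r - 1)
          have hs2 : s * s = 1 := by
            rw [← pow_add, ← two_mul, ← pow_succ', Nat.sub_add_cancel hr1, ← hr, pow_orderOf_eq_one]
          have hs1 : s ≠ 1 := fun h => by
            have := Nat.le_of_dvd (by positivity) (orderOf_dvd_of_pow_eq_one h)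
            rw [hr] at this
            have := Nat.pow_lt_pow_right (show 1 < 2 by norm_num) (show r - 1 < r by omega)
            omega
          have hsf : act hθ s oz = oz := by
            have : ∀ i : ℕ, act hθ ((z0.1 : ↥(G F m)) ^ i) oz = oz := fun i => by
              induction i with
              | zero => rw [pow_zero, act_one]
              | succ i ih => rw [pow_succ, act_mul, hozf, ih]
            exact this _
          obtain ⟨h, hh, hho⟩ := hinvO s (M.pow_mem (hP'M z0.2) _) hs2 hs1 oz hsf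
          have hPfix : ∀ x ∈ P', act hθ x oz = oz := fun x hx => hozu _ (by
            have e := congrArg Subtype.val (Subgroup.mem_center_iff.mp hz0 ⟨x, hx⟩)
            simp only [Subgroup.coe_mul] at e
            rw [← act_mul, ← e, act_mul, hozf])
          have hle : P'.map (MulAut.conj h⁻¹).toMonoidHom ≤ M ⊓ U hθ := by
            rintro _ ⟨x, hx, rfl⟩
            show h⁻¹ * x * h⁻¹⁻¹ ∈ M ⊓ U hθ
            refine ⟨M.mul_mem (M.mul_mem (M.inv_mem hh) (hP'M hx)) (M.inv_mem (M.inv_mem hh)), ?_⟩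
            obtain ⟨i, hi⟩ := IsPGroup.iff_orderOf.mp hPm ⟨x, hx⟩
            rw [← Subgroup.orderOf_coe] at hi
            rcases eq_or_ne x 1 with rfl | hx1
            · rw [show h⁻¹ * 1 * h⁻¹⁻¹ = 1 by group]; exact one_mem _
            obtain ⟨ox, -, hoxu, hform⟩ := two_element_fixed hθ hF hx1 ⟨i, hi⟩
            obtain ⟨a, b, hab⟩ := hform h (hho.trans (hoxu _ (hPfix x hx)))
            rw [hab, show h⁻¹ * (h * u hθ a b * h⁻¹) * h⁻¹⁻¹ = u hθ a b by group]
            exact u_mem hθ a b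
          haveI := hVc
          haveI : IsCyclic ↥(P'.map (MulAut.conj h⁻¹).toMonoidHom) :=
            isCyclic_of_injective (Subgroup.inclusion hle) (Subgroup.inclusion_injective hle)
          exact isCyclic_of_injective (P'.equivMapOfInjective (MulAut.conj h⁻¹).toMonoidHom (MulAut.conj h⁻¹).injective).toMonoidHom
            (P'.equivMapOfInjective (MulAut.conj h⁻¹).toMonoidHom (MulAut.conj h⁻¹).injective).injective
        · rw [not_nontrivial_iff_subsingleton] at hbot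
          exact isCyclic_of_subsingleton
      · obtain ⟨Q, hQ⟩ := hPm.exists_le_sylow
        haveI := sylow_odd_cyclic hθ hF hp2 Q
        exact isCyclic_of_injective (Subgroup.inclusion hQ) (Subgroup.inclusion_injective hQ)
    infer_instance
  -- `U ⊓ M` is transitive on the rest of the orbit
  have htrans : ∀ o ∈ Op, ∃ a b, u hθ a b ∈ M ∧ o = some (a, b) := by
    intro o ho
    obtain ⟨a, b, hgM, hgo⟩ := hfull o ho k₀ hk₀
    let V := M ⊓ U hθ
    let φ : ↥V → ↥V := fun v => ⟨v.1 * (tor hθ k₀ * v.1⁻¹ * (tor hθ k₀)⁻¹), by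
      refine ⟨M.mul_mem v.2.1 (M.mul_mem (M.mul_mem (htorM k₀ hk₀) (M.inv_mem v.2.1)) (M.inv_mem (htorM k₀ hk₀))), ?_⟩
      exact (U hθ).mul_mem v.2.2 (conj_mem_U hθ (tor_mem_B hθ k₀) ((U hθ).inv_mem v.2.2))⟩
    have hφ : Function.Injective φ := by
      intro v w h
      have h' : v.1 * (tor hθ k₀ * v.1⁻¹ * (tor hθ k₀)⁻¹) = w.1 * (tor hθ k₀ * w.1⁻¹ * (tor hθ k₀)⁻¹) := congrArg Subtype.val h
      have hcm : (w.1⁻¹ * v.1) * tor hθ k₀ = tor hθ k₀ * (w.1⁻¹ * v.1) := by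
        calc (w.1⁻¹ * v.1) * tor hθ k₀ = w.1⁻¹ * (v.1 * (tor hθ k₀ * v.1⁻¹ * (tor hθ k₀)⁻¹)) * tor hθ k₀ * v.1 := by group
          _ = tor hθ k₀ * (w.1⁻¹ * v.1) := by rw [h']; group
      obtain ⟨l, hl⟩ := commute_tor hθ hk₀1 hcm
      obtain ⟨a', b', he⟩ := (U hθ).mul_mem ((U hθ).inv_mem w.2.2) v.2.2
      obtain ⟨ha', hb', -⟩ := bor_injective hθ (show u hθ a' b' * tor hθ 1 = u hθ 0 0 * tor hθ l by
        rw [tor_one, mul_one, u_zero, one_mul, ← hl, he])
      rw [ha', hb', u_zero] at he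
      exact Subtype.ext (inv_mul_eq_one.mp he).symm
    obtain ⟨⟨v, hvM, a', b', rfl⟩, hv⟩ := (Finite.injective_iff_surjective.mp hφ) ⟨u hθ a b, hUM a b k₀ hk₀ hgM, u_mem hθ a b⟩
    have hv' : u hθ a' b' * (tor hθ k₀ * (u hθ a' b')⁻¹ * (tor hθ k₀)⁻¹) = u hθ a b := congrArg Subtype.val hv
    rw [← hv', show u hθ a' b' * (tor hθ k₀ * (u hθ a' b')⁻¹ * (tor hθ k₀)⁻¹) * tor hθ k₀ =
      u hθ a' b' * tor hθ k₀ * (u hθ a' b')⁻¹ by group] at hgo
    replace hgo : act hθ (tor hθ k₀) (act hθ (u hθ a' b')⁻¹ o) = act hθ (u hθ a' b')⁻¹ o :=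
      (fix_iff_conj hθ (c := u hθ a' b')).mp (by
        rw [show act hθ (u hθ a' b') (act hθ (u hθ a' b')⁻¹ o) = o by rw [← act_mul, mul_inv_cancel, act_one]]
        exact hgo)
    rcases tor_fix hθ hk₀1 hgo with h | h
    · exfalso
      have h2 := congrArg (act hθ (u hθ a' b')) h
      rw [← act_mul, mul_inv_cancel, act_one, act_u_none] at h2
      exact ((hOp o).mp ho).2 h2
    · have h2 := congrArg (act hθ (u hθ a' b')) h
      rw [← act_mul, mul_inv_cancel, act_one, act_u_some] at h2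
      exact ⟨a', b', hvM, by rw [h2]; simp⟩
  -- the field
  have hinvS : ∀ b, u hθ 0 b ∈ M → b ≠ 0 → u hθ (b / szTh m b) 0 ∈ M ∧ u hθ 0 b⁻¹ ∈ M := by
    intro b hb hb0
    have e : act hθ (wel hθ * u hθ 0 b * wel hθ) none = some (b / szTh m b, 0) := by
      rw [act_mul, act_mul, act_wel_none, act_u_some]
      have hθb : szTh m b ≠ 0 := (map_ne_zero _).mpr hb0
      refine act_eq hθ (c := szTh m b) ?_
      show (szW : Matrix (Fin 4) (Fin 4) F) *ᵥ _ = _
      funext i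
      fin_cases i <;>
        simp [szW, ovV_some, Matrix.mulVec, dotProduct, Fin.sum_univ_four, map_div₀, hθ] <;> field_simp
    obtain ⟨a', b', hM, h⟩ := htrans _ ((hOp _).mpr ⟨⟨_, M.mul_mem (M.mul_mem hw hb) hw, e⟩, by simp⟩)
    simp only [Option.some.injEq, Prod.mk.injEq] at h
    rw [← h.1, ← h.2] at hM
    refine ⟨hM, ?_⟩
    have h2 := M.mul_mem hM hM
    rw [u_sq] at h2
    rwa [show szTh m (b / szTh m b) * (b / szTh m b) = b⁻¹ by
      rw [map_div₀, hθ]; field_simp [(map_ne_zero (szTh m)).mpr hb0]] at h2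
  have hSdesc : ∀ b, b ≠ 0 → (u hθ 0 b ∈ M ↔ ∃ k ∈ Dp, c / szTh m (k : F) = b) := by
    intro b hb0
    refine ⟨fun h => hconjS b ((hSmem b).mpr ⟨hb0, h⟩), ?_⟩
    rintro ⟨k, hk, rfl⟩
    exact ((hSmem _).mp (hstab k hk c ((hSmem c).mpr ⟨hc0, hc⟩))).2
  have hDmul : ∀ k ∈ Dp, ∀ l ∈ Dp, k * l ∈ Dp := fun k hk l hl =>
    (hDmem _).mpr ⟨0, 0, by rw [u_zero, one_mul, ← tor_mul]; exact M.mul_mem (htorM k hk) (htorM l hl)⟩
  have hone : u hθ 0 1 ∈ M := by
    obtain ⟨k, hk, hkc⟩ := (hSdesc c⁻¹ (inv_ne_zero hc0)).mp (hinvS c hc hc0).2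
    have hkc' : szTh m (k : F) = c * c := by
      have hθk : szTh m (k : F) ≠ 0 := (map_ne_zero _).mpr k.ne_zero
      field_simp at hkc
      linear_combination -hkc
    have hpow : ∀ i : ℕ, k ^ i ∈ Dp := fun i => by
      induction i with
      | zero => exact (hDmem _).mpr ⟨0, 0, by rw [u_zero, one_mul, pow_zero, tor_one]; exact one_mem _⟩
      | succ i ih => rw [pow_succ]; exact hDmul _ ih k hk
    refine (hSdesc 1 one_ne_zero).mpr ⟨k ^ 2 ^ (2 * m), hpow _, ?_⟩
    rw [Units.val_pow_eq_pow_val, map_pow, hkc', ← sq, ← pow_mul, ← pow_succ', ← hF, FiniteField.pow_card, div_self hc0]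
  have hS1' : ∀ b, b ≠ 0 → (u hθ 0 b ∈ M ↔ ∃ k ∈ Dp, szTh m (k : F) = b⁻¹) := by
    obtain ⟨k₁, hk₁, hk₁c⟩ := (hSdesc 1 one_ne_zero).mp hone
    have e₁ : szTh m (k₁ : F) = c := by
      have hθk : szTh m (k₁ : F) ≠ 0 := (map_ne_zero _).mpr k₁.ne_zero
      field_simp at hk₁c
      exact hk₁c.symm
    intro b hb0
    constructor
    · intro h
      obtain ⟨k, hk, hkb⟩ := (hSdesc b hb0).mp h
      have hk' : k₁⁻¹ ∈ Dp := (hDmem _).mpr ⟨0, 0, by rw [u_zero, one_mul, ← tor_inv]; exact M.inv_mem (htorM k₁ hk₁)⟩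
      refine ⟨k * k₁⁻¹, hDmul k hk _ hk', ?_⟩
      rw [← hkb, Units.val_mul, map_mul, Units.val_inv_eq_inv_val, map_inv₀, e₁, inv_div, div_eq_mul_inv]
    · rintro ⟨k, hk, hkb⟩
      refine (hSdesc b hb0).mpr ⟨k * k₁, hDmul k hk _ hk₁, ?_⟩
      rw [Units.val_mul, map_mul, hkb, e₁]
      field_simp
  let S : Subfield F :=
    { carrier := {b | u hθ 0 b ∈ M}
      mul_mem' := by
        intro x y hx hy
        rcases eq_or_ne x 0 with rfl | hx0
        · rw [zero_mul]; exact hx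
        rcases eq_or_ne y 0 with rfl | hy0
        · rw [mul_zero]; exact hy
        obtain ⟨k, hk, ek⟩ := (hS1' x hx0).mp hx
        obtain ⟨l, hl, el⟩ := (hS1' y hy0).mp hy
        refine (hS1' _ (mul_ne_zero hx0 hy0)).mpr ⟨k * l, hDmul k hk l hl, ?_⟩
        rw [Units.val_mul, map_mul, ek, el, mul_inv]
      one_mem' := hone
      add_mem' := by
        intro x y hx hy
        show u hθ 0 (x + y) ∈ M
        have := M.mul_mem hx hy
        rwa [u_mul, add_zero, map_zero, zero_mul, add_zero] at this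
      zero_mem' := by show u hθ 0 0 ∈ M; rw [u_zero]; exact one_mem _
      neg_mem' := by intro x hx; show u hθ 0 (-x) ∈ M; rwa [CharTwo.neg_eq]
      inv_mem' := by
        intro x hx
        rcases eq_or_ne x 0 with rfl | hx0
        · rw [_root_.inv_zero]; exact hx
        · exact (hinvS x hx hx0).2 }
  have hSiff : ∀ b, b ∈ S ↔ u hθ 0 b ∈ M := fun b => Iff.rfl
  have hthS : ∀ x ∈ S, szTh m x ∈ S := fun x hx => by rw [szTh_apply]; exact pow_mem hx _
  have hbij : ∀ y ∈ S, ∃ x ∈ S, szTh m x = y := by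
    have hi : Function.Injective (fun x : S => (⟨szTh m x.1, hthS _ x.2⟩ : S)) := fun x y h =>
      Subtype.ext ((szTh (F := F) m).injective (congrArg Subtype.val h))
    intro y hy
    obtain ⟨x, hx⟩ := (Finite.injective_iff_surjective.mp hi) ⟨y, hy⟩
    exact ⟨x.1, x.2, congrArg Subtype.val hx⟩
  have hbij' : ∀ a, szTh m a * a ∈ S → a ∈ S := by
    have hi : Function.Injective (fun x : S => (⟨szTh m x.1 * x.1, mul_mem (hthS _ x.2) x.2⟩ : S)) := fun x y h =>
      Subtype.ext ((th_mul_self_bij hθ).1 (congrArg Subtype.val h))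
    intro a ha
    obtain ⟨x, hx⟩ := (Finite.injective_iff_surjective.mp hi) ⟨_, ha⟩
    exact (th_mul_self_bij hθ).1 (congrArg Subtype.val hx) ▸ x.2
  have hDS : ∀ k : Fˣ, k ∈ Dp ↔ (k : F) ∈ S := by
    intro k
    have hθk : szTh m (k : F) ≠ 0 := (map_ne_zero _).mpr k.ne_zero
    constructor
    · intro hk
      have h : szTh m (k : F) ∈ S := by
        have : (szTh m (k : F))⁻¹ ∈ S := (hS1' _ (inv_ne_zero hθk)).mpr ⟨k, hk, (inv_inv _).symm⟩
        simpa using inv_mem this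
      obtain ⟨x, hx, e⟩ := hbij _ h
      have := (szTh (F := F) m).injective e; rwa [this] at hx
    · intro hk
      obtain ⟨l, hl, e⟩ := (hS1' _ (inv_ne_zero hθk)).mp (inv_mem (hthS _ hk))
      rw [inv_inv] at e
      have : l = k := Units.ext ((szTh (F := F) m).injective e); rwa [← this]
  have hu0 : ∀ a, a ∈ S → u hθ a 0 ∈ M := by
    intro a ha
    rcases eq_or_ne a 0 with rfl | ha0
    · rw [u_zero]; exact one_mem _
    have hn : szTh m a * a ≠ 0 := mul_ne_zero ((map_ne_zero _).mpr ha0) ha0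
    have h := (hinvS _ (inv_mem (mul_mem (hthS _ ha) ha)) (inv_ne_zero hn)).1
    rwa [(th_mul_self_bij hθ).1 (show szTh m ((szTh m a * a)⁻¹ / szTh m ((szTh m a * a)⁻¹)) *
      ((szTh m a * a)⁻¹ / szTh m ((szTh m a * a)⁻¹)) = szTh m a * a by
        generalize hb : (szTh m a * a)⁻¹ = b
        have hb0 : b ≠ 0 := hb ▸ inv_ne_zero hn
        have hθb : szTh m b ≠ 0 := (map_ne_zero _).mpr hb0
        rw [← inv_inv (szTh m a * a), hb, map_div₀, hθ]; field_simp)] at h
  have huS : ∀ a b, a ∈ S → b ∈ S → u hθ a b ∈ M := fun a b ha hb => by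
    have := M.mul_mem (hu0 a ha) ((hSiff b).mp hb)
    rwa [u_mul, add_zero, zero_add, mul_zero, add_zero] at this
  have huS' : ∀ a b, u hθ a b ∈ M → a ∈ S ∧ b ∈ S := fun a b h => by
    have ha : a ∈ S := hbij' a (by rw [hSiff, ← u_sq hθ a b]; exact M.mul_mem h h)
    refine ⟨ha, ?_⟩
    have h' := M.mul_mem (M.inv_mem (hu0 a ha)) h
    rw [u_inv, u_mul, CharTwo.add_self_eq_zero, zero_add] at h'
    rw [hSiff]
    convert h' using 2
    linear_combination -(CharTwo.add_self_eq_zero (szTh m a * a))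
  refine ⟨S, ?_, huS, fun k hk => htorM k ((hDS k).mpr hk), ?_⟩
  · rw [Nat.card_eq_fintype_card]
    have h3 : ({0, 1, (k₀ : F)} : Finset F).card = 3 := by
      rw [Finset.card_insert_of_notMem (by simp [eq_comm, k₀.ne_zero]), Finset.card_pair
        (show (1 : F) ≠ k₀ from fun e => hk₀1 (Units.ext e.symm))]
    have := Finset.card_le_card_of_injOn (s := ({0, 1, (k₀ : F)} : Finset F)) (t := (Finset.univ : Finset S))
      (fun x => if h : x ∈ S then ⟨x, h⟩ else 0) (fun x _ => Finset.mem_univ _) (by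
        intro x hx y hy e
        have hmem : ∀ z ∈ ({0, 1, (k₀ : F)} : Finset F), z ∈ S := by
          intro z hz
          simp only [Finset.mem_insert, Finset.mem_singleton] at hz
          rcases hz with rfl | rfl | rfl
          exacts [zero_mem _, one_mem _, (hDS k₀).mp hk₀]
        simp only [dif_pos (hmem x hx), dif_pos (hmem y hy)] at e
        exact congrArg Subtype.val e)
    rw [h3, Finset.card_univ] at this
    omega
  · have hB : ∀ g ∈ M, act hθ g none = none → ∃ a b, ∃ k : Fˣ, a ∈ S ∧ b ∈ S ∧ (k : F) ∈ S ∧ g = u hθ a b * tor hθ k := by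
      intro g hg hg0
      obtain ⟨a, b, k, rfl⟩ := stab_none hθ hg0
      have hk : k ∈ Dp := (hDmem k).mpr ⟨a, b, hg⟩
      obtain ⟨ha, hb⟩ := huS' a b (hUM a b k hk hg)
      exact ⟨a, b, k, ha, hb, (hDS k).mp hk, rfl⟩
    intro g hg
    by_cases hg0 : act hθ g none = none
    · obtain ⟨a, b, k, ha, hb, hk, e⟩ := hB g hg hg0
      exact ⟨a, b, 0, 0, k, ha, hb, zero_mem _, zero_mem _, hk, Or.inl e⟩
    · obtain ⟨a, b, hM, e⟩ := htrans _ ((hOp _).mpr ⟨⟨g, hg, rfl⟩, hg0⟩)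
      obtain ⟨ha, hb⟩ := huS' a b hM
      have h' : act hθ (wel hθ * (u hθ a b)⁻¹ * g) none = none := by
        rw [act_mul, act_mul, e, show (some (a, b) : Pts F) = act hθ (u hθ a b) (some (0, 0)) by rw [act_u_some]; simp,
          act_inv_act, act_wel_zero]
      obtain ⟨a', b', k, ha', hb', hk, e'⟩ := hB _ (M.mul_mem (M.mul_mem hw (M.inv_mem hM)) hg) h'
      refine ⟨a, b, a', b', k, ha, hb, ha', hb', hk, Or.inr ?_⟩
      rw [← e', show u hθ a b * wel hθ * (wel hθ * (u hθ a b)⁻¹ * g) = u hθ a b * (wel hθ * wel hθ) * (u hθ a b)⁻¹ * g by group,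
        wel_mul_self]
      group

theorem subgroup_cases (hm : 1 ≤ m) (hF : Fintype.card F = 2 ^ (2 * m + 1)) (M : Subgroup ↥(G F m)) :
    (∃ o, M ≤ Stab hθ o) ∨ (∃ X, IsSS hθ X ∧ M ≤ Subgroup.normalizer (X : Set ↥(G F m))) ∨
    ∃ k : ℕ, 1 ≤ k ∧ 2 * k + 1 ∣ 2 * m + 1 ∧ ∃
      (ψ : ↥(G (GaloisField 2 (2 * k + 1)) k) →* ↥(G F m)), Function.Injective ψ ∧ M = ψ.range := by
  haveI : Fact (Nat.Prime 2) := ⟨Nat.prime_two⟩
  by_cases hns : Group.IsSolvable ↥M
  · rcases solvable_cases hθ hm hF M hns with h | h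
    · exact Or.inl h
    · exact Or.inr (Or.inl h)
  right; right
  -- an involution
  obtain ⟨y, hyM, hy⟩ : ∃ y ∈ M, orderOf y = 2 := by
    by_contra hcon
    push Not at hcon
    refine hns ?_
    haveI : IsZGroup ↥M := by
      refine ⟨fun p hp P => ?_⟩
      haveI : Fact p.Prime := ⟨hp⟩
      by_cases hp2 : p = 2
      · subst hp2
        have hd : ¬ 2 ∣ Nat.card ↥M := fun h => by
          obtain ⟨x, hx⟩ := exists_prime_orderOf_dvd_card' 2 h
          exact hcon x.1 x.2 (by rw [Subgroup.orderOf_coe]; exact hx)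
        have h1 : Nat.card ↥(P : Subgroup ↥M) = 1 := by
          rw [P.card_eq_multiplicity, Nat.factorization_eq_zero_of_not_dvd hd, pow_zero]
        haveI := (Nat.card_eq_one_iff_unique.mp h1).1
        exact isCyclic_of_subsingleton
      · obtain ⟨Q, hQ⟩ := (P.2.map M.subtype).exists_le_sylow
        haveI := sylow_odd_cyclic hθ hF hp2 Q
        let e := ((P : Subgroup ↥M).equivMapOfInjective M.subtype M.subtype_injective)
        haveI : IsCyclic ↥((P : Subgroup ↥M).map M.subtype) :=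
          isCyclic_of_injective (Subgroup.inclusion hQ) (Subgroup.inclusion_injective hQ)
        exact isCyclic_of_injective e.toMonoidHom e.injective
    infer_instance
  obtain ⟨c₁, hc₁⟩ := involution_conj hθ hF hy
  let M₁ := M.comap (MulAut.conj c₁).toMonoidHom
  have hM₁ : ∀ x, x ∈ M₁ ↔ c₁ * x * c₁⁻¹ ∈ M := fun x => Iff.rfl
  have ht₁ : u hθ 0 1 ∈ M₁ := (hM₁ _).mpr (hc₁ ▸ hyM)
  have hns₁ : ¬ Group.IsSolvable ↥M₁ := fun h => hns (by
    haveI := h
    have hx : ∀ x ∈ M, c₁⁻¹ * x * c₁ ∈ M₁ := fun x hx => (hM₁ _).mpr (by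
      rwa [show c₁ * (c₁⁻¹ * x * c₁) * c₁⁻¹ = x by group])
    refine solvable_of_solvable_injective (f := MonoidHom.mk' (fun x : ↥M => (⟨c₁⁻¹ * x.1 * c₁, hx _ x.2⟩ : ↥M₁))
      (fun a b => Subtype.ext (by simp only [Subgroup.coe_mul]; group))) (fun a b e => ?_)
    have e' : c₁⁻¹ * a.1 * c₁ = c₁⁻¹ * b.1 * c₁ := congrArg Subtype.val e
    exact Subtype.ext (mul_left_cancel (mul_right_cancel e')))
  obtain ⟨h, hh, hhn⟩ : ∃ h ∈ M₁, act hθ h none ≠ none := by
    by_contra hcon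
    push Not at hcon
    exact not_le_stab hθ hF hns₁ none fun g hg => hcon g hg
  set t := u hθ 0 1 with ht
  have ht2 : t * t = 1 := by rw [ht, u_sq, map_zero, zero_mul, u_zero]
  have ht1 : t ≠ 1 := fun e => one_ne_zero (u_injective hθ (e.trans (u_zero hθ).symm)).2
  have htu : ∀ o, act hθ t o = o → o = none := fun o ho => u_fix_only hθ ht1 ho
  set s := h * t * h⁻¹
  have hs2 : s * s = 1 := by rw [show s * s = h * (t * t) * h⁻¹ by simp [s, mul_assoc], ht2]; group
  have hsf : act hθ s (act hθ h none) = act hθ h none := by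
    rw [← act_mul, show s * h = h * t by simp [s, mul_assoc], act_mul, ht, act_u_none]
  have hsu : ∀ o, act hθ s o = o → o = act hθ h none := by
    intro o ho
    have : act hθ t (act hθ h⁻¹ o) = act hθ h⁻¹ o := (fix_iff_conj hθ (c := h)).mp (by
      rw [show act hθ h (act hθ h⁻¹ o) = o by rw [← act_mul, mul_inv_cancel, act_one]]; exact ho)
    have h2 := congrArg (act hθ h) (htu _ this)
    rwa [← act_mul, mul_inv_cancel, act_one] at h2
  obtain ⟨d, hd, -, hdo, hdt⟩ := swapper hθ hF M₁ (M₁.mul_mem (M₁.mul_mem hh ht₁) (M₁.inv_mem hh)) ht₁ hs2 ht2 ht1 hsf hsu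
    (act_u_none hθ 0 1) htu hhn
  rcases ho : act hθ h none with _ | ⟨a, b⟩
  · exact absurd ho hhn
  set r := d * t
  have hr0 : act hθ r none = some (a, b) := by simp only [r]; rw [act_mul, ht, act_u_none, hdo, ho]
  have hr1 : act hθ r (some (a, b)) = none := by rw [← hr0, ← act_mul, hdt, act_one]
  set g := u hθ a b
  have hg0 : act hθ g (some (0, 0)) = some (a, b) := by simp only [g]; rw [act_u_some]; simp
  obtain ⟨k, hk⟩ := stab_two hθ (g := wel hθ * (g⁻¹ * r * g)) (by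
    rw [act_mul, act_mul, act_mul, act_u_none, hr0, ← hg0, act_inv_act, act_wel_zero]) (by
    rw [act_mul, act_mul, act_mul, hg0, hr1]
    conv_lhs => rw [show (none : Pts F) = act hθ g none from (act_u_none hθ a b).symm, act_inv_act, act_wel_none])
  obtain ⟨x, hx⟩ := Finite.surjective_of_injective (frobenius_inj F 2) (k : F)
  rw [frobenius_def, sq] at hx
  have hx0 : x ≠ 0 := fun h => k.ne_zero (by rw [← hx, h, mul_zero])
  set l := Units.mk0 x hx0
  have hll : k = l * l := Units.ext (by simp [l, hx])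
  set c := c₁ * g * (tor hθ l)⁻¹
  let M₂ := M.comap (MulAut.conj c).toMonoidHom
  have hM₂ : ∀ x, x ∈ M₂ ↔ g * (tor hθ l)⁻¹ * x * (g * (tor hθ l)⁻¹)⁻¹ ∈ M₁ := fun x => by
    rw [hM₁]
    show c * x * c⁻¹ ∈ M ↔ _
    simp only [c, _root_.mul_inv_rev, mul_assoc]
  have hw : wel hθ ∈ M₂ := by
    rw [hM₂]
    have e : g * (tor hθ l)⁻¹ * wel hθ * (g * (tor hθ l)⁻¹)⁻¹ = r := by
      have e1 : g⁻¹ * r * g = wel hθ * tor hθ k := by rw [← hk, ← mul_assoc (wel hθ) (wel hθ), wel_mul_self, one_mul]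
      have e2 : (tor hθ l)⁻¹ * wel hθ * tor hθ l = wel hθ * tor hθ k := by
        rw [tor_inv, show tor hθ l⁻¹ * wel hθ = wel hθ * tor hθ l from ?_, mul_assoc, tor_mul, hll]
        rw [wel_tor]
      calc g * (tor hθ l)⁻¹ * wel hθ * (g * (tor hθ l)⁻¹)⁻¹ = g * ((tor hθ l)⁻¹ * wel hθ * tor hθ l) * g⁻¹ := by group
        _ = r := by rw [e2, ← e1]; group
    rw [e]
    exact M₁.mul_mem hd ht₁
  obtain ⟨c', hc0', hc'⟩ : ∃ c', c' ≠ 0 ∧ u hθ 0 c' ∈ M₂ := by
    refine ⟨szTh m (l⁻¹ : Fˣ).1 * 1 / 1 * 0 + 1 / szTh m (l : F), ?_, ?_⟩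
    · simp [(map_ne_zero (szTh m)).mpr hx0, l]
    · rw [hM₂, mul_zero, zero_add]
      have e := conj_center hθ a b l⁻¹ (1 / szTh m (l : F))
      rw [← tor_inv] at e
      rw [e, Units.val_inv_eq_inv_val, map_inv₀, div_inv_eq_mul, one_div,
        inv_mul_cancel₀ ((map_ne_zero _).mpr l.ne_zero)]
      exact ht₁
  have hns₂ : ¬ Group.IsSolvable ↥M₂ := fun h => hns (by
    haveI := h
    have hx : ∀ x ∈ M, c⁻¹ * x * c ∈ M₂ := fun x hx => by
      show c * (c⁻¹ * x * c) * c⁻¹ ∈ M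
      rwa [show c * (c⁻¹ * x * c) * c⁻¹ = x by group]
    refine solvable_of_solvable_injective (f := MonoidHom.mk' (fun x : ↥M => (⟨c⁻¹ * x.1 * c, hx _ x.2⟩ : ↥M₂))
      (fun a b => Subtype.ext (by simp only [Subgroup.coe_mul]; group))) (fun a b e => ?_)
    have e' : c⁻¹ * a.1 * c = c⁻¹ * b.1 * c := congrArg Subtype.val e
    exact Subtype.ext (mul_left_cancel (mul_right_cancel e')))
  obtain ⟨S, hS2, hSu, hSt, hSform⟩ := core hθ hF M₂ hns₂ hw hc0' hc'
  -- the order of the subfield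
  haveI : CharP S 2 := RingHom.charP S.subtype Subtype.val_injective 2
  obtain ⟨⟨n, hn0⟩, -, hSn⟩ := FiniteField.card S 2
  simp only [PNat.mk_coe] at hSn
  have hFr : Fintype.card F = Fintype.card S ^ Module.finrank S F := Module.card_eq_pow_finrank
  rw [hF, hSn, ← pow_mul] at hFr
  have hndvd : n ∣ 2 * m + 1 := ⟨_, Nat.pow_right_injective le_rfl hFr⟩
  obtain ⟨k', hk'⟩ : ∃ k', n = 2 * k' + 1 := by
    refine ⟨n / 2, ?_⟩
    rcases Nat.even_or_odd n with ⟨i, hi⟩ | ⟨i, hi⟩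
    · obtain ⟨q, hq⟩ := hndvd
      rw [hi, show (i + i) * q = 2 * (i * q) by ring] at hq
      omega
    · omega
  subst hk'
  have hk1 : 1 ≤ k' := by
    rw [Nat.card_eq_fintype_card, hSn] at hS2
    rcases Nat.eq_zero_or_pos k' with rfl | h
    · norm_num at hS2
    · exact h
  letI : Fintype (GaloisField 2 (2 * k' + 1)) := Fintype.ofFinite _
  have hK : Fintype.card (GaloisField 2 (2 * k' + 1)) = 2 ^ (2 * k' + 1) := by
    rw [← Nat.card_eq_fintype_card, GaloisField.card 2 _ (by omega)]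
  refine ⟨k', hk1, hndvd, ?_⟩
  let e := FiniteField.ringEquivOfCardEq (hK.trans hSn.symm)
  let ι : GaloisField 2 (2 * k' + 1) →+* F := S.subtype.comp e.toRingHom
  have hι : ∀ x, x ∈ S → ∃ y, ι y = x := fun x hx => ⟨e.symm ⟨x, hx⟩, by simp [ι]⟩
  have hιS : ∀ y, ι y ∈ S := fun y => (e y).2
  have hθK := th_sq hK
  have hcomp := hcomp_of_dvd hK hndvd ι (m := m)
  let ψ₀ := mapSz hθ hθK ι hcomp
  refine ⟨(MulAut.conj c).toMonoidHom.comp ψ₀, (MulAut.conj c).injective.comp (mapSz_injective hθ hθK ι hcomp), ?_⟩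
  have hu' : ∀ a b, a ∈ S → b ∈ S → u hθ a b ∈ ψ₀.range := fun a b ha hb => by
    obtain ⟨a', rfl⟩ := hι a ha
    obtain ⟨b', rfl⟩ := hι b hb
    exact ⟨u hθK a' b', mapSz_u hθ hθK ι hcomp a' b'⟩
  have ht' : ∀ k : Fˣ, (k : F) ∈ S → tor hθ k ∈ ψ₀.range := fun k hk => by
    obtain ⟨k'', hk''⟩ := hι k hk
    have h0 : k'' ≠ 0 := fun h => k.ne_zero (by rw [← hk'', h, map_zero])
    refine ⟨tor hθK (Units.mk0 k'' h0), (mapSz_tor hθ hθK ι hcomp _).trans ?_⟩
    exact congrArg (tor hθ) (Units.ext hk'')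
  have hrange : M₂ = ψ₀.range := by
    apply le_antisymm
    · intro g hg
      obtain ⟨a, b, a', b', k, ha, hb, ha', hb', hk, h | h⟩ := hSform g hg
      · rw [h]; exact mul_mem (hu' a b ha hb) (ht' k hk)
      · rw [h]; exact mul_mem (mul_mem (hu' a b ha hb) ⟨wel hθK, mapSz_wel hθ hθK ι hcomp⟩) (mul_mem (hu' a' b' ha' hb') (ht' k hk))
    · have : M₂.comap ψ₀ = ⊤ := gens_le hθK _
        (fun a b => by rw [Subgroup.mem_comap]; rw [mapSz_u]; exact hSu _ _ (hιS a) (hιS b))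
        (fun k => by rw [Subgroup.mem_comap]; rw [mapSz_tor]; exact hSt _ (hιS k))
        (by rw [Subgroup.mem_comap]; rw [mapSz_wel]; exact hw)
      rintro _ ⟨z, rfl⟩
      exact Subgroup.mem_comap.mp (this ▸ Subgroup.mem_top z)
  rw [MonoidHom.range_comp, ← hrange, Subgroup.map_comap_eq_self_of_surjective (MulAut.conj c).surjective]

end

end Cfsg.Agent.Lib.KnownA.Suz
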