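import Mathlib
import Cfsg.Agent.Lib.KnownA.SuzukiSubgroups

/-! Binary coset actions of the Suzuki group. -/

set_option autoImplicit false
set_option maxHeartbeats 800000

namespace Cfsg.Agent.Lib.KnownA.Suz

open Matrix Cfsg.Lie
open scoped Classical

set_option linter.unusedSectionVars false

noncomputable section

section Generic

variable {X : Type*} [Group X]

/-- The coset action on `X ⧸ H` has relational complexity two. -/
def IsBin (H : Subgroup X) : Prop :=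
  ∀ (n : ℕ) (I J : Fin n → X ⧸ H), 2 ≤ n →
    (∀ i j : Fin n, i ≠ j → ∃ g : X, g • I i = J i ∧ g • I j = J j) → ∃ g : X, ∀ i, g • I i = J i

theorem smul_coset_iff (H : Subgroup X) (g a b : X) : g • (a : X ⧸ H) = (b : X ⧸ H) ↔ b⁻¹ * g * a ∈ H := by
  show ((g * a : X) : X ⧸ H) = _ ↔ _
  rw [eq_comm, QuotientGroup.eq, mul_assoc]

theorem isBin_bot : IsBin (⊥ : Subgroup X) := by
  intro n I J hn h
  obtain ⟨g, hg, -⟩ := h ⟨0, by omega⟩ ⟨1, by omega⟩ (by simp [Fin.ext_iff])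
  refine ⟨g, fun i => ?_⟩
  by_cases hi : i = ⟨0, by omega⟩
  · rw [hi]; exact hg
  · obtain ⟨g', h1, h2⟩ := h ⟨0, by omega⟩ i (Ne.symm hi)
    suffices g = g' by rw [this]; exact h2
    obtain ⟨a, ha⟩ := QuotientGroup.mk_surjective (I ⟨0, by omega⟩)
    obtain ⟨b, hb⟩ := QuotientGroup.mk_surjective (J ⟨0, by omega⟩)
    rw [← ha, ← hb, smul_coset_iff, Subgroup.mem_bot] at hg h1
    have := hg.trans h1.symm
    exact mul_left_cancel (mul_right_cancel this)

/-- An intersection of conjugates. -/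
def cInf (H : Subgroup X) (S : Set X) : Subgroup X := ⨅ c ∈ S, H.map (MulAut.conj c).toMonoidHom

theorem mem_cInf (H : Subgroup X) (S : Set X) (g : X) : g ∈ cInf H S ↔ ∀ c ∈ S, c⁻¹ * g * c ∈ H := by
  simp only [cInf, Subgroup.mem_iInf, Subgroup.mem_map_equiv, MulAut.conj_symm_apply]

theorem cInf_translate (H : Subgroup X) (S : Set X) (d g : X) :
    g ∈ cInf H ((fun c => d * c) '' S) ↔ d⁻¹ * g * d ∈ cInf H S := by
  rw [mem_cInf, mem_cInf, Set.forall_mem_image]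
  refine forall_congr' fun c => forall_congr' fun _ => ?_
  rw [show (d * c)⁻¹ * g * (d * c) = c⁻¹ * (d⁻¹ * g * d) * c by group]

theorem helly [Finite X] {H : Subgroup X} (hb : IsBin H) {S₁ S₂ S₃ : Set X} (h₁ : S₁.Nonempty) (h₂ : S₂.Nonempty)
    {x₁ x₂ : X} (hx₁ : x₁ ∈ cInf H S₁) (hx₂ : x₂ ∈ cInf H S₂) (hx₃ : x₁ * x₂ ∈ cInf H S₃) :
    ∃ y, y ∈ cInf H S₁ ∧ y ∈ cInf H S₂ ∧ x₁ * y ∈ cInf H S₃ := by
  haveI := Fintype.ofFinite ↥S₁
  haveI := Fintype.ofFinite ↥S₂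
  haveI := Fintype.ofFinite ↥S₃
  let ι := ↥S₁ ⊕ ↥S₂ ⊕ ↥S₃
  let E := Fintype.equivFin ι
  let src : ι → X := Sum.elim Subtype.val (Sum.elim Subtype.val Subtype.val)
  let tgt : ι → X := Sum.elim Subtype.val (Sum.elim Subtype.val fun c => x₁⁻¹ * c.1)
  have hn : 2 ≤ Fintype.card ι := by
    rw [Fintype.card_sum, Fintype.card_sum]
    haveI := h₁.to_subtype
    haveI := h₂.to_subtype
    have a := Fintype.card_pos (α := ↥S₁)
    have b := Fintype.card_pos (α := ↥S₂)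
    omega
  have hpair : ∀ i j : ι, ∃ g : X, (tgt i)⁻¹ * g * src i ∈ H ∧ (tgt j)⁻¹ * g * src j ∈ H := by
    have e13 : ∀ c : X, ∀ d ∈ S₁, d⁻¹ * x₁⁻¹ * d ∈ H := fun _ d hd =>
      (mem_cInf H S₁ _).mp (inv_mem hx₁) d hd
    have e23 : ∀ c ∈ S₃, (x₁⁻¹ * c)⁻¹ * x₂ * c ∈ H := fun c hc => by
      rw [show (x₁⁻¹ * c)⁻¹ * x₂ * c = c⁻¹ * (x₁ * x₂) * c by group]
      exact (mem_cInf H S₃ _).mp hx₃ c hc
    have e33 : ∀ c : X, (x₁⁻¹ * c)⁻¹ * x₁⁻¹ * c ∈ H := fun c => by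
      rw [show (x₁⁻¹ * c)⁻¹ * x₁⁻¹ * c = 1 by group]; exact one_mem _
    have e11 : ∀ c : X, c⁻¹ * 1 * c ∈ H := fun c => by
      rw [mul_one, inv_mul_cancel]; exact one_mem _
    rintro (i | i | i) (j | j | j)
    · exact ⟨1, e11 _, e11 _⟩
    · exact ⟨1, e11 _, e11 _⟩
    · exact ⟨x₁⁻¹, e13 1 _ i.2, e33 _⟩
    · exact ⟨1, e11 _, e11 _⟩
    · exact ⟨1, e11 _, e11 _⟩
    · exact ⟨x₂, (mem_cInf H S₂ _).mp hx₂ _ i.2, e23 _ j.2⟩
    · exact ⟨x₁⁻¹, e33 _, e13 1 _ j.2⟩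
    · exact ⟨x₂, e23 _ i.2, (mem_cInf H S₂ _).mp hx₂ _ j.2⟩
    · exact ⟨x₁⁻¹, e33 _, e33 _⟩
  obtain ⟨y, hy⟩ := hb (Fintype.card ι) (fun i => ((src (E.symm i) : X) : X ⧸ H))
    (fun i => ((tgt (E.symm i) : X) : X ⧸ H)) hn (fun i j _ => by
      obtain ⟨g, h, h'⟩ := hpair (E.symm i) (E.symm j)
      exact ⟨g, (smul_coset_iff H _ _ _).mpr h, (smul_coset_iff H _ _ _).mpr h'⟩)
  have hy' : ∀ i : ι, (tgt i)⁻¹ * y * src i ∈ H := fun i => by
    have h := (smul_coset_iff H _ _ _).mp (hy (E i))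
    rwa [Equiv.symm_apply_apply] at h
  refine ⟨y, (mem_cInf H S₁ _).mpr fun c hc => hy' (Sum.inl ⟨c, hc⟩),
    (mem_cInf H S₂ _).mpr fun c hc => hy' (Sum.inr (Sum.inl ⟨c, hc⟩)), (mem_cInf H S₃ _).mpr fun c hc => ?_⟩
  have h := hy' (Sum.inr (Sum.inr ⟨c, hc⟩))
  rwa [show (tgt (Sum.inr (Sum.inr ⟨c, hc⟩)))⁻¹ * y * src (Sum.inr (Sum.inr ⟨c, hc⟩)) = c⁻¹ * (x₁ * y) * c from by
    show (x₁⁻¹ * c)⁻¹ * y * c = _
    group] at h

end Generic

variable {F : Type*} [Field F] [Fintype F] [CharP F 2] {m : ℕ} (hθ : ∀ x : F, szTh m (szTh m x) = x * x)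
include hθ

/-- The conjugacy criterion through the trace. -/
theorem wu_zero_unique {b b' : F} {c : ↥(G F m)}
    (h : c * (wel hθ * u hθ 0 b) * c⁻¹ = wel hθ * u hθ 0 b') : b = b' := by
  have e := congrArg (fun g : ↥(G F m) => Matrix.trace g.1.val) h
  have t : ∀ b : F, Matrix.trace (wel hθ * u hθ 0 b).1.val = szTh m b := fun b => by
    show Matrix.trace ((szW : Matrix (Fin 4) (Fin 4) F) * szUM m 0 b) = _
    simp [Matrix.trace, Matrix.diag, szW, szUM, Matrix.mul_apply, Fin.sum_univ_four]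
  simp only [Subgroup.coe_mul, Subgroup.coe_inv, Units.val_mul] at e
  rw [Matrix.trace_units_conj] at e
  simp only [← Units.val_mul, ← Subgroup.coe_mul] at e
  rw [t, t] at e
  exact (szTh (F := F) m).injective e

theorem centralizer_small (hm : 1 ≤ m) (hF : Fintype.card F = 2 ^ (2 * m + 1)) {x : ↥(G F m)} (hx : x * x ≠ 1) :
    Nat.card (Subgroup.centralizer {x}) ≤ 2 * Fintype.card F := by
  have hx1 : x ≠ 1 := fun e => hx (by rw [e, one_mul])
  have hcase : (∃ c a b, a ≠ 0 ∧ x = c * u hθ a b * c⁻¹) ∨ ∃ Y, IsSS hθ Y ∧ x ∈ Y := by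
    by_cases hfix : ∃ o, act hθ x o = o
    · obtain ⟨o, ho⟩ := hfix
      rcases fixed_cases hθ ho with ⟨c, a, b, rfl⟩ | ⟨c, k, -, rfl⟩
      · refine Or.inl ⟨c, a, b, fun ha => hx ?_, rfl⟩
        rw [show c * u hθ a b * c⁻¹ * (c * u hθ a b * c⁻¹) = c * (u hθ a b * u hθ a b) * c⁻¹ by group, ha, u_sq,
          map_zero, zero_mul, u_zero]
        group
      · exact Or.inr ⟨_, Or.inl ⟨c, rfl⟩, tor hθ k, ⟨k, rfl⟩, rfl⟩
    · push Not at hfix
      exact Or.inr ⟨_, Or.inr ⟨x, hfix, rfl⟩, Subgroup.mem_centralizer_singleton_iff.mpr rfl⟩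
  rcases hcase with ⟨c, a, b, ha, rfl⟩ | ⟨Y, hY, hxY⟩
  · have hform : ∀ g : ↥(Subgroup.centralizer {c * u hθ a b * c⁻¹}), ∃ p : Bool × F,
        c⁻¹ * g.1 * c = u hθ (if p.1 then a else 0) p.2 := by
      intro g
      have hg := centralizer_conj hθ (Subgroup.mem_centralizer_singleton_iff.mp g.2)
      obtain ⟨a', b', hab⟩ := commute_u hθ (fun e => hx1 (by rw [e, mul_one, mul_inv_cancel])) hg
      rw [hab] at hg ⊢
      rw [u_mul, u_mul] at hg
      have e := (u_injective hθ hg).2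
      rcases eq_or_ne a' 0 with rfl | ha'
      · exact ⟨(false, b'), rfl⟩
      · refine ⟨(true, b'), ?_⟩
        suffices a' = a by rw [this]; rfl
        have e' : szTh m a' * a = szTh m a * a' := by linear_combination e
        by_contra hne
        have hk : Units.mk0 (a / a') (div_ne_zero ha ha') = 1 := by
          refine th_div_sq_eq_one hθ ?_
          have h2 := congrArg (szTh m) e'
          rw [map_mul, map_mul, hθ, hθ] at h2
          have hθa : szTh m a' ≠ 0 := (map_ne_zero _).mpr ha'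
          rw [Units.val_mk0, map_div₀, div_mul_div_comm, div_eq_div_iff hθa (mul_ne_zero ha' ha')]
          linear_combination h2
        have h3 := congrArg Units.val hk
        rw [Units.val_mk0, Units.val_one, div_eq_one_iff_eq ha'] at h3
        exact hne h3.symm
    choose f hf using hform
    refine (Nat.card_le_card_of_injective f fun g g' e => ?_).trans
      (by rw [Nat.card_prod, Nat.card_eq_fintype_card, Fintype.card_bool, Nat.card_eq_fintype_card])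
    have h := (hf g).trans (e ▸ (hf g').symm)
    exact Subtype.ext (mul_left_cancel (mul_right_cancel h))
  · rw [ss_centralizer hθ hF hY hxY hx1]
    have hq : 0 < Fintype.card F := Fintype.card_pos
    rcases hY with ⟨c, rfl⟩ | hA
    · rw [Subgroup.card_map_of_injective (MulAut.conj c).injective, card_T hθ]; omega
    · obtain ⟨A₁, A₂, -, -, h1, h2, -, -, hcl⟩ := exists_tori hθ hm hF
      have hlt : 2 ^ (m + 1) + 1 ≤ Fintype.card F := by
        rw [hF]
        exact Nat.succ_le_of_lt (Nat.pow_lt_pow_right (by norm_num) (by omega))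
      obtain ⟨c, rfl | rfl⟩ := hcl Y hA
      · rw [Subgroup.card_map_of_injective (MulAut.conj c).injective, h1, ← hF]; omega
      · have := Nat.two_pow_pos (m + 1)
        rw [Subgroup.card_map_of_injective (MulAut.conj c).injective, h2, ← hF]; omega

theorem exists_wu (hm : 1 ≤ m) (hF : Fintype.card F = 2 ^ (2 * m + 1)) {x : ↥(G F m)} (hx : x * x ≠ 1) :
    ∃ c a b, a ≠ 0 ∧ c * x * c⁻¹ = wel hθ * u hθ a b := by
  haveI := Fintype.ofFinite ↥(G F m)
  by_contra hcon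
  push Not at hcon
  have hnorm : ∀ g, act hθ g none ≠ none → ∃ v ∈ B hθ, ∃ a b, v * g * v⁻¹ = wel hθ * u hθ a b := by
    intro g hg
    rcases hx' : act hθ g none with _ | ⟨a, b⟩
    · exact absurd hx' hg
    have h' : act hθ (wel hθ * (u hθ a b)⁻¹ * g) none = none := by
      rw [act_mul, act_mul, hx', show (some (a, b) : Pts F) = act hθ (u hθ a b) (some (0, 0)) by rw [act_u_some]; simp,
        act_inv_act, act_wel_zero]
    obtain ⟨a', b', k, hk⟩ := stab_none hθ h'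
    have hg' : g = u hθ a b * wel hθ * (u hθ a' b' * tor hθ k) := by
      rw [← hk, show u hθ a b * wel hθ * (wel hθ * (u hθ a b)⁻¹ * g) =
        u hθ a b * (wel hθ * wel hθ) * (u hθ a b)⁻¹ * g by group, wel_mul_self]
      group
    obtain ⟨y, hy⟩ := Finite.surjective_of_injective (frobenius_inj F 2) (k : F)
    rw [frobenius_def, sq] at hy
    have hy0 : y ≠ 0 := fun h => k.ne_zero (by rw [← hy, h, mul_zero])
    set l := Units.mk0 y hy0
    have hll : k = l * l := Units.ext (by simp [l, hy])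
    obtain ⟨a'', b'', huu⟩ : ∃ a'' b'', u hθ a' b' * u hθ a b = u hθ a'' b'' := ⟨_, _, u_mul hθ a' b' a b⟩
    refine ⟨tor hθ l * (u hθ a b)⁻¹, mul_mem (tor_mem_B hθ l) (inv_mem (U_le_B hθ (u_mem hθ a b))), ?_⟩
    have hm' : tor hθ k * u hθ a b = (tor hθ k * u hθ a b * (tor hθ k)⁻¹) * tor hθ k := by group
    obtain ⟨a₃, b₃, h3⟩ : ∃ a₃ b₃, u hθ a' b' * (tor hθ k * u hθ a b * (tor hθ k)⁻¹) = u hθ a₃ b₃ := by
      rw [conj_u]; exact ⟨_, _, u_mul hθ _ _ _ _⟩
    obtain ⟨a₄, b₄, h4⟩ : ∃ a₄ b₄, (tor hθ l)⁻¹ * u hθ a₃ b₃ * tor hθ l = u hθ a₄ b₄ := by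
      rw [show (tor hθ l)⁻¹ * u hθ a₃ b₃ * tor hθ l = tor hθ l⁻¹ * u hθ a₃ b₃ * (tor hθ l⁻¹)⁻¹ by
        rw [tor_inv, tor_inv, inv_inv], conj_u]
      exact ⟨_, _, rfl⟩
    refine ⟨a₄, b₄, ?_⟩
    calc tor hθ l * (u hθ a b)⁻¹ * g * (tor hθ l * (u hθ a b)⁻¹)⁻¹
        = tor hθ l * wel hθ * (u hθ a' b' * (tor hθ k * u hθ a b * (tor hθ k)⁻¹)) * tor hθ k * (tor hθ l)⁻¹ := by
          rw [hg']; group
      _ = wel hθ * ((tor hθ l)⁻¹ * u hθ a₃ b₃ * tor hθ l) := by
          rw [h3, show tor hθ l * wel hθ = wel hθ * (tor hθ l)⁻¹ by rw [tor_inv, wel_tor, inv_inv], hll, ← tor_mul]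
          group
      _ = wel hθ * u hθ a₄ b₄ := by rw [h4]
  -- every conjugate outside `B` is conjugate under `B` to one element
  let C : Finset ↥(G F m) := Finset.univ.image fun c => c * x * c⁻¹
  have hC : Nat.card ↥(G F m) ≤ C.card * (2 * Fintype.card F) := by
    rw [Nat.card_eq_fintype_card, ← Finset.card_univ]
    refine (Finset.card_le_mul_card_image Finset.univ (2 * Fintype.card F) fun g hg => ?_).trans (mul_comm _ _).le
    obtain ⟨c₀, -, rfl⟩ := Finset.mem_image.mp hg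
    refine le_trans ?_ (centralizer_small hθ hm hF hx)
    rw [Nat.card_eq_fintype_card, Fintype.card_subtype]
    refine Finset.card_le_card_of_injOn (fun c => c₀⁻¹ * c) ?_ (fun a _ b _ e => mul_left_cancel e)
    intro c hc
    simp only [Finset.coe_filter, Set.mem_setOf_eq, Finset.mem_univ, true_and] at hc ⊢
    rw [Subgroup.mem_centralizer_singleton_iff]
    calc c₀⁻¹ * c * x = c₀⁻¹ * (c * x * c⁻¹) * c := by group
      _ = c₀⁻¹ * (c₀ * x * c₀⁻¹) * c := by rw [hc]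
      _ = x * (c₀⁻¹ * c) := by group
  have hBc : (Finset.univ.filter fun g => g ∈ B hθ).card = Nat.card (B hθ) := by
    rw [Nat.card_eq_fintype_card, Fintype.card_subtype]
  have hC2 : C.card ≤ 2 * Nat.card (B hθ) := by
    by_cases hne : ∃ c₁, act hθ (c₁ * x * c₁⁻¹) none ≠ none
    · obtain ⟨c₁, hc₁⟩ := hne
      obtain ⟨v₁, -, a₁, b₁, h1⟩ := hnorm _ hc₁
      have key : ∀ v c a b, v * (c * x * c⁻¹) * v⁻¹ = wel hθ * u hθ a b → a = 0 := by
        intro v c a b h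
        by_contra ha
        exact hcon (v * c) a b ha (by rw [← h]; group)
      obtain rfl := key _ _ _ _ h1
      have hsub : C ⊆ (Finset.univ.filter fun g => g ∈ B hθ) ∪
          (Finset.univ.filter fun g => g ∈ B hθ).image fun v => v⁻¹ * (wel hθ * u hθ 0 b₁) * v := by
        intro g hg
        obtain ⟨c, -, rfl⟩ := Finset.mem_image.mp hg
        by_cases hgB : act hθ (c * x * c⁻¹) none = none
        · exact Finset.mem_union_left _ (Finset.mem_filter.mpr ⟨Finset.mem_univ _, hgB⟩)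
        · obtain ⟨v, hv, a, b, h⟩ := hnorm _ hgB
          obtain rfl := key _ _ _ _ h
          refine Finset.mem_union_right _ (Finset.mem_image.mpr ⟨v, Finset.mem_filter.mpr ⟨Finset.mem_univ _, hv⟩, ?_⟩)
          have e : b₁ = b := wu_zero_unique hθ (c := v * c * (v₁ * c₁)⁻¹) (by rw [← h1, ← h]; group)
          rw [e, ← h]; group
      refine (Finset.card_le_card hsub).trans ((Finset.card_union_le _ _).trans ?_)
      have := Finset.card_image_le (s := Finset.univ.filter fun g => g ∈ B hθ)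
        (f := fun v => v⁻¹ * (wel hθ * u hθ 0 b₁) * v)
      omega
    · push Not at hne
      have hsub : C ⊆ Finset.univ.filter fun g => g ∈ B hθ := fun g hg => by
        obtain ⟨c, -, rfl⟩ := Finset.mem_image.mp hg
        exact Finset.mem_filter.mpr ⟨Finset.mem_univ _, hne c⟩
      have := Finset.card_le_card hsub
      omega
  have hq8 : 8 ≤ Fintype.card F := by
    rw [hF]; exact (Nat.pow_le_pow_right (by norm_num) (show 3 ≤ 2 * m + 1 by omega) : 2 ^ 3 ≤ _)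
  have hpos : 0 < Nat.card (B hθ) := Nat.card_pos
  rw [card_sz hθ, ← card_B hθ] at hC
  have h5 := hC.trans (Nat.mul_le_mul_right _ hC2)
  rw [show 2 * Nat.card (B hθ) * (2 * Fintype.card F) = 4 * Fintype.card F * Nat.card (B hθ) by ring] at h5
  have h6 := Nat.le_of_mul_le_mul_right h5 hpos
  have := Nat.mul_le_mul_right (Fintype.card F) hq8
  omega

theorem fix_unique (hF : Fintype.card F = 2 ^ (2 * m + 1)) {P : Subgroup ↥(G F m)} (hP : IsPGroup 2 ↥P) :
    ∃ o, ∀ x ∈ P, act hθ x o = o := by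
  haveI : Fact (Nat.Prime 2) := ⟨Nat.prime_two⟩
  by_cases hnt : Nontrivial ↥P
  · haveI := hP.center_nontrivial
    obtain ⟨⟨z0, hz0⟩, hz01⟩ := exists_ne (1 : ↥(Subgroup.center ↥P))
    have hz01' : z0 ≠ 1 := fun e => hz01 (Subtype.ext e)
    have hzz : (z0.1 : ↥(G F m)) ≠ 1 := fun e => hz01' (Subtype.ext e)
    obtain ⟨r, hr⟩ := IsPGroup.iff_orderOf.mp hP z0
    rw [← Subgroup.orderOf_coe] at hr
    obtain ⟨oz, hf, hu, -⟩ := two_element_fixed hθ hF hzz ⟨r, hr⟩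
    refine ⟨oz, fun x hx => hu _ ?_⟩
    have e := congrArg Subtype.val (Subgroup.mem_center_iff.mp hz0 ⟨x, hx⟩)
    simp only [Subgroup.coe_mul] at e
    rw [← act_mul, ← e, act_mul, hf]
  · rw [not_nontrivial_iff_subsingleton] at hnt
    refine ⟨none, fun x hx => ?_⟩
    rw [show x = 1 from congrArg Subtype.val (Subsingleton.elim (⟨x, hx⟩ : ↥P) 1), act_one]

theorem two_group_fix_only (hF : Fintype.card F = 2 ^ (2 * m + 1)) {x : ↥(G F m)} {P : Subgroup ↥(G F m)}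
    (hP : IsPGroup 2 ↥P) (hx : x ∈ P) (hx1 : x ≠ 1) {o o' : Pts F} (h : act hθ x o = o) (h' : act hθ x o' = o') :
    o = o' := by
  obtain ⟨r, hr⟩ := IsPGroup.iff_orderOf.mp hP ⟨x, hx⟩
  rw [← Subgroup.orderOf_coe] at hr
  obtain ⟨oz, -, hu, -⟩ := two_element_fixed hθ hF hx1 ⟨r, hr⟩
  exact (hu o h).trans (hu o' h').symm

/-- Every non-trivial intersection of conjugates of a binary stabiliser contains the centre of a Sylow subgroup. -/
theorem atom_center (hm : 1 ≤ m) (hF : Fintype.card F = 2 ^ (2 * m + 1)) {H : Subgroup ↥(G F m)} (hb : IsBin H)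
    (hHt : H ≠ ⊤) {S₀ : Set ↥(G F m)} (hS₀ : S₀.Nonempty) (hne₀ : cInf H S₀ ≠ ⊥) :
    ∃ d, ∀ b, d * u hθ 0 b * d⁻¹ ∈ cInf H S₀ := by
  haveI := Fintype.ofFinite ↥(G F m)
  haveI := Fintype.ofFinite (Set ↥(G F m))
  obtain ⟨S, hS, hmin⟩ := Finset.exists_min_image
    (Finset.univ.filter fun S : Set ↥(G F m) => S₀ ⊆ S ∧ cInf H S ≠ ⊥) (fun S => Nat.card (cInf H S))
    ⟨S₀, Finset.mem_filter.mpr ⟨Finset.mem_univ _, subset_rfl, hne₀⟩⟩
  obtain ⟨hsub, hne⟩ := (Finset.mem_filter.mp hS).2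
  set W := cInf H S with hW
  have hWS₀ : W ≤ cInf H S₀ := fun g hg => (mem_cInf H S₀ g).mpr fun c hc => (mem_cInf H S g).mp hg c (hsub hc)
  have hTI : ∀ d g, g ∈ W → d⁻¹ * g * d ∈ W → g ≠ 1 → ∀ y, y ∈ W ↔ d⁻¹ * y * d ∈ W := by
    intro d g hg hg' hg1
    set S' := S ∪ (fun c => d * c) '' S
    have hmem : ∀ y, y ∈ cInf H S' ↔ y ∈ W ∧ d⁻¹ * y * d ∈ W := fun y => by
      rw [hW, ← cInf_translate H S d y, mem_cInf, mem_cInf, mem_cInf]
      exact ⟨fun h => ⟨fun c hc => h c (Or.inl hc), fun c hc => h c (Or.inr hc)⟩,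
        fun h c hc => hc.elim (h.1 c) (h.2 c)⟩
    have hne' : cInf H S' ≠ ⊥ := fun e => hg1 (Subgroup.mem_bot.mp (e ▸ (hmem g).mpr ⟨hg, hg'⟩))
    have heq : cInf H S' = W := Subgroup.eq_of_le_of_card_ge (fun y hy => ((hmem y).mp hy).1)
      (hmin S' (Finset.mem_filter.mpr ⟨Finset.mem_univ _, hsub.trans Set.subset_union_left, hne'⟩))
    have hle : W.map (MulAut.conj d⁻¹).toMonoidHom = W := by
      refine Subgroup.eq_of_le_of_card_ge ?_ (Subgroup.card_map_of_injective (MulAut.conj d⁻¹).injective).ge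
      rintro _ ⟨y, hy, rfl⟩
      show d⁻¹ * y * d⁻¹⁻¹ ∈ W
      rw [inv_inv]
      exact ((hmem y).mp (heq.symm ▸ hy)).2
    intro y
    constructor
    · intro hy; exact ((hmem y).mp (heq.symm ▸ hy)).2
    · intro hy
      rw [← hle, Subgroup.mem_map_equiv, MulAut.conj_symm_apply] at hy
      simpa [mul_assoc] using hy
  have hrel : ∀ c d g, g ≠ 1 → c⁻¹ * g * c ∈ W → d⁻¹ * g * d ∈ W → ∀ y, c⁻¹ * y * c ∈ W ↔ d⁻¹ * y * d ∈ W := by
    intro c d g hg1 hc hd y
    have h := hTI (c⁻¹ * d) (c⁻¹ * g * c) hc (by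
      rwa [show (c⁻¹ * d)⁻¹ * (c⁻¹ * g * c) * (c⁻¹ * d) = d⁻¹ * g * d by group])
      (fun e => hg1 (conj_eq_one_iff.mp (by rw [inv_inv]; exact e : c⁻¹ * g * c⁻¹⁻¹ = 1))) (c⁻¹ * y * c)
    rwa [show (c⁻¹ * d)⁻¹ * (c⁻¹ * y * c) * (c⁻¹ * d) = d⁻¹ * y * d by group] at h
  have htri : ∀ c₁ c₂ c₃ x₁ x₂, x₁ ≠ 1 → x₂ ≠ 1 → c₁⁻¹ * x₁ * c₁ ∈ W → c₂⁻¹ * x₂ * c₂ ∈ W →
      c₃⁻¹ * (x₁ * x₂) * c₃ ∈ W → ∀ y, (c₁⁻¹ * y * c₁ ∈ W ↔ c₂⁻¹ * y * c₂ ∈ W) := by
    intro c₁ c₂ c₃ x₁ x₂ h1 h2 hx1 hx2 hx3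
    have hn : ∀ c : ↥(G F m), ((fun e => c * e) '' S).Nonempty := fun c => (hS₀.mono hsub).image _
    obtain ⟨y, hy1, hy2, hy3⟩ := helly hb (hn c₁) (hn c₂) ((cInf_translate H S c₁ x₁).mpr hx1)
      ((cInf_translate H S c₂ x₂).mpr hx2) ((cInf_translate H S c₃ _).mpr hx3)
    rw [cInf_translate] at hy1 hy2 hy3
    by_cases hy : y = 1
    · subst hy
      rw [mul_one] at hy3
      have e13 := hrel c₁ c₃ x₁ h1 hx1 hy3
      have hx2' : c₃⁻¹ * x₂ * c₃ ∈ W := by
        have := mul_mem (inv_mem hy3) hx3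
        rwa [show (c₃⁻¹ * x₁ * c₃)⁻¹ * (c₃⁻¹ * (x₁ * x₂) * c₃) = c₃⁻¹ * x₂ * c₃ by group] at this
      exact fun z => (e13 z).trans (hrel c₂ c₃ x₂ h2 hx2 hx2' z).symm
    · exact hrel c₁ c₂ y hy hy1 hy2
  have hnW : ∀ x ∈ W, x ≠ 1 → x * x ≠ 1 → ∀ c a b, a ≠ 0 → c * x * c⁻¹ = wel hθ * u hθ a b →
      ∀ y, c⁻¹ * y * c ∈ W ↔ (u hθ a b * c)⁻¹ * y * (u hθ a b * c) ∈ W := by
    intro x hx hx1 hx2 c a b ha he
    set v := u hθ a b with hv
    set g := wel hθ * v with hg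
    have hgW : c⁻¹ * g * c ∈ W := by rw [← he]; simpa [mul_assoc] using hx
    have hg1 : g ≠ 1 := fun e => hx1 (conj_eq_one_iff.mp (he.trans e))
    have hv4 : v * v * (v * v) = 1 := by rw [hv, u_sq, u_sq, map_zero, zero_mul, u_zero]
    have hvv : v⁻¹ = v * v * v := inv_eq_of_mul_eq_one_right (by rw [← hv4]; group)
    have hprod : g * (v * v * g * (v * v)⁻¹) = (v * g⁻¹ * v⁻¹) * (v * g⁻¹ * v⁻¹) := by
      have e1 : v * g⁻¹ * v⁻¹ = wel hθ * v⁻¹ * 1 := by
        have hwi : (wel hθ)⁻¹ = wel hθ := inv_eq_of_mul_eq_one_right (wel_mul_self hθ)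
        rw [hg, _root_.mul_inv_rev, hwi]; group
      rw [e1, mul_one, hg]
      calc wel hθ * v * (v * v * (wel hθ * v) * (v * v)⁻¹) = wel hθ * (v * v * v) * (wel hθ * v⁻¹) := by group
        _ = wel hθ * v⁻¹ * (wel hθ * v⁻¹) := by rw [hvv]
    have h2 := htri c (v * v * c) (v * c) g (v * v * g * (v * v)⁻¹) hg1
      (fun e => hg1 (conj_eq_one_iff.mp e)) hgW
      (by rw [show (v * v * c)⁻¹ * (v * v * g * (v * v)⁻¹) * (v * v * c) = c⁻¹ * g * c by group]; exact hgW)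
      (by
        rw [hprod, show (v * c)⁻¹ * (v * g⁻¹ * v⁻¹ * (v * g⁻¹ * v⁻¹)) * (v * c) = (c⁻¹ * g * c)⁻¹ * (c⁻¹ * g * c)⁻¹ by group]
        exact mul_mem (inv_mem hgW) (inv_mem hgW))
    -- `v * v` normalises the conjugate, so the third conjugate is the same one as well
    have h3 : (v * c)⁻¹ * g * (v * c) ∈ W := by
      obtain ⟨y, hy1, hy2, hy3⟩ : ∃ y, c⁻¹ * y * c ∈ W ∧ (v * v * c)⁻¹ * y * (v * v * c) ∈ W ∧
          (v * c)⁻¹ * (g * y) * (v * c) ∈ W := by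
        have hn : ∀ c : ↥(G F m), ((fun e => c * e) '' S).Nonempty := fun c => (hS₀.mono hsub).image _
        obtain ⟨y, hy1, hy2, hy3⟩ := helly hb (hn c) (hn (v * v * c)) (S₃ := (fun e => (v * c) * e) '' S)
          ((cInf_translate H S c g).mpr hgW)
          ((cInf_translate H S (v * v * c) (v * v * g * (v * v)⁻¹)).mpr (by
            rw [show (v * v * c)⁻¹ * (v * v * g * (v * v)⁻¹) * (v * v * c) = c⁻¹ * g * c by group]; exact hgW))
          ((cInf_translate H S (v * c) _).mpr (by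
            rw [hprod, show (v * c)⁻¹ * (v * g⁻¹ * v⁻¹ * (v * g⁻¹ * v⁻¹)) * (v * c) = (c⁻¹ * g * c)⁻¹ * (c⁻¹ * g * c)⁻¹ by group]
            exact mul_mem (inv_mem hgW) (inv_mem hgW)))
        rw [cInf_translate] at hy1 hy2 hy3
        exact ⟨y, hy1, hy2, hy3⟩
      by_cases hgy : g * y = 1
      · -- then `v g⁻¹ v⁻¹` squared lies in the first conjugate
        have hx3 : c⁻¹ * ((v * g⁻¹ * v⁻¹) * (v * g⁻¹ * v⁻¹)) * c ∈ W := by
          rw [← hprod]
          have h22 := (h2 (v * v * g * (v * v)⁻¹)).mpr (by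
            rw [show (v * v * c)⁻¹ * (v * v * g * (v * v)⁻¹) * (v * v * c) = c⁻¹ * g * c by group]; exact hgW)
          rw [show c⁻¹ * (g * (v * v * g * (v * v)⁻¹)) * c = (c⁻¹ * g * c) * (c⁻¹ * (v * v * g * (v * v)⁻¹) * c) by group]
          exact mul_mem hgW h22
        refine (hrel c (v * c) ((v * g⁻¹ * v⁻¹) * (v * g⁻¹ * v⁻¹)) (fun e => ?_) hx3 ?_ g).mp hgW
        · rw [show v * g⁻¹ * v⁻¹ * (v * g⁻¹ * v⁻¹) = v * (g * g)⁻¹ * v⁻¹ by group, conj_eq_one_iff, inv_eq_one] at e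
          refine hx2 ((conj_eq_one_iff (a := c)).mp ?_)
          rw [show c * (x * x) * c⁻¹ = (c * x * c⁻¹) * (c * x * c⁻¹) by group, he]
          exact e
        · rw [show (v * c)⁻¹ * (v * g⁻¹ * v⁻¹ * (v * g⁻¹ * v⁻¹)) * (v * c) = (c⁻¹ * g * c)⁻¹ * (c⁻¹ * g * c)⁻¹ by group]
          exact mul_mem (inv_mem hgW) (inv_mem hgW)
      · exact (hrel c (v * c) (g * y) hgy (by
          rw [show c⁻¹ * (g * y) * c = (c⁻¹ * g * c) * (c⁻¹ * y * c) by group]; exact mul_mem hgW hy1) hy3 g).mp hgW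
    exact hrel c (v * c) g hg1 hgW h3
  -- `W` is a 2-group
  have hP : IsPGroup 2 ↥W := by
    intro ⟨x, hx⟩
    by_contra hcon
    push Not at hcon
    obtain ⟨x', hx', hx'1, hxo⟩ : ∃ x' ∈ W, x' ≠ 1 ∧ ¬ 2 ∣ orderOf x' := by
      set n := orderOf x
      have hn0 : n ≠ 0 := (orderOf_pos x).ne'
      obtain ⟨i, r, hr, hn⟩ := Nat.exists_eq_pow_mul_and_not_dvd hn0 2 (by norm_num)
      refine ⟨x ^ 2 ^ i, pow_mem hx _, fun e => hcon i (Subtype.ext e), ?_⟩
      rw [orderOf_pow' _ (by positivity), show orderOf x = n from rfl, hn, Nat.gcd_eq_right (Dvd.intro _ rfl),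
        Nat.mul_div_cancel_left _ (by positivity)]
      exact hr
    have hx'2 : x' * x' ≠ 1 := fun e => hx'1 (by
      have h1 : orderOf x' ∣ 2 := orderOf_dvd_of_pow_eq_one (by rw [sq, e])
      have h2 := (Nat.dvd_prime Nat.prime_two).mp h1
      rcases h2 with h2 | h2
      · exact orderOf_eq_one_iff.mp h2
      · exact absurd (by rw [h2]) hxo)
    obtain ⟨c, a, b, ha, he⟩ := exists_wu hθ hm hF hx'2
    have hn := hnW x' hx' hx'1 hx'2 c a b ha he
    set W₁ := W.map (MulAut.conj c).toMonoidHom with hW₁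
    have hW₁m : ∀ y, y ∈ W₁ ↔ c⁻¹ * y * c ∈ W := fun y => by
      rw [hW₁, Subgroup.mem_map_equiv, MulAut.conj_symm_apply]
    set g := wel hθ * u hθ a b with hg
    have hgW₁ : g ∈ W₁ := (hW₁m _).mpr (by rw [← he]; simpa [mul_assoc] using hx')
    set N := Subgroup.normalizer (W₁ : Set ↥(G F m)) with hN
    have hgN : g ∈ N := Subgroup.le_normalizer hgW₁
    have hvN : u hθ a b ∈ N := by
      rw [hN, Subgroup.mem_normalizer_iff]
      intro y
      rw [hW₁m, hW₁m, hn (u hθ a b * y * (u hθ a b)⁻¹)]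
      rw [show (u hθ a b * c)⁻¹ * (u hθ a b * y * (u hθ a b)⁻¹) * (u hθ a b * c) = c⁻¹ * y * c by group]
    have hwN : wel hθ ∈ N := by
      have := N.mul_mem hgN (N.inv_mem hvN)
      rwa [hg, mul_inv_cancel_right] at this
    have hgo : ¬ 2 ∣ orderOf g := by
      have h : orderOf g = orderOf x' := by
        rw [← he]; exact (MulAut.conj c).orderOf_eq x'
      rwa [h]
    have hv1 : u hθ a b ≠ 1 := fun e => ha (u_injective hθ (e.trans (u_zero hθ).symm)).1
    rcases subgroup_cases hθ hm hF N with ⟨o, ho⟩ | ⟨Y, hY, hNY⟩ | ⟨k, hk, hdvd, ψ, hψ, hNψ⟩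
    · have h1 : act hθ (u hθ a b) o = o := ho hvN
      have h2 : act hθ (wel hθ) o = o := ho hwN
      rw [u_fix_only hθ hv1 h1, act_wel_none] at h2
      exact absurd h2 (by simp)
    · have hgY : g ∈ Y := ss_odd_mem hθ hm hF hY (hNY hgN) hgo
      have hYn := Subgroup.mem_normalizer_iff.mp (hNY hwN)
      have h1 : wel hθ * g * (wel hθ)⁻¹ * g ∈ Y := Y.mul_mem ((hYn g).mp hgY) hgY
      have hwi : (wel hθ)⁻¹ = wel hθ := inv_eq_of_mul_eq_one_right (wel_mul_self hθ)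
      have h2 : u hθ 0 (szTh m a * a) ∈ Y := by
        rw [← u_sq hθ a b]
        rwa [hwi, hg, show wel hθ * (wel hθ * u hθ a b) * wel hθ * (wel hθ * u hθ a b) =
          (wel hθ * wel hθ) * u hθ a b * (wel hθ * wel hθ) * u hθ a b by group, wel_mul_self, one_mul, mul_one] at h1
      refine ss_not_two_dvd hθ hF hY ?_
      have ho : orderOf (u hθ 0 (szTh m a * a)) = 2 := by
        haveI : Fact (Nat.Prime 2) := ⟨Nat.prime_two⟩
        exact orderOf_eq_prime (by rw [sq, u_sq, map_zero, zero_mul, u_zero])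
          (fun e => mul_ne_zero ((map_ne_zero _).mpr ha) ha (u_injective hθ (e.trans (u_zero hθ).symm)).2)
      rw [← ho, ← Subgroup.orderOf_mk _ h2]
      exact orderOf_dvd_natCard _
    · haveI : Fact (Nat.Prime 2) := ⟨Nat.prime_two⟩
      letI : Fintype (GaloisField 2 (2 * k + 1)) := Fintype.ofFinite _
      have hK : Fintype.card (GaloisField 2 (2 * k + 1)) = 2 ^ (2 * k + 1) := by
        rw [← Nat.card_eq_fintype_card, GaloisField.card 2 _ (by omega)]
      have hθK := th_sq hK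
      haveI := isSimple hθK hk hK
      haveI : (W₁.comap ψ).Normal := ⟨fun z hz y => by
        have hy : ψ y ∈ N := hNψ ▸ ⟨y, rfl⟩
        rw [Subgroup.mem_comap, map_mul, map_mul, map_inv]
        exact ((Subgroup.mem_normalizer_iff.mp hy) _).mp hz⟩
      have hfull : ∀ z, ψ z ∈ W₁ := by
        rcases IsSimpleGroup.eq_bot_or_eq_top_of_normal (W₁.comap ψ) inferInstance with e | e
        · obtain ⟨z, hz⟩ : g ∈ ψ.range := hNψ ▸ hgN
          exfalso
          have : z ∈ W₁.comap ψ := by rw [Subgroup.mem_comap, hz]; exact hgW₁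
          rw [e, Subgroup.mem_bot] at this
          rw [this, map_one] at hz
          exact hx'1 (conj_eq_one_iff.mp (he.trans hz.symm))
        · exact fun z => Subgroup.mem_comap.mp (e ▸ Subgroup.mem_top z)
      obtain ⟨ι, hc, p, hψe⟩ := hom_classify hθ hθK hk hK hF ψ hψ
      obtain ⟨t₀, ht₀, ht₀1⟩ := exists_two hθK hk hK
      set l₀ := Units.mk0 t₀ ht₀
      have hl₀ : (Units.map ι.toMonoidHom l₀ : Fˣ) ≠ 1 := fun e => ht₀1 (ι.injective (by
        have := congrArg Units.val e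
        simpa [l₀] using this))
      have hT : ∀ l : Fˣ, tor hθ l ∈ (mapSz hθ hθK ι hc).range := by
        intro l
        have hfix : ∀ e : Fˣ, p * tor hθ (Units.map ι.toMonoidHom l₀) * p⁻¹ = ψ (tor hθK l₀) := fun _ => by
          rw [hψe, mapSz_tor]
        have hin : p * tor hθ (Units.map ι.toMonoidHom l₀) * p⁻¹ ∈ W₁ := hfix 1 ▸ hfull _
        set d := p * tor hθ l * p⁻¹
        have hN' : d ∈ N := by
          rw [hN, Subgroup.mem_normalizer_iff]
          intro y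
          rw [hW₁m, hW₁m]
          have h := hrel c (d * c) (p * tor hθ (Units.map ι.toMonoidHom l₀) * p⁻¹)
            (fun e => hl₀ (tor_injective hθ ((conj_eq_one_iff.mp e).trans (tor_one hθ).symm)))
            ((hW₁m _).mp hin) (by
              rw [show (d * c)⁻¹ * (p * tor hθ (Units.map ι.toMonoidHom l₀) * p⁻¹) * (d * c) =
                c⁻¹ * (p * ((tor hθ l)⁻¹ * tor hθ (Units.map ι.toMonoidHom l₀) * tor hθ l) * p⁻¹) * c by
                  simp only [d]; group, tor_inv, tor_mul, tor_mul, mul_comm l⁻¹, inv_mul_cancel_right]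
              exact (hW₁m _).mp hin)
          rw [h (d * y * d⁻¹), show (d * c)⁻¹ * (d * y * d⁻¹) * (d * c) = c⁻¹ * y * c by group]
        obtain ⟨z, hz⟩ : d ∈ ψ.range := hNψ ▸ hN'
        rw [hψe] at hz
        exact ⟨z, mul_left_cancel (mul_right_cancel hz)⟩
      have hsurj : Function.Surjective ι := by
        intro y
        rcases eq_or_ne y 0 with rfl | hy
        · exact ⟨0, map_zero _⟩
        obtain ⟨z, hz⟩ := hT (Units.mk0 y hy)⁻¹
        refine ⟨z.1.val 3 3, ?_⟩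
        have e := congrArg (fun g : ↥(G F m) => g.1.val 3 3) hz
        simp only [mapSz_coe, glMap_val, Matrix.map_apply] at e
        rw [e]
        show szHM m (((Units.mk0 y hy)⁻¹ : Fˣ) : F) 3 3 = y
        simp [szHM]
      have hkm : k = m := by
        have h := Fintype.card_of_bijective ⟨ι.injective, hsurj⟩
        rw [hK, hF] at h
        have := Nat.pow_right_injective le_rfl h
        omega
      subst hkm
      have hψs : Function.Surjective ψ := by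
        have hc' : Nat.card ↥(G (GaloisField 2 (2 * k + 1)) k) = Nat.card ↥(G F k) := by
          rw [card_sz hθK, card_sz hθ, hK, hF]
        exact ((Nat.bijective_iff_injective_and_card ψ).mpr ⟨hψ, hc'⟩).2
      apply hHt
      rw [eq_top_iff]
      intro y _
      obtain ⟨e, he'⟩ := hS₀.mono hsub
      obtain ⟨z, hz⟩ := hψs (c * (e * y * e⁻¹) * c⁻¹)
      have := (hW₁m _).mp (hz ▸ hfull z)
      rw [show c⁻¹ * (c * (e * y * e⁻¹) * c⁻¹) * c = e * y * e⁻¹ by group] at this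
      have h' := (mem_cInf H S _).mp this e he'
      rwa [show e⁻¹ * (e * y * e⁻¹) * e = y by group] at h'
  -- `W` has exponent two
  have hexp : ∀ x ∈ W, x * x = 1 := by
    intro x hx
    by_contra hx2
    have hx1 : x ≠ 1 := fun e => hx2 (by rw [e, one_mul])
    obtain ⟨c, a, b, ha, he⟩ := exists_wu hθ hm hF hx2
    have hn := hnW x hx hx1 hx2 c a b ha he
    set g := wel hθ * u hθ a b with hg
    have hgW : c⁻¹ * g * c ∈ W := by rw [← he]; simpa [mul_assoc] using hx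
    have h2 : c⁻¹ * (u hθ a b * g * (u hθ a b)⁻¹) * c ∈ W := (hn _).mpr (by
      rwa [show (u hθ a b * c)⁻¹ * (u hθ a b * g * (u hθ a b)⁻¹) * (u hθ a b * c) = c⁻¹ * g * c by group])
    obtain ⟨o, ho⟩ := fix_unique hθ hF hP
    have hg1 : g ≠ 1 := fun e => hx1 (conj_eq_one_iff.mp (he.trans e))
    have hv1 : u hθ a b ≠ 1 := fun e => ha (u_injective hθ (e.trans (u_zero hθ).symm)).1
    have hf1 : act hθ g (act hθ c o) = act hθ c o := by
      have := congrArg (act hθ c) (ho _ hgW)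
      rwa [← act_mul, show c * (c⁻¹ * g * c) = g * c by group, act_mul] at this
    have hf2 : act hθ g (act hθ (u hθ a b)⁻¹ (act hθ c o)) = act hθ (u hθ a b)⁻¹ (act hθ c o) := by
      have := congrArg (act hθ ((u hθ a b)⁻¹ * c)) (ho _ h2)
      rw [← act_mul, show (u hθ a b)⁻¹ * c * (c⁻¹ * (u hθ a b * g * (u hθ a b)⁻¹) * c) = g * ((u hθ a b)⁻¹ * c) by group,
        act_mul] at this
      simp only [act_mul] at this ⊢
      exact this
    have hP' : IsPGroup 2 ↥(W.map (MulAut.conj c).toMonoidHom) := hP.map _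
    have heq := two_group_fix_only hθ hF hP' (x := g) (by
      rw [Subgroup.mem_map_equiv, MulAut.conj_symm_apply]; exact hgW) hg1 hf1 hf2
    have h3 : act hθ (u hθ a b) (act hθ c o) = act hθ c o := by
      conv_lhs => rw [heq]
      rw [← act_mul, mul_inv_cancel, act_one]
    rw [u_fix_only hθ hv1 h3, hg, act_mul, act_u_none, act_wel_none] at hf1
    exact absurd hf1 (by simp)
  -- an involution of `W`, moved to `u 0 1`
  obtain ⟨y, hy, hy1⟩ := W.bot_or_exists_ne_one.resolve_left hne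
  haveI : Fact (Nat.Prime 2) := ⟨Nat.prime_two⟩
  obtain ⟨c, hc⟩ := involution_conj hθ hF (orderOf_eq_prime (by rw [sq, hexp y hy]) hy1 : orderOf y = 2)
  refine ⟨c, fun b => hWS₀ ?_⟩
  let A : Set F := {b | c * u hθ 0 b * c⁻¹ ∈ W}
  have h1A : (1 : F) ∈ A := by show _ ∈ W; rw [← hc]; exact hy
  by_contra hbA
  have hb0 : b ≠ 0 := fun e => hbA (by rw [e, u_zero, mul_one, mul_inv_cancel]; exact one_mem _)
  have hb1 : 1 + b ≠ 0 := fun e => hbA (by rw [← CharTwo.add_eq_zero.mp e]; exact h1A)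
  obtain ⟨l₂, hl₂⟩ := exists_weight_th hθ hb0
  obtain ⟨l₃, hl₃⟩ := exists_weight_th hθ hb1
  set d := fun l : Fˣ => c * tor hθ l * c⁻¹
  have hscale : ∀ l : Fˣ, (d l)⁻¹ * (c * u hθ 0 (1 / szTh m (l : F)) * c⁻¹) * d l = c * u hθ 0 1 * c⁻¹ := by
    intro l
    have e := conj_center hθ 0 0 l 1
    rw [u_zero, one_mul] at e
    rw [← e]; simp only [d]; group
  have hmemA : ∀ l : Fˣ, ∀ z, z = 1 / szTh m (l : F) → (d l)⁻¹ * (c * u hθ 0 z * c⁻¹) * d l ∈ W := by
    rintro l z rfl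
    rw [hscale]; exact h1A
  have key := htri 1 (d l₂) (d l₃) (c * u hθ 0 1 * c⁻¹) (c * u hθ 0 b * c⁻¹)
    (fun e => one_ne_zero (u_injective hθ ((conj_eq_one_iff.mp e).trans (u_zero hθ).symm)).2)
    (fun e => hb0 (u_injective hθ ((conj_eq_one_iff.mp e).trans (u_zero hθ).symm)).2)
    (by rw [inv_one, one_mul, mul_one]; exact h1A) (hmemA l₂ b hl₂.symm)
    (by
      rw [show c * u hθ 0 1 * c⁻¹ * (c * u hθ 0 b * c⁻¹) = c * (u hθ 0 1 * u hθ 0 b) * c⁻¹ by group, u_mul, add_zero,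
        map_zero, zero_mul, add_zero]
      exact hmemA l₃ (1 + b) hl₃.symm)
    (c * u hθ 0 b * c⁻¹)
  rw [inv_one, one_mul, mul_one] at key
  exact hbA (key.mpr (hmemA l₂ b hl₂.symm))

theorem binary_only (hm : 1 ≤ m) (hF : Fintype.card F = 2 ^ (2 * m + 1)) {H : Subgroup ↥(G F m)} (hb : IsBin H)
    (hHt : H ≠ ⊤) (hne : H ≠ ⊥) : ∃ o, ∀ g, g ∈ H ↔ g * g = 1 ∧ act hθ g o = o := by
  haveI := Fintype.ofFinite ↥(G F m)
  haveI : Fact (Nat.Prime 2) := ⟨Nat.prime_two⟩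
  have h1mem : ∀ c g, g ∈ cInf H {c} ↔ c⁻¹ * g * c ∈ H := fun c g => by simp [mem_cInf]
  obtain ⟨y, hy, hy1⟩ := H.bot_or_exists_ne_one.resolve_left hne
  have hX : cInf H {1} ≠ ⊥ := fun e => hy1 (Subgroup.mem_bot.mp (e ▸ (h1mem 1 y).mpr (by simpa using hy)))
  obtain ⟨d, hd⟩ := atom_center hθ hm hF hb hHt (Set.singleton_nonempty 1) hX
  -- `H' = d⁻¹ H d` contains all `u 0 b`
  set H' := H.comap (MulAut.conj d).toMonoidHom with hH'
  have hH'm : ∀ g, g ∈ H' ↔ d * g * d⁻¹ ∈ H := fun g => Iff.rfl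
  have hZ : ∀ b, u hθ 0 b ∈ H' := fun b => (hH'm _).mpr (by simpa [h1mem] using hd b)
  have hH't : H' ≠ ⊤ := fun e => hHt (by
    rw [eq_top_iff]; intro g _
    have := (hH'm (d⁻¹ * g * d)).mp (e ▸ Subgroup.mem_top _)
    rwa [show d * (d⁻¹ * g * d) * d⁻¹ = g by group] at this)
  have hq8 : 8 ≤ Fintype.card F := by
    rw [hF]; exact (Nat.pow_le_pow_right (by norm_num) (show 3 ≤ 2 * m + 1 by omega) : 2 ^ 3 ≤ _)
  have hHB : H' ≤ B hθ := by
    have h01 : u hθ 0 1 ≠ 1 := fun e => one_ne_zero (u_injective hθ (e.trans (u_zero hθ).symm)).2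
    rcases subgroup_cases hθ hm hF H' with ⟨o, ho⟩ | ⟨Y, hY, hHY⟩ | ⟨k, hk, hdvd, ψ, hψ, hHψ⟩
    · rw [u_fix_only hθ h01 (ho (hZ 1))] at ho
      exact ho
    · exfalso
      obtain ⟨j, hj, hN⟩ := ss_normalizer_card hθ hm hF hY
      set N := Subgroup.normalizer (Y : Set ↥(G F m))
      have hidx : (Y.subgroupOf N).index ≤ 4 := by
        have h := (Y.subgroupOf N).card_mul_index
        rw [Nat.card_congr (Subgroup.subgroupOfEquivOfLe (Subgroup.le_normalizer (H := Y))).toEquiv, hN,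
          mul_comm] at h
        have := Nat.eq_of_mul_eq_mul_right Nat.card_pos h
        rcases hj with rfl | rfl <;> omega
      let f : F → ↥N ⧸ Y.subgroupOf N := fun b => ((⟨u hθ 0 b, hHY (hZ b)⟩ : ↥N) : ↥N ⧸ Y.subgroupOf N)
      have hf : Function.Injective f := by
        intro b b' e
        rw [QuotientGroup.eq, Subgroup.mem_subgroupOf] at e
        simp only [Subgroup.coe_mul, Subgroup.coe_inv, u_inv, u_mul, map_zero, zero_mul, add_zero] at e
        by_contra hne'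
        refine ss_not_two_dvd hθ hF hY ?_
        have ho : orderOf (u hθ 0 (b + b')) = 2 := orderOf_eq_prime (by rw [sq, u_sq, map_zero, zero_mul, u_zero])
          (fun h => hne' (CharTwo.add_eq_zero.mp (u_injective hθ (h.trans (u_zero hθ).symm)).2))
        rw [← ho, ← Subgroup.orderOf_mk _ e]
        exact orderOf_dvd_natCard _
      have := Nat.card_le_card_of_injective f hf
      rw [Nat.card_eq_fintype_card, ← Subgroup.index_eq_card] at this
      omega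
    · exfalso
      letI : Fintype (GaloisField 2 (2 * k + 1)) := Fintype.ofFinite _
      have hK : Fintype.card (GaloisField 2 (2 * k + 1)) = 2 ^ (2 * k + 1) := by
        rw [← Nat.card_eq_fintype_card, GaloisField.card 2 _ (by omega)]
      have hθK := th_sq hK
      choose z hz using fun b : F => (hHψ ▸ hZ b : u hθ 0 b ∈ ψ.range)
      have hz2 : ∀ b, z b * z b = 1 := fun b => hψ (by
        rw [map_mul, hz, u_sq, map_zero, zero_mul, u_zero, map_one])
      have hz1 : z 1 ≠ 1 := fun e => h01 (by rw [← hz 1, e, map_one])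
      obtain ⟨c₁, hc₁⟩ := involution_conj hθK hK (orderOf_eq_prime (by rw [sq, hz2]) hz1 : orderOf (z 1) = 2)
      have hform : ∀ b, ∃ b', z b = c₁ * u hθK 0 b' * c₁⁻¹ := by
        intro b
        have hcomm : z b * z 1 = z 1 * z b := hψ (by
          rw [map_mul, map_mul, hz, hz, u_mul, u_mul]; simp [add_comm])
        rw [hc₁] at hcomm
        obtain ⟨a', b', hab⟩ := commute_u hθK (fun e => one_ne_zero (u_injective hθK (e.trans (u_zero hθK).symm)).2)
          (centralizer_conj hθK hcomm)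
        have h2 : (c₁⁻¹ * z b * c₁) * (c₁⁻¹ * z b * c₁) = 1 := by
          rw [show c₁⁻¹ * z b * c₁ * (c₁⁻¹ * z b * c₁) = c₁⁻¹ * (z b * z b) * c₁ by group, hz2]; group
        rw [hab, u_sq, ← u_zero hθK] at h2
        have ha : a' = 0 := by
          rcases mul_eq_zero.mp (u_injective hθK h2).2 with h | h
          · exact (map_eq_zero _).mp h
          · exact h
        exact ⟨b', by rw [← ha, ← hab]; group⟩
      choose b' hb' using hform
      have hinj : Function.Injective b' := fun x x' e => by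
        have : z x = z x' := by rw [hb', hb', e]
        exact (u_injective hθ ((hz x).symm.trans ((congrArg ψ this).trans (hz x')))).2
      have hle := Fintype.card_le_of_injective b' hinj
      rw [hK, hF] at hle
      have h1 := (Nat.pow_le_pow_iff_right (le_refl 2)).mp hle
      have h2 := Nat.le_of_dvd (by omega) hdvd
      obtain rfl : k = m := by omega
      apply hH't
      apply Subgroup.eq_top_of_card_eq
      rw [hHψ, ← Nat.card_congr (MonoidHom.ofInjective hψ).toEquiv, card_sz hθK, card_sz hθ, hK, hF]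
  have htorus : ∀ a b k, u hθ a b * tor hθ k ∈ H' → k = 1 := by
    intro a b k hg
    by_contra hk
    obtain ⟨a', b', k', hconj⟩ : ∃ a' b' k', k' ≠ 1 ∧ u hθ a b * tor hθ k = u hθ a' b' * tor hθ k' * (u hθ a' b')⁻¹ := by
      let φ : ↥(U hθ) → ↥(U hθ) := fun v => ⟨v.1 * (tor hθ k * v.1⁻¹ * (tor hθ k)⁻¹),
        (U hθ).mul_mem v.2 (conj_mem_U hθ (tor_mem_B hθ k) ((U hθ).inv_mem v.2))⟩
      have hφ : Function.Injective φ := by
        intro v w h
        have h' : v.1 * (tor hθ k * v.1⁻¹ * (tor hθ k)⁻¹) = w.1 * (tor hθ k * w.1⁻¹ * (tor hθ k)⁻¹) := congrArg Subtype.val h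
        have hcm : (w.1⁻¹ * v.1) * tor hθ k = tor hθ k * (w.1⁻¹ * v.1) := by
          calc (w.1⁻¹ * v.1) * tor hθ k = w.1⁻¹ * (v.1 * (tor hθ k * v.1⁻¹ * (tor hθ k)⁻¹)) * tor hθ k * v.1 := by group
            _ = tor hθ k * (w.1⁻¹ * v.1) := by rw [h']; group
        obtain ⟨l, hl⟩ := commute_tor hθ hk hcm
        obtain ⟨a', b', he⟩ := (U hθ).mul_mem ((U hθ).inv_mem w.2) v.2
        obtain ⟨ha', hb', -⟩ := bor_injective hθ (show u hθ a' b' * tor hθ 1 = u hθ 0 0 * tor hθ l by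
          rw [tor_one, mul_one, u_zero, one_mul, ← hl, he])
        rw [ha', hb', u_zero] at he
        exact Subtype.ext (inv_mul_eq_one.mp he).symm
      obtain ⟨⟨v, a', b', rfl⟩, hv⟩ := (Finite.injective_iff_surjective.mp hφ) ⟨u hθ a b, u_mem hθ a b⟩
      have hv' : u hθ a' b' * (tor hθ k * (u hθ a' b')⁻¹ * (tor hθ k)⁻¹) = u hθ a b := congrArg Subtype.val hv
      exact ⟨a', b', k, hk, by rw [← hv']; group⟩
    obtain ⟨hk', hconj⟩ := hconj
    set v := u hθ a' b'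
    set c₁ := d * v
    have ht : tor hθ k' ∈ cInf H {c₁⁻¹⁻¹ * 1} → True := fun _ => trivial
    let S : Set ↥(G F m) := {v⁻¹ * d⁻¹, wel hθ * (v⁻¹ * d⁻¹)}
    have hkM : ∀ l : Fˣ, (l = k' ∨ l = k'⁻¹) → d * (v * tor hθ l * v⁻¹) * d⁻¹ ∈ H := by
      have h1 : d * (v * tor hθ k' * v⁻¹) * d⁻¹ ∈ H := by rw [← hconj]; exact (hH'm _).mp hg
      rintro l (rfl | rfl)
      · exact h1
      · rw [← tor_inv, show d * (v * (tor hθ k')⁻¹ * v⁻¹) * d⁻¹ = (d * (v * tor hθ k' * v⁻¹) * d⁻¹)⁻¹ by group]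
        exact inv_mem h1
    have htS : tor hθ k' ∈ cInf H S := by
      rw [mem_cInf]
      rintro c (rfl | rfl)
      · rw [show (v⁻¹ * d⁻¹)⁻¹ * tor hθ k' * (v⁻¹ * d⁻¹) = d * (v * tor hθ k' * v⁻¹) * d⁻¹ by group]
        exact hkM _ (Or.inl rfl)
      · have hwi : (wel hθ)⁻¹ = wel hθ := inv_eq_of_mul_eq_one_right (wel_mul_self hθ)
        rw [show (wel hθ * (v⁻¹ * d⁻¹))⁻¹ * tor hθ k' * (wel hθ * (v⁻¹ * d⁻¹)) =
          d * (v * ((wel hθ)⁻¹ * tor hθ k' * wel hθ) * v⁻¹) * d⁻¹ by group, hwi, wel_tor, mul_assoc (tor hθ k'⁻¹),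
          wel_mul_self, mul_one]
        exact hkM _ (Or.inr rfl)
    obtain ⟨e, he⟩ := atom_center hθ hm hF hb hHt (S₀ := S) ⟨_, Or.inl rfl⟩
      (fun h => hk' (tor_injective hθ ((Subgroup.mem_bot.mp (h ▸ htS)).trans (tor_one hθ).symm)))
    set s := e * u hθ 0 1 * e⁻¹
    have hs1 : s ≠ 1 := fun h => one_ne_zero (u_injective hθ ((conj_eq_one_iff.mp h).trans (u_zero hθ).symm)).2
    have hs := (mem_cInf H S s).mp (he 1)
    have hfix : act hθ s none = none := by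
      have h := hHB ((hH'm (v * s * v⁻¹)).mpr (by simpa [mul_assoc] using hs _ (Or.inl rfl)))
      rw [mem_B, act_mul, act_mul, show act hθ v⁻¹ none = none by rw [u_inv, act_u_none]] at h
      have h2 := congrArg (act hθ v⁻¹) h
      rwa [act_inv_act, show act hθ v⁻¹ none = none by rw [u_inv, act_u_none]] at h2
    have hfix' : act hθ s (some (0, 0)) = some (0, 0) := by
      have hwi : (wel hθ)⁻¹ = wel hθ := inv_eq_of_mul_eq_one_right (wel_mul_self hθ)
      have h := hHB ((hH'm (v * (wel hθ * s * wel hθ) * v⁻¹)).mpr (by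
        have := hs _ (Or.inr rfl)
        simpa [mul_assoc, hwi] using this))
      rw [mem_B, act_mul, act_mul, show act hθ v⁻¹ none = none by rw [u_inv, act_u_none]] at h
      have h2 := congrArg (act hθ v⁻¹) h
      rw [act_inv_act, show act hθ v⁻¹ none = none by rw [u_inv, act_u_none], act_mul, act_mul, act_wel_none] at h2
      have h3 := congrArg (act hθ (wel hθ)) h2
      rwa [← act_mul, wel_mul_self, act_one, act_wel_none] at h3
    obtain ⟨l, hl⟩ := stab_two hθ hfix hfix'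
    have hl2 : s * s = 1 := by
      simp only [s]
      rw [show e * u hθ 0 1 * e⁻¹ * (e * u hθ 0 1 * e⁻¹) = e * (u hθ 0 1 * u hθ 0 1) * e⁻¹ by group, u_sq, map_zero,
        zero_mul, u_zero]
      group
    rw [hl, tor_mul, ← tor_one hθ] at hl2
    have hl3 : (l : F) * l = 1 := congrArg Units.val (tor_injective hθ hl2)
    have hl4 : (l : F) = 1 := by
      have h := frobenius_inj F 2 (show frobenius F 2 (l : F) = frobenius F 2 1 by
        rw [frobenius_def, frobenius_def, sq, one_pow, hl3])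
      exact h
    exact hs1 (by rw [hl, show l = 1 from Units.ext hl4, tor_one])
  have hU : ∀ g ∈ H', ∃ b, g = u hθ 0 b := by
    intro g hg
    obtain ⟨a, b, k, rfl⟩ := stab_none hθ (hHB hg)
    obtain rfl := htorus a b k hg
    rw [tor_one, mul_one] at hg ⊢
    suffices a = 0 by exact ⟨b, by rw [this]⟩
    by_contra ha
    have hx2 : u hθ a b * u hθ a b ≠ 1 := fun e => by
      rw [u_sq] at e
      exact mul_ne_zero ((map_ne_zero _).mpr ha) ha (u_injective hθ (e.trans (u_zero hθ).symm)).2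
    obtain ⟨c, a', b', ha', he⟩ := exists_wu hθ hm hF hx2
    set v := u hθ a' b' with hv
    set g := wel hθ * v with hgdef
    have hv1 : v ≠ 1 := fun e => ha' (u_injective hθ (e.trans (u_zero hθ).symm)).1
    have hfg : ∀ c' z, z ∈ cInf H {c' * d⁻¹} → act hθ z (act hθ c' none) = act hθ c' none ∧ (z ≠ 1 → ∀ o, act hθ z o = o → o = act hθ c' none) := by
      intro c' z hz
      rw [h1mem, show (c' * d⁻¹)⁻¹ * z * (c' * d⁻¹) = d * (c'⁻¹ * z * c') * d⁻¹ by group, ← hH'm] at hz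
      obtain ⟨a₁, b₁, k₁, hk₁⟩ := stab_none hθ (hHB hz)
      rw [hk₁] at hz
      obtain rfl := htorus _ _ _ hz
      rw [tor_one, mul_one] at hk₁
      have hzz : z = c' * u hθ a₁ b₁ * c'⁻¹ := by rw [← hk₁]; group
      subst hzz
      refine ⟨(fix_iff_conj hθ).mpr (act_u_none hθ _ _), fun h1 o ho => ?_⟩
      have h' : act hθ (u hθ a₁ b₁) (act hθ c'⁻¹ o) = act hθ c'⁻¹ o := (fix_iff_conj hθ (c := c')).mp (by
        rw [show act hθ c' (act hθ c'⁻¹ o) = o by rw [← act_mul, mul_inv_cancel, act_one]]; exact ho)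
      have h2 := u_fix_only hθ (fun h => h1 (by rw [h, mul_one, mul_inv_cancel])) h'
      rw [← h2, ← act_mul, mul_inv_cancel, act_one]
    have hg1 : g ∈ cInf H {c * d⁻¹} := by
      rw [h1mem, show (c * d⁻¹)⁻¹ * g * (c * d⁻¹) = d * (c⁻¹ * g * c) * d⁻¹ by group, ← hH'm, ← he,
        show c⁻¹ * (c * u hθ a b * c⁻¹) * c = u hθ a b by group]
      exact hg
    have hg1' : c⁻¹ * g * c ∈ H' := by
      rw [h1mem, show (c * d⁻¹)⁻¹ * g * (c * d⁻¹) = d * (c⁻¹ * g * c) * d⁻¹ by group, ← hH'm] at hg1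
      exact hg1
    have hv4 : v * v * (v * v) = 1 := by rw [hv, u_sq, u_sq, map_zero, zero_mul, u_zero]
    have hvv : v⁻¹ = v * v * v := inv_eq_of_mul_eq_one_right (by rw [← hv4]; group)
    have hprod : g * (v * v * g * (v * v)⁻¹) = (v * g⁻¹ * v⁻¹) * (v * g⁻¹ * v⁻¹) := by
      have e1 : v * g⁻¹ * v⁻¹ = wel hθ * v⁻¹ := by
        have hwi : (wel hθ)⁻¹ = wel hθ := inv_eq_of_mul_eq_one_right (wel_mul_self hθ)
        rw [hgdef, _root_.mul_inv_rev, hwi]; group
      rw [e1, hgdef]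
      calc wel hθ * v * (v * v * (wel hθ * v) * (v * v)⁻¹) = wel hθ * (v * v * v) * (wel hθ * v⁻¹) := by group
        _ = wel hθ * v⁻¹ * (wel hθ * v⁻¹) := by rw [hvv]
    obtain ⟨y, hy1, hy2, hy3⟩ := helly hb (Set.singleton_nonempty (c * d⁻¹)) (Set.singleton_nonempty (v * v * c * d⁻¹))
      (S₃ := {v * c * d⁻¹}) hg1 (x₂ := v * v * g * (v * v)⁻¹) (by
        rw [h1mem, show (v * v * c * d⁻¹)⁻¹ * (v * v * g * (v * v)⁻¹) * (v * v * c * d⁻¹) = d * (c⁻¹ * g * c) * d⁻¹ by group]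
        exact (hH'm _).mp hg1') (by
        rw [h1mem, hprod, show (v * c * d⁻¹)⁻¹ * (v * g⁻¹ * v⁻¹ * (v * g⁻¹ * v⁻¹)) * (v * c * d⁻¹) =
          d * ((c⁻¹ * g * c)⁻¹ * (c⁻¹ * g * c)⁻¹) * d⁻¹ by group]
        exact (hH'm _).mp (mul_mem (inv_mem hg1') (inv_mem hg1')))
    have hgne : g ≠ 1 := fun e => hx2 (by
      have : u hθ a b = 1 := conj_eq_one_iff.mp (he.trans e)
      rw [this, one_mul])
    obtain ⟨hgf, hgu⟩ := hfg c g hg1
    rw [show v * v * c * d⁻¹ = (v * v * c) * d⁻¹ by group] at hy2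
    set o := act hθ c none
    have ho : o ≠ none := fun e => by
      rw [e, hgdef, act_mul, hv, act_u_none, act_wel_none] at hgf
      exact absurd hgf (by simp)
    have hy : y = 1 := by
      by_contra hy
      have h := (hfg _ y hy1).2 hy _ (hfg _ y hy2).1
      rw [act_mul] at h
      refine ho (u_fix_only hθ (a := 0) (b := szTh m a' * a') (fun e => ?_) (by rw [← u_sq hθ a' b', ← hv]; exact h))
      exact mul_ne_zero ((map_ne_zero _).mpr ha') ha' (u_injective hθ (e.trans (u_zero hθ).symm)).2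
    rw [hy, mul_one] at hy3
    have h := hgu hgne _ (hfg (v * c) g hy3).1
    rw [act_mul] at h
    exact ho (u_fix_only hθ hv1 h)
  refine ⟨act hθ d none, fun g => ⟨fun hg => ?_, fun ⟨hg2, hgf⟩ => ?_⟩⟩
  · obtain ⟨b, hb'⟩ := hU (d⁻¹ * g * d) ((hH'm _).mpr (by simpa [mul_assoc] using hg))
    have e : g = d * u hθ 0 b * d⁻¹ := by rw [← hb']; group
    refine ⟨?_, by rw [e]; exact (fix_iff_conj hθ).mpr (act_u_none hθ _ _)⟩
    rw [e, show d * u hθ 0 b * d⁻¹ * (d * u hθ 0 b * d⁻¹) = d * (u hθ 0 b * u hθ 0 b) * d⁻¹ by group, u_sq, map_zero,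
      zero_mul, u_zero]
    group
  · rcases eq_or_ne g 1 with rfl | hg1
    · exact one_mem _
    obtain ⟨o, ho, hu, hform⟩ := inv_data hθ hF hg2 hg1
    obtain ⟨b, -, rfl⟩ := hform d (hu _ hgf)
    exact (hH'm _).mp (hZ b)

theorem binary_center (hF : Fintype.card F = 2 ^ (2 * m + 1)) {H : Subgroup ↥(G F m)} {o₀ : Pts F}
    (hH : ∀ g, g ∈ H ↔ g * g = 1 ∧ act hθ g o₀ = o₀) : IsBin H := by
  intro n I J hn h
  choose a ha using fun i => QuotientGroup.mk_surjective (I i)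
  choose b hb using fun i => QuotientGroup.mk_surjective (J i)
  let P : Fin n → ↥(G F m) → Prop := fun i x => x * x = 1 ∧ act hθ x (act hθ (a i) o₀) = act hθ (a i) o₀
  have hP : ∀ (i : Fin n) (g g' : ↥(G F m)), g • I i = J i → (g' • I i = J i ↔ P i (g⁻¹ * g')) := by
    intro i g g' hg
    rw [← ha i, ← hb i, smul_coset_iff] at hg ⊢
    have e : (a i)⁻¹ * (g⁻¹ * g') * a i = ((b i)⁻¹ * g * a i)⁻¹ * ((b i)⁻¹ * g' * a i) := by group
    constructor
    · intro hg'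
      obtain ⟨h2, hf⟩ := (hH _).mp (mul_mem (inv_mem hg) hg')
      rw [← e] at h2 hf
      refine ⟨?_, ?_⟩
      · rw [show (a i)⁻¹ * (g⁻¹ * g') * a i * ((a i)⁻¹ * (g⁻¹ * g') * a i) =
          (a i)⁻¹ * (g⁻¹ * g' * (g⁻¹ * g')) * (a i)⁻¹⁻¹ by group, conj_eq_one_iff] at h2
        exact h2
      · have := congrArg (act hθ (a i)) hf
        rwa [← act_mul, show a i * ((a i)⁻¹ * (g⁻¹ * g') * a i) = g⁻¹ * g' * a i by group, act_mul] at this
    · rintro ⟨h2, hf⟩
      have hm' : (a i)⁻¹ * (g⁻¹ * g') * a i ∈ H := (hH _).mpr ⟨by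
        rw [show (a i)⁻¹ * (g⁻¹ * g') * a i * ((a i)⁻¹ * (g⁻¹ * g') * a i) =
          (a i)⁻¹ * (g⁻¹ * g' * (g⁻¹ * g')) * a i by group, h2]; group, by
        rw [act_mul, act_mul, hf, act_inv_act]⟩
      have := mul_mem hg hm'
      rwa [show (b i)⁻¹ * g * a i * ((a i)⁻¹ * (g⁻¹ * g') * a i) = (b i)⁻¹ * g' * a i by group] at this
  let o : Fin n → Pts F := fun i => act hθ (a i) o₀
  have heq : ∀ (i j : Fin n) (g g' : ↥(G F m)), o i = o j → g • I i = J i → g • I j = J j → g' • I i = J i → g' • I j = J j := by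
    intro i j g g' e h1 h2 h3
    obtain ⟨p, q⟩ := (hP i g g' h1).mp h3
    exact (hP j g g' h2).mpr ⟨p, show act hθ _ (o j) = o j from e ▸ q⟩
  have i₀ : Fin n := ⟨0, by omega⟩
  by_cases hall : ∀ j, o j = o i₀
  · by_cases hex : ∃ j, j ≠ i₀
    · obtain ⟨j, hj⟩ := hex
      obtain ⟨g, hg, -⟩ := h i₀ j hj.symm
      refine ⟨g, fun i => ?_⟩
      rcases eq_or_ne i i₀ with rfl | hi
      · exact hg
      obtain ⟨g', h1, h2⟩ := h i₀ i hi.symm
      exact heq i₀ i g' g (hall i).symm h1 h2 hg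
    · push Not at hex
      exact absurd ((hex ⟨0, by omega⟩).trans (hex ⟨1, by omega⟩).symm) (by simp [Fin.ext_iff])
  push Not at hall
  obtain ⟨j, hj⟩ := hall
  have hij : i₀ ≠ j := fun e => hj (by rw [e])
  obtain ⟨x, hx1, hx2⟩ := h i₀ j hij
  refine ⟨x, fun i => ?_⟩
  rcases eq_or_ne i i₀ with rfl | hi
  · exact hx1
  rcases eq_or_ne i j with rfl | hi'
  · exact hx2
  obtain ⟨g1, p1, q1⟩ := h i₀ i hi.symm
  obtain ⟨g2, p2, q2⟩ := h j i hi'.symm
  by_cases e1 : o i = o i₀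
  · exact heq i₀ i g1 x e1.symm p1 q1 hx1
  by_cases e2 : o i = o j
  · exact heq j i g2 x e2.symm p2 q2 hx2
  -- three different fixed points
  obtain ⟨s1, t1⟩ := (hP i₀ x g1 hx1).mp p1
  obtain ⟨s2, t2⟩ := (hP j x g2 hx2).mp p2
  obtain ⟨s3, t3⟩ := (hP i g1 g2 q1).mp q2
  have e3 : g1⁻¹ * g2 = (x⁻¹ * g1) * (x⁻¹ * g2) := by
    rw [show g1⁻¹ * g2 = (x⁻¹ * g1)⁻¹ * (x⁻¹ * g2) by group, inv_eq_of_mul_eq_one_right s1]
  rcases eq_or_ne (x⁻¹ * g1) 1 with e | hz1
  · rw [inv_mul_eq_one] at e; rw [e]; exact q1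
  rcases eq_or_ne (x⁻¹ * g2) 1 with e | hz2
  · rw [inv_mul_eq_one] at e; rw [e]; exact q2
  exfalso
  rw [e3] at s3 t3
  set z1 := x⁻¹ * g1
  set z2 := x⁻¹ * g2
  have hcomm : z1 * z2 = z2 * z1 := by
    rw [← inv_eq_of_mul_eq_one_right s3, _root_.mul_inv_rev, inv_eq_of_mul_eq_one_right s1,
      inv_eq_of_mul_eq_one_right s2]
  obtain ⟨f1, -, u1, -⟩ := inv_data hθ hF s1 hz1
  obtain ⟨f2, -, u2, -⟩ := inv_data hθ hF s2 hz2
  have h12 : act hθ z2 (o i₀) = o i₀ := by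
    refine (u1 _ ?_).trans (u1 _ t1).symm
    rw [← act_mul, hcomm, act_mul, show act hθ z1 (o i₀) = o i₀ from t1]
  exact hj ((u2 _ t2).trans (u2 _ h12).symm)

end

end Cfsg.Agent.Lib.KnownA.Suz

namespace Cfsg.Agent.Lib.KnownA.Suz

open Matrix Cfsg.Lie
open scoped Classical

noncomputable section

variable {F : Type*} [Field F] [Fintype F] [CharP F 2] {m : ℕ} (hθ : ∀ x : F, szTh m (szTh m x) = x * x)
include hθ

theorem sylow_center_iff (hm : 1 ≤ m) (hF : Fintype.card F = 2 ^ (2 * m + 1)) (c : ↥(G F m))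
    (P : Subgroup ↥(G F m)) (hP : P = (U hθ).map (MulAut.conj c).toMonoidHom) (g : ↥(G F m)) :
    g ∈ (Subgroup.center ↥P).map P.subtype ↔ g * g = 1 ∧ act hθ g (act hθ c none) = act hθ c none := by
  subst hP
  constructor
  · rintro ⟨⟨g', hg'⟩, hz, rfl⟩
    obtain ⟨_, ⟨a, b, rfl⟩, e⟩ := hg'
    change c * u hθ a b * c⁻¹ = g' at e
    have hc : (⟨u hθ a b, u_mem hθ a b⟩ : ↥(U hθ)) ∈ Subgroup.center ↥(U hθ) := by
      rw [Subgroup.mem_center_iff]
      rintro ⟨v, hv⟩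
      have h := congrArg Subtype.val (Subgroup.mem_center_iff.mp hz ⟨_, v, hv, rfl⟩)
      change c * v * c⁻¹ * g' = g' * (c * v * c⁻¹) at h
      subst e
      apply Subtype.ext
      show v * u hθ a b = u hθ a b * v
      calc v * u hθ a b = c⁻¹ * (c * v * c⁻¹ * (c * u hθ a b * c⁻¹)) * c := by group
        _ = u hθ a b * v := by rw [h]; group
    obtain rfl := (center_U_iff hθ hm hF a b).mp hc
    subst e
    show c * u hθ 0 b * c⁻¹ * (c * u hθ 0 b * c⁻¹) = 1 ∧ act hθ (c * u hθ 0 b * c⁻¹) _ = _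
    refine ⟨?_, (fix_iff_conj hθ).mpr (act_u_none hθ 0 b)⟩
    rw [show c * u hθ 0 b * c⁻¹ * (c * u hθ 0 b * c⁻¹) = c * (u hθ 0 b * u hθ 0 b) * c⁻¹ by group, u_sq, map_zero,
      zero_mul, u_zero]
    group
  · rintro ⟨h2, hf⟩
    obtain ⟨b, hb⟩ : ∃ b, g = c * u hθ 0 b * c⁻¹ := by
      rcases eq_or_ne g 1 with rfl | hg1
      · exact ⟨0, by rw [u_zero, mul_one, mul_inv_cancel]⟩
      obtain ⟨o, -, hu, hform⟩ := inv_data hθ hF h2 hg1
      obtain ⟨b, -, hb⟩ := hform c (hu _ hf)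
      exact ⟨b, hb⟩
    subst hb
    refine ⟨⟨_, u hθ 0 b, u_mem hθ 0 b, rfl⟩, ?_, rfl⟩
    refine Subgroup.mem_center_iff.mpr ?_
    rintro ⟨_, v, hv, rfl⟩
    apply Subtype.ext
    have hc := congrArg Subtype.val (Subgroup.mem_center_iff.mp ((center_U_iff hθ hm hF 0 b).mpr rfl) ⟨v, hv⟩)
    change v * u hθ 0 b = u hθ 0 b * v at hc
    show c * v * c⁻¹ * (c * u hθ 0 b * c⁻¹) = c * u hθ 0 b * c⁻¹ * (c * v * c⁻¹)
    calc c * v * c⁻¹ * (c * u hθ 0 b * c⁻¹) = c * (v * u hθ 0 b) * c⁻¹ := by group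
      _ = c * u hθ 0 b * c⁻¹ * (c * v * c⁻¹) := by rw [hc]; group

theorem binary_iff (hm : 1 ≤ m) (hF : Fintype.card F = 2 ^ (2 * m + 1)) (H : Subgroup ↥(G F m)) (hHt : H ≠ ⊤) :
    IsBin H ↔ H = ⊥ ∨ ∃ P : Sylow 2 ↥(G F m),
      H = (Subgroup.center (P : Subgroup ↥(G F m))).map (P : Subgroup ↥(G F m)).subtype := by
  haveI : Fact (Nat.Prime 2) := ⟨Nat.prime_two⟩
  constructor
  · intro hb
    by_cases hne : H = ⊥
    · exact Or.inl hne
    obtain ⟨o, ho⟩ := binary_only hθ hm hF hb hHt hne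
    obtain ⟨c, hc⟩ := exists_conj_stab hθ o
    refine Or.inr ⟨(sylow hθ hF).mapSurjective (f := (MulAut.conj c).toMonoidHom) (MulAut.conj c).surjective,
      Subgroup.ext fun g => ?_⟩
    rw [← hc] at ho
    exact (ho g).trans (sylow_center_iff hθ hm hF c _ rfl g).symm
  · rintro (rfl | ⟨P, rfl⟩)
    · exact isBin_bot
    · obtain ⟨c, hc⟩ := MulAction.exists_smul_eq ↥(G F m) (sylow hθ hF) P
      refine binary_center hθ hF (o₀ := act hθ c none) fun g => sylow_center_iff hθ hm hF c _ ?_ g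
      rw [← hc]
      rfl

end

end Cfsg.Agent.Lib.KnownA.Suz
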