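import Mathlib
import Cfsg.Agent.Lib.KnownA.SuzukiSolubilizer

/-! A lower bound for the number of conjugacy classes of the Suzuki group. -/

set_option autoImplicit false
set_option maxHeartbeats 400000

namespace Cfsg.Agent.Lib.KnownA.Suz

open Matrix Cfsg.Lie
open scoped Classical

set_option linter.unusedSectionVars false

noncomputable section

variable {F : Type*} [Field F] [Fintype F] [CharP F 2] {m : ℕ} (hθ : ∀ x : F, szTh m (szTh m x) = x * x)

/-- The order of the centralizer of an element. -/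
def cenCard {F : Type*} [Field F] [Fintype F] {m : ℕ} (g : ↥(G F m)) : ℕ := Nat.card (Subgroup.centralizer {g})

include hθ

theorem cenCard_conj (c y : ↥(G F m)) : cenCard (c * y * c⁻¹) = cenCard y := by
  have e : Subgroup.centralizer {c * y * c⁻¹} = (Subgroup.centralizer {y}).map (MulAut.conj c).toMonoidHom := by
    ext g
    rw [Subgroup.mem_centralizer_singleton_iff, Subgroup.mem_map_equiv, MulAut.conj_symm_apply,
      Subgroup.mem_centralizer_singleton_iff]
    constructor
    · exact fun h => centralizer_conj hθ h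
    · intro h
      calc g * (c * y * c⁻¹) = c * (c⁻¹ * g * c * y) * c⁻¹ := by group
        _ = c * (y * (c⁻¹ * g * c)) * c⁻¹ := by rw [h]
        _ = c * y * c⁻¹ * g := by group
  rw [cenCard, cenCard, e, Subgroup.card_map_of_injective (MulAut.conj c).injective]

theorem cenCard_two_power (hF : Fintype.card F = 2 ^ (2 * m + 1)) (y : ↥(G F m)) :
    (orderOf y = 2 → Fintype.card F * Fintype.card F ≤ cenCard y) ∧
      (orderOf y = 4 → 2 * Fintype.card F ≤ cenCard y) := by
  constructor
  · intro hy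
    have hy1 : y ≠ 1 := fun e => by rw [e, orderOf_one] at hy; norm_num at hy
    obtain ⟨o, -, -, h⟩ := two_element_fixed hθ hF hy1 ⟨1, by rw [hy]; norm_num⟩
    obtain ⟨c, hc⟩ := exists_conj_stab hθ o
    obtain ⟨a, b, rfl⟩ := h c hc
    rw [cenCard_conj hθ]
    rw [orderOf_conj'] at hy
    have ha : a = 0 := by
      by_contra ha
      rw [(orderOf_u hθ a b).1 ha] at hy
      norm_num at hy
    subst ha
    rw [← card_U hθ]
    refine Subgroup.card_le_of_le ?_
    rintro _ ⟨a', b', rfl⟩
    rw [Subgroup.mem_centralizer_singleton_iff, u_mul, u_mul, map_zero, zero_mul, mul_zero]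
    congr 1 <;> abel
  · intro hy
    have hy1 : y ≠ 1 := fun e => by rw [e, orderOf_one] at hy; norm_num at hy
    obtain ⟨o, -, -, h⟩ := two_element_fixed hθ hF hy1 ⟨2, by rw [hy]; norm_num⟩
    obtain ⟨c, hc⟩ := exists_conj_stab hθ o
    obtain ⟨a, b, rfl⟩ := h c hc
    rw [cenCard_conj hθ]
    rw [orderOf_conj'] at hy
    have ha : a ≠ 0 := fun ha => by
      rcases eq_or_ne b 0 with hb | hb
      · rw [ha, hb, u_zero, orderOf_one] at hy; norm_num at hy
      · rw [(orderOf_u hθ a b).2 ha hb] at hy; norm_num at hy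
    let f : Bool × F → ↥(Subgroup.centralizer {u hθ a b}) := fun x =>
      ⟨u hθ (if x.1 then a else 0) x.2, by
        rw [Subgroup.mem_centralizer_singleton_iff, u_mul, u_mul]
        rcases x.1
        · simp only [Bool.false_eq_true, if_false, map_zero, zero_mul, mul_zero]
          congr 1 <;> abel
        · simp only [if_true]
          congr 1
          abel⟩
    have hf : Function.Injective f := by
      rintro ⟨s, x⟩ ⟨s', x'⟩ e
      obtain ⟨e1, e2⟩ := u_injective hθ (congrArg Subtype.val e)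
      refine Prod.ext ?_ e2
      rcases s <;> rcases s'
      · rfl
      · exact absurd e1.symm ha
      · exact absurd e1 ha
      · rfl
    have := Nat.card_le_card_of_injective f hf
    rwa [Nat.card_prod, Nat.card_eq_fintype_card, Fintype.card_bool, Nat.card_eq_fintype_card] at this

theorem ss_mass (hF : Fintype.card F = 2 ^ (2 * m + 1)) [Fintype ↥(G F m)] {X : Subgroup ↥(G F m)}
    (hX : IsSS hθ X) {k : ℕ} (hk : Nat.card (Subgroup.normalizer (X : Set ↥(G F m))) = k * Nat.card X) :
    ∃ s : Finset ↥(G F m), (∀ g ∈ s, ¬ 2 ∣ orderOf g ∧ g ≠ 1 ∧ cenCard g = Nat.card X) ∧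
      k * ∑ g ∈ s, cenCard g = Nat.card ↥(G F m) * (Nat.card X - 1) := by
  set O := Finset.univ.image fun d : ↥(G F m) => X.map (MulAut.conj d).toMonoidHom with hO
  have hOcard : O.card * (k * Nat.card X) = Nat.card ↥(G F m) := by
    rw [← hk, ← orbit_card hθ X]
    congr 1
    rw [Set.ncard_eq_toFinset_card', Set.toFinset_range]
  have hmem : ∀ Y ∈ O, IsSS hθ Y ∧ Nat.card Y = Nat.card X := by
    intro Y hY
    obtain ⟨d, -, rfl⟩ := Finset.mem_image.mp hY
    exact ⟨ss_conj hθ hX d, Subgroup.card_map_of_injective (MulAut.conj d).injective⟩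
  let star : Subgroup ↥(G F m) → Finset ↥(G F m) := fun Y => Finset.univ.filter fun g => g ∈ Y ∧ g ≠ 1
  have hstar : ∀ Y, (star Y).card = Nat.card Y - 1 := by
    intro Y
    have e : star Y = (Finset.univ.filter fun g => g ∈ Y).erase 1 := by
      ext g; simp [star, and_comm]
    rw [e, Finset.card_erase_of_mem (by simp), ← Fintype.card_subtype, Nat.card_eq_fintype_card]
  have hval : ∀ Y ∈ O, ∀ g ∈ star Y, cenCard g = Nat.card X := by
    intro Y hY g hg
    simp only [star, Finset.mem_filter] at hg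
    rw [cenCard, ss_centralizer hθ hF (hmem Y hY).1 hg.2.1 hg.2.2, (hmem Y hY).2]
  refine ⟨O.biUnion star, fun g hg => ?_, ?_⟩
  · obtain ⟨Y, hY, hg⟩ := Finset.mem_biUnion.mp hg
    refine ⟨fun h2 => ?_, ?_, hval Y hY g hg⟩
    · simp only [star, Finset.mem_filter] at hg
      exact ss_not_two_dvd hθ hF (hmem Y hY).1 (h2.trans (Subgroup.orderOf_dvd_natCard Y hg.2.1))
    · simp only [star, Finset.mem_filter] at hg
      exact hg.2.2
  · rw [Finset.sum_biUnion ?_, Finset.sum_congr rfl fun Y hY => by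
      rw [Finset.sum_congr rfl (hval Y hY), Finset.sum_const, hstar, (hmem Y hY).2, smul_eq_mul],
      Finset.sum_const, smul_eq_mul, ← hOcard]
    · ring
    · intro Y hY Z hZ hne
      rw [Function.onFun, Finset.disjoint_left]
      intro g h1 h2
      simp only [star, Finset.mem_filter] at h1 h2
      exact hne (ss_unique hθ hF (hmem Y hY).1 (hmem Z hZ).1 h1.2.2 h1.2.1 h2.2.1)

theorem classes_ge (hm : 1 ≤ m) (hF : Fintype.card F = 2 ^ (2 * m + 1)) :
    Fintype.card F + 3 ≤ Nat.card (ConjClasses ↥(G F m)) := by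
  haveI := Fintype.ofFinite ↥(G F m)
  obtain ⟨A₁, A₂, hA₁, hA₂, c₁, c₂, -, hN, -⟩ := exists_tori hθ hm hF
  obtain ⟨sT, hsT, eT⟩ := ss_mass hθ hF (X := T hθ) (Or.inl ⟨1, by ext x; simp⟩) (card_normalizer_T hθ hm hF)
  obtain ⟨s₁, hs₁, e₁⟩ := ss_mass hθ hF (Or.inr hA₁) (hN A₁ hA₁)
  obtain ⟨s₂, hs₂, e₂⟩ := ss_mass hθ hF (Or.inr hA₂) (hN A₂ hA₂)
  obtain ⟨hE2, hE4⟩ := card_order_elems hθ hF
  set S2 := Finset.univ.filter fun y : ↥(G F m) => orderOf y = 2
  set S4 := Finset.univ.filter fun y : ↥(G F m) => orderOf y = 4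
  have htot : ∑ g : ↥(G F m), cenCard g = Nat.card (ConjClasses ↥(G F m)) * Nat.card ↥(G F m) := by
    rw [← card_comm_eq_card_conjClasses_mul_card]
    rw [show (∑ g : ↥(G F m), cenCard g) = Nat.card (Σ g : ↥(G F m), ↥(Subgroup.centralizer {g})) from
      Nat.card_sigma.symm]
    exact Nat.card_congr
      { toFun := fun x => ⟨(x.1, x.2.1), (Subgroup.mem_centralizer_singleton_iff.mp x.2.2).symm⟩
        invFun := fun x => ⟨x.1.1, x.1.2, Subgroup.mem_centralizer_singleton_iff.mpr x.2.eq.symm⟩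
        left_inv := fun x => rfl
        right_inv := fun x => rfl }
  have hq : 2 ^ (2 * m + 1) = 2 * (2 ^ m * 2 ^ m) := by ring
  have hr : 2 ≤ 2 ^ m := by
    calc 2 = 2 ^ 1 := by norm_num
      _ ≤ 2 ^ m := Nat.pow_le_pow_right (by norm_num) hm
  have hr1 : 2 ^ (m + 1) = 2 * 2 ^ m := by ring
  have hqr : 2 * 2 ^ m ≤ 2 ^ m * 2 ^ m := Nat.mul_le_mul_right _ hr
  have d1 : Disjoint sT s₁ := Finset.disjoint_left.mpr fun g h h' => by
    have := (hsT g h).2.2.symm.trans (hs₁ g h').2.2
    rw [card_T hθ, c₁, hF] at this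
    omega
  have d2 : Disjoint (sT ∪ s₁) s₂ := Finset.disjoint_left.mpr fun g h h' => by
    rcases Finset.mem_union.mp h with h | h
    · have := (hsT g h).2.2.symm.trans (hs₂ g h').2.2
      rw [card_T hθ, c₂, hF] at this
      omega
    · have := (hs₁ g h).2.2.symm.trans (hs₂ g h').2.2
      rw [c₁, c₂] at this
      omega
  have hodd : ∀ g ∈ sT ∪ s₁ ∪ s₂, ¬ 2 ∣ orderOf g ∧ g ≠ 1 := by
    intro g h
    rcases Finset.mem_union.mp h with h | h
    · rcases Finset.mem_union.mp h with h | h
      · exact ⟨(hsT g h).1, (hsT g h).2.1⟩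
      · exact ⟨(hs₁ g h).1, (hs₁ g h).2.1⟩
    · exact ⟨(hs₂ g h).1, (hs₂ g h).2.1⟩
  have d3 : Disjoint ({(1 : ↥(G F m))} : Finset _) S2 := Finset.disjoint_left.mpr fun g h h' => by
    rw [Finset.mem_singleton] at h
    have := (Finset.mem_filter.mp h').2
    rw [h, orderOf_one] at this
    omega
  have d4 : Disjoint (({1} : Finset _) ∪ S2) S4 := Finset.disjoint_left.mpr fun g h h' => by
    have h4 := (Finset.mem_filter.mp h').2
    rcases Finset.mem_union.mp h with h | h
    · rw [Finset.mem_singleton] at h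
      rw [h, orderOf_one] at h4
      omega
    · have := (Finset.mem_filter.mp h).2
      omega
  have d5 : Disjoint (({1} : Finset _) ∪ S2 ∪ S4) (sT ∪ s₁ ∪ s₂) := Finset.disjoint_left.mpr fun g h h' => by
    obtain ⟨ho, h1⟩ := hodd g h'
    rcases Finset.mem_union.mp h with h | h
    · rcases Finset.mem_union.mp h with h | h
      · exact h1 (Finset.mem_singleton.mp h)
      · exact ho (by rw [(Finset.mem_filter.mp h).2])
    · exact ho (by rw [(Finset.mem_filter.mp h).2]; norm_num)
  have hle : ∑ g ∈ ({1} : Finset _) ∪ S2 ∪ S4 ∪ (sT ∪ s₁ ∪ s₂), cenCard g ≤ ∑ g : ↥(G F m), cenCard g :=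
    Finset.sum_le_sum_of_subset (Finset.subset_univ _)
  rw [htot, Finset.sum_union d5, Finset.sum_union d4, Finset.sum_union d3, Finset.sum_union d2,
    Finset.sum_union d1, Finset.sum_singleton] at hle
  have h1 : cenCard (1 : ↥(G F m)) = Nat.card ↥(G F m) := by
    have e : Subgroup.centralizer ({1} : Set ↥(G F m)) = ⊤ := by
      ext g; simp [Subgroup.mem_centralizer_singleton_iff]
    rw [cenCard, e, Subgroup.card_top]
  have h2 : S2.card * (Fintype.card F * Fintype.card F) ≤ ∑ g ∈ S2, cenCard g := by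
    rw [← smul_eq_mul]
    exact Finset.card_nsmul_le_sum _ _ _ fun g hg => (cenCard_two_power hθ hF g).1 (Finset.mem_filter.mp hg).2
  have h4 : S4.card * (2 * Fintype.card F) ≤ ∑ g ∈ S4, cenCard g := by
    rw [← smul_eq_mul]
    exact Finset.card_nsmul_le_sum _ _ _ fun g hg => (cenCard_two_power hθ hF g).2 (Finset.mem_filter.mp hg).2
  set N := Nat.card ↥(G F m) with hNdef
  have hNpos : 0 < N := Nat.card_pos
  have g2 : S2.card * (Fintype.card F * Fintype.card F) = N := by
    rw [hE2, hNdef, card_sz hθ]; ring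
  have g4 : S4.card * (2 * Fintype.card F) = 2 * N := by
    rw [hE4, hNdef, card_sz hθ]; ring
  rw [h1] at hle
  have key : N * (16 + 2 * (Nat.card (T hθ) - 1) + (Nat.card A₁ - 1) + (Nat.card A₂ - 1)) ≤
      N * (4 * Nat.card (ConjClasses ↥(G F m))) := by
    nlinarith
  have := Nat.le_of_mul_le_mul_left key hNpos
  rw [card_T hθ, c₁, c₂] at this
  rw [hF] at this ⊢
  omega

end

end Cfsg.Agent.Lib.KnownA.Suz
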