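import Mathlib
import Cfsg.Agent.Lib.KnownA.SuzukiAut
import Cfsg.Agent.Lib.KnownA.SuzukiModel
import Cfsg.Agent.Lib.KnownA.SuzukiCentralizer
import Cfsg.Agent.Lib.Characters.Induced
import Cfsg.Agent.Lib.Characters.Kernel
import Cfsg.Agent.Lib.Characters.FrobeniusKernelChar

/-! The principal series of the Suzuki group and the Borel restriction of the other characters. -/

set_option autoImplicit false
set_option maxHeartbeats 800000

namespace Cfsg.Agent.Lib.KnownA.Suz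

open Matrix Cfsg.Lie Cfsg.Agent.Lib.Characters
open scoped Classical ComplexConjugate

set_option linter.unusedSectionVars false
set_option linter.style.haveILetI false

noncomputable section

variable {F : Type*} [Field F] [Fintype F] [CharP F 2] {m : ℕ} (hθ : ∀ x : F, szTh m (szTh m x) = x * x)

include hθ

/-- Coordinates on the Borel subgroup. -/
def borE : (F × F) × Fˣ ≃ ↥(B hθ) :=
  Equiv.ofBijective (fun x =>
    (⟨u hθ x.1.1 x.1.2 * tor hθ x.2, mul_mem (U_le_B hθ (u_mem hθ _ _)) (tor_mem_B hθ _)⟩ : ↥(B hθ)))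
    ⟨fun x y h => by
      obtain ⟨h1, h2, h3⟩ := bor_injective hθ (congrArg Subtype.val h)
      exact Prod.ext (Prod.ext h1 h2) h3,
    fun g => by
      obtain ⟨a, b, k, h⟩ := stab_none hθ g.2
      exact ⟨((a, b), k), Subtype.ext h.symm⟩⟩

theorem borE_coe (x : (F × F) × Fˣ) : (borE hθ x : ↥(G F m)) = u hθ x.1.1 x.1.2 * tor hθ x.2 := rfl

/-- The torus component. -/
def kap : ↥(B hθ) →* Fˣ :=
  MonoidHom.mk' (fun g => ((borE hθ).symm g).2) fun g h => by
    obtain ⟨⟨⟨a, b⟩, k⟩, rfl⟩ := (borE hθ).surjective g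
    obtain ⟨⟨⟨a', b'⟩, l⟩, rfl⟩ := (borE hθ).surjective h
    obtain ⟨a'', b'', e⟩ : u hθ a b * (tor hθ k * u hθ a' b' * (tor hθ k)⁻¹) ∈ U hθ :=
      mul_mem (u_mem hθ a b) (conj_mem_U hθ (tor_mem_B hθ k) (u_mem hθ a' b'))
    have e2 : borE hθ ((a, b), k) * borE hθ ((a', b'), l) = borE hθ ((a'', b''), k * l) := Subtype.ext (by
      show u hθ a b * tor hθ k * (u hθ a' b' * tor hθ l) = u hθ a'' b'' * tor hθ (k * l)
      rw [← e, ← tor_mul]
      group)
    simp [e2]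

theorem kap_borE (x : (F × F) × Fˣ) : kap hθ (borE hθ x) = x.2 := by
  simp [kap]

/-- A linear character of the torus as a character of the Borel subgroup. -/
def bth (η : Fˣ →* ℂˣ) : ↥(B hθ) → ℂ := fun g => (η (kap hθ g) : ℂ)

theorem bth_irr (η : Fˣ →* ℂˣ) : IsIrrCharacter ↥(B hθ) (bth hθ η) :=
  isIrrCharacter_unitsHom (η.comp (kap hθ))

theorem bth_conj (η : Fˣ →* ℂˣ) (x y : ↥(B hθ)) : bth hθ η (y * x * y⁻¹) = bth hθ η x :=
  IsCharacter.conj_apply (IsIrrCharacter.isCharacter (bth_irr hθ η)) x y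

theorem ext_conj (η : Fˣ →* ℂˣ) (x : ↥(G F m)) {y : ↥(G F m)} (hy : y ∈ B hθ) :
    extendByZero (B hθ) (bth hθ η) (y⁻¹ * x * y) = extendByZero (B hθ) (bth hθ η) x := by
  by_cases hx : x ∈ B hθ
  · rw [extendByZero_of_mem _ _ hx, extendByZero_of_mem _ _ (mul_mem (mul_mem (inv_mem hy) hx) hy),
      ← bth_conj hθ η ⟨x, hx⟩ ⟨y⁻¹, inv_mem hy⟩]
    congr 1
  · rw [extendByZero_of_not_mem _ _ hx, extendByZero_of_not_mem]
    intro h
    apply hx
    have h' := mul_mem (mul_mem hy h) (inv_mem hy)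
    rwa [show y * (y⁻¹ * x * y) * y⁻¹ = x by group] at h'

theorem wel_inv : (wel hθ)⁻¹ = wel hθ := inv_eq_of_mul_eq_one_right (wel_mul_self hθ)

/-- The big cell. -/
def bigCell : (F × F) × ↥(B hθ) ≃ {x : ↥(G F m) // x ∉ B hθ} :=
  Equiv.ofBijective (fun p => ⟨u hθ p.1.1 p.1.2 * wel hθ * p.2.1, by
    rw [mem_B, act_mul, (show act hθ p.2.1 none = none from p.2.2), act_mul, act_wel_none, act_u_some]
    exact Option.some_ne_none _⟩)
    ⟨fun p p' h => by
      obtain ⟨⟨a, b⟩, y⟩ := p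
      obtain ⟨⟨a', b'⟩, y'⟩ := p'
      have h' : u hθ a b * wel hθ * y.1 = u hθ a' b' * wel hθ * y'.1 := congrArg Subtype.val h
      have e := congrArg (fun g => act hθ g none) h'
      simp only [act_mul, (show act hθ y.1 none = none from y.2), (show act hθ y'.1 none = none from y'.2),
        act_wel_none, act_u_some, add_zero, mul_zero, Option.some.injEq, Prod.mk.injEq] at e
      obtain ⟨rfl, rfl⟩ := e
      exact Prod.ext rfl (Subtype.ext (mul_left_cancel h')),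
    fun x => by
      obtain ⟨x, hx⟩ := x
      rcases ho : act hθ x none with _ | ⟨a, b⟩
      · exact absurd ho hx
      have hy : (u hθ a b * wel hθ)⁻¹ * x ∈ B hθ := by
        rw [mem_B, act_mul, ho]
        conv_lhs => rw [show some (a, b) = act hθ (u hθ a b * wel hθ) none by
          rw [act_mul, act_wel_none, act_u_some, add_zero, mul_zero, add_zero, add_zero]]
        exact act_inv_act hθ _ _
      exact ⟨((a, b), ⟨_, hy⟩), Subtype.ext (mul_inv_cancel_left _ _)⟩⟩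

theorem bigCell_coe (p : (F × F) × ↥(B hθ)) :
    (bigCell hθ p : ↥(G F m)) = u hθ p.1.1 p.1.2 * wel hθ * p.2.1 := rfl

variable [Fintype ↥(G F m)]

theorem ind_apply_B (φ : Fˣ →* ℂˣ) (g : ↥(B hθ)) :
    indFun (B hθ) (bth hθ φ) g.1 = bth hθ φ g +
      ∑ v : F × F, extendByZero (B hθ) (bth hθ φ)
        (wel hθ * ((u hθ v.1 v.2)⁻¹ * g.1 * u hθ v.1 v.2) * wel hθ) := by
  rw [indFun_apply, ← Fintype.sum_subtype_add_sum_subtype (fun x => x ∈ B hθ), ← (bigCell hθ).sum_comp,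
    Fintype.sum_prod_type]
  have h1 : ∀ x : {x // x ∈ B hθ}, extendByZero (B hθ) (bth hθ φ) (x.1⁻¹ * g.1 * x.1) = bth hθ φ g := fun x => by
    rw [ext_conj hθ φ g.1 x.2, extendByZero_of_mem _ _ g.2]
  have h2 : ∀ (v : F × F) (y : ↥(B hθ)),
      extendByZero (B hθ) (bth hθ φ) ((bigCell hθ (v, y)).1⁻¹ * g.1 * (bigCell hθ (v, y)).1) =
        extendByZero (B hθ) (bth hθ φ) (wel hθ * ((u hθ v.1 v.2)⁻¹ * g.1 * u hθ v.1 v.2) * wel hθ) := by
    intro v y
    rw [← ext_conj hθ φ (wel hθ * ((u hθ v.1 v.2)⁻¹ * g.1 * u hθ v.1 v.2) * wel hθ) y.2, bigCell_coe]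
    congr 1
    simp only [_root_.mul_inv_rev, wel_inv, mul_assoc]
  rw [Finset.sum_congr rfl fun x _ => h1 x, Finset.sum_congr rfl fun v _ => Finset.sum_congr rfl fun y _ => h2 v y]
  simp only [Finset.sum_const, Finset.card_univ, nsmul_eq_mul, ← Finset.mul_sum]
  have hB : (Nat.card ↥(B hθ) : ℂ) ≠ 0 := natCard_ne_zero_complex
  rw [← mul_add, ← mul_assoc]
  convert one_mul _
  rw [← Nat.card_eq_fintype_card]
  exact inv_mul_cancel₀ hB

theorem ext_wel (φ : Fˣ →* ℂˣ) (x : (F × F) × Fˣ) :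
    extendByZero (B hθ) (bth hθ φ) (wel hθ * (borE hθ x).1 * wel hθ) =
      if x.1 = (0, 0) then (φ x.2⁻¹ : ℂ) else 0 := by
  obtain ⟨⟨a, b⟩, k⟩ := x
  split_ifs with h
  · obtain ⟨rfl, rfl⟩ := Prod.mk.inj h
    have e : wel hθ * (borE hθ ((0, 0), k)).1 * wel hθ = (borE hθ ((0, 0), k⁻¹)).1 := by
      rw [borE_coe, borE_coe, u_zero, one_mul, one_mul, wel_tor, mul_assoc, wel_mul_self, mul_one]
    rw [e, extendByZero_coe, bth, kap_borE]
  · rw [extendByZero_of_not_mem]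
    intro hm
    have e : act hθ (wel hθ) (some (a, b)) = none := by
      rw [mem_B, act_mul, act_mul, act_wel_none, borE_coe, act_mul, act_tor_some] at hm
      simpa only [zero_mul, zero_div, act_u_some, add_zero, mul_zero] using hm
    exact h (Option.some.inj (act_injective hθ _ (e.trans (act_wel_zero hθ).symm)))

theorem unitsHom_sum (χ : Fˣ →* ℂˣ) :
    ∑ k : Fˣ, (χ k : ℂ) = if χ = 1 then (Fintype.card Fˣ : ℂ) else 0 := by
  split_ifs with h
  · subst h; simp
  · refine sum_hom_units_eq_zero ((Units.coeHom ℂ).comp χ) fun e => h ?_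
    refine MonoidHom.ext fun k => Units.ext ?_
    simpa using DFunLike.congr_fun e k

theorem conj_hom (η : Fˣ →* ℂˣ) (k : Fˣ) : conj (η k : ℂ) = (η k⁻¹ : ℂ) :=
  (IsCharacter.apply_inv (IsIrrCharacter.isCharacter (isIrrCharacter_unitsHom η)) k).symm

theorem inner_series (η φ : Fˣ →* ℂˣ) :
    classInner (indFun (B hθ) (bth hθ η)) (indFun (B hθ) (bth hθ φ)) =
      (if η = φ then 1 else 0) + (if η * φ = 1 then 1 else 0) := by
  rw [classInner_indFun (B hθ) _ (isClassFunction_indFun _ _),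
    show (fun h : ↥(B hθ) => indFun (B hθ) (bth hθ φ) h.1) = _ from funext fun h => ind_apply_B hθ φ h]
  unfold classInner
  simp only [map_add, map_sum, mul_add, Finset.sum_add_distrib]
  rw [Finset.sum_congr rfl fun (g : ↥(B hθ)) _ => Finset.mul_sum Finset.univ
    (fun v : F × F => conj (extendByZero (B hθ) (bth hθ φ) (wel hθ * ((u hθ v.1 v.2)⁻¹ * g.1 * u hθ v.1 v.2) * wel hθ)))
    (bth hθ η g)]
  have s1 : ∑ g : ↥(B hθ), bth hθ η g * conj (bth hθ φ g) =
      ((Fintype.card F * Fintype.card F : ℕ) : ℂ) * ∑ k : Fˣ, ((η * φ⁻¹) k : ℂ) := by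
    rw [← (borE hθ).sum_comp, Fintype.sum_prod_type]
    simp only [bth, kap_borE, conj_hom hθ]
    rw [Finset.sum_congr rfl fun v _ => Finset.sum_congr rfl fun k _ =>
      show (η k : ℂ) * (φ k⁻¹ : ℂ) = ((η * φ⁻¹) k : ℂ) by simp, Finset.sum_const, nsmul_eq_mul,
      Finset.card_univ, Fintype.card_prod]
  have s2 : ∑ g : ↥(B hθ), ∑ v : F × F, bth hθ η g * conj (extendByZero (B hθ) (bth hθ φ)
        (wel hθ * ((u hθ v.1 v.2)⁻¹ * g.1 * u hθ v.1 v.2) * wel hθ)) =
      ((Fintype.card F * Fintype.card F : ℕ) : ℂ) * ∑ k : Fˣ, ((η * φ) k : ℂ) := by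
    rw [Finset.sum_comm]
    have hv : ∀ v : F × F, ∑ g : ↥(B hθ), bth hθ η g * conj (extendByZero (B hθ) (bth hθ φ)
        (wel hθ * ((u hθ v.1 v.2)⁻¹ * g.1 * u hθ v.1 v.2) * wel hθ)) = ∑ k : Fˣ, ((η * φ) k : ℂ) := by
      intro v
      let uB : ↥(B hθ) := ⟨u hθ v.1 v.2, U_le_B hθ (u_mem hθ _ _)⟩
      rw [← (MulAut.conj uB).toEquiv.sum_comp, ← (borE hθ).sum_comp, Fintype.sum_prod_type]
      have hx : ∀ (w : F × F) (k : Fˣ),
          bth hθ η ((MulAut.conj uB).toEquiv (borE hθ (w, k))) * conj (extendByZero (B hθ) (bth hθ φ)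
            (wel hθ * ((u hθ v.1 v.2)⁻¹ * ((MulAut.conj uB).toEquiv (borE hθ (w, k))).1 * u hθ v.1 v.2) * wel hθ)) =
          if w = (0, 0) then ((η * φ) k : ℂ) else 0 := by
        intro w k
        have e1 : (MulAut.conj uB).toEquiv (borE hθ (w, k)) = uB * borE hθ (w, k) * uB⁻¹ := rfl
        have e2 : (u hθ v.1 v.2)⁻¹ * (uB * borE hθ (w, k) * uB⁻¹ : ↥(B hθ)).1 * u hθ v.1 v.2 =
            (borE hθ (w, k)).1 := by
          show (u hθ v.1 v.2)⁻¹ * (u hθ v.1 v.2 * (borE hθ (w, k)).1 * (u hθ v.1 v.2)⁻¹) * u hθ v.1 v.2 = _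
          group
        rw [e1, e2, bth_conj, ext_wel hθ φ (w, k)]
        split_ifs with hw
        · rw [conj_hom hθ, inv_inv, bth, kap_borE]
          simp
        · simp
      rw [Finset.sum_congr rfl fun w _ => Finset.sum_congr rfl fun k _ => hx w k,
        Fintype.sum_eq_single (0, 0) fun w hw => by simp [hw]]
      simp
    rw [Finset.sum_congr rfl fun v _ => hv v, Finset.sum_const, nsmul_eq_mul, Finset.card_univ, Fintype.card_prod]
  rw [s1, s2, unitsHom_sum hθ, unitsHom_sum hθ, card_B hθ]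
  have hq : (Fintype.card Fˣ : ℂ) = ((Fintype.card F - 1 : ℕ) : ℂ) := by rw [Fintype.card_units]
  have h1 : (Fintype.card F : ℂ) ≠ 0 := Nat.cast_ne_zero.mpr Fintype.card_ne_zero
  have h2 : ((Fintype.card F - 1 : ℕ) : ℂ) ≠ 0 := by
    rw [← hq]; exact Nat.cast_ne_zero.mpr Fintype.card_ne_zero
  have hiff : η * φ⁻¹ = 1 ↔ η = φ := by
    refine ⟨fun h => MonoidHom.ext fun k => mul_inv_eq_one.mp (DFunLike.congr_fun h k), fun h => ?_⟩
    subst h; ext k; simp
  simp only [hiff, hq, Nat.cast_mul]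
  split_ifs <;> field_simp <;> ring

theorem index_B : (B hθ).index = Fintype.card F * Fintype.card F + 1 := by
  have h := (B hθ).card_mul_index
  rw [card_sz hθ, card_B hθ] at h
  have hpos : 0 < Fintype.card F * Fintype.card F * (Fintype.card F - 1) :=
    Nat.mul_pos (Nat.mul_pos Fintype.card_pos Fintype.card_pos) (Nat.sub_pos_of_lt Fintype.one_lt_card)
  exact Nat.eq_of_mul_eq_mul_left hpos (h.trans (mul_comm _ _))

theorem series_fpf (η : Fˣ →* ℂˣ) {g : ↥(G F m)} (hg : ∀ o, act hθ g o ≠ o) :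
    indFun (B hθ) (bth hθ η) g = 0 := by
  refine indFun_eq_zero _ _ fun x hx => hg (act hθ x none) ?_
  have e : g * x = x * (x⁻¹ * g * x) := by group
  rw [← act_mul, e, act_mul, (show act hθ (x⁻¹ * g * x) none = none from hx)]

theorem series_one (η : Fˣ →* ℂˣ) :
    indFun (B hθ) (bth hθ η) 1 = ((Fintype.card F * Fintype.card F + 1 : ℕ) : ℂ) := by
  rw [indFun_one, index_B hθ, bth, map_one, map_one, Units.val_one, mul_one]

theorem inner_series_one :
    classInner (indFun (B hθ) (bth hθ 1)) (fun _ => (1 : ℂ)) = 1 := by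
  rw [classInner_indFun (B hθ) _ (fun _ _ => rfl)]
  have e : bth hθ 1 = fun _ => (1 : ℂ) := by funext g; simp [bth]
  rw [e]
  exact IsIrrCharacter.classInner_self isIrrCharacter_one

theorem series (hF : Fintype.card F = 2 ^ (2 * m + 1)) [Fintype (IrrCharacter ↥(G F m))] :
    ∃ (St : IrrCharacter ↥(G F m)) (PS : Finset (IrrCharacter ↥(G F m))),
      St ≠ trivIrr _ ∧ trivIrr _ ∉ PS ∧ St ∉ PS ∧
      ((St : ↥(G F m) → ℂ) = indFun (B hθ) (bth hθ 1) - fun _ => 1) ∧
      (∀ χ ∈ PS, ∃ η : Fˣ →* ℂˣ, η ≠ 1 ∧ (χ : ↥(G F m) → ℂ) = indFun (B hθ) (bth hθ η)) ∧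
      (St : ↥(G F m) → ℂ) 1 = ((Fintype.card F * Fintype.card F : ℕ) : ℂ) ∧
      (∀ g : ↥(G F m), (∀ o, act hθ g o ≠ o) → (St : ↥(G F m) → ℂ) g = -1) ∧
      2 * PS.card = Fintype.card F - 2 ∧
      (∀ χ ∈ PS, (χ : ↥(G F m) → ℂ) 1 = ((Fintype.card F * Fintype.card F + 1 : ℕ) : ℂ)) ∧
      ∀ χ : IrrCharacter ↥(G F m), χ ≠ trivIrr _ → χ ≠ St → χ ∉ PS →
        ∀ η : Fˣ →* ℂˣ, classInner (bth hθ η) (fun h : ↥(B hθ) => (χ : ↥(G F m) → ℂ) h) = 0 := by
  have hsq : ∀ η : Fˣ →* ℂˣ, η * η = 1 → η = 1 := by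
    intro η h
    refine MonoidHom.ext fun k => ?_
    have h1 : η k ^ 2 = 1 := by rw [sq]; exact DFunLike.congr_fun h k
    have h2 : η k ^ (Fintype.card F - 1) = 1 := by
      rw [← map_pow, ← Fintype.card_units, pow_card_eq_one, map_one]
    have h3 : Nat.gcd 2 (Fintype.card F - 1) = 1 := by
      rw [hF]
      refine (Nat.coprime_two_left).mpr ?_
      refine Nat.Even.sub_odd (Nat.one_le_two_pow) ?_ odd_one
      exact (Nat.even_pow' (by omega)).mpr even_two
    simpa [h3] using pow_gcd_eq_one.mpr ⟨h1, h2⟩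
  have hinv : ∀ η φ : Fˣ →* ℂˣ, η * φ = 1 → φ = η⁻¹ := fun η φ h =>
    MonoidHom.ext fun k => eq_inv_of_mul_eq_one_right (DFunLike.congr_fun h k)
  have hirr : ∀ η : Fˣ →* ℂˣ, η ≠ 1 → IsIrrCharacter ↥(G F m) (indFun (B hθ) (bth hθ η)) := by
    intro η hη
    rw [IsCharacter.isIrr_iff (IsCharacter.indFun _ (IsIrrCharacter.isCharacter (bth_irr hθ η))),
      inner_series hθ, if_pos rfl, if_neg fun h => hη (hsq η h), add_zero]
  set P := indFun (B hθ) (bth hθ 1) with hP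
  have hP1 : classInner P P = 2 := by rw [hP, inner_series hθ, if_pos rfl, if_pos (by ext k; simp)]; norm_num
  have hgen : IsGeneralizedCharacter ↥(G F m) (P - fun _ => 1) :=
    ⟨_, _, IsCharacter.indFun _ (IsIrrCharacter.isCharacter (bth_irr hθ 1)), isCharacter_one, rfl⟩
  have h1P : classInner (fun _ : ↥(G F m) => (1 : ℂ)) P = 1 := by
    rw [← classInner_conj_symm, hP, inner_series_one hθ, map_one]
  obtain ⟨St, hSt⟩ := IsGeneralizedCharacter.eq_pm_irr hgen (by
    rw [classInner_sub_left, classInner_sub_right, classInner_sub_right, hP1, h1P, hP, inner_series_one hθ,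
      IsIrrCharacter.classInner_self isIrrCharacter_one]
    norm_num)
  have hq2 : 2 ≤ Fintype.card F := Fintype.one_lt_card
  have hStP : (St : ↥(G F m) → ℂ) = P - fun _ => 1 := by
    rcases hSt with h | h
    · exact h.symm
    · exfalso
      obtain ⟨d, hd, e⟩ := IsIrrCharacter.exists_apply_one St.2
      have h' := congrFun h 1
      rw [Pi.sub_apply, Pi.neg_apply, e, hP, series_one hθ] at h'
      push_cast at h'
      have h'' : ((Fintype.card F * Fintype.card F + d : ℕ) : ℂ) = 0 := by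
        push_cast
        linear_combination h'
      have := Nat.cast_eq_zero.mp h''
      omega
  have hSt1 : (St : ↥(G F m) → ℂ) 1 = ((Fintype.card F * Fintype.card F : ℕ) : ℂ) := by
    rw [hStP, Pi.sub_apply, hP, series_one hθ]
    push_cast
    ring
  haveI : Finite (Fˣ →* ℂˣ) := by
    refine Nat.finite_of_card_ne_zero ?_
    rw [CommGroup.card_monoidHom_of_hasEnoughRootsOfUnity Fˣ ℂ]
    exact Nat.card_pos.ne'
  haveI := Fintype.ofFinite (Fˣ →* ℂˣ)
  let Ψ : {η : Fˣ →* ℂˣ // η ≠ 1} → IrrCharacter ↥(G F m) := fun η => ⟨_, hirr η.1 η.2⟩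
  have hfib : ∀ η φ : {η : Fˣ →* ℂˣ // η ≠ 1}, Ψ η = Ψ φ ↔ φ = η ∨ φ.1 = η.1⁻¹ := by
    intro η φ
    constructor
    · intro h
      have h' : indFun (B hθ) (bth hθ η.1) = indFun (B hθ) (bth hθ φ.1) := congrArg Subtype.val h
      have e := inner_series hθ η.1 φ.1
      rw [← h', IsIrrCharacter.classInner_self (hirr η.1 η.2)] at e
      by_cases h1 : η.1 = φ.1
      · exact Or.inl (Subtype.ext h1.symm)
      by_cases h2 : η.1 * φ.1 = 1
      · exact Or.inr (hinv _ _ h2)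
      rw [if_neg h1, if_neg h2, add_zero] at e
      exact absurd e one_ne_zero
    · rintro (rfl | h)
      · rfl
      · by_contra hne
        have hprod : η.1 * φ.1 = 1 := by rw [h]; ext k; simp
        have e := inner_series hθ η.1 φ.1
        rw [IsIrrCharacter.classInner_ne (hirr η.1 η.2) (hirr φ.1 φ.2) (fun h' => hne (Subtype.ext h')),
          if_neg fun h' => η.2 (hsq _ ?_), if_pos hprod, zero_add] at e
        rotate_left
        · conv_lhs => arg 2; rw [h']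
          exact hprod
        exact zero_ne_one e
  set PS := Finset.univ.image Ψ with hPS
  have htriv : trivIrr ↥(G F m) ∉ PS := by
    intro h
    obtain ⟨η, -, hη⟩ := Finset.mem_image.mp h
    have := congrFun (congrArg Subtype.val hη) 1
    rw [show (Ψ η : ↥(G F m) → ℂ) = indFun (B hθ) (bth hθ η.1) from rfl, series_one hθ, trivIrr_apply] at this
    have := Nat.cast_eq_one.mp this
    nlinarith
  have hStPS : St ∉ PS := by
    intro h
    obtain ⟨η, -, hη⟩ := Finset.mem_image.mp h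
    have := congrFun (congrArg Subtype.val hη) 1
    rw [show (Ψ η : ↥(G F m) → ℂ) = indFun (B hθ) (bth hθ η.1) from rfl, series_one hθ, hSt1] at this
    have := Nat.cast_injective this
    omega
  refine ⟨St, PS, ?_, htriv, hStPS, by rw [hStP, hP], fun χ hχ => ?_, hSt1, ?_, ?_, ?_, ?_⟩
  rotate_left
  · obtain ⟨η, -, rfl⟩ := Finset.mem_image.mp hχ
    exact ⟨η.1, η.2, rfl⟩
  rotate_right
  · intro h
    have := congrFun (congrArg Subtype.val h) 1
    rw [hSt1, trivIrr_apply] at this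
    have := Nat.cast_eq_one.mp this
    nlinarith
  · intro g hg
    rw [hStP, Pi.sub_apply, hP, series_fpf hθ 1 hg, zero_sub]
  · have hc := Finset.card_eq_sum_card_fiberwise (f := Ψ) (s := Finset.univ) (t := PS)
      fun η _ => Finset.mem_image.mpr ⟨η, Finset.mem_univ _, rfl⟩
    have h2 : ∀ χ ∈ PS, (Finset.univ.filter fun η => Ψ η = χ).card = 2 := by
      intro χ hχ
      obtain ⟨η, -, rfl⟩ := Finset.mem_image.mp hχ
      rw [Finset.card_eq_two]
      have hmi : η.1 * η.1⁻¹ = 1 := by ext k; simp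
      have hi : η.1⁻¹ ≠ 1 := fun h => η.2 (MonoidHom.ext fun k => by
        have := DFunLike.congr_fun hmi k
        rw [h] at this
        simpa using this)
      refine ⟨η, ⟨η.1⁻¹, hi⟩, fun h => η.2 (hsq _ ?_), ?_⟩
      · have := congrArg Subtype.val h
        conv_lhs => arg 2; rw [this]
        exact hmi
      · ext φ
        simp only [Finset.mem_filter, Finset.mem_univ, true_and, Finset.mem_insert, Finset.mem_singleton]
        rw [eq_comm, hfib, Subtype.ext_iff (a1 := φ) (a2 := ⟨η.1⁻¹, _⟩)]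
    rw [Finset.sum_congr rfl h2, Finset.sum_const, smul_eq_mul, Finset.card_univ, Fintype.card_subtype_compl,
      Fintype.card_subtype_eq, ← Nat.card_eq_fintype_card, CommGroup.card_monoidHom_of_hasEnoughRootsOfUnity Fˣ ℂ,
      Nat.card_units, Nat.card_eq_fintype_card] at hc
    omega
  · intro χ hχ
    obtain ⟨η, -, rfl⟩ := Finset.mem_image.mp hχ
    exact series_one hθ η.1
  · intro χ h1 h2 h3 η
    rw [← classInner_indFun (B hθ) _ (irr_isClassFunction χ)]
    by_cases hη : η = 1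
    · subst hη
      have e : P = (St : ↥(G F m) → ℂ) + fun _ => 1 := by rw [hStP, sub_add_cancel]
      show classInner P _ = 0
      rw [e, classInner_add_left, IsIrrCharacter.classInner_ne St.2 χ.2 fun h => h2 (Subtype.ext h.symm),
        IsIrrCharacter.classInner_ne isIrrCharacter_one χ.2 fun h => h1 (Subtype.ext h.symm), add_zero]
    · exact IsIrrCharacter.classInner_ne (hirr η hη) χ.2 fun h =>
        h3 (Finset.mem_image.mpr ⟨⟨η, hη⟩, Finset.mem_univ _, Subtype.ext h⟩)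

theorem borel_dvd (χ : IrrCharacter ↥(G F m))
    (h : ∀ η : Fˣ →* ℂˣ, classInner (bth hθ η) (fun x : ↥(B hθ) => (χ : ↥(G F m) → ℂ) x) = 0) :
    ∃ e : ℕ, (χ : ↥(G F m) → ℂ) 1 = (((Fintype.card F - 1) * e : ℕ) : ℂ) := by
  haveI : ((U hθ).subgroupOf (B hθ)).Normal := ⟨fun x hx g =>
    Subgroup.mem_subgroupOf.mpr (conj_mem_U hθ g.2 (Subgroup.mem_subgroupOf.mp hx))⟩
  haveI := Fintype.ofFinite (IrrCharacter ↥(B hθ))
  haveI := Fintype.ofFinite (IrrCharacter Fˣ)
  have hC : ∀ k ∈ (U hθ).subgroupOf (B hθ), k ≠ 1 → ∀ x : ↥(B hθ), x * k = k * x →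
      x ∈ (U hθ).subgroupOf (B hθ) := by
    intro k hk hk1 x hx
    obtain ⟨a, b, e⟩ := Subgroup.mem_subgroupOf.mp hk
    refine Subgroup.mem_subgroupOf.mpr (commute_u hθ (a := a) (b := b) (fun h' => hk1 (Subtype.ext (e.trans h'))) ?_)
    rw [← e]
    exact congrArg Subtype.val hx
  have hidx : ((U hθ).subgroupOf (B hθ)).index = Fintype.card F - 1 := by
    have h := ((U hθ).subgroupOf (B hθ)).card_mul_index
    rw [Nat.card_congr (Subgroup.subgroupOfEquivOfLe (U_le_B hθ)).toEquiv, card_U hθ, card_B hθ] at h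
    exact Nat.eq_of_mul_eq_mul_left (Nat.mul_pos Fintype.card_pos Fintype.card_pos) h
  obtain ⟨a, ha, hcoef⟩ := IsCharacter.exists_nat_decomp (IsCharacter.restrict (irr_isCharacter χ) (B hθ))
  have hnon : ∀ ψ : IrrCharacter ↥(B hθ), ¬ IsRelevant ((U hθ).subgroupOf (B hθ)) (ψ : ↥(B hθ) → ℂ) → a ψ = 0 := by
    intro ψ hψ
    let tB : Fˣ →* ↥(B hθ) := (torHom hθ).codRestrict (B hθ) (tor_mem_B hθ)
    obtain ⟨c, hc, -⟩ := IsCharacter.exists_nat_decomp (IsCharacter.comp (irr_isCharacter ψ) tB)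
    have hfac : ∀ g : ↥(B hθ), (ψ : ↥(B hθ) → ℂ) g = (ψ : ↥(B hθ) → ℂ) (tB (kap hθ g)) := by
      intro g
      obtain ⟨⟨⟨x, y⟩, k⟩, rfl⟩ := (borE hθ).surjective g
      rw [kap_borE]
      have e : borE hθ ((x, y), k) = (⟨u hθ x y, U_le_B hθ (u_mem hθ x y)⟩ : ↥(B hθ)) * tB k := Subtype.ext rfl
      rw [e]
      set n : ↥(B hθ) := ⟨u hθ x y, U_le_B hθ (u_mem hθ x y)⟩
      have hn : (ψ : ↥(B hθ) → ℂ) n = (ψ : ↥(B hθ) → ℂ) 1 := by
        by_contra hne
        exact hψ ⟨n, Subgroup.mem_subgroupOf.mpr (u_mem hθ x y), hne⟩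
      rw [← IsCharacter.conj_apply (irr_isCharacter ψ) (n * tB k) n⁻¹,
        show n⁻¹ * (n * tB k) * n⁻¹⁻¹ = tB k * n by group]
      exact IsCharacter.apply_mul_of_mem_kernel (irr_isCharacter ψ) hn _
    have hψsum : (ψ : ↥(B hθ) → ℂ) = ∑ φ : IrrCharacter Fˣ, (c φ : ℂ) • ((φ : Fˣ → ℂ) ∘ kap hθ) := by
      funext g
      have := congrFun hc (kap hθ g)
      simp only [Function.comp_apply, Finset.sum_apply, Pi.smul_apply] at this ⊢
      rw [hfac, this]
    have h0 : classInner (ψ : ↥(B hθ) → ℂ) (fun x : ↥(B hθ) => (χ : ↥(G F m) → ℂ) x) = 0 := by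
      rw [hψsum, classInner_sum_left]
      refine Finset.sum_eq_zero fun φ _ => ?_
      rw [classInner_smul_left]
      obtain ⟨lam, hlam⟩ := IsCharacter.exists_hom_of_apply_one (irr_isCharacter φ)
        (IsIrrCharacter.apply_one_of_comm (fun a b => mul_comm a b) φ.2)
      have e : (φ : Fˣ → ℂ) ∘ kap hθ = bth hθ lam := by
        funext g
        simp only [Function.comp_apply, bth]
        rw [hlam]
      rw [e, h, mul_zero]
    have h1 := hcoef ψ
    rw [← classInner_conj_symm, h0, map_zero] at h1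
    exact_mod_cast h1.symm
  have hdeg : ∀ ψ : IrrCharacter ↥(B hθ), ∃ t : ℕ,
      (a ψ : ℂ) * (ψ : ↥(B hθ) → ℂ) 1 = (((Fintype.card F - 1) * t : ℕ) : ℂ) := by
    intro ψ
    by_cases hψ : IsRelevant ((U hθ).subgroupOf (B hθ)) (ψ : ↥(B hθ) → ℂ)
    · obtain ⟨t, -, ht, -⟩ := frob_exists_degree _ hC ψ.2 hψ
      rw [hidx] at ht
      exact ⟨a ψ * t, by rw [ht]; push_cast; ring⟩
    · exact ⟨0, by rw [hnon ψ hψ]; simp⟩
  choose t ht using hdeg
  refine ⟨∑ ψ, t ψ, ?_⟩
  have h1 := congrFun ha 1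
  simp only [OneMemClass.coe_one, Finset.sum_apply, Pi.smul_apply, smul_eq_mul] at h1
  rw [h1, Finset.sum_congr rfl fun ψ _ => ht ψ, ← Nat.cast_sum, Finset.mul_sum]

end

end Cfsg.Agent.Lib.KnownA.Suz
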