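import Cfsg.Agent.Lib.Characters.TIDatum
import Cfsg.Agent.Lib.Characters.Kernel

/-! The characters which do not vanish on an abelian TI subgroup with Frobenius normalizer. -/

set_option autoImplicit false
set_option maxHeartbeats 800000

namespace Cfsg.Agent.Lib.KnownA

open Cfsg.Agent.Lib.Characters
open scoped ComplexConjugate Classical

set_option linter.unusedSectionVars false
set_option linter.style.haveILetI false

universe u

variable {G : Type u} [Group G] [Fintype G] (D : TIDatum G)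

noncomputable section

theorem normSq_shift_bound {ι : Type*} [Fintype ι] [Nonempty ι] (a : ι → ℂ) (ε : ℝ) (hε : ε * ε = 1) (C : ℂ)
    (hs : ∑ i, a i = -1) :
    ∑ i, Complex.normSq (a i) - 1 / (Fintype.card ι : ℝ) ≤ ∑ i, Complex.normSq ((ε : ℂ) * a i + C) := by
  set n : ℝ := (Fintype.card ι : ℝ) with hn
  have hn0 : 0 < n := by rw [hn]; exact_mod_cast Fintype.card_pos
  have hre : ∑ i, (a i).re = -1 := by rw [← Complex.re_sum, hs]; simp
  have him : ∑ i, (a i).im = 0 := by rw [← Complex.im_sum, hs]; simp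
  have e : ∀ i, Complex.normSq ((ε : ℂ) * a i + C) =
      Complex.normSq (a i) + (2 * ε * C.re * (a i).re + 2 * ε * C.im * (a i).im + Complex.normSq C) := by
    intro i
    simp only [Complex.normSq_apply, Complex.add_re, Complex.add_im, Complex.mul_re, Complex.mul_im, Complex.ofReal_re,
      Complex.ofReal_im, zero_mul, sub_zero, add_zero]
    linear_combination ((a i).re * (a i).re + (a i).im * (a i).im) * hε
  rw [Finset.sum_congr rfl fun i _ => e i, Finset.sum_add_distrib, Finset.sum_add_distrib, Finset.sum_add_distrib,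
    ← Finset.mul_sum, ← Finset.mul_sum, hre, him, Finset.sum_const, Finset.card_univ, nsmul_eq_mul, ← hn,
    Complex.normSq_apply]
  have h2 : 0 ≤ n * (C.re - ε / n) ^ 2 + n * C.im ^ 2 := by positivity
  have h3 : n * (C.re - ε / n) ^ 2 = n * (C.re * C.re) - 2 * ε * C.re + 1 / n := by
    field_simp
    linear_combination hε
  nlinarith

/-- The family has `(|K| - 1) / e` members. -/
theorem n_eq (hab : ∀ a b : D.K, a * b = b * a) : D.n * D.e + 1 = Nat.card D.K := by
  haveI : IsMulCommutative ↥D.K := ⟨⟨hab⟩⟩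
  haveI : Group.IsNilpotent D.K := by
    letI : CommGroup ↥D.K := { (inferInstance : Group ↥D.K) with mul_comm := hab }
    exact inferInstance
  have habK' : ∀ a b : D.K', a * b = b * a := fun a b => Subtype.ext (Subtype.ext (by
    simpa using congrArg Subtype.val (hab ⟨a.1.1, Subgroup.mem_subgroupOf.mp a.2⟩ ⟨b.1.1, Subgroup.mem_subgroupOf.mp b.2⟩)))
  rw [D.n_mul_e_add_one, (commutator_eq_bot_iff_center_eq_top _).mpr ?_, Subgroup.index_bot]
  · exact Nat.card_congr (Subgroup.subgroupOfEquivOfLe D.le).toEquiv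
  · rw [Subgroup.eq_top_iff']
    intro a
    exact Subgroup.mem_center_iff.mpr fun b => habK' b a

/-- At most `n + e` irreducible characters fail to vanish on `K \ 1`. -/
theorem card_nonvanishing_le [Fintype (IrrCharacter G)] (hab : ∀ a b : D.K, a * b = b * a) (hK : D.K ≠ ⊥) :
    (Finset.univ.filter fun χ : IrrCharacter G => ∃ x ∈ D.K, x ≠ 1 ∧ (χ : G → ℂ) x ≠ 0).card ≤ D.n + D.e := by
  haveI : IsMulCommutative ↥D.K := ⟨⟨hab⟩⟩
  haveI : Group.IsNilpotent D.K := by
    letI : CommGroup ↥D.K := { (inferInstance : Group ↥D.K) with mul_comm := hab }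
    exact inferInstance
  have habK' : ∀ a b : D.K', a * b = b * a := fun a b => Subtype.ext (Subtype.ext (by
    simpa using congrArg Subtype.val (hab ⟨a.1.1, Subgroup.mem_subgroupOf.mp a.2⟩ ⟨b.1.1, Subgroup.mem_subgroupOf.mp b.2⟩)))
  have hcardK := n_eq D hab
  -- relevant characters of `M` form the family
  have hfam : ∀ ψ : IrrCharacter D.M, IsRelevant D.K' (ψ : D.M → ℂ) → D.InFam ψ := by
    intro ψ hψ
    refine ⟨hψ, ?_⟩
    obtain ⟨t, -, h1, -, ht⟩ := frob_exists_degree D.K' D.hC ψ.2 hψ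
    rw [h1, ht habK', mul_one]
    rfl
  let R : Finset (IrrCharacter D.M) := Finset.univ.filter fun ψ => IsRelevant D.K' (ψ : D.M → ℂ)
  have hRsum : ∀ f : IrrCharacter D.M → ℂ, ∑ ψ ∈ R, f ψ = ∑ c : D.Fam, f c.1 := by
    intro f
    refine Finset.sum_subtype R (p := D.InFam) (F := (inferInstance : Fintype D.Fam)) (fun ψ => ?_) f
    simp only [R, Finset.mem_filter, Finset.mem_univ, true_and]
    exact ⟨fun h => hfam ψ h, fun h => h.1⟩
  obtain ⟨k, hk, hk1⟩ := (Subgroup.bot_or_exists_ne_one D.K).resolve_left hK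
  -- values at a point of `K'`
  have hpt : ∀ x : D.M, x ∈ D.K' → x ≠ 1 →
      (∑ c : D.Fam, (c.1 : D.M → ℂ) x = -1) ∧
      (∀ ψ : IrrCharacter D.M, ¬ IsRelevant D.K' (ψ : D.M → ℂ) → (ψ : D.M → ℂ) x = (ψ : D.M → ℂ) 1) := by
    intro x hx hx1
    refine ⟨?_, fun ψ hψ => ?_⟩
    · have h := frob_sum_relevant D.K' x
      rw [if_neg hx1, if_pos hx] at h
      have h' : ∑ c : D.Fam, (c.1 : D.M → ℂ) 1 * (c.1 : D.M → ℂ) x = -(D.e : ℂ) := by
        rw [← hRsum fun ψ => (ψ : D.M → ℂ) 1 * (ψ : D.M → ℂ) x]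
        simpa [TIDatum.e] using h
      rw [Finset.sum_congr rfl fun c _ => by rw [c.2.2], ← Finset.mul_sum] at h'
      exact mul_left_cancel₀ (Nat.cast_ne_zero.mpr D.e_pos.ne') (h'.trans (mul_neg_one _).symm)
    · by_contra hne
      exact hψ ⟨x, hx, hne⟩
  have hsq : ∀ x : D.M, x ∈ D.K' → x ≠ 1 →
      ∑ c : D.Fam, Complex.normSq ((c.1 : D.M → ℂ) x) = (Nat.card D.K : ℝ) - D.e := by
    intro x hx hx1
    have hcen : Nat.card (Subgroup.centralizer ({x} : Set D.M)) = Nat.card D.K := by
      have : Subgroup.centralizer ({x} : Set D.M) = D.K' := by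
        ext y
        rw [Subgroup.mem_centralizer_singleton_iff]
        refine ⟨fun h => D.hC x hx hx1 y h, fun h => ?_⟩
        exact congrArg Subtype.val (habK' ⟨y, h⟩ ⟨x, hx⟩)
      rw [this]
      exact Nat.card_congr (Subgroup.subgroupOfEquivOfLe D.le).toEquiv
    have h1 := sum_irr_mul_conj x x
    rw [if_pos (IsConj.refl x), hcen, ← Finset.sum_filter_add_sum_filter_not Finset.univ
      (fun ψ : IrrCharacter D.M => IsRelevant D.K' (ψ : D.M → ℂ))] at h1
    rw [hRsum fun ψ => (ψ : D.M → ℂ) x * conj ((ψ : D.M → ℂ) x)] at h1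
    have h2 := sum_degree_sq (G := D.M)
    rw [← Finset.sum_filter_add_sum_filter_not Finset.univ
      (fun ψ : IrrCharacter D.M => IsRelevant D.K' (ψ : D.M → ℂ)), hRsum fun ψ => (ψ : D.M → ℂ) 1 ^ 2] at h2
    rw [Finset.sum_congr rfl fun c _ => by rw [c.2.2], Finset.sum_const, Finset.card_univ, nsmul_eq_mul,
      D.card_M, ← hcardK] at h2
    have hnon : ∑ ψ ∈ Finset.univ.filter (fun ψ : IrrCharacter D.M => ¬ IsRelevant D.K' (ψ : D.M → ℂ)),
        (ψ : D.M → ℂ) x * conj ((ψ : D.M → ℂ) x) = (D.e : ℂ) := by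
      rw [Finset.sum_congr rfl fun ψ hψ => ?_]
      · rw [show (D.n : ℕ) = Fintype.card D.Fam from rfl] at h2
        push_cast at h2
        linear_combination h2
      · rw [(hpt x hx hx1).2 ψ (Finset.mem_filter.mp hψ).2]
        obtain ⟨d, -, hd⟩ := IsIrrCharacter.exists_apply_one ψ.2
        rw [hd, Complex.conj_natCast, sq]
    rw [hnon] at h1
    have h3 : ((∑ c : D.Fam, Complex.normSq ((c.1 : D.M → ℂ) x) : ℝ) : ℂ) = (((Nat.card D.K : ℝ) - D.e : ℝ) : ℂ) := by
      push_cast
      rw [Finset.sum_congr rfl fun c _ => (Complex.mul_conj ((c.1 : D.M → ℂ) x)).symm]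
      linear_combination h1
    exact_mod_cast h3
  -- the induced differences on `K'`
  have htau : ∀ (c : D.Fam) (x : D.M), x ∈ D.K' → x ≠ 1 → D.tau c (x : G) = D.alpha c x := by
    intro c x hx hx1
    have hx1' : (x : G) ≠ 1 := fun h => hx1 (Subtype.ext h)
    have key : ∀ g : G, extendByZero D.M (D.alpha c) (g⁻¹ * x * g) =
        if g ∈ D.M then D.alpha c x else 0 := by
      intro g
      split_ifs with hg
      · rw [extendByZero_of_mem _ _ (D.M.mul_mem (D.M.mul_mem (D.M.inv_mem hg) x.2) hg)]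
        have hcf := IsGeneralizedCharacter.isClassFunction (D.isGeneralizedCharacter_alpha c) x ⟨g⁻¹, D.M.inv_mem hg⟩
        rw [← hcf]
        congr 1
        apply Subtype.ext
        simp
      · by_cases hm : g⁻¹ * x * g ∈ D.M
        · rw [extendByZero_of_mem _ _ hm]
          refine D.alpha_apply_eq_zero c fun h => h.2 ?_
          have h1 := D.ti g⁻¹ (fun h' => hg (by simpa using D.M.inv_mem h')) x (Subgroup.mem_subgroupOf.mp hx)
            (by simpa using h.1)
          exact absurd h1 hx1'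
        · exact extendByZero_of_not_mem _ _ hm
    rw [TIDatum.tau, indFun_apply, Finset.sum_congr rfl fun g _ => key g, Finset.sum_ite, Finset.sum_const_zero,
      add_zero, Finset.sum_const, nsmul_eq_mul, ← Fintype.card_subtype,
      show Fintype.card {g // g ∈ D.M} = Nat.card D.M from Nat.card_eq_fintype_card.symm,
      inv_mul_cancel_left₀ natCard_ne_zero_complex]
  set E0 : Finset (IrrCharacter G) := if D.n = 1 then ∅ else Finset.univ.image D.theta with hE0
  -- the other characters are constant integers on `K'`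
  have hconst : ∀ χ : IrrCharacter G, χ ∉ E0 → ∃ z : ℤ, ∀ x : D.M, x ∈ D.K' → x ≠ 1 → (χ : G → ℂ) x = z := by
    intro χ hχ
    have hres : IsCharacter D.M (fun x : D.M => (χ : G → ℂ) x) := IsCharacter.restrict (irr_isCharacter χ) D.M
    obtain ⟨a, ha, hcoef⟩ := IsCharacter.exists_nat_decomp hres
    have heq : ∀ c c' : D.Fam, a c.1 = a c'.1 := by
      intro c c'
      by_cases hn : D.n = 1
      · haveI : Subsingleton D.Fam := Fintype.card_le_one_iff_subsingleton.mp hn.le
        rw [Subsingleton.elim c c']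
      have hni : ∀ c, classInner (D.theta c : G → ℂ) (χ : G → ℂ) = 0 := fun c => by
        refine IsIrrCharacter.classInner_ne (D.theta c).2 χ.2 fun h => hχ ?_
        rw [hE0, if_neg hn]
        exact Finset.mem_image.mpr ⟨c, Finset.mem_univ _, Subtype.ext h⟩
      have h0 : classInner (D.tau c' - D.tau c) (χ : G → ℂ) = 0 := by
        rw [D.tau_sub, classInner_smul_left, classInner_sub_left, hni, hni, sub_zero, mul_zero]
      rw [classInner_sub_left, TIDatum.tau, TIDatum.tau, classInner_indFun D.M _ (irr_isClassFunction χ),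
        classInner_indFun D.M _ (irr_isClassFunction χ), TIDatum.alpha, TIDatum.alpha, classInner_sub_left,
        classInner_sub_left, sub_sub_sub_cancel_left, sub_eq_zero] at h0
      have e : ∀ c : D.Fam, classInner (c.1 : D.M → ℂ) (fun x : D.M => (χ : G → ℂ) x) = (a c.1 : ℂ) := fun c => by
        rw [← classInner_conj_symm, hcoef, Complex.conj_natCast]
      rw [e, e] at h0
      exact_mod_cast h0
    have hne : Nonempty D.Fam := Fintype.card_pos_iff.mp (Nat.pos_of_ne_zero fun h0 => by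
      have : D.n = 0 := h0
      rw [this, zero_mul, zero_add] at hcardK
      exact hK (Subgroup.card_eq_one.mp hcardK.symm))
    obtain ⟨c₀⟩ := hne
    choose dg hdg0 hdg using fun ψ : IrrCharacter D.M => IsIrrCharacter.exists_apply_one ψ.2
    refine ⟨(∑ ψ ∈ Finset.univ.filter (fun ψ : IrrCharacter D.M => ¬ IsRelevant D.K' (ψ : D.M → ℂ)),
      (a ψ : ℤ) * (dg ψ : ℤ)) - (a c₀.1 : ℤ), fun x hx hx1 => ?_⟩
    have h := congrFun ha x
    simp only [Finset.sum_apply, Pi.smul_apply, smul_eq_mul] at h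
    rw [h, ← Finset.sum_filter_add_sum_filter_not Finset.univ
      (fun ψ : IrrCharacter D.M => IsRelevant D.K' (ψ : D.M → ℂ)), hRsum fun ψ => (a ψ : ℂ) * (ψ : D.M → ℂ) x,
      Finset.sum_congr rfl (fun c _ => by rw [heq c c₀]), ← Finset.mul_sum, (hpt x hx hx1).1]
    push_cast
    rw [Finset.sum_congr rfl fun ψ hψ => by
      rw [(hpt x hx hx1).2 ψ (Finset.mem_filter.mp hψ).2, hdg]]
    ring
  -- column orthogonality at one point
  set x₀ : D.M := ⟨k, D.le hk⟩
  have hx₀ : x₀ ∈ D.K' := Subgroup.mem_subgroupOf.mpr hk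
  have hx₀1 : x₀ ≠ 1 := fun h => hk1 (congrArg Subtype.val h)
  have hcol : ∑ χ : IrrCharacter G, Complex.normSq ((χ : G → ℂ) k) = (Nat.card D.K : ℝ) := by
    have h1 := sum_irr_mul_conj k k
    have hcen : Subgroup.centralizer ({k} : Set G) = D.K :=
      le_antisymm (D.cent k hk hk1) fun y hy => Subgroup.mem_centralizer_singleton_iff.mpr
        (congrArg Subtype.val (hab ⟨y, hy⟩ ⟨k, hk⟩))
    rw [if_pos (IsConj.refl k), hcen] at h1
    have h3 : ((∑ χ : IrrCharacter G, Complex.normSq ((χ : G → ℂ) k) : ℝ) : ℂ) = ((Nat.card D.K : ℝ) : ℂ) := by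
      push_cast
      rw [← h1]
      exact Finset.sum_congr rfl fun χ _ => (Complex.mul_conj ((χ : G → ℂ) k)).symm
    exact_mod_cast h3
  set others := Finset.univ.filter fun χ : IrrCharacter G => χ ∉ E0 ∧ (χ : G → ℂ) k ≠ 0
  have hsub : (Finset.univ.filter fun χ : IrrCharacter G => ∃ x ∈ D.K, x ≠ 1 ∧ (χ : G → ℂ) x ≠ 0) ⊆ E0 ∪ others := by
    intro χ hχ
    obtain ⟨x, hx, hx1, hne⟩ := (Finset.mem_filter.mp hχ).2
    by_cases hE : χ ∈ E0
    · exact Finset.mem_union_left _ hE
    refine Finset.mem_union_right _ (Finset.mem_filter.mpr ⟨Finset.mem_univ _, hE, ?_⟩)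
    obtain ⟨z, hz⟩ := hconst χ hE
    have e1 := hz x₀ hx₀ hx₀1
    have e2 := hz ⟨x, D.le hx⟩ (Subgroup.mem_subgroupOf.mpr hx) fun h => hx1 (congrArg Subtype.val h)
    intro h0
    exact hne (e2.trans (e1.symm.trans h0))
  refine (Finset.card_le_card hsub).trans ((Finset.card_union_le _ _).trans ?_)
  have hge : (others.card : ℝ) ≤ ∑ χ ∈ others, Complex.normSq ((χ : G → ℂ) k) := by
    rw [Finset.card_eq_sum_ones, Nat.cast_sum]
    refine Finset.sum_le_sum fun χ hχ => ?_
    obtain ⟨hE, hne⟩ := (Finset.mem_filter.mp hχ).2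
    obtain ⟨z, hz⟩ := hconst χ hE
    have e1 := hz x₀ hx₀ hx₀1
    change (χ : G → ℂ) k = _ at e1
    rw [e1] at hne ⊢
    have hz0 : z ≠ 0 := fun h => hne (by rw [h, Int.cast_zero])
    rw [show ((z : ℂ)) = ((z : ℝ) : ℂ) by push_cast; rfl, Complex.normSq_ofReal]
    have h1 : (1 : ℤ) ≤ z * z := by nlinarith [mul_self_pos.mpr hz0]
    exact_mod_cast h1
  have hdisj : Disjoint E0 others := Finset.disjoint_right.mpr fun χ hχ => (Finset.mem_filter.mp hχ).2.1
  have htot : ∑ χ ∈ E0, Complex.normSq ((χ : G → ℂ) k) + ∑ χ ∈ others, Complex.normSq ((χ : G → ℂ) k) ≤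
      (Nat.card D.K : ℝ) := by
    rw [← hcol, ← Finset.sum_union hdisj]
    exact Finset.sum_le_sum_of_subset_of_nonneg (Finset.subset_univ _) fun χ _ _ => Complex.normSq_nonneg _
  have hcK : (Nat.card D.K : ℝ) = (D.n : ℝ) * D.e + 1 := by rw [← hcardK]; push_cast; ring
  by_cases hn : D.n = 1
  · rw [hE0, if_pos hn, Finset.sum_empty, zero_add] at htot
    rw [hE0, if_pos hn, Finset.card_empty, zero_add]
    have : (others.card : ℝ) ≤ ((D.n + D.e : ℕ) : ℝ) := by
      push_cast
      rw [hcK, hn] at htot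
      rw [hn]
      push_cast at htot ⊢
      linarith
    exact_mod_cast this
  · have hEc : E0.card = D.n := by
      rw [hE0, if_neg hn, Finset.card_image_of_injective _ D.theta_injective, Finset.card_univ]
      rfl
    have hne : Nonempty D.Fam := Fintype.card_pos_iff.mp (Nat.pos_of_ne_zero fun h0 => by
      have : D.n = 0 := h0
      rw [this, zero_mul, zero_add] at hcardK
      exact hK (Subgroup.card_eq_one.mp hcardK.symm))
    obtain ⟨c₀⟩ := hne
    haveI : Nonempty D.Fam := ⟨c₀⟩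
    set C : ℂ := (D.theta c₀ : G → ℂ) k - (D.eps : ℂ) * (c₀.1 : D.M → ℂ) x₀
    have hval : ∀ c : D.Fam, (D.theta c : G → ℂ) k = ((D.eps : ℝ) : ℂ) * (c.1 : D.M → ℂ) x₀ + C := by
      intro c
      have h := congrFun (D.tau_sub c₀ c) k
      simp only [Pi.sub_apply, Pi.smul_apply, smul_eq_mul] at h
      have e1 := htau c x₀ hx₀ hx₀1
      have e2 := htau c₀ x₀ hx₀ hx₀1
      change D.tau c k = _ at e1
      change D.tau c₀ k = _ at e2
      rw [e1, e2, TIDatum.alpha, TIDatum.alpha] at h
      simp only [Pi.sub_apply] at h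
      have hε2 : (D.eps : ℂ) * D.eps = 1 := by rcases D.eps_eq with h | h <;> rw [h] <;> norm_num
      simp only [C]
      push_cast
      linear_combination (D.eps : ℂ) * h + ((D.theta c₀ : G → ℂ) k - (D.theta c : G → ℂ) k) * hε2
    have hEsum : (D.n : ℝ) * D.e + 1 - D.e - 1 / (D.n : ℝ) ≤ ∑ χ ∈ E0, Complex.normSq ((χ : G → ℂ) k) := by
      rw [hE0, if_neg hn, Finset.sum_image fun a _ b _ h => D.theta_injective h,
        Finset.sum_congr rfl fun c _ => by rw [hval c]]
      have h := normSq_shift_bound (fun c : D.Fam => (c.1 : D.M → ℂ) x₀) (D.eps : ℝ)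
        (by rcases D.eps_eq with h | h <;> rw [h] <;> norm_num) C (hpt x₀ hx₀ hx₀1).1
      rw [hsq x₀ hx₀ hx₀1, hcK] at h
      exact h
    have hn2 : (2 : ℝ) ≤ D.n := by
      have : D.n ≠ 0 := fun h0 => by
        have := Fintype.card_pos (α := D.Fam)
        rw [show Fintype.card D.Fam = D.n from rfl] at this
        omega
      exact_mod_cast (show 2 ≤ D.n by omega)
    have hinv : 1 / (D.n : ℝ) ≤ 1 / 2 := one_div_le_one_div_of_le (by norm_num) hn2
    have h4 : (others.card : ℝ) < ((D.e + 1 : ℕ) : ℝ) := by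
      push_cast
      linarith
    have : others.card < D.e + 1 := by exact_mod_cast h4
    omega

end

end Cfsg.Agent.Lib.KnownA
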