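import Mathlib
import Cfsg.Prelude.Def_DegreeGraph
import Cfsg.Agent.Lib.KnownA.SuzukiSeries
import Cfsg.Agent.Lib.KnownA.SuzukiClassCount
import Cfsg.Agent.Lib.KnownA.TINonvanish

/-! The irreducible character degrees of the Suzuki groups. -/

set_option autoImplicit false
set_option maxHeartbeats 1600000

namespace Cfsg.Agent.Lib.KnownA.Suz

open Matrix Cfsg.Lie Cfsg.Agent.Lib.Characters
open scoped Classical ComplexConjugate

set_option linter.unusedSectionVars false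
set_option linter.style.haveILetI false

noncomputable section

theorem two_sq_pow : ∀ (n a b : ℕ), a ^ 2 + b ^ 2 = 2 ^ (2 * n + 1) → a = 2 ^ n ∧ b = 2 ^ n := by
  intro n
  induction n with
  | zero =>
    intro a b h
    norm_num at h
    have ha : a ≤ 1 := by nlinarith
    have hb : b ≤ 1 := by nlinarith
    interval_cases a <;> interval_cases b <;> simp_all
  | succ n ih =>
    intro a b h
    have e : 2 ^ (2 * (n + 1) + 1) = 4 * 2 ^ (2 * n + 1) := by ring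
    rw [e] at h
    obtain ⟨a', rfl | rfl⟩ := Nat.even_or_odd' a <;> obtain ⟨b', rfl | rfl⟩ := Nat.even_or_odd' b
    · obtain ⟨h1, h2⟩ := ih a' b' (by linarith)
      exact ⟨by rw [h1]; ring, by rw [h2]; ring⟩
    all_goals
      exfalso
      ring_nf at h
      omega

theorem degree_arith {r k₁ k₂ P S : ℕ} (hr : 2 ≤ r) (hk₁ : 4 * k₁ = 2 * (r * r) + 2 * r)
    (hk₂ : 4 * k₂ + 2 * r = 2 * (r * r)) (hP : 2 * P + 2 = 2 * (r * r))
    (h : 1 + (2 * (r * r) * (2 * (r * r))) ^ 2 + P * (2 * (r * r) * (2 * (r * r)) + 1) ^ 2 +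
        (2 * (r * r) - 1) ^ 2 * S =
      (2 * (r * r) * (2 * (r * r)) + 1) * (2 * (r * r) * (2 * (r * r)) * (2 * (r * r) - 1))) :
    S = k₂ * (2 * (r * r) + 2 * r + 1) ^ 2 + k₁ * (2 * (r * r) + 1 - 2 * r) ^ 2 + 2 * (r * r) := by
  have hrr : r ≤ r * r := Nat.le_mul_self r
  zify [show 1 ≤ 2 * (r * r) by omega, show 2 * r ≤ 2 * (r * r) + 1 by omega] at *
  have key : (2 * ((r : ℤ) * r) - 1) ^ 2 * 4 * ((S : ℤ) -
      ((k₂ : ℤ) * (2 * (r * r) + 2 * r + 1) ^ 2 + k₁ * (2 * (r * r) + 1 - 2 * r) ^ 2 + 2 * (r * r))) = 0 := by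
    linear_combination 4 * h - 2 * (2 * ((r : ℤ) * r) * (2 * (r * r)) + 1) ^ 2 * hP -
      (2 * ((r : ℤ) * r) - 1) ^ 2 * (2 * (r * r) + 2 * r + 1) ^ 2 * hk₂ -
      (2 * ((r : ℤ) * r) - 1) ^ 2 * (2 * (r * r) + 1 - 2 * r) ^ 2 * hk₁
  rcases mul_eq_zero.mp key with h' | h'
  · exfalso
    rcases mul_eq_zero.mp h' with h'' | h''
    · have := pow_eq_zero_iff (two_ne_zero (α := ℕ)) |>.mp h''
      nlinarith
    · norm_num at h''
  · linarith

variable {F : Type*} [Field F] [Fintype F] [CharP F 2] {m : ℕ} (hθ : ∀ x : F, szTh m (szTh m x) = x * x)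

include hθ

/-- The TI datum of a maximal torus. -/
def torDatum (hF : Fintype.card F = 2 ^ (2 * m + 1)) {A : Subgroup ↥(G F m)} (hA : IsTorus hθ A) :
    TIDatum ↥(G F m) where
  K := A
  M := Subgroup.normalizer (A : Set ↥(G F m))
  le := Subgroup.le_normalizer
  normal := Subgroup.normal_in_normalizer
  ti g hg k hk hgk := by
    by_contra hk1
    exact hg (ss_mem_normalizer hθ hF (Or.inr hA) hk1 hk hgk)
  cent k hk hk1 := le_of_eq (torus_centralizer hθ hF hA hk hk1)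

theorem torus_chars (hm : 1 ≤ m) (hF : Fintype.card F = 2 ^ (2 * m + 1)) [Fintype ↥(G F m)]
    [Fintype (IrrCharacter ↥(G F m))] {A : Subgroup ↥(G F m)} (hA : IsTorus hθ A) {k : ℕ}
    (hk : Nat.card A = 4 * k + 1) :
    (Finset.univ.filter fun χ : IrrCharacter ↥(G F m) =>
        ∃ x ∈ A, x ≠ 1 ∧ (χ : ↥(G F m) → ℂ) x ≠ 0).card ≤ k + 4 ∧
      ∀ χ : IrrCharacter ↥(G F m), (¬ ∃ x ∈ A, x ≠ 1 ∧ (χ : ↥(G F m) → ℂ) x ≠ 0) →
        ∀ d : ℕ, (χ : ↥(G F m) → ℂ) 1 = (d : ℂ) → Nat.card A ∣ d := by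
  constructor
  · obtain ⟨A₁, A₂, -, -, -, -, -, hN, -⟩ := exists_tori hθ hm hF
    set D := torDatum hθ hF hA
    haveI := torus_cyclic hθ hF hA
    have hab : ∀ a b : D.K, a * b = b * a := fun a b => by
      letI : CommGroup ↥A := IsCyclic.commGroup
      exact @mul_comm ↥A _ a b
    have hne : D.K ≠ ⊥ := fun h => by
      have := torus_one_lt hθ hA
      rw [show A = D.K from rfl, h, Subgroup.card_bot] at this
      omega
    have hcK : Nat.card D.K = 4 * k + 1 := hk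
    have he : D.e = 4 := by
      have := D.card_M
      rw [show Nat.card D.M = 4 * Nat.card A from hN A hA, show Nat.card D.K = Nat.card A from rfl, mul_comm 4] at this
      exact (Nat.eq_of_mul_eq_mul_left Nat.card_pos this).symm
    have hn := KnownA.n_eq D hab
    rw [he, hcK] at hn
    have h := KnownA.card_nonvanishing_le D hab hne
    rw [he, show D.n = k by omega] at h
    refine le_trans (le_of_eq (congrArg Finset.card ?_)) h
    ext χ
    simp only [Finset.mem_filter, Finset.mem_univ, true_and]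
    exact Iff.rfl
  · intro χ hχ d hd
    push Not at hχ
    haveI := Fintype.ofFinite ↥A
    obtain ⟨j, hj⟩ := IsCharacter.exists_classInner_nat (IsCharacter.restrict (irr_isCharacter χ) A)
      (isCharacter_one (G := ↥A))
    unfold classInner at hj
    rw [Fintype.sum_eq_single (1 : ↥A) fun x hx => by simp only [hχ x.1 x.2 fun e => hx (Subtype.ext e), zero_mul],
      map_one, mul_one] at hj
    dsimp only at hj
    rw [OneMemClass.coe_one, hd, inv_mul_eq_iff_eq_mul₀ natCard_ne_zero_complex] at hj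
    exact ⟨j, by exact_mod_cast hj⟩

/-- The irreducible characters of the Suzuki group, by family. -/
structure CharData [Fintype ↥(G F m)] [Fintype (IrrCharacter ↥(G F m))] where
  A₁ : Subgroup ↥(G F m)
  A₂ : Subgroup ↥(G F m)
  k₁ : ℕ
  k₂ : ℕ
  St : IrrCharacter ↥(G F m)
  PS : Finset (IrrCharacter ↥(G F m))
  S₁ : Finset (IrrCharacter ↥(G F m))
  S₂ : Finset (IrrCharacter ↥(G F m))
  R : Finset (IrrCharacter ↥(G F m))
  torus₁ : IsTorus hθ A₁
  torus₂ : IsTorus hθ A₂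
  card₁ : Nat.card A₁ = 2 * (2 ^ m * 2 ^ m) + 2 * 2 ^ m + 1
  card₂ : Nat.card A₂ + 2 * 2 ^ m = 2 * (2 ^ m * 2 ^ m) + 1
  hk₁ : Nat.card A₁ = 4 * k₁ + 1
  hk₂ : Nat.card A₂ = 4 * k₂ + 1
  cover : ∀ A, IsTorus hθ A → ∃ c : ↥(G F m),
    A = A₁.map (MulAut.conj c).toMonoidHom ∨ A = A₂.map (MulAut.conj c).toMonoidHom
  decomp : ∀ f : IrrCharacter ↥(G F m) → ℂ, ∑ χ, f χ =
    f (trivIrr _) + (f St + (∑ χ ∈ PS, f χ + (∑ χ ∈ S₁, f χ + (∑ χ ∈ S₂, f χ + ∑ χ ∈ R, f χ))))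
  St_val : (St : ↥(G F m) → ℂ) = indFun (B hθ) (bth hθ 1) - fun _ => 1
  PS_val : ∀ χ ∈ PS, ∃ η : Fˣ →* ℂˣ, η ≠ 1 ∧ (χ : ↥(G F m) → ℂ) = indFun (B hθ) (bth hθ η)
  degSt : (St : ↥(G F m) → ℂ) 1 = ((Fintype.card F * Fintype.card F : ℕ) : ℂ)
  degPS : ∀ χ ∈ PS, (χ : ↥(G F m) → ℂ) 1 = ((Fintype.card F * Fintype.card F + 1 : ℕ) : ℂ)
  cardPS : 2 * PS.card = Fintype.card F - 2
  cusp : ∀ χ : IrrCharacter ↥(G F m), (χ ∈ S₁ ∨ χ ∈ S₂ ∨ χ ∈ R) → ∀ η : Fˣ →* ℂˣ,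
    classInner (bth hθ η) (fun h : ↥(B hθ) => (χ : ↥(G F m) → ℂ) h) = 0
  cardS₁ : S₁.card = k₂
  cardS₂ : S₂.card = k₁
  cardR : R.card = 2
  deg₁ : ∀ χ ∈ S₁, (χ : ↥(G F m) → ℂ) 1 = (((Fintype.card F - 1) * Nat.card A₁ : ℕ) : ℂ)
  deg₂ : ∀ χ ∈ S₂, (χ : ↥(G F m) → ℂ) 1 = (((Fintype.card F - 1) * Nat.card A₂ : ℕ) : ℂ)
  degR : ∀ χ ∈ R, (χ : ↥(G F m) → ℂ) 1 = (((Fintype.card F - 1) * 2 ^ m : ℕ) : ℂ)
  van₁ : ∀ χ ∈ S₁, ∀ y ∈ A₁, y ≠ 1 → (χ : ↥(G F m) → ℂ) y = 0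
  van₂ : ∀ χ ∈ S₂, ∀ y ∈ A₂, y ≠ 1 → (χ : ↥(G F m) → ℂ) y = 0

theorem chars_core (hm : 1 ≤ m) (hF : Fintype.card F = 2 ^ (2 * m + 1)) [Fintype ↥(G F m)]
    [Fintype (IrrCharacter ↥(G F m))] : Nonempty (CharData hθ) := by
  have hr : 2 ≤ 2 ^ m := by
    calc 2 = 2 ^ 1 := by norm_num
      _ ≤ 2 ^ m := Nat.pow_le_pow_right (by norm_num) hm
  have hq' : 2 ^ (2 * m + 1) = 2 * (2 ^ m * 2 ^ m) := by ring
  have hr1 : 2 ^ (m + 1) = 2 * 2 ^ m := by ring
  obtain ⟨A₁, A₂, hA₁, hA₂, c₁, c₂, hco, hN, hcover⟩ := exists_tori hθ hm hF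
  obtain ⟨St, PS, hSt, ht, hStPS, hStv, hPSv, hSt1, hStf, hPS, hPS1, hcusp⟩ := series hθ hF
  have hcl := classes_ge hθ hm hF
  rw [hq', hr1] at c₁ c₂
  have hq : Fintype.card F = 2 * (2 ^ m * 2 ^ m) := by rw [hF, hq']
  have hmul : 2 * 2 ^ m ≤ 2 ^ m * 2 ^ m := Nat.mul_le_mul_right _ hr
  have heven : 2 ∣ 2 ^ m * 2 ^ m + 2 ^ m := by
    have : 2 ∣ 2 ^ m := dvd_pow_self 2 (by omega)
    exact dvd_add (this.mul_right _) this
  have heven' : 2 ∣ 2 ^ m := dvd_pow_self 2 (by omega)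
  obtain ⟨k₁, hk₁⟩ : ∃ k, Nat.card A₁ = 4 * k + 1 := ⟨(2 ^ m * 2 ^ m + 2 ^ m) / 2, by omega⟩
  obtain ⟨k₂, hk₂⟩ : ∃ k, Nat.card A₂ = 4 * k + 1 := ⟨(2 ^ m * 2 ^ m - 2 ^ m) / 2, by omega⟩
  set tr : IrrCharacter ↥(G F m) := trivIrr _ with htr
  set Cusp := Finset.univ.filter fun χ : IrrCharacter ↥(G F m) => χ ≠ tr ∧ χ ≠ St ∧ χ ∉ PS with hCusp
  have hex : ∀ χ : IrrCharacter ↥(G F m), ∃ e : ℕ,
      χ ∈ Cusp → (χ : ↥(G F m) → ℂ) 1 = (((Fintype.card F - 1) * e : ℕ) : ℂ) := by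
    intro χ
    by_cases h : χ ∈ Cusp
    · obtain ⟨h1, h2, h3⟩ := (Finset.mem_filter.mp h).2
      obtain ⟨e, he⟩ := borel_dvd hθ χ (hcusp χ h1 h2 h3)
      exact ⟨e, fun _ => he⟩
    · exact ⟨0, fun h' => absurd h' h⟩
  choose e he using hex
  have hepos : ∀ χ ∈ Cusp, 0 < e χ := fun χ h => Nat.pos_of_ne_zero fun h0 =>
    IsIrrCharacter.apply_one_ne_zero χ.2 (by rw [he χ h, h0, mul_zero, Nat.cast_zero])
  have hsplit : (Finset.univ : Finset (IrrCharacter ↥(G F m))) = insert tr (insert St (PS ∪ Cusp)) := by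
    ext χ
    simp only [Finset.mem_univ, Finset.mem_insert, Finset.mem_union, true_iff, hCusp, Finset.mem_filter, true_and]
    tauto
  have hd1 : tr ∉ insert St (PS ∪ Cusp) := by
    simp only [Finset.mem_insert, Finset.mem_union, hCusp, Finset.mem_filter, Finset.mem_univ, true_and]
    rintro (h | h | h)
    · exact hSt h.symm
    · exact ht h
    · exact h.1 rfl
  have hd2 : St ∉ PS ∪ Cusp := by
    simp only [Finset.mem_union, hCusp, Finset.mem_filter, Finset.mem_univ, true_and]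
    rintro (h | h)
    · exact hStPS h
    · exact h.2.1 rfl
  have hd3 : Disjoint PS Cusp := Finset.disjoint_left.mpr fun χ h h' => (Finset.mem_filter.mp h').2.2.2 h
  have hcard : Fintype.card F + 3 ≤ 2 + PS.card + Cusp.card := by
    rw [← card_irrCharacter, Nat.card_eq_fintype_card (α := IrrCharacter _), ← Finset.card_univ (α := IrrCharacter ↥(G F m)), hsplit,
      Finset.card_insert_of_notMem hd1, Finset.card_insert_of_notMem hd2, Finset.card_union_of_disjoint hd3] at hcl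
    omega
  -- nonvanishing on the tori
  have key : ∀ (A : Subgroup ↥(G F m)), IsTorus hθ A → ∀ k, Nat.card A = 4 * k + 1 →
      Cusp.card ≤ (Cusp.filter fun χ => Nat.card A ∣ e χ).card + (k + 2) ∧
        ((Cusp.filter fun χ => Nat.card A ∣ e χ).card + (k + 2) ≤ Cusp.card →
          ∀ χ ∈ Cusp, Nat.card A ∣ e χ → ∀ y ∈ A, y ≠ 1 → (χ : ↥(G F m) → ℂ) y = 0) := by
    intro A hA k hk
    obtain ⟨hle, hdiv⟩ := torus_chars hθ hm hF hA hk
    set NV := Finset.univ.filter fun χ : IrrCharacter ↥(G F m) => ∃ x ∈ A, x ≠ 1 ∧ (χ : ↥(G F m) → ℂ) x ≠ 0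
      with hNV
    have hA1 := torus_one_lt hθ hA
    obtain ⟨x, hx, hx1⟩ := (Subgroup.bot_or_exists_ne_one A).resolve_left fun h => by
      rw [h, Subgroup.card_bot] at hA1; omega
    have htrNV : tr ∈ NV := Finset.mem_filter.mpr ⟨Finset.mem_univ _, x, hx, hx1, by simp [htr]⟩
    have hStNV : St ∈ NV := Finset.mem_filter.mpr ⟨Finset.mem_univ _, x, hx, hx1, by
      rw [hStf x (torus_mem_fpf hθ hA hx hx1)]; norm_num⟩
    have h1 : (Cusp ∩ NV).card + 2 ≤ NV.card := by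
      have hsub : insert tr (insert St (Cusp ∩ NV)) ⊆ NV := by
        intro χ h
        rcases Finset.mem_insert.mp h with rfl | h
        · exact htrNV
        rcases Finset.mem_insert.mp h with rfl | h
        · exact hStNV
        exact (Finset.mem_inter.mp h).2
      have := Finset.card_le_card hsub
      rw [Finset.card_insert_of_notMem, Finset.card_insert_of_notMem] at this
      · omega
      · exact fun h => (Finset.mem_filter.mp (Finset.mem_inter.mp h).1).2.2.1 rfl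
      · intro h
        rcases Finset.mem_insert.mp h with h | h
        · exact hSt h.symm
        · exact (Finset.mem_filter.mp (Finset.mem_inter.mp h).1).2.1 rfl
    have hcop : Nat.Coprime (Nat.card A) (Fintype.card F - 1) := by
      refine Nat.coprime_of_dvd fun p hp h1 h2 => ?_
      obtain ⟨-, -, -, -, hp3, hp2⟩ := torus_prime hθ hF hA hp h1
      have h4 : p ∣ (Fintype.card F - 1) * (Fintype.card F + 1) := h2.mul_right _
      have h5 : (Fintype.card F - 1) * (Fintype.card F + 1) + 2 = Fintype.card F * Fintype.card F + 1 := by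
        obtain ⟨s, hs⟩ : ∃ s, Fintype.card F = s + 1 := ⟨Fintype.card F - 1, by
          have := Fintype.card_pos (α := F); omega⟩
        rw [hs, Nat.add_sub_cancel]; ring
      rw [← h5] at hp3
      exact hp2 ((Nat.prime_dvd_prime_iff_eq hp Nat.prime_two).mp ((Nat.dvd_add_right h4).mp hp3))
    have hsub2 : Cusp ⊆ (Cusp.filter fun χ => Nat.card A ∣ e χ) ∪ (Cusp ∩ NV) := by
      intro χ hχ
      by_cases hn : χ ∈ NV
      · exact Finset.mem_union_right _ (Finset.mem_inter.mpr ⟨hχ, hn⟩)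
      · refine Finset.mem_union_left _ (Finset.mem_filter.mpr ⟨hχ, ?_⟩)
        exact hcop.dvd_of_dvd_mul_left (hdiv χ (fun h => hn (Finset.mem_filter.mpr ⟨Finset.mem_univ _, h⟩)) _ (he χ hχ))
    have := (Finset.card_le_card hsub2).trans (Finset.card_union_le _ _)
    refine ⟨by omega, fun hge χ hχ hdvd y hy hy1 => ?_⟩
    by_contra hne
    set V := Cusp.filter fun χ => Nat.card A ∣ e χ
    have hmem : χ ∈ V ∩ (Cusp ∩ NV) := Finset.mem_inter.mpr ⟨Finset.mem_filter.mpr ⟨hχ, hdvd⟩,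
      Finset.mem_inter.mpr ⟨hχ, Finset.mem_filter.mpr ⟨Finset.mem_univ _, y, hy, hy1, hne⟩⟩⟩
    have h6 := Finset.card_union_add_card_inter V (Cusp ∩ NV)
    have h7 := Finset.card_pos.mpr ⟨χ, hmem⟩
    have h8 := Finset.card_le_card hsub2
    omega
  -- the squares of the degrees
  set S := ∑ χ ∈ Cusp, e χ ^ 2 with hS
  have htot : 1 + (Fintype.card F * Fintype.card F) ^ 2 + PS.card * (Fintype.card F * Fintype.card F + 1) ^ 2 +
      (Fintype.card F - 1) ^ 2 * S = Nat.card ↥(G F m) := by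
    have h := sum_degree_sq (G := ↥(G F m))
    rw [hsplit, Finset.sum_insert hd1, Finset.sum_insert hd2, Finset.sum_union hd3,
      Finset.sum_congr (rfl : PS = PS) fun χ hχ => by rw [hPS1 χ hχ],
      Finset.sum_congr (rfl : Cusp = Cusp) fun χ hχ => by rw [he χ hχ],
      hSt1, htr, trivIrr_apply] at h
    apply Nat.cast_injective (R := ℂ)
    rw [← h, hS, Finset.mul_sum]
    simp only [Finset.sum_const, nsmul_eq_mul]
    push_cast
    simp only [mul_pow]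
    ring
  rw [card_sz hθ, hq] at htot
  have hST : S = k₂ * (Nat.card A₁) ^ 2 + k₁ * (Nat.card A₂) ^ 2 + 2 * (2 ^ m * 2 ^ m) := by
    have e2 : Nat.card A₂ = 2 * (2 ^ m * 2 ^ m) + 1 - 2 * 2 ^ m := by omega
    rw [c₁, e2]
    refine degree_arith hr ?_ ?_ (P := PS.card) ?_ htot <;> omega
  set S₁ := Cusp.filter fun χ => Nat.card A₁ ∣ e χ with hS₁
  set S₂ := Cusp.filter fun χ => Nat.card A₂ ∣ e χ with hS₂
  set R := (Cusp \ S₁) \ S₂ with hR
  have hlt : S < (Fintype.card F * Fintype.card F + 1) ^ 2 := by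
    rw [hq]
    set Q := 2 * (2 ^ m * 2 ^ m) with hQ
    have hQ8 : 8 ≤ Q := by omega
    have h1 : (Q - 1) * ((Q - 1) * S) ≤ (Q - 1) * ((Q * Q + 1) * (Q * Q)) := by
      calc (Q - 1) * ((Q - 1) * S) = (Q - 1) ^ 2 * S := by ring
        _ ≤ (Q * Q + 1) * (Q * Q * (Q - 1)) := by rw [← htot]; exact Nat.le_add_left _ _
        _ = _ := by ring
    have h2 := Nat.le_of_mul_le_mul_left h1 (by omega)
    have h3 : 2 * S ≤ (Q - 1) * S := Nat.mul_le_mul_right _ (by omega)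
    have h4 := Nat.mul_le_mul_left (Q * Q + 1) (show Q * Q ≤ Q * Q + 1 by omega)
    rw [sq]
    omega
  have hdisj : Disjoint S₁ S₂ := Finset.disjoint_left.mpr fun χ h1 h2 => by
    obtain ⟨hχ, h1⟩ := Finset.mem_filter.mp h1
    obtain ⟨-, h2⟩ := Finset.mem_filter.mp h2
    have hd := hco.mul_dvd_of_dvd_of_dvd h1 h2
    have hmulA : Nat.card A₁ * Nat.card A₂ = Fintype.card F * Fintype.card F + 1 := by
      have e2 : Nat.card A₂ + 2 * 2 ^ m = 2 * (2 ^ m * 2 ^ m) + 1 := by omega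
      rw [hq]
      zify at c₁ e2 ⊢
      linear_combination (Nat.card A₂ : ℤ) * c₁ + (2 * ((2 : ℤ) ^ m * 2 ^ m) + 2 * 2 ^ m + 1) * e2
    rw [hmulA] at hd
    have h3 := Nat.pow_le_pow_left (Nat.le_of_dvd (hepos χ hχ) hd) 2
    have h4 : e χ ^ 2 ≤ S := Finset.single_le_sum (fun i _ => Nat.zero_le (e i ^ 2)) hχ
    omega
  have hsum : ∑ χ ∈ S₁, e χ ^ 2 + ∑ χ ∈ S₂, e χ ^ 2 + ∑ χ ∈ R, e χ ^ 2 = S := by
    rw [hR, hS, ← Finset.sum_sdiff (Finset.filter_subset (fun χ => Nat.card A₁ ∣ e χ) Cusp),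
      ← Finset.sum_sdiff (show S₂ ⊆ Cusp \ S₁ from fun χ h =>
        Finset.mem_sdiff.mpr ⟨(Finset.mem_filter.mp h).1, Finset.disjoint_right.mp hdisj h⟩)]
    ring
  have hRcard : R.card + S₁.card + S₂.card = Cusp.card := by
    rw [hR, ← Finset.card_sdiff_add_card_eq_card (Finset.filter_subset (fun χ => Nat.card A₁ ∣ e χ) Cusp),
      ← Finset.card_sdiff_add_card_eq_card (show S₂ ⊆ Cusp \ S₁ from fun χ h =>
        Finset.mem_sdiff.mpr ⟨(Finset.mem_filter.mp h).1, Finset.disjoint_right.mp hdisj h⟩)]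
    ring
  have hbound : ∀ (A : Subgroup ↥(G F m)) (s : Finset (IrrCharacter ↥(G F m))), s ⊆ Cusp →
      (∀ χ ∈ s, Nat.card A ∣ e χ) → s.card * Nat.card A ^ 2 ≤ ∑ χ ∈ s, e χ ^ 2 := by
    intro A s hs hd
    rw [← smul_eq_mul]
    exact Finset.card_nsmul_le_sum _ _ _ fun χ hχ =>
      Nat.pow_le_pow_left (Nat.le_of_dvd (hepos χ (hs hχ)) (hd χ hχ)) 2
  have b₁ := hbound A₁ S₁ (Finset.filter_subset _ _) fun χ h => (Finset.mem_filter.mp h).2
  have b₂ := hbound A₂ S₂ (Finset.filter_subset _ _) fun χ h => (Finset.mem_filter.mp h).2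
  obtain ⟨n₁, van₁⟩ := key A₁ hA₁ k₁ hk₁
  obtain ⟨n₂, van₂⟩ := key A₂ hA₂ k₂ hk₂
  rw [← hS₁] at n₁ van₁
  rw [← hS₂] at n₂ van₂
  have hNge : k₁ + k₂ + 2 ≤ Cusp.card := by omega
  have hQlt₁ : 2 * (2 ^ m * 2 ^ m) < Nat.card A₁ ^ 2 := by
    have := Nat.le_self_pow (two_ne_zero) (Nat.card A₁)
    omega
  have hQlt₂ : 2 * (2 ^ m * 2 ^ m) < Nat.card A₂ ^ 2 := by
    have h5 : 2 ^ m * 2 ^ m ≤ Nat.card A₂ := by omega
    nlinarith
  have m₁ : k₂ * Nat.card A₁ ^ 2 ≤ S₁.card * Nat.card A₁ ^ 2 := Nat.mul_le_mul_right _ (by omega)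
  have m₂ : k₁ * Nat.card A₂ ^ 2 ≤ S₂.card * Nat.card A₂ ^ 2 := Nat.mul_le_mul_right _ (by omega)
  have e₁ : S₁.card = k₂ := by
    by_contra h
    have : (k₂ + 1) * Nat.card A₁ ^ 2 ≤ S₁.card * Nat.card A₁ ^ 2 := Nat.mul_le_mul_right _ (by omega)
    rw [add_mul, one_mul] at this
    omega
  have e₂ : S₂.card = k₁ := by
    by_contra h
    have : (k₁ + 1) * Nat.card A₂ ^ 2 ≤ S₂.card * Nat.card A₂ ^ 2 := Nat.mul_le_mul_right _ (by omega)
    rw [add_mul, one_mul] at this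
    omega
  have hex1 : ∀ (A : Subgroup ↥(G F m)) (s : Finset (IrrCharacter ↥(G F m))), s ⊆ Cusp →
      (∀ χ ∈ s, Nat.card A ∣ e χ) → ∑ χ ∈ s, e χ ^ 2 ≤ s.card * Nat.card A ^ 2 + 2 * (2 ^ m * 2 ^ m) →
      2 * (2 ^ m * 2 ^ m) < Nat.card A ^ 2 → ∀ χ ∈ s, e χ = Nat.card A := by
    intro A s hs hd hle hlt χ hχ
    obtain ⟨j, hj⟩ := hd χ hχ
    rcases Nat.lt_or_ge j 2 with h | h
    · have : j ≠ 0 := fun h0 => (hepos χ (hs hχ)).ne' (by rw [hj, h0, mul_zero])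
      rw [hj, show j = 1 by omega, mul_one]
    · exfalso
      have h1 := Finset.add_sum_erase s (fun χ => e χ ^ 2) hχ
      have h2 := hbound A (s.erase χ) ((Finset.erase_subset _ _).trans hs) fun ψ hψ => hd ψ (Finset.mem_of_mem_erase hψ)
      have h3 : (s.erase χ).card + 1 = s.card := Finset.card_erase_add_one hχ
      have h4 : 4 * Nat.card A ^ 2 ≤ e χ ^ 2 := by
        rw [hj, mul_pow]
        have : 4 ≤ j ^ 2 := Nat.pow_le_pow_left h 2
        nlinarith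
      rw [← h3, add_mul, one_mul] at hle
      omega
  rw [hST] at hsum
  rw [e₁] at b₁
  rw [e₂] at b₂
  have v₁ := hex1 A₁ S₁ (Finset.filter_subset _ _) (fun χ h => (Finset.mem_filter.mp h).2)
    (by rw [e₁]; omega) hQlt₁
  have v₂ := hex1 A₂ S₂ (Finset.filter_subset _ _) (fun χ h => (Finset.mem_filter.mp h).2)
    (by rw [e₂]; omega) hQlt₂
  have hR2 : R.card = 2 := by omega
  obtain ⟨ψ, ψ', hne, hRe⟩ := Finset.card_eq_two.mp hR2
  have hRC : ∀ χ ∈ R, χ ∈ Cusp := fun χ h => (Finset.mem_sdiff.mp (Finset.mem_sdiff.mp h).1).1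
  have hRsum : e ψ ^ 2 + e ψ' ^ 2 = 2 ^ (2 * m + 1) := by
    have s₁ : ∑ χ ∈ S₁, e χ ^ 2 = k₂ * Nat.card A₁ ^ 2 := by
      rw [Finset.sum_congr rfl fun χ hχ => by rw [v₁ χ hχ], Finset.sum_const, smul_eq_mul, e₁]
    have s₂ : ∑ χ ∈ S₂, e χ ^ 2 = k₁ * Nat.card A₂ ^ 2 := by
      rw [Finset.sum_congr rfl fun χ hχ => by rw [v₂ χ hχ], Finset.sum_const, smul_eq_mul, e₂]
    rw [hRe, Finset.sum_pair hne, s₁, s₂] at hsum
    rw [hq']
    omega
  obtain ⟨hψ, hψ'⟩ := two_sq_pow m _ _ hRsum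
  refine ⟨⟨A₁, A₂, k₁, k₂, St, PS, S₁, S₂, R, hA₁, hA₂, c₁, by omega, hk₁, hk₂, hcover, ?_, hStv, hPSv,
    hSt1, hPS1, hPS, ?_, e₁, e₂, hR2, ?_, ?_, ?_, ?_, ?_⟩⟩
  · intro f
    have hunion : Cusp = S₁ ∪ (S₂ ∪ R) := by
      refine Finset.Subset.antisymm (fun χ h => ?_) (fun χ h => ?_)
      · by_cases h4 : χ ∈ S₁
        · exact Finset.mem_union_left _ h4
        · by_cases h5 : χ ∈ S₂
          · exact Finset.mem_union_right _ (Finset.mem_union_left _ h5)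
          · exact Finset.mem_union_right _ (Finset.mem_union_right _
              (Finset.mem_sdiff.mpr ⟨Finset.mem_sdiff.mpr ⟨h, h4⟩, h5⟩))
      · rcases Finset.mem_union.mp h with h | h
        · exact (Finset.mem_filter.mp h).1
        · rcases Finset.mem_union.mp h with h | h
          · exact (Finset.mem_filter.mp h).1
          · exact hRC χ h
    have dR : Disjoint S₂ R := Finset.disjoint_right.mpr fun χ h => (Finset.mem_sdiff.mp h).2
    have d12 : Disjoint S₁ (S₂ ∪ R) := Finset.disjoint_union_right.mpr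
      ⟨hdisj, Finset.disjoint_right.mpr fun χ h => (Finset.mem_sdiff.mp (Finset.mem_sdiff.mp h).1).2⟩
    rw [hsplit, Finset.sum_insert hd1, Finset.sum_insert hd2, Finset.sum_union hd3, hunion,
      Finset.sum_union d12, Finset.sum_union dR]
  · intro χ h η
    have hχ : χ ∈ Cusp := by
      rcases h with h | h | h
      · exact (Finset.mem_filter.mp h).1
      · exact (Finset.mem_filter.mp h).1
      · exact hRC χ h
    obtain ⟨h1, h2, h3⟩ := (Finset.mem_filter.mp hχ).2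
    exact hcusp χ h1 h2 h3 η
  · intro χ hχ
    rw [he χ (Finset.mem_filter.mp hχ).1, v₁ χ hχ]
  · intro χ hχ
    rw [he χ (Finset.mem_filter.mp hχ).1, v₂ χ hχ]
  · intro χ hχ
    rw [he χ (hRC χ hχ)]
    rw [hRe, Finset.mem_insert, Finset.mem_singleton] at hχ
    rcases hχ with rfl | rfl
    · rw [hψ]
    · rw [hψ']
  · exact fun χ hχ => van₁ (by omega) χ (Finset.mem_filter.mp hχ).1 (Finset.mem_filter.mp hχ).2
  · exact fun χ hχ => van₂ (by omega) χ (Finset.mem_filter.mp hχ).1 (Finset.mem_filter.mp hχ).2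

theorem charDegree_of_apply_one {H : Type*} [Group H] {χ : H → ℂ} {d : ℕ} (h : χ 1 = (d : ℂ)) :
    Cfsg.charDegree χ = d := by
  rw [Cfsg.charDegree, h, Complex.natCast_re, Nat.floor_natCast]

omit hθ in
theorem CharData.mem_cases {hθ : ∀ x : F, szTh m (szTh m x) = x * x} [Fintype ↥(G F m)]
    [Fintype (IrrCharacter ↥(G F m))] (D : CharData hθ) (χ : IrrCharacter ↥(G F m)) :
    χ = trivIrr _ ∨ χ = D.St ∨ χ ∈ D.PS ∨ χ ∈ D.S₁ ∨ χ ∈ D.S₂ ∨ χ ∈ D.R := by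
  by_contra h
  simp only [not_or] at h
  obtain ⟨h1, h2, h3, h4, h5, h6⟩ := h
  have := D.decomp fun ψ => if ψ = χ then 1 else 0
  simp [Finset.sum_ite_eq', if_neg (Ne.symm h1), if_neg (Ne.symm h2), h3, h4, h5, h6] at this

theorem degrees (hm : 1 ≤ m) (hF : Fintype.card F = 2 ^ (2 * m + 1)) :
    Cfsg.charDegrees ↥(G F m) = ({1, Fintype.card F * Fintype.card F, Fintype.card F * Fintype.card F + 1,
      (Fintype.card F - 1) * (2 ^ (2 * m + 1) + 2 ^ (m + 1) + 1),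
      (Fintype.card F - 1) * (2 ^ (2 * m + 1) - 2 ^ (m + 1) + 1),
      (Fintype.card F - 1) * 2 ^ m} : Set ℕ) := by
  haveI := Fintype.ofFinite ↥(G F m)
  haveI := Fintype.ofFinite (IrrCharacter ↥(G F m))
  obtain ⟨D⟩ := chars_core hθ hm hF
  have hr : 2 ≤ 2 ^ m := by
    calc 2 = 2 ^ 1 := by norm_num
      _ ≤ 2 ^ m := Nat.pow_le_pow_right (by norm_num) hm
  have hq' : 2 ^ (2 * m + 1) = 2 * (2 ^ m * 2 ^ m) := by ring
  have hr1 : 2 ^ (m + 1) = 2 * 2 ^ m := by ring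
  have hmul : 2 * 2 ^ m ≤ 2 ^ m * 2 ^ m := Nat.mul_le_mul_right _ hr
  have c₁ := D.card₁
  have c₂ := D.card₂
  have hk₁ := D.hk₁
  have hk₂ := D.hk₂
  have hA₂ : 2 ^ (2 * m + 1) - 2 ^ (m + 1) + 1 = Nat.card D.A₂ := by rw [hq', hr1]; omega
  have hA₁ : 2 ^ (2 * m + 1) + 2 ^ (m + 1) + 1 = Nat.card D.A₁ := by rw [hq', hr1]; omega
  rw [hA₁, hA₂]
  ext d
  simp only [Cfsg.charDegrees, Set.mem_setOf_eq, Set.mem_insert_iff, Set.mem_singleton_iff]
  constructor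
  · rintro ⟨χ, rfl⟩
    rcases D.mem_cases χ with h | h | h | h | h | h
    · exact Or.inl (charDegree_of_apply_one hθ (by rw [h, trivIrr_apply, Nat.cast_one]))
    · exact Or.inr (Or.inl (charDegree_of_apply_one hθ (by rw [h, D.degSt])))
    · exact Or.inr (Or.inr (Or.inl (charDegree_of_apply_one hθ (D.degPS χ h))))
    · exact Or.inr (Or.inr (Or.inr (Or.inl (charDegree_of_apply_one hθ (D.deg₁ χ h)))))
    · exact Or.inr (Or.inr (Or.inr (Or.inr (Or.inl (charDegree_of_apply_one hθ (D.deg₂ χ h))))))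
    · exact Or.inr (Or.inr (Or.inr (Or.inr (Or.inr (charDegree_of_apply_one hθ (D.degR χ h))))))
  · have hPS := D.cardPS
    have e₁ := D.cardS₁
    have e₂ := D.cardS₂
    have eR := D.cardR
    rw [hF, hq'] at hPS
    rintro (rfl | rfl | rfl | rfl | rfl | rfl)
    · exact ⟨trivIrr _, charDegree_of_apply_one hθ (by rw [trivIrr_apply, Nat.cast_one])⟩
    · exact ⟨D.St, charDegree_of_apply_one hθ D.degSt⟩
    · obtain ⟨χ, hχ⟩ := Finset.card_pos.mp (show 0 < D.PS.card by omega)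
      exact ⟨χ, charDegree_of_apply_one hθ (D.degPS χ hχ)⟩
    · obtain ⟨χ, hχ⟩ := Finset.card_pos.mp (show 0 < D.S₁.card by omega)
      exact ⟨χ, charDegree_of_apply_one hθ (D.deg₁ χ hχ)⟩
    · obtain ⟨χ, hχ⟩ := Finset.card_pos.mp (show 0 < D.S₂.card by omega)
      exact ⟨χ, charDegree_of_apply_one hθ (D.deg₂ χ hχ)⟩
    · obtain ⟨χ, hχ⟩ := Finset.card_pos.mp (show 0 < D.R.card by omega)
      exact ⟨χ, charDegree_of_apply_one hθ (D.degR χ hχ)⟩

end

end Cfsg.Agent.Lib.KnownA.Suz
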