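import Mathlib
import Cfsg.Agent.Lib.KnownA.SuzukiDegrees
import Cfsg.Agent.Lib.KnownA.SuzukiBinary
import Cfsg.Agent.Lib.Characters.Eigen

/-! Character values of the Suzuki group on the Borel subgroup: general facts. -/

set_option autoImplicit false
set_option maxHeartbeats 1600000

namespace Cfsg.Agent.Lib.KnownA.Suz

open Matrix Cfsg.Lie Cfsg.Agent.Lib.Characters
open scoped Classical ComplexConjugate

set_option linter.unusedSectionVars false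
set_option linter.style.haveILetI false

noncomputable section

theorem quartic_char {H : Type*} [Group H] [Finite H] {χ : H → ℂ} (hχ : IsCharacter H χ) {g : H} (hg : g ^ 4 = 1) :
    ∃ a j : ℤ, χ g + conj (χ g) = 2 * (a : ℂ) ∧ χ 1 + χ (g ^ 2) = 2 * (a : ℂ) + 4 * (j : ℂ) := by
  obtain ⟨n, ρ, rfl⟩ := hχ
  have hf : ρ g ^ 4 = 1 := by rw [← map_pow, hg, map_one]
  obtain ⟨ι, _, b, μ, hb, hμ⟩ := exists_eigenbasis (ρ g) (n := 4) (by norm_num) hf
  have hroot : ∀ i, ∃ a j : ℤ, μ i + conj (μ i) = 2 * (a : ℂ) ∧ μ i ^ 0 + μ i ^ 2 = 2 * (a : ℂ) + 4 * (j : ℂ) := by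
    intro i
    have h := hμ i
    rcases sq_eq_one_iff.mp (show (μ i ^ 2) ^ 2 = 1 by rw [← pow_mul]; exact h) with h2 | h2
    · rcases sq_eq_one_iff.mp h2 with h1 | h1
      · exact ⟨1, 0, by rw [h1]; norm_num, by rw [h1]; norm_num⟩
      · exact ⟨-1, 1, by rw [h1]; norm_num, by rw [h1]; norm_num⟩
    · have h1 : μ i = Complex.I ∨ μ i = -Complex.I := by
        apply sq_eq_sq_iff_eq_or_eq_neg.mp
        rw [h2, Complex.I_sq]
      rcases h1 with h1 | h1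
      · exact ⟨0, 0, by rw [h1]; simp, by rw [h1]; simp⟩
      · exact ⟨0, 0, by rw [h1]; simp, by rw [h1]; simp⟩
  choose a j ha hj using hroot
  refine ⟨∑ i, a i, ∑ i, j i, ?_, ?_⟩
  · rw [Representation.character, trace_eq_sum_eigen b (ρ g) μ hb, map_sum, ← Finset.sum_add_distrib,
      Finset.sum_congr rfl fun i _ => ha i, Int.cast_sum, Finset.mul_sum]
  · have e1 : ρ.character 1 = ∑ i, μ i ^ 0 := by
      rw [Representation.character, map_one, ← pow_zero (ρ g), trace_pow_eq_sum_eigen b (ρ g) μ hb]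
    have e2 : ρ.character (g ^ 2) = ∑ i, μ i ^ 2 := by
      rw [Representation.character, map_pow, trace_pow_eq_sum_eigen b (ρ g) μ hb]
    rw [e1, e2, ← Finset.sum_add_distrib, Finset.sum_congr rfl fun i _ => hj i, Finset.sum_add_distrib,
      ← Finset.mul_sum, ← Finset.mul_sum, Int.cast_sum, Int.cast_sum]

variable {F : Type*} [Field F] [Fintype F] [CharP F 2] {m : ℕ} (hθ : ∀ x : F, szTh m (szTh m x) = x * x)

include hθ

theorem orderOf_s : orderOf (u hθ (0 : F) 1) = 2 := (orderOf_u hθ 0 1).2 rfl one_ne_zero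

theorem orderOf_v : orderOf (u hθ (1 : F) 0) = 4 := (orderOf_u hθ 1 0).1 one_ne_zero

theorem v_sq : u hθ (1 : F) 0 ^ 2 = u hθ 0 1 := by rw [sq, u_sq, map_one, one_mul]

theorem v_not_real (c : ↥(G F m)) : c * u hθ 1 0 * c⁻¹ ≠ (u hθ 1 0)⁻¹ := fun h => one_ne_zero (real_U hθ c h)

theorem cenCard_inv (y : ↥(G F m)) : cenCard y⁻¹ = cenCard y := by
  refine congrArg (fun H : Subgroup ↥(G F m) => Nat.card H) ?_
  ext g
  simp only [Subgroup.mem_centralizer_singleton_iff]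
  exact ⟨fun h => ((Commute.inv_right_iff (a := g) (b := y)).mp h), fun h => (Commute.inv_right_iff (a := g) (b := y)).mpr h⟩

theorem cenCard_s (hF : Fintype.card F = 2 ^ (2 * m + 1)) :
    cenCard (u hθ (0 : F) 1) = Fintype.card F * Fintype.card F := by
  refine le_antisymm ?_ ((cenCard_two_power hθ hF _).1 (orderOf_s hθ))
  rw [← card_U hθ]
  refine Subgroup.card_le_of_le fun g hg => ?_
  refine commute_u hθ (fun e => ?_) (Subgroup.mem_centralizer_singleton_iff.mp hg)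
  have := orderOf_s hθ (F := F) (m := m)
  rw [e, orderOf_one] at this
  norm_num at this

theorem cenCard_v (hm : 1 ≤ m) (hF : Fintype.card F = 2 ^ (2 * m + 1)) :
    cenCard (u hθ (1 : F) 0) = 2 * Fintype.card F := by
  refine le_antisymm (centralizer_small hθ hm hF fun h => ?_) ((cenCard_two_power hθ hF _).2 (orderOf_v hθ))
  have h2 := orderOf_s hθ (F := F) (m := m)
  rw [← v_sq hθ, sq, h, orderOf_one] at h2
  norm_num at h2

theorem inv_ss (hm : 1 ≤ m) (hF : Fintype.card F = 2 ^ (2 * m + 1)) {X : Subgroup ↥(G F m)} (hX : IsSS hθ X)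
    {y : ↥(G F m)} (hy : y ∈ X) : ∃ c : ↥(G F m), c * y * c⁻¹ = y⁻¹ := by
  haveI : Fact (Nat.Prime 2) := ⟨Nat.prime_two⟩
  obtain ⟨j, hj, hN⟩ := ss_normalizer_card hθ hm hF hX
  obtain ⟨⟨w, hwN⟩, hw⟩ := exists_prime_orderOf_dvd_card' (G := ↥(Subgroup.normalizer (X : Set ↥(G F m)))) 2
    (by rw [hN]; exact (dvd_pow_self 2 (by omega)).mul_right _)
  rw [Subgroup.orderOf_mk] at hw
  have hw2 : w * w = 1 := by rw [← sq, ← hw, pow_orderOf_eq_one]
  have hwX : w ∉ X := fun h => ss_not_two_dvd hθ hF hX (hw ▸ Subgroup.orderOf_dvd_natCard X h)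
  have hwinv : w⁻¹ = w := inv_eq_of_mul_eq_one_right hw2
  refine ⟨w, ?_⟩
  haveI := ss_cyclic hθ hF hX
  letI : CommGroup ↥X := IsCyclic.commGroup
  have hy' : w * y * w⁻¹ ∈ X := ((Subgroup.mem_normalizer_iff.mp hwN) y).mp hy
  have hcomm : y * (w * y * w⁻¹) = w * y * w⁻¹ * y := congrArg Subtype.val (mul_comm (⟨y, hy⟩ : ↥X) ⟨_, hy'⟩)
  by_contra hne
  set z := y * (w * y * w⁻¹) with hz
  have hzX : z ∈ X := mul_mem hy hy'
  have hz1 : z ≠ 1 := fun e => hne (eq_inv_of_mul_eq_one_right e)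
  have hwz : w * z = z * w := by
    have e : w * z * w⁻¹ = z := by
      calc w * z * w⁻¹ = w * y * w⁻¹ * (w * w * y * (w⁻¹ * w⁻¹)) := by rw [hz]; group
        _ = w * y * w⁻¹ * y := by rw [hw2, hwinv, hw2, one_mul, mul_one]
        _ = z := hcomm.symm
    calc w * z = w * z * w⁻¹ * w := by group
      _ = z * w := by rw [e]
  apply hwX
  rw [← ss_centralizer hθ hF hX hzX hz1]
  exact Subgroup.mem_centralizer_singleton_iff.mpr hwz

variable [Fintype ↥(G F m)]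

theorem apply_ss_real (hm : 1 ≤ m) (hF : Fintype.card F = 2 ^ (2 * m + 1)) {X : Subgroup ↥(G F m)}
    (hX : IsSS hθ X) {y : ↥(G F m)} (hy : y ∈ X) (χ : IrrCharacter ↥(G F m)) :
    conj ((χ : ↥(G F m) → ℂ) y) = (χ : ↥(G F m) → ℂ) y := by
  obtain ⟨c, hc⟩ := inv_ss hθ hm hF hX hy
  rw [← IsCharacter.apply_inv (irr_isCharacter χ), ← hc, IsCharacter.conj_apply (irr_isCharacter χ)]

theorem ind_u_val (η : Fˣ →* ℂˣ) {a b : F} (h : u hθ a b ≠ 1) :
    indFun (B hθ) (bth hθ η) (u hθ a b) = 1 := by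
  have e : (⟨u hθ a b, U_le_B hθ (u_mem hθ a b)⟩ : ↥(B hθ)) = borE hθ ((a, b), 1) :=
    Subtype.ext (by rw [borE_coe, tor_one, mul_one])
  have := ind_apply_B hθ η ⟨u hθ a b, U_le_B hθ (u_mem hθ a b)⟩
  rw [this, Finset.sum_eq_zero fun v _ => ?_, e, bth, kap_borE, map_one, Units.val_one, add_zero]
  obtain ⟨a', b', hab⟩ : (u hθ v.1 v.2)⁻¹ * u hθ a b * u hθ v.1 v.2 ∈ U hθ :=
    mul_mem (mul_mem (inv_mem (u_mem hθ _ _)) (u_mem hθ _ _)) (u_mem hθ _ _)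
  have hab' : (u hθ v.1 v.2)⁻¹ * u hθ a b * u hθ v.1 v.2 = (borE hθ ((a', b'), 1)).1 := by
    rw [hab, borE_coe, tor_one, mul_one]
  show extendByZero _ _ (wel hθ * ((u hθ v.1 v.2)⁻¹ * u hθ a b * u hθ v.1 v.2) * wel hθ) = 0
  rw [hab', ext_wel hθ η, if_neg]
  intro h0
  obtain ⟨rfl, rfl⟩ := Prod.mk.inj h0
  rw [u_zero] at hab
  apply h
  calc u hθ a b = u hθ v.1 v.2 * ((u hθ v.1 v.2)⁻¹ * u hθ a b * u hθ v.1 v.2) * (u hθ v.1 v.2)⁻¹ := by group
    _ = 1 := by rw [hab]; group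

theorem ind_tor_val (η : Fˣ →* ℂˣ) {k : Fˣ} (hk : k ≠ 1) :
    indFun (B hθ) (bth hθ η) (tor hθ k) = (η k : ℂ) + (η k⁻¹ : ℂ) := by
  have e : (⟨tor hθ k, tor_mem_B hθ k⟩ : ↥(B hθ)) = borE hθ ((0, 0), k) :=
    Subtype.ext (by rw [borE_coe, u_zero, one_mul])
  have := ind_apply_B hθ η ⟨tor hθ k, tor_mem_B hθ k⟩
  rw [this, Fintype.sum_eq_single ((0 : F), (0 : F)) fun v hv => ?_]
  · show bth hθ η ⟨tor hθ k, _⟩ + extendByZero _ _ (wel hθ * ((u hθ (0 : F) 0)⁻¹ * tor hθ k * u hθ 0 0) * wel hθ) = _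
    have e2 : (u hθ (0 : F) 0)⁻¹ * tor hθ k * u hθ 0 0 = (borE hθ ((0, 0), k)).1 := by
      rw [u_zero, inv_one, one_mul, mul_one, borE_coe, u_zero, one_mul]
    rw [e2, e, bth, kap_borE, ext_wel hθ η, if_pos rfl]
  · have hz : (u hθ v.1 v.2)⁻¹ * tor hθ k * u hθ v.1 v.2 ∈ B hθ :=
      mul_mem (mul_mem (inv_mem (U_le_B hθ (u_mem hθ _ _))) (tor_mem_B hθ k)) (U_le_B hθ (u_mem hθ _ _))
    obtain ⟨⟨⟨a', b'⟩, k'⟩, hab⟩ := (borE hθ).surjective ⟨_, hz⟩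
    show extendByZero _ _ (wel hθ * ((u hθ v.1 v.2)⁻¹ * tor hθ k * u hθ v.1 v.2) * wel hθ) = 0
    have hab' : (borE hθ ((a', b'), k')).1 = (u hθ v.1 v.2)⁻¹ * tor hθ k * u hθ v.1 v.2 := congrArg Subtype.val hab
    rw [← hab', ext_wel hθ η, if_neg]
    intro h0
    obtain ⟨rfl, rfl⟩ := Prod.mk.inj h0
    rw [borE_coe, u_zero, one_mul] at hab'
    have h1 : act hθ ((u hθ v.1 v.2)⁻¹ * tor hθ k * u hθ v.1 v.2) (some (0, 0)) = some (0, 0) := by
      rw [← hab', act_tor_some]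
      simp
    have h2 : act hθ (tor hθ k) (act hθ (u hθ v.1 v.2) (some (0, 0))) = act hθ (u hθ v.1 v.2) (some (0, 0)) := by
      rw [act_mul, act_mul] at h1
      have h3 := congrArg (act hθ (u hθ v.1 v.2)) h1
      rwa [← act_mul, mul_inv_cancel, act_one] at h3
    rw [act_u_some] at h2
    rcases tor_fix hθ hk h2 with h4 | h4
    · exact Option.some_ne_none _ h4
    · simp only [add_zero, mul_zero, Option.some.injEq, Prod.mk.injEq] at h4
      exact hv (Prod.ext h4.1 h4.2)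

theorem hom_sum_eq (l : Fˣ) [Fintype (Fˣ →* ℂˣ)] :
    ∑ η : Fˣ →* ℂˣ, (η l : ℂ) = if l = 1 then (Fintype.card (Fˣ →* ℂˣ) : ℂ) else 0 := by
  split_ifs with h
  · subst h; simp
  · obtain ⟨φ, hφ⟩ := CommGroup.exists_apply_ne_one_of_hasEnoughRootsOfUnity Fˣ ℂ h
    have h1 : ∑ η : Fˣ →* ℂˣ, (η l : ℂ) = (φ l : ℂ) * ∑ η : Fˣ →* ℂˣ, (η l : ℂ) := by
      rw [Finset.mul_sum]
      exact Fintype.sum_bijective (fun η => φ⁻¹ * η) (Group.mulLeft_bijective _) _ _ fun η => by simp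
    exact (mul_eq_zero.mp (show ((φ l : ℂ) - 1) * ∑ η : Fˣ →* ℂˣ, (η l : ℂ) = 0 by linear_combination -h1)).resolve_left
      fun h0 => hφ (Units.ext (sub_eq_zero.mp h0))

theorem cusp_coset (χ : IrrCharacter ↥(G F m))
    (h : ∀ η : Fˣ →* ℂˣ, classInner (bth hθ η) (fun x : ↥(B hθ) => (χ : ↥(G F m) → ℂ) x) = 0) (l : Fˣ) :
    ∑ w : F × F, (χ : ↥(G F m) → ℂ) (borE hθ (w, l)).1 = 0 := by
  haveI : Finite (Fˣ →* ℂˣ) := by
    refine Nat.finite_of_card_ne_zero ?_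
    rw [CommGroup.card_monoidHom_of_hasEnoughRootsOfUnity Fˣ ℂ]
    exact Nat.card_pos.ne'
  haveI := Fintype.ofFinite (Fˣ →* ℂˣ)
  set c : Fˣ → ℂ := fun k => ∑ w : F × F, conj ((χ : ↥(G F m) → ℂ) (borE hθ (w, k)).1) with hc
  have h0 : ∀ η : Fˣ →* ℂˣ, ∑ k, (η k : ℂ) * c k = 0 := by
    intro η
    have h1 := h η
    unfold classInner at h1
    rw [mul_eq_zero, or_iff_right (inv_ne_zero natCard_ne_zero_complex), ← (borE hθ).sum_comp,
      Fintype.sum_prod_type, Finset.sum_comm] at h1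
    simp only [bth, kap_borE] at h1
    simp only [hc, Finset.mul_sum]
    exact h1
  have h2 : ∑ k, c k * ∑ η : Fˣ →* ℂˣ, (η (k * l⁻¹) : ℂ) = 0 := by
    simp only [Finset.mul_sum]
    rw [Finset.sum_comm]
    refine Finset.sum_eq_zero fun η _ => ?_
    calc ∑ k, c k * (η (k * l⁻¹) : ℂ) = (η l⁻¹ : ℂ) * ∑ k, (η k : ℂ) * c k := by
          rw [Finset.mul_sum]
          exact Finset.sum_congr rfl fun k _ => by rw [map_mul, Units.val_mul]; ring
      _ = 0 := by rw [h0, mul_zero]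
  rw [Fintype.sum_eq_single l fun k hk => by rw [hom_sum_eq hθ, if_neg (fun e => hk (mul_inv_eq_one.mp e)), mul_zero],
    hom_sum_eq hθ, if_pos (mul_inv_cancel l)] at h2
  have h3 : c l = 0 := (mul_eq_zero.mp h2).resolve_right (Nat.cast_ne_zero.mpr Fintype.card_ne_zero)
  have h4 := congrArg conj h3
  simpa [hc, map_sum] using h4

theorem cusp_tor (χ : IrrCharacter ↥(G F m))
    (h : ∀ η : Fˣ →* ℂˣ, classInner (bth hθ η) (fun x : ↥(B hθ) => (χ : ↥(G F m) → ℂ) x) = 0) {k : Fˣ} (hk : k ≠ 1) :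
    (χ : ↥(G F m) → ℂ) (tor hθ k) = 0 := by
  have h1 := cusp_coset hθ χ h k
  have h2 : ∀ w : F × F, (χ : ↥(G F m) → ℂ) (borE hθ (w, k)).1 = (χ : ↥(G F m) → ℂ) (tor hθ k) := by
    intro w
    obtain ⟨v, -, hv⟩ := exists_conj_tor hθ w.1 w.2 hk
    rw [borE_coe]
    conv_rhs => rw [← hv, IsCharacter.conj_apply (irr_isCharacter χ)]
  rw [Finset.sum_congr rfl fun w _ => h2 w, Finset.sum_const, nsmul_eq_mul] at h1
  exact (mul_eq_zero.mp h1).resolve_left (Nat.cast_ne_zero.mpr (Finset.card_ne_zero.mpr Finset.univ_nonempty))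

theorem apply_two (hF : Fintype.card F = 2 ^ (2 * m + 1)) (χ : IrrCharacter ↥(G F m)) {y : ↥(G F m)}
    (hy : orderOf y = 2) : (χ : ↥(G F m) → ℂ) y = (χ : ↥(G F m) → ℂ) (u hθ 0 1) := by
  obtain ⟨c, rfl⟩ := involution_conj hθ hF hy
  exact IsCharacter.conj_apply (irr_isCharacter χ) _ _

theorem apply_four (hm : 1 ≤ m) (hF : Fintype.card F = 2 ^ (2 * m + 1)) (χ : IrrCharacter ↥(G F m)) {y : ↥(G F m)}
    (hy : orderOf y = 4) : (χ : ↥(G F m) → ℂ) y = (χ : ↥(G F m) → ℂ) (u hθ 1 0) ∨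
      (χ : ↥(G F m) → ℂ) y = conj ((χ : ↥(G F m) → ℂ) (u hθ 1 0)) := by
  obtain ⟨c, rfl | rfl⟩ := order_four_conj hθ hm hF hy
  · exact Or.inl (IsCharacter.conj_apply (irr_isCharacter χ) _ _)
  · exact Or.inr (by rw [IsCharacter.conj_apply (irr_isCharacter χ), IsCharacter.apply_inv (irr_isCharacter χ)])

theorem sum_over_U (hm : 1 ≤ m) (hF : Fintype.card F = 2 ^ (2 * m + 1)) (χ : IrrCharacter ↥(G F m)) :
    2 * ∑ w : F × F, (χ : ↥(G F m) → ℂ) (u hθ w.1 w.2) =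
      2 * (χ : ↥(G F m) → ℂ) 1 + 2 * ((Fintype.card F : ℂ) - 1) * (χ : ↥(G F m) → ℂ) (u hθ 0 1) +
        ((Fintype.card F : ℂ) - 1) * (Fintype.card F : ℂ) *
          ((χ : ↥(G F m) → ℂ) (u hθ 1 0) + conj ((χ : ↥(G F m) → ℂ) (u hθ 1 0))) := by
  set f : F × F → ℂ := fun w => (χ : ↥(G F m) → ℂ) (u hθ w.1 w.2) with hf
  have hq : ((Finset.univ.erase (0 : F)).card : ℂ) = (Fintype.card F : ℂ) - 1 := by
    rw [Finset.card_erase_of_mem (Finset.mem_univ _), Finset.card_univ, Nat.cast_sub Fintype.card_pos, Nat.cast_one]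
  have hz : ∑ b, f (0, b) = (χ : ↥(G F m) → ℂ) 1 + ((Fintype.card F : ℂ) - 1) * (χ : ↥(G F m) → ℂ) (u hθ 0 1) := by
    rw [← Finset.add_sum_erase _ _ (Finset.mem_univ (0 : F)),
      Finset.sum_congr rfl (fun b hb => apply_two hθ hF χ ((orderOf_u hθ 0 b).2 rfl (Finset.ne_of_mem_erase hb)) :
        ∀ b ∈ Finset.univ.erase (0 : F), f (0, b) = (χ : ↥(G F m) → ℂ) (u hθ 0 1)),
      Finset.sum_const, nsmul_eq_mul, hq]
    simp only [hf, u_zero]
  set S := ∑ a ∈ Finset.univ.erase (0 : F), ∑ b, f (a, b) with hS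
  have hflip : S = conj S := by
    rw [hS, map_sum]
    refine Finset.sum_congr rfl fun a _ => ?_
    rw [map_sum]
    refine Fintype.sum_equiv (Equiv.addRight (szTh m a * a)) _ _ fun b => ?_
    have h1 : f (a, b + szTh m a * a) = conj (f (a, b)) := by
      simp only [hf]
      rw [← u_inv hθ a b, IsCharacter.apply_inv (irr_isCharacter χ)]
    simp only [Equiv.coe_addRight, h1, Complex.conj_conj]
  have h2S : 2 * S = ((Fintype.card F : ℂ) - 1) * (Fintype.card F : ℂ) *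
      ((χ : ↥(G F m) → ℂ) (u hθ 1 0) + conj ((χ : ↥(G F m) → ℂ) (u hθ 1 0))) := by
    rw [two_mul]
    nth_rw 2 [hflip]
    rw [hS, map_sum, ← Finset.sum_add_distrib, Finset.sum_congr rfl fun a ha => ?_, Finset.sum_const, nsmul_eq_mul,
      hq, mul_assoc]
    rw [map_sum, ← Finset.sum_add_distrib, Finset.sum_congr rfl fun b _ => ?_, Finset.sum_const, Finset.card_univ,
      nsmul_eq_mul]
    rcases apply_four hθ hm hF χ ((orderOf_u hθ a b).1 (Finset.ne_of_mem_erase ha)) with h | h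
    · simp only [hf, h]
    · simp only [hf, h, Complex.conj_conj]; ring
  have htot : ∑ w : F × F, f w = (∑ b, f (0, b)) + S := by
    rw [Fintype.sum_prod_type, hS, Finset.add_sum_erase _ (fun a => ∑ b, f (a, b)) (Finset.mem_univ (0 : F))]
  rw [htot, hz]
  linear_combination h2S

theorem cusp_U (hm : 1 ≤ m) (hF : Fintype.card F = 2 ^ (2 * m + 1)) (χ : IrrCharacter ↥(G F m))
    (h : ∀ η : Fˣ →* ℂˣ, classInner (bth hθ η) (fun x : ↥(B hθ) => (χ : ↥(G F m) → ℂ) x) = 0) {e : ℕ}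
    (he : (χ : ↥(G F m) → ℂ) 1 = (((Fintype.card F - 1) * e : ℕ) : ℂ)) :
    ∃ a : ℤ, (χ : ↥(G F m) → ℂ) (u hθ 1 0) + conj ((χ : ↥(G F m) → ℂ) (u hθ 1 0)) = -2 * (a : ℂ) ∧
      (χ : ↥(G F m) → ℂ) (u hθ 0 1) = (a : ℂ) * (Fintype.card F : ℂ) - (e : ℂ) ∧ 2 ∣ (e : ℤ) + a := by
  have h1 := cusp_coset hθ χ h 1
  rw [Finset.sum_congr rfl fun w _ => by rw [borE_coe, tor_one, mul_one]] at h1
  have h2 := sum_over_U hθ hm hF χ
  rw [h1, mul_zero] at h2
  obtain ⟨a, j, hz, hw⟩ := quartic_char (irr_isCharacter χ) (g := u hθ (1 : F) 0)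
    (orderOf_v hθ (F := F) (m := m) ▸ pow_orderOf_eq_one (u hθ (1 : F) 0) :)
  rw [v_sq hθ] at hw
  have hq1 : 1 ≤ Fintype.card F := Fintype.card_pos
  rw [he, Nat.cast_mul, Nat.cast_sub hq1, Nat.cast_one] at h2 hw
  rw [hz] at h2
  have hq0 : (Fintype.card F : ℂ) - 1 ≠ 0 := by
    rw [sub_ne_zero]; exact_mod_cast (Fintype.one_lt_card (α := F)).ne'
  have hs : (χ : ↥(G F m) → ℂ) (u hθ 0 1) = -(a : ℂ) * (Fintype.card F : ℂ) - (e : ℂ) := by
    have h3 : ((Fintype.card F : ℂ) - 1) *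
        (2 * ((χ : ↥(G F m) → ℂ) (u hθ 0 1) - (-(a : ℂ) * (Fintype.card F : ℂ) - (e : ℂ)))) = 0 := by
      linear_combination -h2
    exact sub_eq_zero.mp ((mul_eq_zero.mp ((mul_eq_zero.mp h3).resolve_left hq0)).resolve_left two_ne_zero)
  refine ⟨-a, by rw [hz]; push_cast; ring, by rw [hs]; push_cast; ring, ?_⟩
  rw [hs] at hw
  have hw' : ((Fintype.card F : ℤ) - 1) * e + (-a * Fintype.card F - e) = 2 * a + 4 * j := by exact_mod_cast hw
  obtain ⟨r, hr⟩ : ∃ r : ℤ, (Fintype.card F : ℤ) = 4 * r := by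
    obtain ⟨m', rfl⟩ : ∃ m', m = m' + 1 := ⟨m - 1, by omega⟩
    exact ⟨2 ^ (2 * m' + 1), by rw [hF]; push_cast; ring⟩
  rw [hr] at hw'
  refine ⟨r * (e : ℤ) - r * a - a - j, ?_⟩
  linarith

end

end Cfsg.Agent.Lib.KnownA.Suz
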