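import Mathlib
import Cfsg.Agent.Lib.KnownA.SuzukiTableBase

/-! Character values of the Suzuki group. -/

set_option autoImplicit false
set_option maxHeartbeats 1600000

namespace Cfsg.Agent.Lib.KnownA.Suz

open Matrix Cfsg.Lie Cfsg.Agent.Lib.Characters
open scoped Classical ComplexConjugate

set_option linter.unusedSectionVars false
set_option linter.style.haveILetI false

noncomputable section

theorem table_arith {r k₁ k₂ P : ℕ} {W SQ : ℤ} (hr : 2 ≤ r) (hk₁ : 4 * k₁ = 2 * (r * r) + 2 * r)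
    (hk₂ : 4 * k₂ + 2 * r = 2 * (r * r)) (hP : 2 * P + 2 = 2 * (r * r)) {A₁ A₂ Q : ℤ}
    (hQ : Q = 2 * ((r : ℤ) * r)) (hA₁ : A₁ = Q + 2 * r + 1) (hA₂ : A₂ = Q + 1 - 2 * r)
    (hdeg : (Q - 1) * (Q * W - (k₂ * A₁ ^ 2 + k₁ * A₂ ^ 2 + Q)) + 1 + P * (Q ^ 2 + 1) = 0)
    (hcol : Q ^ 2 * SQ - 2 * Q * W + (k₂ * A₁ ^ 2 + k₁ * A₂ ^ 2 + Q) - Q ^ 2 + 1 + P = 0) :
    W = k₂ * A₁ + k₁ * A₂ ∧ SQ = k₁ + k₂ := by
  subst hQ hA₁ hA₂
  zify at hk₁ hk₂ hP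
  set R : ℤ := (r : ℤ) * r with hR
  have hr' : (2 : ℤ) ≤ r := by exact_mod_cast hr
  have hR4 : (4 : ℤ) ≤ R := by nlinarith
  have hW : (2 * R - 1) * (2 * R) * 4 * (W - (k₂ * (2 * R + 2 * r + 1) + k₁ * (2 * R + 1 - 2 * r))) = 0 := by
    linear_combination 4 * hdeg + (2 * R - 1) * ((2 * R + 2 * r + 1) ^ 2 - 2 * R * (2 * R + 2 * r + 1)) * hk₂ +
      (2 * R - 1) * ((2 * R + 1 - 2 * r) ^ 2 - 2 * R * (2 * R + 1 - 2 * r)) * hk₁ - 2 * ((2 * R) ^ 2 + 1) * hP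
  have hW' : W - (k₂ * (2 * R + 2 * r + 1) + k₁ * (2 * R + 1 - 2 * r)) = 0 :=
    (mul_eq_zero.mp hW).resolve_left (by
      have : (0 : ℤ) < (2 * R - 1) * (2 * R) * 4 := by nlinarith
      exact this.ne')
  refine ⟨sub_eq_zero.mp hW', ?_⟩
  have hS : (2 * R) ^ 2 * 4 * (SQ - (k₁ + k₂)) = 0 := by
    linear_combination 4 * hcol + 8 * (2 * R) * hW' - (2 * R + 2 * r + 1 - 2 * R) ^ 2 * hk₂ -
      (2 * R + 1 - 2 * r - 2 * R) ^ 2 * hk₁ - 2 * hP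
  exact sub_eq_zero.mp ((mul_eq_zero.mp hS).resolve_left (by
    have : (0 : ℤ) < (2 * R) ^ 2 * 4 := by positivity
    exact this.ne'))

variable {F : Type*} [Field F] [Fintype F] [CharP F 2] {m : ℕ} {hθ : ∀ x : F, szTh m (szTh m x) = x * x}
  [Fintype ↥(G F m)] [Fintype (IrrCharacter ↥(G F m))]

/-- The arithmetic of the parameters. -/
theorem CharData.nums (D : CharData hθ) (hm : 1 ≤ m) (hF : Fintype.card F = 2 ^ (2 * m + 1)) :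
    2 ≤ 2 ^ m ∧ 2 * 2 ^ m ≤ 2 ^ m * 2 ^ m ∧ Fintype.card F = 2 * (2 ^ m * 2 ^ m) ∧
      4 * D.k₁ = 2 * (2 ^ m * 2 ^ m) + 2 * 2 ^ m ∧ 4 * D.k₂ + 2 * 2 ^ m = 2 * (2 ^ m * 2 ^ m) ∧
      2 * D.PS.card + 2 = 2 * (2 ^ m * 2 ^ m) := by
  have hr : 2 ≤ 2 ^ m := by
    calc 2 = 2 ^ 1 := by norm_num
      _ ≤ 2 ^ m := Nat.pow_le_pow_right (by norm_num) hm
  have hq : Fintype.card F = 2 * (2 ^ m * 2 ^ m) := by rw [hF]; ring
  have h1 := D.card₁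
  have h2 := D.card₂
  have h3 := D.hk₁
  have h4 := D.hk₂
  have h5 := D.cardPS
  have h6 : 2 * 2 ^ m ≤ 2 ^ m * 2 ^ m := Nat.mul_le_mul_right _ hr
  rw [hq] at h5
  refine ⟨hr, h6, hq, ?_, ?_, ?_⟩ <;> omega

theorem column (g : ↥(G F m)) :
    ∑ χ : IrrCharacter ↥(G F m), (χ : ↥(G F m) → ℂ) g * conj ((χ : ↥(G F m) → ℂ) g) = (cenCard g : ℂ) := by
  rw [sum_irr_mul_conj, if_pos (IsConj.refl g)]
  rfl

theorem column_ne {g h : ↥(G F m)} (hne : ¬ IsConj g h) :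
    ∑ χ : IrrCharacter ↥(G F m), (χ : ↥(G F m) → ℂ) g * conj ((χ : ↥(G F m) → ℂ) h) = 0 := by
  rw [sum_irr_mul_conj, if_neg hne]

theorem not_conj_of_order {g h : ↥(G F m)} (hne : orderOf g ≠ orderOf h) : ¬ IsConj g h := fun hc => by
  obtain ⟨c, rfl⟩ := isConj_iff.mp hc
  exact hne (orderOf_conj' c g).symm

theorem CharData.St_u (D : CharData hθ) {a b : F} (h : u hθ a b ≠ 1) :
    (D.St : ↥(G F m) → ℂ) (u hθ a b) = 0 := by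
  rw [D.St_val, Pi.sub_apply, ind_u_val hθ 1 h, sub_self]

theorem CharData.PS_u (D : CharData hθ) {χ : IrrCharacter ↥(G F m)} (hχ : χ ∈ D.PS) {a b : F} (h : u hθ a b ≠ 1) :
    (χ : ↥(G F m) → ℂ) (u hθ a b) = 1 := by
  obtain ⟨η, -, e⟩ := D.PS_val χ hχ
  rw [e, ind_u_val hθ η h]

theorem CharData.St_tor (D : CharData hθ) {k : Fˣ} (hk : k ≠ 1) : (D.St : ↥(G F m) → ℂ) (tor hθ k) = 1 := by
  rw [D.St_val, Pi.sub_apply, ind_tor_val hθ 1 hk]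
  simp

theorem CharData.PS_tor (D : CharData hθ) {χ : IrrCharacter ↥(G F m)} (hχ : χ ∈ D.PS) {k : Fˣ} (hk : k ≠ 1) :
    ‖(χ : ↥(G F m) → ℂ) (tor hθ k)‖ ≤ 2 := by
  obtain ⟨η, -, e⟩ := D.PS_val χ hχ
  rw [e, ind_tor_val hθ η hk]
  have h1 : ∀ l : Fˣ, ‖(η l : ℂ)‖ = 1 := fun l =>
    norm_eq_one_of_pow_eq_one' (n := Fintype.card Fˣ) Fintype.card_ne_zero
      (by rw [← Units.val_pow_eq_pow_val, ← map_pow, pow_card_eq_one, map_one, Units.val_one])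
  exact (norm_add_le _ _).trans (by rw [h1, h1]; norm_num)

theorem CharData.St_fpf (D : CharData hθ) {g : ↥(G F m)} (hg : ∀ o, act hθ g o ≠ o) :
    (D.St : ↥(G F m) → ℂ) g = -1 := by
  rw [D.St_val, Pi.sub_apply, series_fpf hθ 1 hg, zero_sub]

theorem CharData.PS_fpf (D : CharData hθ) {χ : IrrCharacter ↥(G F m)} (hχ : χ ∈ D.PS) {g : ↥(G F m)}
    (hg : ∀ o, act hθ g o ≠ o) : (χ : ↥(G F m) → ℂ) g = 0 := by
  obtain ⟨η, -, e⟩ := D.PS_val χ hχ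
  rw [e, series_fpf hθ η hg]

theorem CharData.cusp_vals (D : CharData hθ) (hm : 1 ≤ m) (hF : Fintype.card F = 2 ^ (2 * m + 1)) :
    (∀ χ ∈ D.S₁, (χ : ↥(G F m) → ℂ) (u hθ 0 1) = (Fintype.card F : ℂ) - (Nat.card D.A₁ : ℂ) ∧
      (χ : ↥(G F m) → ℂ) (u hθ 1 0) + conj ((χ : ↥(G F m) → ℂ) (u hθ 1 0)) = -2) ∧
    (∀ χ ∈ D.S₂, (χ : ↥(G F m) → ℂ) (u hθ 0 1) = (Fintype.card F : ℂ) - (Nat.card D.A₂ : ℂ) ∧
      (χ : ↥(G F m) → ℂ) (u hθ 1 0) + conj ((χ : ↥(G F m) → ℂ) (u hθ 1 0)) = -2) ∧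
    (∀ χ ∈ D.R, (χ : ↥(G F m) → ℂ) (u hθ 0 1) = -(2 : ℂ) ^ m ∧
      (χ : ↥(G F m) → ℂ) (u hθ 1 0) + conj ((χ : ↥(G F m) → ℂ) (u hθ 1 0)) = 0) := by
  obtain ⟨hr, hmul, hq, hk₁, hk₂, hP⟩ := D.nums hm hF
  have hex : ∀ χ : IrrCharacter ↥(G F m), ∃ a : ℤ, ∀ e : ℕ, (χ ∈ D.S₁ ∨ χ ∈ D.S₂ ∨ χ ∈ D.R) →
      (χ : ↥(G F m) → ℂ) 1 = (((Fintype.card F - 1) * e : ℕ) : ℂ) →
      (χ : ↥(G F m) → ℂ) (u hθ 1 0) + conj ((χ : ↥(G F m) → ℂ) (u hθ 1 0)) = -2 * (a : ℂ) ∧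
      (χ : ↥(G F m) → ℂ) (u hθ 0 1) = (a : ℂ) * (Fintype.card F : ℂ) - (e : ℂ) ∧ 2 ∣ (e : ℤ) + a := by
    intro χ
    by_cases h : (χ ∈ D.S₁ ∨ χ ∈ D.S₂ ∨ χ ∈ D.R) ∧ ∃ e : ℕ, (χ : ↥(G F m) → ℂ) 1 = (((Fintype.card F - 1) * e : ℕ) : ℂ)
    · obtain ⟨hc, e, he⟩ := h
      obtain ⟨a, ha⟩ := cusp_U hθ hm hF χ (D.cusp χ hc) he
      refine ⟨a, fun e' _ he' => ?_⟩
      have h1 : (Fintype.card F - 1) * e' = (Fintype.card F - 1) * e := Nat.cast_injective (he'.symm.trans he)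
      rwa [Nat.eq_of_mul_eq_mul_left (by omega) h1]
    · exact ⟨0, fun e h1 h2 => absurd ⟨h1, e, h2⟩ h⟩
  choose a ha using hex
  have a₁ := fun χ (h : χ ∈ D.S₁) => ha χ (Nat.card D.A₁) (Or.inl h) (D.deg₁ χ h)
  have a₂ := fun χ (h : χ ∈ D.S₂) => ha χ (Nat.card D.A₂) (Or.inr (Or.inl h)) (D.deg₂ χ h)
  have aR := fun χ (h : χ ∈ D.R) => ha χ (2 ^ m) (Or.inr (Or.inr h)) (D.degR χ h)
  have hs : u hθ (0 : F) 1 ≠ 1 := fun e => by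
    have := orderOf_s hθ (F := F) (m := m)
    rw [e, orderOf_one] at this
    norm_num at this
  set P := D.PS.card with hPdef
  set q := (Fintype.card F : ℂ) with hqdef
  have hqc : conj q = q := Complex.conj_natCast _
  have hcol := column (F := F) (m := m) (u hθ (0 : F) 1)
  rw [D.decomp, cenCard_s hθ hF, trivIrr_apply, D.St_u hs,
    Finset.sum_congr (rfl : D.PS = D.PS) fun χ hχ => show (χ : ↥(G F m) → ℂ) (u hθ 0 1) * conj ((χ : ↥(G F m) → ℂ) (u hθ 0 1)) = 1 by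
      rw [D.PS_u hχ hs, map_one, mul_one],
    Finset.sum_congr (rfl : D.S₁ = D.S₁) fun χ hχ => show (χ : ↥(G F m) → ℂ) (u hθ 0 1) * conj ((χ : ↥(G F m) → ℂ) (u hθ 0 1)) =
      q ^ 2 * ((a χ ^ 2 : ℤ) : ℂ) - 2 * q * (Nat.card D.A₁ : ℂ) * ((a χ : ℤ) : ℂ) + (Nat.card D.A₁ : ℂ) ^ 2 by
      rw [(a₁ χ hχ).2.1, map_sub, map_mul, hqc, map_intCast, map_natCast]; push_cast; ring,
    Finset.sum_congr (rfl : D.S₂ = D.S₂) fun χ hχ => show (χ : ↥(G F m) → ℂ) (u hθ 0 1) * conj ((χ : ↥(G F m) → ℂ) (u hθ 0 1)) =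
      q ^ 2 * ((a χ ^ 2 : ℤ) : ℂ) - 2 * q * (Nat.card D.A₂ : ℂ) * ((a χ : ℤ) : ℂ) + (Nat.card D.A₂ : ℂ) ^ 2 by
      rw [(a₂ χ hχ).2.1, map_sub, map_mul, hqc, map_intCast, map_natCast]; push_cast; ring,
    Finset.sum_congr (rfl : D.R = D.R) fun χ hχ => show (χ : ↥(G F m) → ℂ) (u hθ 0 1) * conj ((χ : ↥(G F m) → ℂ) (u hθ 0 1)) =
      q ^ 2 * ((a χ ^ 2 : ℤ) : ℂ) - 2 * q * ((2 ^ m : ℕ) : ℂ) * ((a χ : ℤ) : ℂ) + ((2 ^ m : ℕ) : ℂ) ^ 2 by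
      rw [(aR χ hχ).2.1, map_sub, map_mul, hqc, map_intCast, map_natCast]; push_cast; ring] at hcol
  have hdeg := column_ne (F := F) (m := m) (g := u hθ (0 : F) 1) (h := 1)
    (not_conj_of_order (by rw [orderOf_s hθ, orderOf_one]; norm_num))
  rw [D.decomp, trivIrr_apply, trivIrr_apply, D.St_u hs,
    Finset.sum_congr (rfl : D.PS = D.PS) fun χ hχ => show (χ : ↥(G F m) → ℂ) (u hθ 0 1) * conj ((χ : ↥(G F m) → ℂ) 1) = q ^ 2 + 1 by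
      rw [D.PS_u hχ hs, D.degPS χ hχ, Complex.conj_natCast, one_mul]; push_cast; ring,
    Finset.sum_congr (rfl : D.S₁ = D.S₁) fun χ hχ => show (χ : ↥(G F m) → ℂ) (u hθ 0 1) * conj ((χ : ↥(G F m) → ℂ) 1) =
      (q - 1) * q * (Nat.card D.A₁ : ℂ) * ((a χ : ℤ) : ℂ) - (q - 1) * (Nat.card D.A₁ : ℂ) ^ 2 by
      rw [(a₁ χ hχ).2.1, D.deg₁ χ hχ, Complex.conj_natCast, Nat.cast_mul, Nat.cast_sub Fintype.card_pos]; push_cast; ring,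
    Finset.sum_congr (rfl : D.S₂ = D.S₂) fun χ hχ => show (χ : ↥(G F m) → ℂ) (u hθ 0 1) * conj ((χ : ↥(G F m) → ℂ) 1) =
      (q - 1) * q * (Nat.card D.A₂ : ℂ) * ((a χ : ℤ) : ℂ) - (q - 1) * (Nat.card D.A₂ : ℂ) ^ 2 by
      rw [(a₂ χ hχ).2.1, D.deg₂ χ hχ, Complex.conj_natCast, Nat.cast_mul, Nat.cast_sub Fintype.card_pos]; push_cast; ring,
    Finset.sum_congr (rfl : D.R = D.R) fun χ hχ => show (χ : ↥(G F m) → ℂ) (u hθ 0 1) * conj ((χ : ↥(G F m) → ℂ) 1) =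
      (q - 1) * q * ((2 ^ m : ℕ) : ℂ) * ((a χ : ℤ) : ℂ) - (q - 1) * ((2 ^ m : ℕ) : ℂ) ^ 2 by
      rw [(aR χ hχ).2.1, D.degR χ hχ, Complex.conj_natCast, Nat.cast_mul, Nat.cast_sub Fintype.card_pos]; push_cast; ring]
    at hdeg
  simp only [Finset.sum_const, nsmul_eq_mul, Finset.sum_sub_distrib, Finset.sum_add_distrib, ← Finset.mul_sum,
    ← Int.cast_sum, D.cardS₁, D.cardS₂, D.cardR, map_one, mul_one, mul_zero, zero_mul, ← hPdef] at hcol hdeg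
  set X := ∑ χ ∈ D.S₁, a χ with hX
  set Y := ∑ χ ∈ D.S₂, a χ with hY
  set Z := ∑ χ ∈ D.R, a χ with hZ
  set X2 := ∑ χ ∈ D.S₁, a χ ^ 2 with hX2
  set Y2 := ∑ χ ∈ D.S₂, a χ ^ 2 with hY2
  set Z2 := ∑ χ ∈ D.R, a χ ^ 2 with hZ2
  have hqq : q = 2 * ((2 : ℂ) ^ m * 2 ^ m) := by rw [hqdef, hq]; push_cast; ring
  have hA₁ : (Nat.card D.A₁ : ℤ) = 2 * (((2 ^ m : ℕ) : ℤ) * (2 ^ m : ℕ)) + 2 * (2 ^ m : ℕ) + 1 := by
    have := D.card₁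
    zify at this
    push_cast
    linarith
  have hA₂ : (Nat.card D.A₂ : ℤ) = 2 * (((2 ^ m : ℕ) : ℤ) * (2 ^ m : ℕ)) + 1 - 2 * (2 ^ m : ℕ) := by
    have := D.card₂
    zify at this
    push_cast
    linarith
  have hQ : (Fintype.card F : ℤ) = 2 * (((2 ^ m : ℕ) : ℤ) * (2 ^ m : ℕ)) := by rw [hq]; push_cast; ring
  have hsol := table_arith (r := 2 ^ m) (k₁ := D.k₁) (k₂ := D.k₂) (P := P)
    (W := (Nat.card D.A₁ : ℤ) * X + (Nat.card D.A₂ : ℤ) * Y + ((2 ^ m : ℕ) : ℤ) * Z) (SQ := X2 + Y2 + Z2)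
    hr hk₁ hk₂ hP (A₁ := Nat.card D.A₁) (A₂ := Nat.card D.A₂) (Q := Fintype.card F) hQ
    (by rw [hA₁, hQ]) (by rw [hA₂, hQ]) (by
      apply Int.cast_injective (α := ℂ)
      push_cast at hdeg ⊢
      rw [← hqdef]
      linear_combination hdeg - (q - 1) * hqq) (by
      apply Int.cast_injective (α := ℂ)
      push_cast at hcol ⊢
      rw [← hqdef]
      linear_combination hcol + hqq)
  obtain ⟨hW, hSQ⟩ := hsol
  have hodd : ∀ (n : ℕ) (x : ℤ), ¬ 2 ∣ n → 2 ∣ (n : ℤ) + x → 1 ≤ x ^ 2 := by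
    intro n x hn hx
    have : x ≠ 0 := fun h0 => hn (Int.natCast_dvd_natCast.mp (by simpa [h0] using hx))
    nlinarith [mul_self_pos.mpr this]
  have ho₁ : ¬ 2 ∣ Nat.card D.A₁ := by have := D.hk₁; omega
  have ho₂ : ¬ 2 ∣ Nat.card D.A₂ := by have := D.hk₂; omega
  have s₁ : ∀ χ ∈ D.S₁, (1 : ℤ) ≤ a χ ^ 2 := fun χ h => hodd _ _ ho₁ (a₁ χ h).2.2
  have s₂ : ∀ χ ∈ D.S₂, (1 : ℤ) ≤ a χ ^ 2 := fun χ h => hodd _ _ ho₂ (a₂ χ h).2.2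
  have b₁ : (D.k₂ : ℤ) ≤ X2 := by
    have := Finset.card_nsmul_le_sum D.S₁ (fun χ => a χ ^ 2) 1 s₁
    simpa [D.cardS₁] using this
  have b₂ : (D.k₁ : ℤ) ≤ Y2 := by
    have := Finset.card_nsmul_le_sum D.S₂ (fun χ => a χ ^ 2) 1 s₂
    simpa [D.cardS₂] using this
  have b₃ : 0 ≤ Z2 := Finset.sum_nonneg fun χ _ => sq_nonneg _
  have hZ0 : ∀ χ ∈ D.R, a χ = 0 := fun χ hχ => by
    have := (Finset.sum_eq_zero_iff_of_nonneg fun ψ _ => sq_nonneg (a ψ)).mp (show Z2 = 0 by linarith) χ hχ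
    simpa using this
  have hZz : Z = 0 := Finset.sum_eq_zero hZ0
  have hle₁ : ∀ χ ∈ D.S₁, a χ ≤ 1 := by
    intro χ hχ
    have h1 := Finset.sum_le_sum (s := D.S₁.erase χ) (f := fun _ => (1 : ℤ)) (g := fun ψ => a ψ ^ 2)
      fun ψ hψ => s₁ ψ (Finset.mem_of_mem_erase hψ)
    have h2 := Finset.add_sum_erase D.S₁ (fun ψ => a ψ ^ 2) hχ
    rw [Finset.sum_const, Finset.card_erase_of_mem hχ, D.cardS₁, nsmul_eq_mul, mul_one] at h1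
    have h3 : 1 ≤ D.k₂ := D.cardS₁ ▸ Finset.card_pos.mpr ⟨χ, hχ⟩
    rw [Nat.cast_sub h3, Nat.cast_one] at h1
    have h4 : a χ ^ 2 ≤ 1 := by linarith
    nlinarith
  have hle₂ : ∀ χ ∈ D.S₂, a χ ≤ 1 := by
    intro χ hχ
    have h1 := Finset.sum_le_sum (s := D.S₂.erase χ) (f := fun _ => (1 : ℤ)) (g := fun ψ => a ψ ^ 2)
      fun ψ hψ => s₂ ψ (Finset.mem_of_mem_erase hψ)
    have h2 := Finset.add_sum_erase D.S₂ (fun ψ => a ψ ^ 2) hχ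
    rw [Finset.sum_const, Finset.card_erase_of_mem hχ, D.cardS₂, nsmul_eq_mul, mul_one] at h1
    have h3 : 1 ≤ D.k₁ := D.cardS₂ ▸ Finset.card_pos.mpr ⟨χ, hχ⟩
    rw [Nat.cast_sub h3, Nat.cast_one] at h1
    have h4 : a χ ^ 2 ≤ 1 := by linarith
    nlinarith
  have hX1 : X ≤ D.k₂ := by
    have := Finset.sum_le_sum hle₁
    simpa [D.cardS₁] using this
  have hY1 : Y ≤ D.k₁ := by
    have := Finset.sum_le_sum hle₂
    simpa [D.cardS₂] using this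
  rw [hZz, mul_zero, add_zero] at hW
  have hA₁p : (0 : ℤ) < Nat.card D.A₁ := by exact_mod_cast Nat.card_pos
  have hA₂p : (0 : ℤ) < Nat.card D.A₂ := by exact_mod_cast Nat.card_pos
  have hXe : X = D.k₂ := by nlinarith
  have hYe : Y = D.k₁ := by nlinarith
  have hone₁ : ∀ χ ∈ D.S₁, a χ = 1 :=
    (Finset.sum_eq_sum_iff_of_le hle₁).mp (by rw [← hX, hXe]; simp [D.cardS₁])
  have hone₂ : ∀ χ ∈ D.S₂, a χ = 1 :=
    (Finset.sum_eq_sum_iff_of_le hle₂).mp (by rw [← hY, hYe]; simp [D.cardS₂])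
  refine ⟨fun χ h => ⟨?_, ?_⟩, fun χ h => ⟨?_, ?_⟩, fun χ h => ⟨?_, ?_⟩⟩
  · rw [(a₁ χ h).2.1, hone₁ χ h]; simp [hqdef]
  · rw [(a₁ χ h).1, hone₁ χ h]; simp
  · rw [(a₂ χ h).2.1, hone₂ χ h]; simp [hqdef]
  · rw [(a₂ χ h).1, hone₂ χ h]; simp
  · rw [(aR χ h).2.1, hZ0 χ h]; simp
  · rw [(aR χ h).1, hZ0 χ h]; simp

theorem CharData.same_degree (D : CharData hθ) (hm : 1 ≤ m) (hF : Fintype.card F = 2 ^ (2 * m + 1))
    {χ ψ : IrrCharacter ↥(G F m)} (h : (χ : ↥(G F m) → ℂ) 1 = (ψ : ↥(G F m) → ℂ) 1) :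
    (χ = trivIrr _ → ψ = trivIrr _) ∧ (χ = D.St → ψ = D.St) ∧ (χ ∈ D.PS → ψ ∈ D.PS) ∧
      (χ ∈ D.S₁ → ψ ∈ D.S₁) ∧ (χ ∈ D.S₂ → ψ ∈ D.S₂) ∧ (χ ∈ D.R → ψ ∈ D.R) := by
  obtain ⟨hr, hmul, hq, -, -, -⟩ := D.nums hm hF
  have c₁ := D.card₁
  have c₂ := D.card₂
  set Q := Fintype.card F with hQ
  -- the six degrees, with a code
  let deg : Fin 6 → ℕ := ![1, Q * Q, Q * Q + 1, (Q - 1) * Nat.card D.A₁, (Q - 1) * Nat.card D.A₂, (Q - 1) * 2 ^ m]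
  have hcode : ∀ φ : IrrCharacter ↥(G F m), ∃ i : Fin 6, (φ : ↥(G F m) → ℂ) 1 = (deg i : ℂ) ∧
      ((φ = trivIrr _ ∧ i = 0) ∨ (φ = D.St ∧ i = 1) ∨ (φ ∈ D.PS ∧ i = 2) ∨ (φ ∈ D.S₁ ∧ i = 3) ∨
        (φ ∈ D.S₂ ∧ i = 4) ∨ (φ ∈ D.R ∧ i = 5)) := by
    intro φ
    rcases D.mem_cases φ with h | h | h | h | h | h
    · exact ⟨0, by rw [h]; simp [deg], Or.inl ⟨h, rfl⟩⟩
    · exact ⟨1, by rw [h, D.degSt]; rfl, Or.inr (Or.inl ⟨h, rfl⟩)⟩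
    · exact ⟨2, by rw [D.degPS φ h]; rfl, Or.inr (Or.inr (Or.inl ⟨h, rfl⟩))⟩
    · exact ⟨3, by rw [D.deg₁ φ h]; rfl, Or.inr (Or.inr (Or.inr (Or.inl ⟨h, rfl⟩)))⟩
    · exact ⟨4, by rw [D.deg₂ φ h]; rfl, Or.inr (Or.inr (Or.inr (Or.inr (Or.inl ⟨h, rfl⟩))))⟩
    · exact ⟨5, by rw [D.degR φ h]; rfl, Or.inr (Or.inr (Or.inr (Or.inr (Or.inr ⟨h, rfl⟩))))⟩
  have hQ8 : 8 ≤ Q := by omega
  have hQQ : 8 * Q ≤ Q * Q := Nat.mul_le_mul_right _ hQ8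
  have h2 : ∀ x : ℕ, (Q - 1) * x ≠ 1 := fun x e => by
    have := Nat.eq_one_of_mul_eq_one_right e
    omega
  have h3 : ∀ x : ℕ, (Q - 1) * x ≠ Q * Q ∧ (Q - 1) * x ≠ Q * Q + 1 := by
    intro x
    have e : Q * Q = (Q - 1) * (Q + 1) + 1 := by
      obtain ⟨s, hs⟩ : ∃ s, Q = s + 1 := ⟨Q - 1, by omega⟩
      rw [hs, Nat.add_sub_cancel]; ring
    constructor <;> intro h'
    · have h5 : Q - 1 ∣ 1 := (Nat.dvd_add_right (dvd_mul_right _ (Q + 1))).mp (e ▸ Dvd.intro x h')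
      have := Nat.le_of_dvd one_pos h5
      omega
    · rw [e] at h'
      have h5 : Q - 1 ∣ 2 := (Nat.dvd_add_right (dvd_mul_right _ (Q + 1))).mp (Dvd.intro x (h'.trans (by ring)))
      have := Nat.le_of_dvd two_pos h5
      omega
  have hQ1 : 0 < Q - 1 := by omega
  have hinj : Function.Injective deg := by
    have n34 : (Q - 1) * Nat.card D.A₁ ≠ (Q - 1) * Nat.card D.A₂ := fun e => by
      have := Nat.eq_of_mul_eq_mul_left hQ1 e; omega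
    have n35 : (Q - 1) * Nat.card D.A₁ ≠ (Q - 1) * 2 ^ m := fun e => by
      have := Nat.eq_of_mul_eq_mul_left hQ1 e; omega
    have n45 : (Q - 1) * Nat.card D.A₂ ≠ (Q - 1) * 2 ^ m := fun e => by
      have := Nat.eq_of_mul_eq_mul_left hQ1 e; omega
    intro i j hij
    fin_cases i <;> fin_cases j <;>
      first
        | rfl
        | (exfalso
           dsimp [deg] at hij
           first
             | omega
             | exact h2 _ hij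
             | exact h2 _ hij.symm
             | exact (h3 _).1 hij
             | exact (h3 _).1 hij.symm
             | exact (h3 _).2 hij
             | exact (h3 _).2 hij.symm
             | exact n34 hij
             | exact n34 hij.symm
             | exact n35 hij
             | exact n35 hij.symm
             | exact n45 hij
             | exact n45 hij.symm)
  obtain ⟨i, hi, hi'⟩ := hcode χ
  obtain ⟨j, hj, hj'⟩ := hcode ψ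
  have hij : i = j := hinj (Nat.cast_injective (hi.symm.trans (h.trans hj)))
  subst hij
  have huniq : ∀ φ : IrrCharacter ↥(G F m), ∀ i' : Fin 6, (φ : ↥(G F m) → ℂ) 1 = (deg i' : ℂ) →
      (φ : ↥(G F m) → ℂ) 1 = (deg i : ℂ) → i' = i := fun φ i' a b => hinj (Nat.cast_injective (a.symm.trans b))
  refine ⟨fun e => ?_, fun e => ?_, fun e => ?_, fun e => ?_, fun e => ?_, fun e => ?_⟩
  · have := huniq χ 0 (by rw [e]; simp [deg]) hi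
    subst this; simpa using hj'
  · have := huniq χ 1 (by rw [e, D.degSt]; rfl) hi
    subst this; simpa using hj'
  · have := huniq χ 2 (by rw [D.degPS χ e]; rfl) hi
    subst this; simpa using hj'
  · have := huniq χ 3 (by rw [D.deg₁ χ e]; rfl) hi
    subst this; simpa using hj'
  · have := huniq χ 4 (by rw [D.deg₂ χ e]; rfl) hi
    subst this; simpa using hj'
  · have := huniq χ 5 (by rw [D.degR χ e]; rfl) hi
    subst this; simpa using hj'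

end

end Cfsg.Agent.Lib.KnownA.Suz
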