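import Mathlib
import Cfsg.Agent.Lib.KnownA.SuzukiTable

/-! Character values of the Suzuki group: exceptional families and tori. -/

set_option autoImplicit false
set_option maxHeartbeats 1600000

namespace Cfsg.Agent.Lib.KnownA.Suz

open Matrix Cfsg.Lie Cfsg.Agent.Lib.Characters
open scoped Classical ComplexConjugate

set_option linter.unusedSectionVars false
set_option linter.style.haveILetI false

noncomputable section

variable {F : Type*} [Field F] [Fintype F] [CharP F 2] {m : ℕ} {hθ : ∀ x : F, szTh m (szTh m x) = x * x}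
  [Fintype ↥(G F m)] [Fintype (IrrCharacter ↥(G F m))]

theorem fam_agree_of (hm : 1 ≤ m) (hF : Fintype.card F = 2 ^ (2 * m + 1)) {A : Subgroup ↥(G F m)}
    (hA : IsTorus hθ A) {k : ℕ} (hk : Nat.card A = 4 * k + 1) (So : Finset (IrrCharacter ↥(G F m)))
    (hSo : So.card = k)
    (hrest : ∀ χ : IrrCharacter ↥(G F m), χ ∈ So ∨ (∀ ψ : IrrCharacter ↥(G F m),
        (ψ : ↥(G F m) → ℂ) 1 = (χ : ↥(G F m) → ℂ) 1 → ∀ y ∈ A, y ≠ 1 → (ψ : ↥(G F m) → ℂ) y = 0) ∨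
      ∃ T : Finset (IrrCharacter ↥(G F m)), T.card ≤ 2 ∧ χ ∈ T ∧ ∀ ψ : IrrCharacter ↥(G F m),
        (ψ : ↥(G F m) → ℂ) 1 = (χ : ↥(G F m) → ℂ) 1 → ψ ∈ T)
    {χ ψ : IrrCharacter ↥(G F m)} (hχ : χ ∈ So) (hψ : ψ ∈ So) {g : ↥(G F m)}
    (hg : ∀ x : ↥(G F m), x⁻¹ * g * x ∈ A → x⁻¹ * g * x = 1) :
    (χ : ↥(G F m) → ℂ) g = (ψ : ↥(G F m) → ℂ) g := by
  rcases Nat.lt_or_ge k 2 with hk1 | hk2
  · rw [Finset.card_le_one.mp (show So.card ≤ 1 by omega) χ hχ ψ hψ]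
  have hk3 : 3 ≤ k := by
    rcases Nat.lt_or_ge k 3 with h | h
    · exfalso
      have h2 : k = 2 := by omega
      exact not_three_dvd_card hθ hF ((show 3 ∣ Nat.card A by rw [hk, h2]; norm_num).trans (Subgroup.card_subgroup_dvd_card A))
    · exact h
  obtain ⟨A₁, A₂, -, -, -, -, -, hN, -⟩ := exists_tori hθ hm hF
  haveI := torus_cyclic hθ hF hA
  set E := torDatum hθ hF hA with hE
  have hab : ∀ a b : E.K, a * b = b * a := fun a b => by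
    letI : CommGroup ↥A := IsCyclic.commGroup
    exact @mul_comm ↥A _ a b
  have he : E.e = 4 := by
    have := E.card_M
    rw [show Nat.card E.M = 4 * Nat.card A from hN A hA, show Nat.card E.K = Nat.card A from rfl, mul_comm 4] at this
    exact (Nat.eq_of_mul_eq_mul_left Nat.card_pos this).symm
  have hn : E.n = k := by
    have := KnownA.n_eq E hab
    rw [he, show Nat.card E.K = 4 * k + 1 from hk] at this
    omega
  have hagree : ∀ (c c' : E.Fam) (h : ↥(G F m)), (∀ x : ↥(G F m), x⁻¹ * h * x ∈ A → x⁻¹ * h * x = 1) →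
      (E.theta c : ↥(G F m) → ℂ) h = (E.theta c' : ↥(G F m) → ℂ) h := by
    intro c c' h hh
    have e := congrFun (E.tau_sub c c') h
    simp only [Pi.sub_apply, Pi.smul_apply, smul_eq_mul, E.tau_apply_eq_zero c hh, E.tau_apply_eq_zero c' hh,
      sub_zero] at e
    have hε : (E.eps : ℂ) ≠ 0 := by rcases E.eps_eq with h1 | h1 <;> rw [h1] <;> norm_num
    exact sub_eq_zero.mp ((mul_eq_zero.mp e.symm).resolve_left hε)
  have hdeg : ∀ c c' : E.Fam, (E.theta c : ↥(G F m) → ℂ) 1 = (E.theta c' : ↥(G F m) → ℂ) 1 := fun c c' =>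
    hagree c c' 1 fun x _ => by group
  have hone : ∀ c c' : E.Fam, (∀ y ∈ A, y ≠ 1 → (E.theta c : ↥(G F m) → ℂ) y = 0) →
      (∀ y ∈ A, y ≠ 1 → (E.theta c' : ↥(G F m) → ℂ) y = 0) → c = c' := by
    intro c c' h1 h2
    apply E.theta_injective
    apply Subtype.ext
    funext h
    by_cases hh : ∀ x : ↥(G F m), x⁻¹ * h * x ∈ A → x⁻¹ * h * x = 1
    · exact hagree c c' h hh
    · push Not at hh
      obtain ⟨x, hx, hx1⟩ := hh
      have e1 := IsCharacter.conj_apply (irr_isCharacter (E.theta c)) h x⁻¹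
      have e2 := IsCharacter.conj_apply (irr_isCharacter (E.theta c')) h x⁻¹
      rw [inv_inv] at e1 e2
      rw [← e1, ← e2, h1 _ hx hx1, h2 _ hx hx1]
  have himg : Finset.univ.image E.theta = So := by
    have hc : (Finset.univ.image E.theta).card = k := by
      rw [Finset.card_image_of_injective _ E.theta_injective, Finset.card_univ]
      exact hn
    refine Finset.eq_of_subset_of_card_le (fun φ hφ => ?_) (by omega)
    obtain ⟨c, -, rfl⟩ := Finset.mem_image.mp hφ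
    rcases hrest (E.theta c) with h | h | ⟨T, hT, hcT, hTd⟩
    · exact h
    · exfalso
      have hall : ∀ c' : E.Fam, c' = c := fun c' => hone c' c (h _ (hdeg c' c)) (h _ rfl)
      have : E.n ≤ 1 := Fintype.card_le_one_iff_subsingleton.mpr ⟨fun a b => (hall a).trans (hall b).symm⟩
      omega
    · exfalso
      have h1 : Finset.univ.image E.theta ⊆ T := fun φ' hφ' => by
        obtain ⟨c', -, rfl⟩ := Finset.mem_image.mp hφ'
        exact hTd _ (hdeg c' c)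
      have := Finset.card_le_card h1
      omega
  rw [← himg] at hχ hψ
  obtain ⟨c, -, rfl⟩ := Finset.mem_image.mp hχ
  obtain ⟨c', -, rfl⟩ := Finset.mem_image.mp hψ
  exact hagree c c' g hg

theorem CharData.mem_cases' (D : CharData hθ) (hm : 1 ≤ m) (hF : Fintype.card F = 2 ^ (2 * m + 1))
    (χ : IrrCharacter ↥(G F m)) :
    χ ∈ D.S₁ ∨ χ ∈ D.S₂ ∨ (∃ T : Finset (IrrCharacter ↥(G F m)), T.card ≤ 2 ∧ χ ∈ T ∧
      ∀ ψ : IrrCharacter ↥(G F m), (ψ : ↥(G F m) → ℂ) 1 = (χ : ↥(G F m) → ℂ) 1 → ψ ∈ T) ∨ χ ∈ D.PS := by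
  rcases D.mem_cases χ with h | h | h | h | h | h
  · exact Or.inr (Or.inr (Or.inl ⟨{trivIrr _}, by simp, by simp [h],
      fun ψ e => Finset.mem_singleton.mpr ((D.same_degree hm hF e.symm).1 h)⟩))
  · exact Or.inr (Or.inr (Or.inl ⟨{D.St}, by simp, by simp [h],
      fun ψ e => Finset.mem_singleton.mpr ((D.same_degree hm hF e.symm).2.1 h)⟩))
  · exact Or.inr (Or.inr (Or.inr h))
  · exact Or.inl h
  · exact Or.inr (Or.inl h)
  · exact Or.inr (Or.inr (Or.inl ⟨D.R, D.cardR.le, h, fun ψ e => (D.same_degree hm hF e.symm).2.2.2.2.2 h⟩))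

theorem CharData.agree₂ (D : CharData hθ) (hm : 1 ≤ m) (hF : Fintype.card F = 2 ^ (2 * m + 1))
    {χ ψ : IrrCharacter ↥(G F m)} (hχ : χ ∈ D.S₂) (hψ : ψ ∈ D.S₂) {g : ↥(G F m)}
    (hg : ∀ x : ↥(G F m), x⁻¹ * g * x ∈ D.A₁ → x⁻¹ * g * x = 1) :
    (χ : ↥(G F m) → ℂ) g = (ψ : ↥(G F m) → ℂ) g := by
  refine fam_agree_of hm hF D.torus₁ D.hk₁ D.S₂ D.cardS₂ (fun φ => ?_) hχ hψ hg
  rcases D.mem_cases' hm hF φ with h | h | h | h
  · exact Or.inr (Or.inl fun ψ' e => D.van₁ ψ' ((D.same_degree hm hF e.symm).2.2.2.1 h))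
  · exact Or.inl h
  · exact Or.inr (Or.inr h)
  · exact Or.inr (Or.inl fun ψ' e y hy hy1 =>
      D.PS_fpf ((D.same_degree hm hF e.symm).2.2.1 h) (torus_mem_fpf hθ D.torus₁ hy hy1))

theorem CharData.agree₁ (D : CharData hθ) (hm : 1 ≤ m) (hF : Fintype.card F = 2 ^ (2 * m + 1))
    {χ ψ : IrrCharacter ↥(G F m)} (hχ : χ ∈ D.S₁) (hψ : ψ ∈ D.S₁) {g : ↥(G F m)}
    (hg : ∀ x : ↥(G F m), x⁻¹ * g * x ∈ D.A₂ → x⁻¹ * g * x = 1) :
    (χ : ↥(G F m) → ℂ) g = (ψ : ↥(G F m) → ℂ) g := by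
  refine fam_agree_of hm hF D.torus₂ D.hk₂ D.S₁ D.cardS₁ (fun φ => ?_) hχ hψ hg
  rcases D.mem_cases' hm hF φ with h | h | h | h
  · exact Or.inl h
  · exact Or.inr (Or.inl fun ψ' e => D.van₂ ψ' ((D.same_degree hm hF e.symm).2.2.2.2.1 h))
  · exact Or.inr (Or.inr h)
  · exact Or.inr (Or.inl fun ψ' e y hy hy1 =>
      D.PS_fpf ((D.same_degree hm hF e.symm).2.2.1 h) (torus_mem_fpf hθ D.torus₂ hy hy1))

theorem CharData.v_vals (D : CharData hθ) (hm : 1 ≤ m) (hF : Fintype.card F = 2 ^ (2 * m + 1)) :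
    (∀ χ ∈ D.S₁, (χ : ↥(G F m) → ℂ) (u hθ 1 0) = -1) ∧ (∀ χ ∈ D.S₂, (χ : ↥(G F m) → ℂ) (u hθ 1 0) = -1) ∧
      ∃ ψ ψ' : IrrCharacter ↥(G F m), ψ ≠ ψ' ∧ D.R = {ψ, ψ'} ∧
        (∀ g, (ψ' : ↥(G F m) → ℂ) g = conj ((ψ : ↥(G F m) → ℂ) g)) ∧
        (ψ : ↥(G F m) → ℂ) (u hθ 1 0) ^ 2 = -((2 : ℂ) ^ m * 2 ^ m) ∧
        (ψ' : ↥(G F m) → ℂ) (u hθ 1 0) = -(ψ : ↥(G F m) → ℂ) (u hθ 1 0) := by
  obtain ⟨hr, hmul, hq, hk₁, hk₂, hP⟩ := D.nums hm hF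
  obtain ⟨c₁, c₂, cR⟩ := D.cusp_vals hm hF
  have hv4 := orderOf_v hθ (F := F) (m := m)
  have hv1 : u hθ (1 : F) 0 ≠ 1 := fun e => by rw [e, orderOf_one] at hv4; norm_num at hv4
  let cj : IrrCharacter ↥(G F m) → IrrCharacter ↥(G F m) := fun χ => ⟨_, IsIrrCharacter.conjugate χ.2⟩
  have hcj : ∀ (χ : IrrCharacter ↥(G F m)) g, (cj χ : ↥(G F m) → ℂ) g = conj ((χ : ↥(G F m) → ℂ) g) := fun χ g => rfl
  have hcj1 : ∀ χ : IrrCharacter ↥(G F m), (χ : ↥(G F m) → ℂ) 1 = (cj χ : ↥(G F m) → ℂ) 1 := fun χ => by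
    obtain ⟨d, -, hd⟩ := IsIrrCharacter.exists_apply_one χ.2
    rw [hcj, hd, Complex.conj_natCast]
  have hnot : ∀ A : Subgroup ↥(G F m), IsTorus hθ A → ∀ x : ↥(G F m),
      x⁻¹ * u hθ 1 0 * x ∈ A → x⁻¹ * u hθ 1 0 * x = 1 := fun A hA x hx => by
    exfalso
    have h := Subgroup.orderOf_dvd_natCard A hx
    rw [show orderOf (x⁻¹ * u hθ 1 0 * x) = 4 by
      have := orderOf_conj' x⁻¹ (u hθ (1 : F) 0)
      rw [inv_inv, hv4] at this
      exact this] at h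
    exact ss_not_two_dvd hθ hF (Or.inr hA) ((show 2 ∣ 4 by norm_num).trans h)
  have S₁v : ∀ χ ∈ D.S₁, (χ : ↥(G F m) → ℂ) (u hθ 1 0) = -1 := by
    intro χ hχ
    have h := D.agree₁ hm hF ((D.same_degree hm hF (hcj1 χ)).2.2.2.1 hχ) hχ (hnot _ D.torus₂)
    rw [hcj] at h
    have := (c₁ χ hχ).2
    rw [h] at this
    linear_combination this / 2
  have S₂v : ∀ χ ∈ D.S₂, (χ : ↥(G F m) → ℂ) (u hθ 1 0) = -1 := by
    intro χ hχ
    have h := D.agree₂ hm hF ((D.same_degree hm hF (hcj1 χ)).2.2.2.2.1 hχ) hχ (hnot _ D.torus₁)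
    rw [hcj] at h
    have := (c₂ χ hχ).2
    rw [h] at this
    linear_combination this / 2
  refine ⟨S₁v, S₂v, ?_⟩
  obtain ⟨ψ, ψ', hne, hR⟩ := Finset.card_eq_two.mp D.cardR
  have hψ : ψ ∈ D.R := by rw [hR]; simp
  have hψ' : ψ' ∈ D.R := by rw [hR]; simp
  set z := (ψ : ↥(G F m) → ℂ) (u hθ 1 0) with hz
  set z' := (ψ' : ↥(G F m) → ℂ) (u hθ 1 0) with hz'
  have hzc : conj z = -z := by linear_combination (cR ψ hψ).2
  have hzc' : conj z' = -z' := by linear_combination (cR ψ' hψ').2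
  have hcol := column (F := F) (m := m) (u hθ (1 : F) 0)
  rw [D.decomp, cenCard_v hθ hm hF, trivIrr_apply, D.St_u hv1,
    Finset.sum_congr (rfl : D.PS = D.PS) fun χ hχ => show (χ : ↥(G F m) → ℂ) (u hθ 1 0) * conj ((χ : ↥(G F m) → ℂ) (u hθ 1 0)) = 1 by
      rw [D.PS_u hχ hv1, map_one, mul_one],
    Finset.sum_congr (rfl : D.S₁ = D.S₁) fun χ hχ => show (χ : ↥(G F m) → ℂ) (u hθ 1 0) * conj ((χ : ↥(G F m) → ℂ) (u hθ 1 0)) = 1 by
      rw [S₁v χ hχ]; simp,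
    Finset.sum_congr (rfl : D.S₂ = D.S₂) fun χ hχ => show (χ : ↥(G F m) → ℂ) (u hθ 1 0) * conj ((χ : ↥(G F m) → ℂ) (u hθ 1 0)) = 1 by
      rw [S₂v χ hχ]; simp,
    hR, Finset.sum_pair hne, ← hz, ← hz', hzc, hzc'] at hcol
  simp only [Finset.sum_const, nsmul_eq_mul, mul_one, map_one, zero_mul, D.cardS₁, D.cardS₂] at hcol
  have hdeg := column_ne (F := F) (m := m) (g := u hθ (1 : F) 0) (h := 1)
    (not_conj_of_order (by rw [hv4, orderOf_one]; norm_num))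
  rw [D.decomp, trivIrr_apply, trivIrr_apply, D.St_u hv1,
    Finset.sum_congr (rfl : D.PS = D.PS) fun χ hχ => show (χ : ↥(G F m) → ℂ) (u hθ 1 0) * conj ((χ : ↥(G F m) → ℂ) 1) =
        (Fintype.card F : ℂ) * Fintype.card F + 1 by
      rw [D.PS_u hχ hv1, D.degPS χ hχ, Complex.conj_natCast, one_mul]; push_cast; ring,
    Finset.sum_congr (rfl : D.S₁ = D.S₁) fun χ hχ => show (χ : ↥(G F m) → ℂ) (u hθ 1 0) * conj ((χ : ↥(G F m) → ℂ) 1) =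
        -(((Fintype.card F : ℂ) - 1) * (Nat.card D.A₁ : ℂ)) by
      rw [S₁v χ hχ, D.deg₁ χ hχ, Complex.conj_natCast, Nat.cast_mul, Nat.cast_sub Fintype.card_pos]; push_cast; ring,
    Finset.sum_congr (rfl : D.S₂ = D.S₂) fun χ hχ => show (χ : ↥(G F m) → ℂ) (u hθ 1 0) * conj ((χ : ↥(G F m) → ℂ) 1) =
        -(((Fintype.card F : ℂ) - 1) * (Nat.card D.A₂ : ℂ)) by
      rw [S₂v χ hχ, D.deg₂ χ hχ, Complex.conj_natCast, Nat.cast_mul, Nat.cast_sub Fintype.card_pos]; push_cast; ring,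
    hR, Finset.sum_pair hne, ← hz, ← hz', D.degR ψ hψ, D.degR ψ' hψ', Complex.conj_natCast] at hdeg
  simp only [Finset.sum_const, nsmul_eq_mul, map_one, mul_one, zero_mul, D.cardS₁, D.cardS₂] at hdeg
  have hqc : (Fintype.card F : ℂ) = 2 * ((2 : ℂ) ^ m * 2 ^ m) := by rw [hq]; push_cast; ring
  have hPc : 2 * (D.PS.card : ℂ) + 2 = 2 * ((2 : ℂ) ^ m * 2 ^ m) := by exact_mod_cast hP
  have hk₁c : 4 * (D.k₁ : ℂ) = 2 * ((2 : ℂ) ^ m * 2 ^ m) + 2 * 2 ^ m := by exact_mod_cast hk₁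
  have hk₂c : 4 * (D.k₂ : ℂ) + 2 * 2 ^ m = 2 * ((2 : ℂ) ^ m * 2 ^ m) := by exact_mod_cast hk₂
  have hA₁c : (Nat.card D.A₁ : ℂ) = 2 * ((2 : ℂ) ^ m * 2 ^ m) + 2 * 2 ^ m + 1 := by exact_mod_cast D.card₁
  have hA₂c : (Nat.card D.A₂ : ℂ) + 2 * 2 ^ m = 2 * ((2 : ℂ) ^ m * 2 ^ m) + 1 := by exact_mod_cast D.card₂
  have hA₂c' : (Nat.card D.A₂ : ℂ) = 2 * ((2 : ℂ) ^ m * 2 ^ m) + 1 - 2 * 2 ^ m := by linear_combination hA₂c
  have h2 : 2 * ((2 : ℂ) ^ m * 2 ^ m) - 1 ≠ 0 := by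
    have : ((2 * (2 ^ m * 2 ^ m) : ℕ) : ℂ) ≠ ((1 : ℕ) : ℂ) := Nat.cast_injective.ne (by omega)
    push_cast at this
    exact sub_ne_zero.mpr this
  push_cast [Nat.cast_sub (Fintype.card_pos (α := F))] at hdeg hcol
  rw [hqc] at hdeg hcol
  rw [hA₁c, hA₂c'] at hdeg
  have hsum : z + z' = 0 := by
    have h3 : (2 * ((2 : ℂ) ^ m * 2 ^ m) - 1) * ((2 : ℂ) ^ m * (4 * (z + z'))) = 0 := by
      linear_combination 4 * hdeg + (2 * ((2 : ℂ) ^ m * 2 ^ m) - 1) * (2 * ((2 : ℂ) ^ m * 2 ^ m) + 2 * 2 ^ m + 1) * hk₂c +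
        (2 * ((2 : ℂ) ^ m * 2 ^ m) - 1) * (2 * ((2 : ℂ) ^ m * 2 ^ m) + 1 - 2 * 2 ^ m) * hk₁c -
        2 * ((2 * ((2 : ℂ) ^ m * 2 ^ m)) * (2 * ((2 : ℂ) ^ m * 2 ^ m)) + 1) * hPc
    have h4 := (mul_eq_zero.mp h3).resolve_left h2
    have h5 := (mul_eq_zero.mp h4).resolve_left (pow_ne_zero _ two_ne_zero)
    exact (mul_eq_zero.mp h5).resolve_left (by norm_num)
  have hz2 : z' = -z := by linear_combination hsum
  have hsq : z ^ 2 = -((2 : ℂ) ^ m * 2 ^ m) := by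
    rw [hz2] at hcol
    linear_combination -(1 / 2 : ℂ) * hcol + (1 / 4 : ℂ) * hPc + (1 / 8 : ℂ) * hk₁c + (1 / 8 : ℂ) * hk₂c
  refine ⟨ψ, ψ', hne, hR, ?_, hsq, hz2⟩
  have hmem : cj ψ ∈ D.R := (D.same_degree hm hF (hcj1 ψ)).2.2.2.2.2 hψ
  rw [hR, Finset.mem_insert, Finset.mem_singleton] at hmem
  rcases hmem with h | h
  · exfalso
    have h6 : conj z = z := by
      have := congrFun (congrArg Subtype.val h) (u hθ 1 0)
      rwa [hcj] at this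
    have : z = 0 := by linear_combination (hzc.symm.trans h6) / -2
    rw [this] at hsq
    simp at hsq
  · intro g
    rw [← h, hcj]

theorem CharData.torus_vals (D : CharData hθ) (hm : 1 ≤ m) (hF : Fintype.card F = 2 ^ (2 * m + 1)) :
    (∀ y ∈ D.A₁, y ≠ 1 → (∀ χ ∈ D.R, (χ : ↥(G F m) → ℂ) y = 1) ∧ ∑ χ ∈ D.S₂, (χ : ↥(G F m) → ℂ) y = 1 ∧
      ∑ χ ∈ D.S₂, (χ : ↥(G F m) → ℂ) y * (χ : ↥(G F m) → ℂ) y = (Nat.card D.A₁ : ℂ) - 4) ∧
    (∀ y ∈ D.A₂, y ≠ 1 → (∀ χ ∈ D.R, (χ : ↥(G F m) → ℂ) y = -1) ∧ ∑ χ ∈ D.S₁, (χ : ↥(G F m) → ℂ) y = 1 ∧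
      ∑ χ ∈ D.S₁, (χ : ↥(G F m) → ℂ) y * (χ : ↥(G F m) → ℂ) y = (Nat.card D.A₂ : ℂ) - 4) := by
  obtain ⟨hr, hmul, hq, -, -, -⟩ := D.nums hm hF
  obtain ⟨c₁, c₂, cR⟩ := D.cusp_vals hm hF
  obtain ⟨-, -, ψ, ψ', hne, hR, hconj, -, -⟩ := D.v_vals hm hF
  have hs : u hθ (0 : F) 1 ≠ 1 := fun e => by
    have := orderOf_s hθ (F := F) (m := m)
    rw [e, orderOf_one] at this
    norm_num at this
  have key : ∀ (A Ao : Subgroup ↥(G F m)) (Sv So : Finset (IrrCharacter ↥(G F m))) (δ : ℂ), IsTorus hθ A →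
      (∀ χ ∈ Sv, ∀ y ∈ A, y ≠ 1 → (χ : ↥(G F m) → ℂ) y = 0) →
      (∀ χ ∈ So, (χ : ↥(G F m) → ℂ) 1 = (((Fintype.card F - 1) * Nat.card Ao : ℕ) : ℂ) ∧
        (χ : ↥(G F m) → ℂ) (u hθ 0 1) = (Fintype.card F : ℂ) - (Nat.card Ao : ℂ)) →
      (∀ f : IrrCharacter ↥(G F m) → ℂ, ∑ χ, f χ = f (trivIrr _) + (f D.St + (∑ χ ∈ D.PS, f χ +
        (∑ χ ∈ Sv, f χ + (∑ χ ∈ So, f χ + ∑ χ ∈ D.R, f χ))))) →
      (Fintype.card F : ℂ) + 1 - (Nat.card Ao : ℂ) = 2 * (2 : ℂ) ^ m * δ → δ * δ = 1 →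
      ∀ y ∈ A, y ≠ 1 → (∀ χ ∈ D.R, (χ : ↥(G F m) → ℂ) y = δ) ∧ ∑ χ ∈ So, (χ : ↥(G F m) → ℂ) y = 1 ∧
        ∑ χ ∈ So, (χ : ↥(G F m) → ℂ) y * (χ : ↥(G F m) → ℂ) y = (Nat.card A : ℂ) - 4 := by
    intro A Ao Sv So δ hA hv ho dec hδ hδ2 y hy hy1
    have hreal := fun χ => apply_ss_real hθ hm hF (Or.inr hA) hy χ
    have hfpf := torus_mem_fpf hθ hA hy hy1
    have hyodd : ¬ 2 ∣ orderOf y := fun h =>
      ss_not_two_dvd hθ hF (Or.inr hA) (h.trans (Subgroup.orderOf_dvd_natCard A hy))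
    have hψ : ψ ∈ D.R := by rw [hR]; simp
    have hψ' : ψ' ∈ D.R := by rw [hR]; simp
    have hw : (ψ' : ↥(G F m) → ℂ) y = (ψ : ↥(G F m) → ℂ) y := by rw [hconj, hreal]
    set w := (ψ : ↥(G F m) → ℂ) y with hwdef
    set sS := ∑ χ ∈ So, (χ : ↥(G F m) → ℂ) y with hsS
    have hdeg := column_ne (F := F) (m := m) (g := y) (h := 1)
      (fun hc => hy1 (isConj_one_left.mp hc))
    rw [dec, trivIrr_apply, trivIrr_apply, D.St_fpf hfpf, D.degSt,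
      Finset.sum_eq_zero (fun χ hχ => by rw [D.PS_fpf hχ hfpf, zero_mul]),
      Finset.sum_eq_zero (s := Sv) (fun χ hχ => by rw [hv χ hχ y hy hy1, zero_mul]),
      Finset.sum_congr (rfl : So = So) fun χ hχ => show (χ : ↥(G F m) → ℂ) y * conj ((χ : ↥(G F m) → ℂ) 1) =
          (χ : ↥(G F m) → ℂ) y * (((Fintype.card F : ℂ) - 1) * (Nat.card Ao : ℂ)) by
        rw [(ho χ hχ).1, Complex.conj_natCast, Nat.cast_mul, Nat.cast_sub Fintype.card_pos, Nat.cast_one],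
      ← Finset.sum_mul, ← hsS, hR, Finset.sum_pair hne, hw, ← hwdef, D.degR ψ hψ, D.degR ψ' hψ'] at hdeg
    have hcs := column_ne (F := F) (m := m) (g := y) (h := u hθ (0 : F) 1)
      (not_conj_of_order fun e => hyodd (by rw [e, orderOf_s hθ]))
    rw [dec, trivIrr_apply, trivIrr_apply, D.St_u hs,
      Finset.sum_eq_zero (fun χ hχ => by rw [D.PS_fpf hχ hfpf, zero_mul]),
      Finset.sum_eq_zero (s := Sv) (fun χ hχ => by rw [hv χ hχ y hy hy1, zero_mul]),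
      Finset.sum_congr (rfl : So = So) fun χ hχ => show (χ : ↥(G F m) → ℂ) y * conj ((χ : ↥(G F m) → ℂ) (u hθ 0 1)) =
          (χ : ↥(G F m) → ℂ) y * ((Fintype.card F : ℂ) - (Nat.card Ao : ℂ)) by
        rw [(ho χ hχ).2, map_sub, Complex.conj_natCast, Complex.conj_natCast],
      ← Finset.sum_mul, ← hsS, hR, Finset.sum_pair hne, hw, ← hwdef, (cR ψ hψ).1, (cR ψ' hψ').1] at hcs
    simp only [map_neg, map_pow, map_zero, map_one, mul_one, mul_zero, add_zero, zero_add, Complex.conj_natCast,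
      Complex.conj_ofNat] at hdeg hcs
    rw [Nat.cast_mul, Nat.cast_mul, Nat.cast_sub Fintype.card_pos] at hdeg
    push_cast at hdeg
    have hq0 : (Fintype.card F : ℂ) ≠ 0 := Nat.cast_ne_zero.mpr Fintype.card_ne_zero
    have hq1 : (Fintype.card F : ℂ) - 1 ≠ 0 := by
      rw [sub_ne_zero]; exact_mod_cast (Fintype.one_lt_card (α := F)).ne'
    have hlin : ((Fintype.card F : ℂ) - 1) *
        ((Nat.card Ao : ℂ) * sS + 2 * (2 : ℂ) ^ m * w - ((Fintype.card F : ℂ) + 1)) = 0 := by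
      linear_combination hdeg
    have hlin' := (mul_eq_zero.mp hlin).resolve_left hq1
    have hsS1 : sS = 1 := by
      have : (Fintype.card F : ℂ) * (sS - 1) = 0 := by linear_combination hlin' + hcs
      exact sub_eq_zero.mp ((mul_eq_zero.mp this).resolve_left hq0)
    have hwd : w = δ := by
      rw [hsS1] at hlin'
      have : 2 * (2 : ℂ) ^ m * (w - δ) = 0 := by linear_combination hlin' + hδ
      exact sub_eq_zero.mp ((mul_eq_zero.mp this).resolve_left (mul_ne_zero two_ne_zero (pow_ne_zero _ two_ne_zero)))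
    refine ⟨fun χ hχ => ?_, hsS1, ?_⟩
    · rw [hR, Finset.mem_insert, Finset.mem_singleton] at hχ
      rcases hχ with rfl | rfl
      · exact hwd
      · rw [hw, hwd]
    · have hc := column (F := F) (m := m) y
      rw [dec, trivIrr_apply, D.St_fpf hfpf,
        Finset.sum_eq_zero (fun χ hχ => by rw [D.PS_fpf hχ hfpf, zero_mul]),
        Finset.sum_eq_zero (s := Sv) (fun χ hχ => by rw [hv χ hχ y hy hy1, zero_mul]),
        Finset.sum_congr (rfl : So = So) fun χ _ => show (χ : ↥(G F m) → ℂ) y * conj ((χ : ↥(G F m) → ℂ) y) =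
            (χ : ↥(G F m) → ℂ) y * (χ : ↥(G F m) → ℂ) y by rw [hreal],
        hR, Finset.sum_pair hne, hw, ← hwdef, hwdef, hreal, ← hwdef, hwd, map_one, map_neg, map_one,
        cenCard, torus_centralizer hθ hF hA hy hy1] at hc
      linear_combination hc - 2 * hδ2
  have hA₁c : (Nat.card D.A₁ : ℂ) = 2 * ((2 : ℂ) ^ m * 2 ^ m) + 2 * 2 ^ m + 1 := by exact_mod_cast D.card₁
  have hA₂c : (Nat.card D.A₂ : ℂ) + 2 * 2 ^ m = 2 * ((2 : ℂ) ^ m * 2 ^ m) + 1 := by exact_mod_cast D.card₂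
  have hqc : (Fintype.card F : ℂ) = 2 * ((2 : ℂ) ^ m * 2 ^ m) := by rw [hq]; push_cast; ring
  exact ⟨key D.A₁ D.A₂ D.S₁ D.S₂ 1 D.torus₁ D.van₁ (fun χ h => ⟨D.deg₂ χ h, (c₂ χ h).1⟩) D.decomp
      (by linear_combination hqc - hA₂c) (one_mul 1),
    key D.A₂ D.A₁ D.S₂ D.S₁ (-1) D.torus₂ D.van₂ (fun χ h => ⟨D.deg₁ χ h, (c₁ χ h).1⟩)
      (fun f => by rw [D.decomp]; ring) (by linear_combination hqc - hA₁c) (by norm_num)⟩

end

end Cfsg.Agent.Lib.KnownA.Suz
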