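import Mathlib
import Cfsg.Agent.Lib.KnownA.SuzukiTableTori
import Cfsg.Agent.Lib.Characters.Convolution

/-! Products of two conjugates in the Suzuki group. -/

set_option autoImplicit false
set_option maxHeartbeats 1600000

namespace Cfsg.Agent.Lib.KnownA.Suz

open Matrix Cfsg.Lie Cfsg.Agent.Lib.Characters
open scoped Classical ComplexConjugate

set_option linter.unusedSectionVars false
set_option linter.style.haveILetI false

noncomputable section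

theorem real_bounds {r k₁ k₂ P Q A₁ A₂ : ℝ} (hr : 2 ≤ r) (hk₁ : 4 * k₁ = Q + 2 * r) (hk₂ : 4 * k₂ + 2 * r = Q)
    (hQ : Q = 2 * (r * r)) (hA₁ : A₁ = Q + 2 * r + 1) (hA₂ : A₂ + 2 * r = Q + 1) (hP : 2 * P + 2 = Q) :
    0 ≤ P / (Q * Q + 1) ∧ (P * 8) / (Q * Q + 1) + 1 / (Q * Q) < 1 ∧ (P * 2) / (Q * Q + 1) < 1 ∧
      k₂ * (2 * r + 1) / ((Q - 1) * A₁) < 1 ∧ 0 ≤ k₁ * (2 * r - 1) / ((Q - 1) * A₂) ∧
      k₂ / ((Q - 1) * A₁) + k₁ / ((Q - 1) * A₂) < 1 ∧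
      2 * r / (Q - 1) < 1 ∧ 0 ≤ 1 / ((Q - 1) * A₂) ∧ 0 ≤ 1 / ((Q - 1) * A₁) ∧
      0 ≤ (A₁ - 4) * (2 * r - 1) / ((Q - 1) * A₂) ∧ 2 / (Q - 1) < 1 ∧
      (A₁ - 4) / ((Q - 1) * A₂) < 1 ∧ (A₂ - 4) / ((Q - 1) * A₁) < 1 ∧
      1 / (Q * Q) + 2 / (r * (Q - 1)) < 1 ∧
      1 / (Q * Q) + (A₁ - 4) * (2 * r - 1) / ((Q - 1) * A₂) < 1 ∧
      1 / (Q * Q) + (A₂ - 4) * (2 * r - 1) / ((Q - 1) * A₁) + 2 / (r * (Q - 1)) < 1 ∧
      (A₂ - 4) * (2 * r + 1) / ((Q - 1) * A₁) + 2 / (Q - 1) < 1 := by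
  have hA₂' : A₂ = Q + 1 - 2 * r := by linarith
  subst hA₁ hA₂'
  have hQ8 : 8 ≤ Q := by nlinarith
  have hrQ : 4 * r ≤ Q := by nlinarith
  have hA2p : 5 ≤ Q + 1 - 2 * r := by linarith
  have d1 : 0 < (Q - 1) * (Q + 2 * r + 1) := by nlinarith
  have d2 : 0 < (Q - 1) * (Q + 1 - 2 * r) := by nlinarith
  have dQ : 0 < Q - 1 := by linarith
  have dQQ : (64 : ℝ) ≤ Q * Q := by nlinarith
  have h1Q : 1 / (Q * Q) ≤ 1 / 64 := one_div_le_one_div_of_le (by norm_num) dQQ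
  have h2Q : 2 / (Q - 1) ≤ 2 / 7 := div_le_div_of_nonneg_left (by norm_num) (by norm_num) (by linarith)
  have h2rQ : 2 / (r * (Q - 1)) ≤ 1 / 7 := by
    rw [div_le_div_iff₀ (by positivity) (by norm_num)]; nlinarith
  have hP0 : 0 ≤ P := by linarith
  have hk20 : 0 ≤ k₂ := by linarith
  have hk10 : 0 ≤ k₁ := by linarith
  refine ⟨by positivity, ?_, ?_, ?_, ?_, ?_, ?_, by positivity, by positivity, ?_, by linarith, ?_, ?_, by linarith, ?_, ?_, ?_⟩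
  · have : P * 8 / (Q * Q + 1) ≤ 1 / 2 := by
      rw [div_le_div_iff₀ (by positivity) (by norm_num)]; nlinarith
    linarith
  · rw [div_lt_one (by positivity)]; nlinarith
  · rw [div_lt_one d1]; nlinarith
  · exact div_nonneg (mul_nonneg hk10 (by linarith)) d2.le
  · have a : k₂ / ((Q - 1) * (Q + 2 * r + 1)) ≤ 1 / 4 := by
      rw [div_le_div_iff₀ d1 (by norm_num)]; nlinarith
    have b : k₁ / ((Q - 1) * (Q + 1 - 2 * r)) ≤ 1 / 4 := by
      rw [div_le_div_iff₀ d2 (by norm_num)]; nlinarith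
    linarith
  · rw [div_lt_one dQ]; linarith
  · exact div_nonneg (mul_nonneg (by linarith) (by linarith)) d2.le
  · rw [div_lt_one d2]; nlinarith
  · rw [div_lt_one d1]; nlinarith
  · have : (Q + 2 * r + 1 - 4) * (2 * r - 1) / ((Q - 1) * (Q + 1 - 2 * r)) ≤ 9 / 10 := by
      rw [div_le_div_iff₀ d2 (by norm_num)]
      subst hQ
      nlinarith [mul_nonneg (mul_nonneg (sub_nonneg.mpr hr) (sub_nonneg.mpr hr)) (sq_nonneg r),
        mul_nonneg (sub_nonneg.mpr hr) (sq_nonneg r), sq_nonneg r, sub_nonneg.mpr hr]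
    linarith
  · have : (Q + 1 - 2 * r - 4) * (2 * r - 1) / ((Q - 1) * (Q + 2 * r + 1)) ≤ 1 / 2 := by
      rw [div_le_div_iff₀ d1 (by norm_num)]
      nlinarith
    linarith
  · have : (Q + 1 - 2 * r - 4) * (2 * r + 1) / ((Q - 1) * (Q + 2 * r + 1)) ≤ 1 / 2 := by
      rw [div_le_div_iff₀ d1 (by norm_num)]
      nlinarith
    linarith

theorem ne_zero_of_split {N E : ℂ} (c : ℝ) (h : N = (c : ℂ) + E) (hE : ‖E‖ < c) : N ≠ 0 := by
  intro h0
  have hc : E = -(c : ℂ) := by rw [h0] at h; linear_combination -h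
  rw [hc, norm_neg, Complex.norm_real, Real.norm_eq_abs] at hE
  have := le_abs_self c
  linarith

theorem real_sq_le_sum {ι : Type*} (s : Finset ι) (f : ι → ℂ) (hre : ∀ i ∈ s, conj (f i) = f i) {B : ℝ}
    (hs : ∑ i ∈ s, f i * f i = (B : ℂ)) :
    (∀ i ∈ s, ‖f i‖ ^ 2 ≤ B) ∧ ∑ i ∈ s, ‖f i‖ ^ 2 = B := by
  have e : ∀ i ∈ s, f i * f i = ((‖f i‖ ^ 2 : ℝ) : ℂ) := by
    intro i hi
    conv_lhs => arg 2; rw [← hre i hi]
    rw [Complex.mul_conj, Complex.normSq_eq_norm_sq]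
  rw [Finset.sum_congr rfl e, ← Complex.ofReal_sum, Complex.ofReal_inj] at hs
  exact ⟨fun i hi => hs ▸ Finset.single_le_sum (f := fun i => ‖f i‖ ^ 2) (fun j _ => sq_nonneg _) hi, hs⟩

variable {F : Type*} [Field F] [Fintype F] [CharP F 2] {m : ℕ} (hθ : ∀ x : F, szTh m (szTh m x) = x * x)
  [Fintype ↥(G F m)] [Fintype (IrrCharacter ↥(G F m))]

/-- Representatives: an element of order four, a split or a non-split semisimple element. -/
inductive IsRep (D : CharData hθ) : ↥(G F m) → Prop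
  | four (v : ↥(G F m)) (hv : v = u hθ 1 0 ∨ v = (u hθ 1 0)⁻¹) : IsRep D v
  | split (k : Fˣ) (hk : k ≠ 1) : IsRep D (tor hθ k)
  | tor₁ (y : ↥(G F m)) (hy : y ∈ D.A₁) (hy1 : y ≠ 1) : IsRep D y
  | tor₂ (y : ↥(G F m)) (hy : y ∈ D.A₂) (hy1 : y ≠ 1) : IsRep D y

include hθ

theorem exists_rep (hm : 1 ≤ m) (hF : Fintype.card F = 2 ^ (2 * m + 1)) (D : CharData hθ) {g : ↥(G F m)}
    (hg : g ≠ 1) : orderOf g = 2 ∨ ∃ g₀, IsRep hθ D g₀ ∧ IsConj g₀ g := by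
  by_cases hfix : ∃ o, act hθ g o = o
  · obtain ⟨o, ho⟩ := hfix
    rcases fixed_cases hθ ho with ⟨c, a, b, hgc⟩ | ⟨c, k, hk, hgc⟩
    · have hne : u hθ a b ≠ 1 := fun e => hg (by rw [hgc, e, mul_one, mul_inv_cancel])
      rcases eq_or_ne a 0 with ha | ha
      · refine Or.inl ?_
        rw [hgc, orderOf_conj']
        exact (orderOf_u hθ a b).2 ha fun hb => hne (by rw [ha, hb, u_zero])
      · have h4 : orderOf g = 4 := by rw [hgc, orderOf_conj']; exact (orderOf_u hθ a b).1 ha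
        obtain ⟨d, hd | hd⟩ := order_four_conj hθ hm hF h4
        · exact Or.inr ⟨_, IsRep.four _ (Or.inl rfl), isConj_iff.mpr ⟨d, hd.symm⟩⟩
        · exact Or.inr ⟨_, IsRep.four _ (Or.inr rfl), isConj_iff.mpr ⟨d, hd.symm⟩⟩
    · exact Or.inr ⟨_, IsRep.split k hk, isConj_iff.mpr ⟨c, hgc.symm⟩⟩
  · push Not at hfix
    have hgA : g ∈ Subgroup.centralizer {g} := Subgroup.mem_centralizer_singleton_iff.mpr rfl
    obtain ⟨c, hc | hc⟩ := D.cover _ ⟨g, hfix, rfl⟩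
    · rw [hc] at hgA
      obtain ⟨y, hy, e⟩ := hgA
      refine Or.inr ⟨y, IsRep.tor₁ y hy fun h1 => hg ?_, isConj_iff.mpr ⟨c, e⟩⟩
      rw [← e, h1, map_one]
    · rw [hc] at hgA
      obtain ⟨y, hy, e⟩ := hgA
      refine Or.inr ⟨y, IsRep.tor₂ y hy fun h1 => hg ?_, isConj_iff.mpr ⟨c, e⟩⟩
      rw [← e, h1, map_one]

theorem four_values (hm : 1 ≤ m) (hF : Fintype.card F = 2 ^ (2 * m + 1)) (D : CharData hθ) {v : ↥(G F m)}
    (hv : v = u hθ 1 0 ∨ v = (u hθ 1 0)⁻¹) :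
    (D.St : ↥(G F m) → ℂ) v = 0 ∧ (∀ χ ∈ D.PS, (χ : ↥(G F m) → ℂ) v = 1) ∧
      (∀ χ ∈ D.S₁, (χ : ↥(G F m) → ℂ) v = -1) ∧ (∀ χ ∈ D.S₂, (χ : ↥(G F m) → ℂ) v = -1) ∧
      (∀ χ ∈ D.R, (χ : ↥(G F m) → ℂ) v * (χ : ↥(G F m) → ℂ) v = -((2 : ℂ) ^ m * 2 ^ m)) ∧
      ∑ χ ∈ D.R, (χ : ↥(G F m) → ℂ) v = 0 := by
  obtain ⟨S₁v, S₂v, ψ, ψ', hne, hR, -, hsq, hneg⟩ := D.v_vals hm hF
  have hv1 : u hθ (1 : F) 0 ≠ 1 := fun e => by
    have := orderOf_v hθ (F := F) (m := m)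
    rw [e, orderOf_one] at this
    norm_num at this
  have hc : ∀ z : ℂ, z * z = -((2 : ℂ) ^ m * 2 ^ m) → conj z * conj z = -((2 : ℂ) ^ m * 2 ^ m) := by
    intro z hz
    rw [← map_mul, hz]
    simp [map_pow, map_ofNat]
  have hsq' : ∀ χ ∈ D.R, (χ : ↥(G F m) → ℂ) (u hθ 1 0) * (χ : ↥(G F m) → ℂ) (u hθ 1 0) = -((2 : ℂ) ^ m * 2 ^ m) := by
    intro χ hχ
    rw [hR, Finset.mem_insert, Finset.mem_singleton] at hχ
    rcases hχ with rfl | rfl
    · rw [← sq, hsq]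
    · rw [hneg, neg_mul_neg, ← sq, hsq]
  have hsum : ∑ χ ∈ D.R, (χ : ↥(G F m) → ℂ) (u hθ 1 0) = 0 := by
    rw [hR, Finset.sum_pair hne, hneg, add_neg_cancel]
  rcases hv with rfl | rfl
  · exact ⟨D.St_u hv1, fun χ h => D.PS_u h hv1, S₁v, S₂v, hsq', hsum⟩
  · have hi : ∀ χ : IrrCharacter ↥(G F m), (χ : ↥(G F m) → ℂ) (u hθ 1 0)⁻¹ = conj ((χ : ↥(G F m) → ℂ) (u hθ 1 0)) :=
      fun χ => IsCharacter.apply_inv (irr_isCharacter χ) _
    refine ⟨by rw [hi, D.St_u hv1, map_zero], fun χ h => by rw [hi, D.PS_u h hv1, map_one],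
      fun χ h => by rw [hi, S₁v χ h, map_neg, map_one], fun χ h => by rw [hi, S₂v χ h, map_neg, map_one],
      fun χ h => by rw [hi]; exact hc _ (hsq' χ h), ?_⟩
    rw [Finset.sum_congr rfl fun χ _ => hi χ, ← map_sum, hsum, map_zero]

/-- The normalised class multiplication sum. -/
def classSumN (x g : ↥(G F m)) : ℂ :=
  ∑ χ : IrrCharacter ↥(G F m),
    (χ : ↥(G F m) → ℂ) x * (χ : ↥(G F m) → ℂ) x * conj ((χ : ↥(G F m) → ℂ) g) / (χ : ↥(G F m) → ℂ) 1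

theorem classSumN_ne (hm : 1 ≤ m) (hF : Fintype.card F = 2 ^ (2 * m + 1)) (D : CharData hθ) {x g : ↥(G F m)}
    (hx : IsRep hθ D x) (hg : g = u hθ 0 1 ∨ IsRep hθ D g) : classSumN x g ≠ 0 := by
  obtain ⟨hr, hmul, hq, hk₁, hk₂, hP⟩ := D.nums hm hF
  obtain ⟨c₁, c₂, cR⟩ := D.cusp_vals hm hF
  obtain ⟨t₁, t₂⟩ := D.torus_vals hm hF
  set r : ℝ := (2 : ℝ) ^ m with hrdef
  set Q : ℝ := (Fintype.card F : ℝ) with hQdef
  set A₁ : ℝ := (Nat.card D.A₁ : ℝ) with hA₁def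
  set A₂ : ℝ := (Nat.card D.A₂ : ℝ) with hA₂def
  set P : ℝ := (D.PS.card : ℝ) with hPdef
  set k₁ : ℝ := (D.k₁ : ℝ) with hk₁def
  set k₂ : ℝ := (D.k₂ : ℝ) with hk₂def
  have eQ : Q = 2 * (r * r) := by rw [hQdef, hq, hrdef]; push_cast; ring
  have ek₁ : 4 * k₁ = Q + 2 * r := by
    rw [eQ, hk₁def, hrdef]
    exact_mod_cast hk₁
  have ek₂ : 4 * k₂ + 2 * r = Q := by
    rw [eQ, hk₂def, hrdef]
    exact_mod_cast hk₂
  have eA₁ : A₁ = Q + 2 * r + 1 := by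
    rw [eQ, hA₁def, hrdef]
    exact_mod_cast D.card₁
  have eA₂ : A₂ + 2 * r = Q + 1 := by
    rw [eQ, hA₂def, hrdef]
    exact_mod_cast D.card₂
  have eP : 2 * P + 2 = Q := by
    rw [eQ, hPdef, hrdef]
    exact_mod_cast hP
  have hr2 : 2 ≤ r := by rw [hrdef]; exact_mod_cast hr
  obtain ⟨b0, bTx, bTg, bvs, bvs', bvv, bvy, bvy₂, bvy₁, b1s, b2Q, b1v, b2v, bmix, b11, b22, b2s⟩ :=
    real_bounds hr2 ek₁ ek₂ eQ eA₁ eA₂ eP
  -- degrees as real numbers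
  have dSt : (D.St : ↥(G F m) → ℂ) 1 = ((Q * Q : ℝ) : ℂ) := by rw [D.degSt, hQdef]; push_cast; ring
  have dPS : ∀ χ ∈ D.PS, (χ : ↥(G F m) → ℂ) 1 = ((Q * Q + 1 : ℝ) : ℂ) := fun χ h => by
    rw [D.degPS χ h, hQdef]; push_cast; ring
  have d₁ : ∀ χ ∈ D.S₁, (χ : ↥(G F m) → ℂ) 1 = (((Q - 1) * A₁ : ℝ) : ℂ) := fun χ h => by
    rw [D.deg₁ χ h, hQdef, hA₁def, Nat.cast_mul, Nat.cast_sub Fintype.card_pos]; push_cast; ring
  have d₂ : ∀ χ ∈ D.S₂, (χ : ↥(G F m) → ℂ) 1 = (((Q - 1) * A₂ : ℝ) : ℂ) := fun χ h => by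
    rw [D.deg₂ χ h, hQdef, hA₂def, Nat.cast_mul, Nat.cast_sub Fintype.card_pos]; push_cast; ring
  have dR : ∀ χ ∈ D.R, (χ : ↥(G F m) → ℂ) 1 = ((r * (Q - 1) : ℝ) : ℂ) := fun χ h => by
    rw [D.degR χ h, hQdef, hrdef, Nat.cast_mul, Nat.cast_sub Fintype.card_pos]; push_cast; ring
  have hQ1 : 0 < Q - 1 := by nlinarith
  have hsne : u hθ (0 : F) 1 ≠ 1 := fun e => by
    have := orderOf_s hθ (F := F) (m := m)
    rw [e, orderOf_one] at this
    norm_num at this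
  let T : IrrCharacter ↥(G F m) → ℂ := fun χ =>
    (χ : ↥(G F m) → ℂ) x * (χ : ↥(G F m) → ℂ) x * conj ((χ : ↥(G F m) → ℂ) g) / (χ : ↥(G F m) → ℂ) 1
  have hN : classSumN x g = 1 + (T D.St + (∑ χ ∈ D.PS, T χ + (∑ χ ∈ D.S₁, T χ + (∑ χ ∈ D.S₂, T χ + ∑ χ ∈ D.R, T χ)))) := by
    rw [classSumN, D.decomp]
    congr 1
    simp
  have tor_cusp : ∀ {k : Fˣ}, k ≠ 1 → ∀ χ, (χ ∈ D.S₁ ∨ χ ∈ D.S₂ ∨ χ ∈ D.R) → (χ : ↥(G F m) → ℂ) (tor hθ k) = 0 :=
    fun hk χ h => cusp_tor hθ χ (D.cusp χ h) hk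
  rw [hN]
  cases hx with
  | split k hk =>
    have zS₁ : ∑ χ ∈ D.S₁, T χ = 0 := Finset.sum_eq_zero fun χ h => by simp [T, tor_cusp hk χ (Or.inl h)]
    have zS₂ : ∑ χ ∈ D.S₂, T χ = 0 := Finset.sum_eq_zero fun χ h => by simp [T, tor_cusp hk χ (Or.inr (Or.inl h))]
    have zR : ∑ χ ∈ D.R, T χ = 0 := Finset.sum_eq_zero fun χ h => by simp [T, tor_cusp hk χ (Or.inr (Or.inr h))]
    have hgb : ‖(D.St : ↥(G F m) → ℂ) g‖ ≤ 1 ∧ ∀ χ ∈ D.PS, ‖(χ : ↥(G F m) → ℂ) g‖ ≤ 2 := by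
      rcases hg with rfl | hg
      · exact ⟨by rw [D.St_u hsne]; simp, fun χ h => by rw [D.PS_u h hsne]; simp⟩
      cases hg with
      | four v hv =>
        obtain ⟨a, b, -⟩ := four_values hθ hm hF D hv
        exact ⟨by rw [a]; simp, fun χ h => by rw [b χ h]; simp⟩
      | split l hl => exact ⟨by rw [D.St_tor hl]; simp, fun χ h => D.PS_tor h hl⟩
      | tor₁ y hy hy1 =>
        exact ⟨by rw [D.St_fpf (torus_mem_fpf hθ D.torus₁ hy hy1)]; simp,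
          fun χ h => by rw [D.PS_fpf h (torus_mem_fpf hθ D.torus₁ hy hy1)]; simp⟩
      | tor₂ y hy hy1 =>
        exact ⟨by rw [D.St_fpf (torus_mem_fpf hθ D.torus₂ hy hy1)]; simp,
          fun χ h => by rw [D.PS_fpf h (torus_mem_fpf hθ D.torus₂ hy hy1)]; simp⟩
    refine ne_zero_of_split 1 (E := T D.St + ∑ χ ∈ D.PS, T χ) (by rw [zS₁, zS₂, zR]; push_cast; ring) ?_
    have e1 : ‖T D.St‖ ≤ 1 / (Q * Q) := by
      simp only [T, D.St_tor hk, one_mul, norm_div, RCLike.norm_conj, dSt, Complex.norm_real, Real.norm_eq_abs,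
        abs_of_nonneg (show (0 : ℝ) ≤ Q * Q by positivity)]
      exact div_le_div_of_nonneg_right hgb.1 (by positivity)
    have e2 : ∀ χ ∈ D.PS, ‖T χ‖ ≤ 8 / (Q * Q + 1) := by
      intro χ h
      simp only [T, norm_div, norm_mul, RCLike.norm_conj, dPS χ h, Complex.norm_real, Real.norm_eq_abs,
        abs_of_nonneg (show (0 : ℝ) ≤ Q * Q + 1 by positivity)]
      refine div_le_div_of_nonneg_right ?_ (by positivity)
      have h1 := D.PS_tor h hk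
      have h2 := hgb.2 χ h
      calc _ ≤ 2 * 2 * (2 : ℝ) := mul_le_mul (mul_le_mul h1 h1 (norm_nonneg _) zero_le_two) h2 (norm_nonneg _) (by norm_num)
        _ = 8 := by norm_num
    have e3 : ‖∑ χ ∈ D.PS, T χ‖ ≤ P * 8 / (Q * Q + 1) := by
      refine (norm_sum_le_of_le _ e2).trans (le_of_eq ?_)
      rw [Finset.sum_const, nsmul_eq_mul, hPdef]; ring
    linarith [norm_add_le (T D.St) (∑ χ ∈ D.PS, T χ)]
  | four v hv =>
    obtain ⟨xSt, xPS, xS₁, xS₂, xR, -⟩ := four_values hθ hm hF D hv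
    have zSt : T D.St = 0 := by simp [T, xSt]
    have hTPS : ∀ χ ∈ D.PS, T χ = conj ((χ : ↥(G F m) → ℂ) g) / ((Q * Q + 1 : ℝ) : ℂ) := fun χ h => by
      simp only [T, xPS χ h, dPS χ h, one_mul]
    have hT₁ : ∀ χ ∈ D.S₁, T χ = conj ((χ : ↥(G F m) → ℂ) g) / (((Q - 1) * A₁ : ℝ) : ℂ) := fun χ h => by
      simp only [T, xS₁ χ h, d₁ χ h, neg_mul_neg, one_mul]
    have hT₂ : ∀ χ ∈ D.S₂, T χ = conj ((χ : ↥(G F m) → ℂ) g) / (((Q - 1) * A₂ : ℝ) : ℂ) := fun χ h => by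
      simp only [T, xS₂ χ h, d₂ χ h, neg_mul_neg, one_mul]
    have hTR : ∀ χ ∈ D.R, T χ = -((r * r : ℝ) : ℂ) * conj ((χ : ↥(G F m) → ℂ) g) / ((r * (Q - 1) : ℝ) : ℂ) :=
      fun χ h => by
        simp only [T, xR χ h, dR χ h, hrdef]
        push_cast
        ring
    rw [zSt, Finset.sum_congr rfl hTPS, Finset.sum_congr rfl hT₁, Finset.sum_congr rfl hT₂, Finset.sum_congr rfl hTR,
      ← Finset.sum_div, ← Finset.sum_div, ← Finset.sum_div, ← Finset.sum_div, ← Finset.mul_sum,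
      ← map_sum, ← map_sum, ← map_sum, ← map_sum]
    rcases hg with rfl | hg
    · rw [Finset.sum_congr rfl fun χ h => D.PS_u h hsne, Finset.sum_congr rfl fun χ h => (c₁ χ h).1,
        Finset.sum_congr rfl fun χ h => (c₂ χ h).1, Finset.sum_congr rfl fun χ h => (cR χ h).1]
      refine ne_zero_of_split (1 + P / (Q * Q + 1) - k₂ * (2 * r + 1) / ((Q - 1) * A₁) +
        k₁ * (2 * r - 1) / ((Q - 1) * A₂) + 2 * (r * r * r) / (r * (Q - 1))) (E := 0) ?_ ?_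
      · rw [eA₁, show A₂ = Q + 1 - 2 * r by linarith]
        have eA₁c : (Nat.card D.A₁ : ℂ) = ((A₁ : ℝ) : ℂ) := by rw [hA₁def]; push_cast; rfl
        have eA₂c : (Nat.card D.A₂ : ℂ) = ((A₂ : ℝ) : ℂ) := by rw [hA₂def]; push_cast; rfl
        simp only [eA₁c, eA₂c, eA₁, show A₂ = Q + 1 - 2 * r by linarith, Finset.sum_const, nsmul_eq_mul, D.cardS₁,
          D.cardS₂, D.cardR, hPdef, hk₁def, hk₂def, hQdef, hrdef, map_neg, map_mul, map_sub, map_pow,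
          Complex.conj_natCast, Complex.conj_ofReal, Complex.conj_ofNat, map_one]
        push_cast
        ring
      · rw [norm_zero]
        have : 0 ≤ 2 * (r * r * r) / (r * (Q - 1)) := by positivity
        linarith
    cases hg with
    | four w hw =>
      obtain ⟨-, gPS, gS₁, gS₂, -, gR⟩ := four_values hθ hm hF D hw
      rw [Finset.sum_congr rfl gPS, Finset.sum_congr rfl gS₁, Finset.sum_congr rfl gS₂, gR]
      refine ne_zero_of_split (1 + P / (Q * Q + 1) - (k₂ / ((Q - 1) * A₁) + k₁ / ((Q - 1) * A₂))) (E := 0) ?_ ?_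
      · simp only [Finset.sum_const, nsmul_eq_mul, D.cardS₁, D.cardS₂, hPdef, hk₁def, hk₂def, map_neg, map_mul,
          Complex.conj_natCast, map_one, map_zero]
        push_cast
        ring
      · rw [norm_zero]; linarith
    | split l hl =>
      rw [Finset.sum_eq_zero fun χ h => tor_cusp hl χ (Or.inl h),
        Finset.sum_eq_zero fun χ h => tor_cusp hl χ (Or.inr (Or.inl h)),
        Finset.sum_eq_zero fun χ h => tor_cusp hl χ (Or.inr (Or.inr h))]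
      refine ne_zero_of_split 1 (E := conj (∑ χ ∈ D.PS, (χ : ↥(G F m) → ℂ) (tor hθ l)) / ((Q * Q + 1 : ℝ) : ℂ))
        (by simp) ?_
      rw [norm_div, RCLike.norm_conj, Complex.norm_real, Real.norm_eq_abs,
        abs_of_nonneg (show (0 : ℝ) ≤ Q * Q + 1 by positivity)]
      refine lt_of_le_of_lt (div_le_div_of_nonneg_right ?_ (by positivity)) bTg
      refine (norm_sum_le_of_le _ fun χ h => D.PS_tor h hl).trans (le_of_eq ?_)
      rw [Finset.sum_const, nsmul_eq_mul, hPdef]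
    | tor₁ y hy hy1 =>
      obtain ⟨gR, gS, -⟩ := t₁ g hy hy1
      rw [Finset.sum_eq_zero fun χ h => D.PS_fpf h (torus_mem_fpf hθ D.torus₁ hy hy1),
        Finset.sum_eq_zero fun χ h => D.van₁ χ h g hy hy1, gS, Finset.sum_congr rfl gR]
      refine ne_zero_of_split (1 + 1 / ((Q - 1) * A₂) - 2 * r / (Q - 1)) (E := 0) ?_ (by rw [norm_zero]; linarith)
      have hrne : (r : ℂ) ≠ 0 := Complex.ofReal_ne_zero.mpr (by linarith)
      simp only [Finset.sum_const, nsmul_eq_mul, D.cardR, map_zero, map_one, map_mul, Complex.conj_natCast]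
      push_cast
      simp only [div_eq_mul_inv, mul_inv]
      linear_combination (-2 * (r : ℂ) / ((Q : ℂ) - 1)) * mul_inv_cancel₀ hrne
    | tor₂ y hy hy1 =>
      obtain ⟨gR, gS, -⟩ := t₂ g hy hy1
      rw [Finset.sum_eq_zero fun χ h => D.PS_fpf h (torus_mem_fpf hθ D.torus₂ hy hy1),
        Finset.sum_eq_zero fun χ h => D.van₂ χ h g hy hy1, gS, Finset.sum_congr rfl gR]
      refine ne_zero_of_split (1 + 1 / ((Q - 1) * A₁) + 2 * r / (Q - 1)) (E := 0) ?_ ?_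
      · have hrne : (r : ℂ) ≠ 0 := Complex.ofReal_ne_zero.mpr (by linarith)
        simp only [Finset.sum_const, nsmul_eq_mul, D.cardR, map_zero, map_one, map_mul, map_neg, Complex.conj_natCast]
        push_cast
        simp only [div_eq_mul_inv, mul_inv]
        linear_combination (2 * (r : ℂ) / ((Q : ℂ) - 1)) * mul_inv_cancel₀ hrne
      · rw [norm_zero]
        have : 0 ≤ 2 * r / (Q - 1) := by positivity
        linarith
  | tor₁ y hy hy1 =>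
    have hA : IsSS hθ D.A₁ := Or.inr D.torus₁
    have hfpf := torus_mem_fpf hθ D.torus₁ hy hy1
    obtain ⟨xR, -, xS⟩ := t₁ x hy hy1
    obtain ⟨hle, hsum⟩ := real_sq_le_sum D.S₂ (fun χ => (χ : ↥(G F m) → ℂ) x) (fun χ _ => apply_ss_real hθ hm hF hA hy χ)
      (B := A₁ - 4) (by rw [xS, hA₁def]; push_cast; ring)
    have zPS : ∑ χ ∈ D.PS, T χ = 0 := Finset.sum_eq_zero fun χ h => by simp [T, D.PS_fpf h hfpf]
    have zS : ∑ χ ∈ D.S₁, T χ = 0 := Finset.sum_eq_zero fun χ h => by simp [T, D.van₁ χ h x hy hy1]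
    have hTSt : T D.St = conj ((D.St : ↥(G F m) → ℂ) g) / ((Q * Q : ℝ) : ℂ) := by
      simp only [T, D.St_fpf hfpf, dSt, neg_mul_neg, one_mul]
    have hTR : ∑ χ ∈ D.R, T χ = conj (∑ χ ∈ D.R, (χ : ↥(G F m) → ℂ) g) / ((r * (Q - 1) : ℝ) : ℂ) := by
      rw [map_sum, Finset.sum_div]
      exact Finset.sum_congr rfl fun χ h => by simp only [T, xR χ h, dR χ h, one_mul]
    have hTS : ∀ c : ℂ, (∀ χ ∈ D.S₂, (χ : ↥(G F m) → ℂ) g = c) →
        ∑ χ ∈ D.S₂, T χ = ((A₁ - 4 : ℝ) : ℂ) * conj c / (((Q - 1) * A₂ : ℝ) : ℂ) := by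
      intro c hc
      rw [Finset.sum_congr rfl fun χ h => show T χ = _ by simp only [T, hc χ h, d₂ χ h]; rfl, ← Finset.sum_div,
        ← Finset.sum_mul, xS, hA₁def]
      push_cast
      ring
    rw [zPS, zS, hTSt, hTR]
    rcases hg with rfl | hg
    · rw [D.St_u hsne, hTS _ fun χ h => (c₂ χ h).1, Finset.sum_congr rfl fun χ h => (cR χ h).1]
      refine ne_zero_of_split (1 + (A₁ - 4) * (2 * r - 1) / ((Q - 1) * A₂) - 2 / (Q - 1)) (E := 0) ?_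
        (by rw [norm_zero]; linarith)
      have hrne : (r : ℂ) ≠ 0 := Complex.ofReal_ne_zero.mpr (by linarith)
      have e : (Fintype.card F : ℂ) - (Nat.card D.A₂ : ℂ) = ((2 * r - 1 : ℝ) : ℂ) := by
        rw [show (2 * r - 1 : ℝ) = Q - A₂ by linarith, hQdef, hA₂def]; push_cast; ring
      have e2 : ((2 : ℂ) ^ m) = (r : ℂ) := by rw [hrdef]; push_cast; ring
      rw [e, e2]
      simp only [Finset.sum_const, nsmul_eq_mul, D.cardR, map_zero, map_mul, map_neg, Complex.conj_ofReal,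
        Complex.conj_natCast]
      push_cast
      simp only [div_eq_mul_inv, mul_inv]
      linear_combination (-2 / ((Q : ℂ) - 1)) * mul_inv_cancel₀ hrne
    cases hg with
    | four w hw =>
      obtain ⟨gSt, -, -, gS₂, -, gR⟩ := four_values hθ hm hF D hw
      rw [gSt, hTS _ gS₂, gR]
      refine ne_zero_of_split (1 - (A₁ - 4) / ((Q - 1) * A₂)) (E := 0) ?_ (by rw [norm_zero]; linarith)
      simp only [map_zero, map_neg, map_one]
      push_cast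
      ring
    | split l hl =>
      rw [D.St_tor hl, hTS _ fun χ h => tor_cusp hl χ (Or.inr (Or.inl h)),
        Finset.sum_eq_zero fun χ h => tor_cusp hl χ (Or.inr (Or.inr h))]
      refine ne_zero_of_split (1 + 1 / (Q * Q)) (E := 0) ?_ ?_
      · simp
      · rw [norm_zero]
        have : 0 ≤ 1 / (Q * Q) := by positivity
        linarith
    | tor₁ z hz hz1 =>
      obtain ⟨gR, -, gS⟩ := t₁ g hz hz1
      obtain ⟨gle, -⟩ := real_sq_le_sum D.S₂ (fun χ => (χ : ↥(G F m) → ℂ) g) (fun χ _ => apply_ss_real hθ hm hF hA hz χ)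
        (B := A₁ - 4) (by rw [gS, hA₁def]; push_cast; ring)
      rw [D.St_fpf (torus_mem_fpf hθ D.torus₁ hz hz1), Finset.sum_congr rfl gR]
      refine ne_zero_of_split (1 - 1 / (Q * Q) + 2 / (r * (Q - 1))) (E := ∑ χ ∈ D.S₂, T χ) ?_ ?_
      · simp only [Finset.sum_const, nsmul_eq_mul, D.cardR, map_neg, map_one, map_mul, Complex.conj_natCast]
        push_cast
        ring
      · have hb : ∀ χ ∈ D.S₂, ‖T χ‖ ≤ ‖(χ : ↥(G F m) → ℂ) x‖ ^ 2 * (2 * r - 1) / ((Q - 1) * A₂) := by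
          intro χ h
          have h1 : ‖(χ : ↥(G F m) → ℂ) g‖ ≤ 2 * r - 1 :=
            le_of_pow_le_pow_left₀ two_ne_zero (by linarith) ((gle χ h).trans (by nlinarith))
          simp only [T]
          rw [norm_div, d₂ χ h, Complex.norm_real, Real.norm_of_nonneg (show (0 : ℝ) ≤ (Q - 1) * A₂ from
            mul_nonneg hQ1.le (Nat.cast_nonneg _)), norm_mul, norm_mul, RCLike.norm_conj, ← sq]
          exact div_le_div_of_nonneg_right (mul_le_mul_of_nonneg_left h1 (sq_nonneg _)) (mul_nonneg hQ1.le (Nat.cast_nonneg _))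
        refine lt_of_le_of_lt (norm_sum_le_of_le _ hb) ?_
        rw [← Finset.sum_div, ← Finset.sum_mul, hsum]
        have : 0 ≤ 2 / (r * (Q - 1)) := by positivity
        linarith
    | tor₂ z hz hz1 =>
      obtain ⟨gR, -, -⟩ := t₂ g hz hz1
      rw [D.St_fpf (torus_mem_fpf hθ D.torus₂ hz hz1), hTS _ fun χ h => D.van₂ χ h g hz hz1, Finset.sum_congr rfl gR]
      refine ne_zero_of_split (1 - (1 / (Q * Q) + 2 / (r * (Q - 1)))) (E := 0) ?_ (by rw [norm_zero]; linarith)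
      simp only [Finset.sum_const, nsmul_eq_mul, D.cardR, map_zero, map_neg, map_one, map_mul, Complex.conj_natCast]
      push_cast
      ring
  | tor₂ y hy hy1 =>
    have hA : IsSS hθ D.A₂ := Or.inr D.torus₂
    have hfpf := torus_mem_fpf hθ D.torus₂ hy hy1
    obtain ⟨xR, -, xS⟩ := t₂ x hy hy1
    obtain ⟨hle, hsum⟩ := real_sq_le_sum D.S₁ (fun χ => (χ : ↥(G F m) → ℂ) x) (fun χ _ => apply_ss_real hθ hm hF hA hy χ)
      (B := A₂ - 4) (by rw [xS, hA₂def]; push_cast; ring)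
    have zPS : ∑ χ ∈ D.PS, T χ = 0 := Finset.sum_eq_zero fun χ h => by simp [T, D.PS_fpf h hfpf]
    have zS : ∑ χ ∈ D.S₂, T χ = 0 := Finset.sum_eq_zero fun χ h => by simp [T, D.van₂ χ h x hy hy1]
    have hTSt : T D.St = conj ((D.St : ↥(G F m) → ℂ) g) / ((Q * Q : ℝ) : ℂ) := by
      simp only [T, D.St_fpf hfpf, dSt, neg_mul_neg, one_mul]
    have hTR : ∑ χ ∈ D.R, T χ = conj (∑ χ ∈ D.R, (χ : ↥(G F m) → ℂ) g) / ((r * (Q - 1) : ℝ) : ℂ) := by
      rw [map_sum, Finset.sum_div]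
      exact Finset.sum_congr rfl fun χ h => by simp only [T, xR χ h, dR χ h, neg_mul_neg, one_mul]
    have hTS : ∀ c : ℂ, (∀ χ ∈ D.S₁, (χ : ↥(G F m) → ℂ) g = c) →
        ∑ χ ∈ D.S₁, T χ = ((A₂ - 4 : ℝ) : ℂ) * conj c / (((Q - 1) * A₁ : ℝ) : ℂ) := by
      intro c hc
      rw [Finset.sum_congr rfl fun χ h => show T χ = _ by simp only [T, hc χ h, d₁ χ h]; rfl, ← Finset.sum_div,
        ← Finset.sum_mul, xS, hA₂def]
      push_cast
      ring
    rw [zPS, zS, hTSt, hTR]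
    rcases hg with rfl | hg
    · rw [D.St_u hsne, hTS _ fun χ h => (c₁ χ h).1, Finset.sum_congr rfl fun χ h => (cR χ h).1]
      refine ne_zero_of_split (1 - ((A₂ - 4) * (2 * r + 1) / ((Q - 1) * A₁) + 2 / (Q - 1))) (E := 0) ?_
        (by rw [norm_zero]; linarith)
      have hrne : (r : ℂ) ≠ 0 := Complex.ofReal_ne_zero.mpr (by linarith)
      have e : (Fintype.card F : ℂ) - (Nat.card D.A₁ : ℂ) = -((2 * r + 1 : ℝ) : ℂ) := by
        rw [show (2 * r + 1 : ℝ) = A₁ - Q by linarith, hQdef, hA₁def]; push_cast; ring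
      have e2 : ((2 : ℂ) ^ m) = (r : ℂ) := by rw [hrdef]; push_cast; ring
      rw [e, e2]
      simp only [Finset.sum_const, nsmul_eq_mul, D.cardR, map_zero, map_mul, map_neg, Complex.conj_ofReal,
        Complex.conj_natCast]
      push_cast
      simp only [div_eq_mul_inv, mul_inv]
      linear_combination (-2 / ((Q : ℂ) - 1)) * mul_inv_cancel₀ hrne
    cases hg with
    | four w hw =>
      obtain ⟨gSt, -, gS₁, -, -, gR⟩ := four_values hθ hm hF D hw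
      rw [gSt, hTS _ gS₁, gR]
      refine ne_zero_of_split (1 - (A₂ - 4) / ((Q - 1) * A₁)) (E := 0) ?_ (by rw [norm_zero]; linarith)
      simp only [map_zero, map_neg, map_one]
      push_cast
      ring
    | split l hl =>
      rw [D.St_tor hl, hTS _ fun χ h => tor_cusp hl χ (Or.inl h),
        Finset.sum_eq_zero fun χ h => tor_cusp hl χ (Or.inr (Or.inr h))]
      refine ne_zero_of_split (1 + 1 / (Q * Q)) (E := 0) ?_ ?_
      · simp
      · rw [norm_zero]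
        have : 0 ≤ 1 / (Q * Q) := by positivity
        linarith
    | tor₁ z hz hz1 =>
      obtain ⟨gR, -, -⟩ := t₁ g hz hz1
      rw [D.St_fpf (torus_mem_fpf hθ D.torus₁ hz hz1), hTS _ fun χ h => D.van₁ χ h g hz hz1, Finset.sum_congr rfl gR]
      refine ne_zero_of_split (1 - 1 / (Q * Q) + 2 / (r * (Q - 1))) (E := 0) ?_ ?_
      · simp only [Finset.sum_const, nsmul_eq_mul, D.cardR, map_zero, map_neg, map_one, map_mul, Complex.conj_natCast]
        push_cast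
        ring
      · rw [norm_zero]
        have : 0 ≤ 2 / (r * (Q - 1)) := by positivity
        linarith
    | tor₂ z hz hz1 =>
      obtain ⟨gR, -, gS⟩ := t₂ g hz hz1
      obtain ⟨gle, -⟩ := real_sq_le_sum D.S₁ (fun χ => (χ : ↥(G F m) → ℂ) g) (fun χ _ => apply_ss_real hθ hm hF hA hz χ)
        (B := A₂ - 4) (by rw [gS, hA₂def]; push_cast; ring)
      rw [D.St_fpf (torus_mem_fpf hθ D.torus₂ hz hz1), Finset.sum_congr rfl gR]
      refine ne_zero_of_split (1 - 1 / (Q * Q) - 2 / (r * (Q - 1))) (E := ∑ χ ∈ D.S₁, T χ) ?_ ?_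
      · simp only [Finset.sum_const, nsmul_eq_mul, D.cardR, map_neg, map_one, map_mul, Complex.conj_natCast]
        push_cast
        ring
      · have hb : ∀ χ ∈ D.S₁, ‖T χ‖ ≤ ‖(χ : ↥(G F m) → ℂ) x‖ ^ 2 * (2 * r - 1) / ((Q - 1) * A₁) := by
          intro χ h
          have h1 : ‖(χ : ↥(G F m) → ℂ) g‖ ≤ 2 * r - 1 :=
            le_of_pow_le_pow_left₀ two_ne_zero (by linarith) ((gle χ h).trans (by nlinarith))
          simp only [T]
          rw [norm_div, d₁ χ h, Complex.norm_real, Real.norm_of_nonneg (show (0 : ℝ) ≤ (Q - 1) * A₁ from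
            mul_nonneg hQ1.le (Nat.cast_nonneg _)), norm_mul, norm_mul, RCLike.norm_conj, ← sq]
          exact div_le_div_of_nonneg_right (mul_le_mul_of_nonneg_left h1 (sq_nonneg _)) (mul_nonneg hQ1.le (Nat.cast_nonneg _))
        refine lt_of_le_of_lt (norm_sum_le_of_le _ hb) ?_
        rw [← Finset.sum_div, ← Finset.sum_mul, hsum]
        linarith

omit [Fintype ↥(G F m)] [Fintype (IrrCharacter ↥(G F m))] in
theorem covering (hm : 1 ≤ m) (hF : Fintype.card F = 2 ^ (2 * m + 1)) {x g : ↥(G F m)} (hx : 2 < orderOf x)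
    (hg : g ≠ 1) : ∃ a b : ↥(G F m), g = a * x * a⁻¹ * (b * x * b⁻¹) := by
  haveI := Fintype.ofFinite ↥(G F m)
  haveI := Fintype.ofFinite (IrrCharacter ↥(G F m))
  obtain ⟨D⟩ := chars_core hθ hm hF
  have hx1 : x ≠ 1 := fun e => by rw [e, orderOf_one] at hx; omega
  obtain ⟨x₀, hx₀, hxc⟩ : ∃ x₀, IsRep hθ D x₀ ∧ IsConj x₀ x :=
    (exists_rep hθ hm hF D hx1).resolve_left (by omega)
  obtain ⟨g₀, hg₀, hgc⟩ : ∃ g₀, (g₀ = u hθ 0 1 ∨ IsRep hθ D g₀) ∧ IsConj g₀ g := by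
    rcases exists_rep hθ hm hF D hg with h | ⟨g₀, h, h'⟩
    · obtain ⟨c, hc⟩ := involution_conj hθ hF h
      exact ⟨_, Or.inl rfl, isConj_iff.mpr ⟨c, hc.symm⟩⟩
    · exact ⟨g₀, Or.inr h, h'⟩
  have hne := classSumN_ne hθ hm hF D hx₀ hg₀
  obtain ⟨c, rfl⟩ := isConj_iff.mp hxc
  obtain ⟨d, rfl⟩ := isConj_iff.mp hgc
  have hcount := card_class_mul (G := ↥(G F m)) (c * x₀ * c⁻¹) (c * x₀ * c⁻¹) (d * g₀ * d⁻¹)
  have hsum : ∑ χ : IrrCharacter ↥(G F m), (χ : ↥(G F m) → ℂ) (c * x₀ * c⁻¹) * (χ : ↥(G F m) → ℂ) (c * x₀ * c⁻¹) *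
      conj ((χ : ↥(G F m) → ℂ) (d * g₀ * d⁻¹)) / (χ : ↥(G F m) → ℂ) 1 = classSumN x₀ g₀ :=
    Finset.sum_congr rfl fun χ _ => by
      rw [IsCharacter.conj_apply (irr_isCharacter χ), IsCharacter.conj_apply (irr_isCharacter χ)]
  rw [hsum] at hcount
  have hpos : ∀ y : ↥(G F m), (Nat.card {z : ↥(G F m) // IsConj y z} : ℂ) ≠ 0 := fun y => by
    haveI : Nonempty {z : ↥(G F m) // IsConj y z} := ⟨⟨y, IsConj.refl y⟩⟩
    exact Nat.cast_ne_zero.mpr Nat.card_pos.ne'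
  have hc0 : (Nat.card {p : ↥(G F m) × ↥(G F m) // IsConj (c * x₀ * c⁻¹) p.1 ∧ IsConj (c * x₀ * c⁻¹) p.2 ∧
      p.1 * p.2 = d * g₀ * d⁻¹} : ℂ) ≠ 0 := by
    rw [hcount]
    exact mul_ne_zero (div_ne_zero (mul_ne_zero (hpos _) (hpos _)) natCard_ne_zero_complex) hne
  obtain ⟨⟨⟨p, q⟩, h1, h2, h3⟩⟩ := (Nat.card_ne_zero.mp (Nat.cast_ne_zero.mp hc0)).1
  obtain ⟨a, rfl⟩ := isConj_iff.mp h1
  obtain ⟨b, rfl⟩ := isConj_iff.mp h2
  exact ⟨a, b, h3.symm⟩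

end

end Cfsg.Agent.Lib.KnownA.Suz
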