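import Mathlib
import Cfsg.Agent.Lib.KnownA.SuzukiSolubilizer

/-! Transitive actions of the Suzuki group with fixity two. -/

set_option autoImplicit false
set_option maxHeartbeats 400000

namespace Cfsg.Agent.Lib.KnownA.Suz

open Matrix Cfsg.Lie
open scoped Classical

set_option linter.unusedSectionVars false

noncomputable section

variable {F : Type*} [Field F] [Fintype F] [CharP F 2] {m : ℕ} (hθ : ∀ x : F, szTh m (szTh m x) = x * x)

theorem fix_bound {H₀ : Type*} [Group H₀] [Finite H₀] (H : Subgroup H₀)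
    (hfx : ∀ g : H₀, g ≠ 1 → Nat.card (MulAction.fixedBy (H₀ ⧸ H) g) ≤ 2) {g : H₀} (hg : g ≠ 1) (K : Subgroup H₀)
    (hK : ∀ x ∈ K, x⁻¹ * g * x ∈ H) : Nat.card K ≤ 2 * Nat.card ↥(K ⊓ H) := by
  have hmem : ∀ x : ↥K, g • ((x.1 : H₀) : H₀ ⧸ H) = ((x.1 : H₀) : H₀ ⧸ H) := fun x => by
    show ((g * x.1 : H₀) : H₀ ⧸ H) = _
    rw [QuotientGroup.eq]
    rw [show (g * x.1)⁻¹ * x.1 = (x.1⁻¹ * g * x.1)⁻¹ by group]
    exact inv_mem (hK _ x.2)
  let f : ↥K ⧸ (H.subgroupOf K) → MulAction.fixedBy (H₀ ⧸ H) g :=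
    fun q => Quotient.liftOn' q (fun x => (⟨_, hmem x⟩ : MulAction.fixedBy (H₀ ⧸ H) g)) fun x y h => by
      apply Subtype.ext
      show ((x.1 : H₀) : H₀ ⧸ H) = ((y.1 : H₀) : H₀ ⧸ H)
      rw [QuotientGroup.eq]
      exact Subgroup.mem_subgroupOf.mp (QuotientGroup.leftRel_apply.mp h)
  have hf : Function.Injective f := by
    intro a b h
    induction a using QuotientGroup.induction_on with | _ x =>
    induction b using QuotientGroup.induction_on with | _ y =>
    have h' : ((x.1 : H₀) : H₀ ⧸ H) = ((y.1 : H₀) : H₀ ⧸ H) := congrArg Subtype.val h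
    rw [QuotientGroup.eq] at h' ⊢
    exact Subgroup.mem_subgroupOf.mpr h'
  have h2 := (Nat.card_le_card_of_injective f hf).trans (hfx g hg)
  rw [← Subgroup.index_eq_card] at h2
  rw [← (H.subgroupOf K).card_mul_index, mul_comm]
  refine Nat.mul_le_mul h2 (le_of_eq ?_)
  have e : (H.subgroupOf K).map K.subtype = K ⊓ H := (Subgroup.subgroupOf_map_subtype H K).trans (inf_comm H K)
  rw [← e, Subgroup.card_map_of_injective K.subtype_injective]

theorem free_mod {H₀ : Type*} [Group H₀] [Finite H₀] (H : Subgroup H₀)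
    (hfx : ∀ g : H₀, g ≠ 1 → Nat.card (MulAction.fixedBy (H₀ ⧸ H) g) ≤ 2) (A : Subgroup H₀) [IsMulCommutative A]
    (hodd : ¬ 2 ∣ Nat.card A) (h1 : 1 < Nat.card A) : ∃ j f, f ≤ 2 ∧ H.index = j * Nat.card A + f := by
  haveI := Fintype.ofFinite (H₀ ⧸ H)
  haveI := Fintype.ofFinite ↥A
  have hS : ∀ p : H₀ ⧸ H, p ∈ MulAction.fixedPoints ↥A (H₀ ⧸ H) ∨ MulAction.stabilizer ↥A p = ⊥ := by
    intro p
    rcases eq_or_ne (MulAction.stabilizer ↥A p) ⊥ with h | h
    · exact Or.inr h
    · left
      obtain ⟨z, hz, hz1⟩ := (Subgroup.bot_or_exists_ne_one _).resolve_left h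
      have hsub : MulAction.orbit ↥A p ⊆ MulAction.fixedBy (H₀ ⧸ H) z.1 := by
        rintro _ ⟨w, rfl⟩
        show z.1 • (w.1 • p) = w.1 • p
        have e : z.1 * w.1 = w.1 * z.1 := congrArg Subtype.val (mul_comm' z w)
        rw [smul_smul, e, ← smul_smul]
        exact congrArg _ hz
      have hcard : Nat.card (MulAction.orbit ↥A p) ≤ 2 :=
        (Nat.card_mono (Set.toFinite _) hsub).trans (hfx z.1 fun e => hz1 (Subtype.ext e))
      have hd : Nat.card (MulAction.orbit ↥A p) ∣ Nat.card A := by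
        rw [Nat.card_congr (MulAction.orbitEquivQuotientStabilizer ↥A p)]
        exact Subgroup.card_quotient_dvd_card _
      have h1' : Nat.card (MulAction.orbit ↥A p) = 1 := by
        have hpos : 0 < Nat.card (MulAction.orbit ↥A p) := Nat.card_pos_iff.mpr ⟨⟨⟨p, MulAction.mem_orbit_self p⟩⟩, inferInstance⟩
        rcases Nat.lt_or_ge (Nat.card (MulAction.orbit ↥A p)) 2 with h | h
        · omega
        · exact absurd (by have : Nat.card (MulAction.orbit ↥A p) = 2 := by omega
                           rw [this] at hd; exact hd) hodd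
      intro a
      haveI := (Nat.card_eq_one_iff_unique.mp h1').1
      exact congrArg Subtype.val (Subsingleton.elim (⟨a • p, MulAction.mem_orbit p a⟩ : MulAction.orbit ↥A p)
        ⟨p, MulAction.mem_orbit_self p⟩)
  set Fix := MulAction.fixedPoints ↥A (H₀ ⧸ H)
  refine ⟨Nat.card (Quotient (MulAction.orbitRel ↥A (H₀ ⧸ H))) - Nat.card Fix, Nat.card Fix, ?_, ?_⟩
  · haveI := Finite.one_lt_card_iff_nontrivial.mp h1
    obtain ⟨z, hz⟩ := exists_ne (1 : ↥A)
    refine (Nat.card_mono (Set.toFinite _) (fun p hp => ?_)).trans (hfx z.1 fun e => hz (Subtype.ext e))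
    exact hp z
  · haveI := Fintype.ofFinite (Quotient (MulAction.orbitRel ↥A (H₀ ⧸ H)))
    let P : Quotient (MulAction.orbitRel ↥A (H₀ ⧸ H)) → Prop := fun ω => ω.out ∈ Fix
    have hiff : Nat.card {ω // P ω} = Nat.card Fix := by
      refine Nat.card_congr ⟨fun ω => ⟨ω.1.out, ω.2⟩, fun p => ⟨Quotient.mk'' p.1, ?_⟩, ?_, ?_⟩
      · show (Quotient.mk'' p.1 : Quotient (MulAction.orbitRel ↥A (H₀ ⧸ H))).out ∈ Fix
        obtain ⟨a, ha⟩ := (Quotient.mk_out (s := MulAction.orbitRel ↥A (H₀ ⧸ H)) p.1)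
        intro b
        simp only at ha
        erw [← ha, p.2 a, p.2 b]
      · intro ω; exact Subtype.ext (Quotient.out_eq' ω.1)
      · intro p
        apply Subtype.ext
        obtain ⟨a, ha⟩ := (Quotient.mk_out (s := MulAction.orbitRel ↥A (H₀ ⧸ H)) p.1)
        simp only at ha
        exact (p.2 a).symm.trans ha |>.symm
    rw [Subgroup.index_eq_card, Nat.card_congr (MulAction.selfEquivSigmaOrbits ↥A (H₀ ⧸ H)), Nat.card_sigma]
    have hterm : ∀ ω : Quotient (MulAction.orbitRel ↥A (H₀ ⧸ H)),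
        Nat.card (MulAction.orbit ↥A ω.out) = if P ω then 1 else Nat.card A := by
      intro ω
      split_ifs with h
      · rw [Nat.card_eq_one_iff_unique]
        refine ⟨⟨?_⟩, ⟨⟨_, MulAction.mem_orbit_self _⟩⟩⟩
        rintro ⟨_, a, rfl⟩ ⟨_, b, rfl⟩
        exact Subtype.ext ((h a).trans (h b).symm)
      · rw [Nat.card_congr (MulAction.orbitEquivQuotientStabilizer ↥A ω.out), (hS ω.out).resolve_left h,
          ← Subgroup.index_eq_card, Subgroup.index_bot]
    rw [Finset.sum_congr rfl (fun ω _ => hterm ω), Finset.sum_ite, Finset.sum_const, Finset.sum_const, smul_eq_mul,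
      smul_eq_mul, mul_one, ← hiff, Nat.card_eq_fintype_card (α := {ω // P ω}), Fintype.card_subtype]
    have := Finset.card_filter_add_card_filter_not (s := Finset.univ) P
    rw [Finset.card_univ, ← Nat.card_eq_fintype_card] at this
    rw [← this, Nat.add_sub_cancel_left]
    ring

theorem mem_normalizer_of_map_le' {H₀ : Type*} [Group H₀] [Finite H₀] (E : Subgroup H₀) (x : H₀)
    (h : E.map (MulAut.conj x).toMonoidHom ≤ E) : x ∈ Subgroup.normalizer (E : Set H₀) := by
  have heq : E.map (MulAut.conj x).toMonoidHom = E :=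
    Subgroup.eq_of_le_of_card_ge h (Subgroup.card_map_of_injective (MulAut.conj x).injective).ge
  rw [Subgroup.mem_normalizer_iff]
  intro y
  constructor
  · exact fun hy => h ⟨y, hy, rfl⟩
  · intro hy
    rw [← heq, Subgroup.mem_map_equiv, MulAut.conj_symm_apply] at hy
    simpa [mul_assoc] using hy

include hθ

theorem conj_center' (a b : F) (k : Fˣ) (c : F) :
    u hθ a b * tor hθ k * u hθ 0 c * (u hθ a b * tor hθ k)⁻¹ = u hθ 0 (c / szTh m (k : F)) := by
  rw [show u hθ a b * tor hθ k * u hθ 0 c * (u hθ a b * tor hθ k)⁻¹ =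
    u hθ a b * (tor hθ k * u hθ 0 c * (tor hθ k)⁻¹) * (u hθ a b)⁻¹ by group, conj_u, zero_mul, zero_div,
    mul_inv_eq_iff_eq_mul, u_mul, u_mul]
  congr 1
  · rw [add_zero, zero_add]
  · rw [mul_zero, map_zero, zero_mul]; ring

theorem fixity_involution (hm : 1 ≤ m) (hF : Fintype.card F = 2 ^ (2 * m + 1)) (H : Subgroup ↥(G F m)) (hH : H ≠ ⊤)
    (hfx : ∀ g : ↥(G F m), g ≠ 1 → Nat.card (MulAction.fixedBy (↥(G F m) ⧸ H) g) ≤ 2)
    (ht : u hθ 0 1 ∈ H) : H = B hθ := by
  haveI : Fact (Nat.Prime 2) := ⟨Nat.prime_two⟩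
  have hq8 : 8 ≤ (Fintype.card F) := by
    rw [hF]; exact (Nat.pow_le_pow_right (by norm_num) (show 3 ≤ 2 * m + 1 by omega) : 2 ^ 3 ≤ _)
  have ht1 : u hθ 0 1 ≠ 1 := fun e => one_ne_zero (u_injective hθ (e.trans (u_zero hθ).symm)).2
  have hU2 : (Fintype.card F) * (Fintype.card F) ≤ 2 * Nat.card ↥(U hθ ⊓ H) := by
    have h := fix_bound H hfx ht1 (U hθ) (by
      rintro _ ⟨a, b, rfl⟩
      have e : (u hθ a b)⁻¹ * u hθ 0 1 * u hθ a b = u hθ 0 1 := by
        rw [mul_assoc, inv_mul_eq_iff_eq_mul, u_mul, u_mul]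
        congr 1
        · rw [add_zero, zero_add]
        · rw [map_zero, zero_mul, mul_zero]; ring
      rw [e]; exact ht)
    rwa [card_U hθ] at h
  have hZ : ∀ b, u hθ 0 b ∈ H := by
    intro b
    obtain ⟨a, ha⟩ := (th_mul_self_bij hθ).2 b
    simp only at ha
    have hidx : (H.subgroupOf (U hθ)).index ≤ 2 := by
      have h := (H.subgroupOf (U hθ)).card_mul_index
      have e : (H.subgroupOf (U hθ)).map (U hθ).subtype = U hθ ⊓ H := by
        rw [Subgroup.subgroupOf_map_subtype, inf_comm]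
      rw [← e, Subgroup.card_map_of_injective (U hθ).subtype_injective] at hU2
      rw [card_U hθ] at h
      by_contra hcon
      have h3 : 3 ≤ (H.subgroupOf (U hθ)).index := by omega
      have := Nat.mul_le_mul_left (Nat.card (H.subgroupOf (U hθ))) h3
      have hpos : 0 < (Fintype.card F) * (Fintype.card F) := by positivity
      omega
    have hsq : (⟨u hθ a 0, u_mem hθ a 0⟩ : ↥(U hθ)) * ⟨u hθ a 0, u_mem hθ a 0⟩ ∈ H.subgroupOf (U hθ) := by
      rcases Nat.lt_or_ge (H.subgroupOf (U hθ)).index 2 with h | h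
      · have h0 := Subgroup.index_ne_zero_of_finite (H := H.subgroupOf (U hθ))
        have h1 : (H.subgroupOf (U hθ)).index = 1 := by omega
        rw [Subgroup.index_eq_one.mp h1]; exact Subgroup.mem_top _
      · exact Subgroup.mul_self_mem_of_index_two (by omega) _
    rw [Subgroup.mem_subgroupOf, Subgroup.coe_mul, u_sq, ha] at hsq
    exact hsq
  have hHB : H ≤ B hθ := by
    by_contra hne
    obtain ⟨h₀, hh₀, hn₀⟩ := SetLike.not_le_iff_exists.mp hne
    let O : Finset (Pts F) := Finset.univ.filter fun o => ∃ h ∈ H, act hθ h none = o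
    have hlow : ∀ o ∈ O, o ≠ none → Nat.card ↥(U hθ ⊓ H) ≤ (O.erase none).card := by
      intro o ho hne'
      rw [← Nat.card_eq_finsetCard]
      refine Nat.card_le_card_of_injective (fun x => ⟨act hθ x.1 o, Finset.mem_erase.mpr ⟨?_, ?_⟩⟩) ?_
      · intro e
        have := act_injective hθ x.1 (e.trans ((mem_B hθ).mp (U_le_B hθ x.2.1)).symm)
        exact hne' this
      · obtain ⟨h, hh, he⟩ := (Finset.mem_filter.mp ho).2
        exact Finset.mem_filter.mpr ⟨Finset.mem_univ _, x.1 * h, mul_mem x.2.2 hh, by rw [act_mul, he]⟩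
      · intro x y e
        have e' : act hθ (y.1⁻¹ * x.1) o = o := by
          rw [act_mul, show act hθ x.1 o = act hθ y.1 o from congrArg Subtype.val e, act_inv_act]
        obtain ⟨a, b, hab⟩ : y.1⁻¹ * x.1 ∈ U hθ := mul_mem (inv_mem y.2.1) x.2.1
        by_contra hxy
        have hne2 : u hθ a b ≠ 1 := fun e2 => hxy (Subtype.ext (inv_mul_eq_one.mp (hab.trans e2)).symm)
        exact hne' (u_fix_only hθ hne2 (hab ▸ e'))
    have hnoneO : none ∈ O := Finset.mem_filter.mpr ⟨Finset.mem_univ _, 1, one_mem H, act_one hθ _⟩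
    have ho₁ : act hθ h₀ none ∈ O := Finset.mem_filter.mpr ⟨Finset.mem_univ _, h₀, hh₀, rfl⟩
    have hcardO : (Fintype.card F) * (Fintype.card F) + 2 ≤ 2 * O.card := by
      have h := hlow _ ho₁ (fun e => hn₀ ((mem_B hθ).mpr e))
      rw [Finset.card_erase_of_mem hnoneO] at h
      have := Finset.card_pos.mpr ⟨_, hnoneO⟩
      omega
    have horbit : Nat.card H = O.card * Nat.card ↥(H ⊓ B hθ) := by
      choose r hr hr' using fun o : {o // o ∈ O} => (Finset.mem_filter.mp o.2).2
      rw [← Nat.card_eq_finsetCard, ← Nat.card_prod]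
      refine (Nat.card_congr (Equiv.ofBijective
        (fun p : {o // o ∈ O} × ↥(H ⊓ B hθ) => (⟨r p.1 * p.2.1, mul_mem (hr p.1) p.2.2.1⟩ : ↥H)) ⟨?_, ?_⟩)).symm
      · rintro ⟨o, x⟩ ⟨o', x'⟩ e
        have e' : r o * x.1 = r o' * x'.1 := congrArg Subtype.val e
        have hh := congrArg (fun g => act hθ g none) e'
        simp only [act_mul, (mem_B hθ).mp x.2.2, (mem_B hθ).mp x'.2.2, hr'] at hh
        obtain rfl := Subtype.ext hh
        exact Prod.ext rfl (Subtype.ext (mul_left_cancel e'))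
      · rintro ⟨h, hh⟩
        let o : {o // o ∈ O} := ⟨act hθ h none, Finset.mem_filter.mpr ⟨Finset.mem_univ _, h, hh, rfl⟩⟩
        refine ⟨(o, ⟨(r o)⁻¹ * h, H.mul_mem (H.inv_mem (hr o)) hh, ?_⟩), Subtype.ext (mul_inv_cancel_left _ _)⟩
        show act hθ ((r o)⁻¹ * h) none = none
        have e : act hθ h none = act hθ (r o) none := (hr' o).symm
        rw [act_mul, e, act_inv_act]
    by_cases hall : ∀ o, o ∈ O
    · -- transitive on the ovoid: the index is too small
      have hO : O.card = (Fintype.card F) * (Fintype.card F) + 1 := by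
        rw [show O = Finset.univ from Finset.eq_univ_iff_forall.mpr hall, Finset.card_univ, Fintype.card_option,
          Fintype.card_prod]
      have hidx : H.index * Nat.card ↥(H ⊓ B hθ) = (Fintype.card F) * (Fintype.card F) * ((Fintype.card F) - 1) := by
        have h := H.index_mul_card
        rw [horbit, hO, card_sz hθ] at h
        refine Nat.eq_of_mul_eq_mul_left (show 0 < (Fintype.card F) * (Fintype.card F) + 1 by omega) ?_
        linarith
      have hle : (Fintype.card F) * (Fintype.card F) ≤ 2 * Nat.card ↥(H ⊓ B hθ) := hU2.trans (Nat.mul_le_mul_left 2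
        (Nat.card_le_card_of_injective (Subgroup.inclusion (show U hθ ⊓ H ≤ H ⊓ B hθ from
          le_inf inf_le_right (inf_le_left.trans (U_le_B hθ)))) (Subgroup.inclusion_injective _)))
      have hn : H.index ≤ 2 * ((Fintype.card F) - 1) := by
        by_contra hcon
        have h1 := Nat.mul_le_mul_right (Nat.card ↥(H ⊓ B hθ)) (Nat.succ_le_of_lt (not_le.mp hcon))
        rw [hidx, Nat.succ_mul] at h1
        have h2 := Nat.mul_le_mul_left ((Fintype.card F) - 1) hle
        have hpos : 0 < Nat.card ↥(H ⊓ B hθ) := Nat.card_pos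
        have e1 : ((Fintype.card F) - 1) * ((Fintype.card F) * (Fintype.card F)) = (Fintype.card F) * (Fintype.card F) * ((Fintype.card F) - 1) := by ring
        have e2 : ((Fintype.card F) - 1) * (2 * Nat.card ↥(H ⊓ B hθ)) = 2 * ((Fintype.card F) - 1) * Nat.card ↥(H ⊓ B hθ) := by ring
        omega
      obtain ⟨A₁, A₂, hA₁, hA₂, hc₁, hc₂, -, -, -⟩ := exists_tori hθ hm hF
      haveI := torus_cyclic hθ hF hA₁
      haveI := torus_cyclic hθ hF hA₂
      letI := IsCyclic.commGroup (α := ↥A₁)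
      letI := IsCyclic.commGroup (α := ↥A₂)
      haveI : IsMulCommutative A₁ := ⟨⟨mul_comm⟩⟩
      haveI : IsMulCommutative A₂ := ⟨⟨mul_comm⟩⟩
      obtain ⟨j₁, f₁, hf₁, e₁⟩ := free_mod H hfx A₁ (ss_not_two_dvd hθ hF (Or.inr hA₁)) (torus_one_lt hθ hA₁)
      obtain ⟨j₂, f₂, hf₂, e₂⟩ := free_mod H hfx A₂ (ss_not_two_dvd hθ hF (Or.inr hA₂)) (torus_one_lt hθ hA₂)
      have hdiv : H.index ∣ (Fintype.card F) * (Fintype.card F) * ((Fintype.card F) - 1) := Dvd.intro _ hidx
      have hne1 : H.index ≠ 1 := fun h => hH (Subgroup.index_eq_one.mp h)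
      have hne2 : H.index ≠ 2 := fun h => by
        haveI := isSimple hθ hm hF
        haveI := Subgroup.normal_of_index_eq_two h
        rcases IsSimpleGroup.eq_bot_or_eq_top_of_normal H ‹_› with e | e
        · exact ht1 ((Subgroup.mem_bot).mp (e ▸ ht))
        · exact hH e
      have hn0 := Subgroup.index_ne_zero_of_finite (H := H)
      rw [hc₁] at e₁
      rw [hc₂] at e₂
      rw [hF] at hn hdiv hq8
      have hj₁ : j₁ = 1 := by
        rcases j₁ with _ | _ | j
        · omega
        · rfl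
        · exfalso
          rw [Nat.succ_mul, Nat.succ_mul] at e₁
          have := Nat.two_pow_pos (m + 1)
          omega
      subst hj₁
      rw [one_mul] at e₁
      by_cases hm1 : m = 1
      · subst hm1
        norm_num at e₁ e₂ hn hdiv
        have hj : j₂ ≤ 2 := by omega
        interval_cases j₂ <;> interval_cases f₂ <;> interval_cases f₁ <;> first | omega | (rw [e₁] at hdiv; norm_num at hdiv)
      · -- the index is `(Fintype.card F) + s + 1 + f`, at most `2q - 2` and a divisor of `q²((Fintype.card F) - 1)`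
        have hgap : 4 * 2 ^ (m + 1) ≤ 2 ^ (2 * m + 1) := by
          rw [show 4 * 2 ^ (m + 1) = 2 ^ (m + 3) by ring]
          exact Nat.pow_le_pow_right (by norm_num) (by omega)
        obtain ⟨d, hd⟩ := hdiv
        -- a divisor of `q²((Fintype.card F)-1)` between `(Fintype.card F)` and `2q - 2` is a power of two times a divisor of `(Fintype.card F) - 1`
        set q' := 2 ^ (2 * m + 1) with hq'
        have hqq : q' = (Fintype.card F) := by rw [hF]
        have hcase := hidx
        rw [e₁] at hcase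
        rw [hqq] at hn e₁ hgap
        set I := Nat.card ↥(H ⊓ B hθ)
        -- `2 I ≥ q²` and `index · I = q²((Fintype.card F)-1)` force `I = q²((Fintype.card F)-1)/index < q²`
        have hI2 : 2 * I < 2 * ((Fintype.card F) * (Fintype.card F)) := by
          have h3 : (Fintype.card F) * I < ((Fintype.card F) + 2 ^ (m + 1) + 1 + f₁) * I :=
            Nat.mul_lt_mul_of_pos_right (by omega) Nat.card_pos
          rw [← hqq] at h3
          rw [hcase] at h3
          rw [hqq] at h3
          have h4 : (Fintype.card F) * (Fintype.card F) * ((Fintype.card F) - 1) ≤ (Fintype.card F) * ((Fintype.card F) * (Fintype.card F)) := by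
            rw [mul_comm (Fintype.card F) ((Fintype.card F) * (Fintype.card F))]; exact Nat.mul_le_mul_left _ (Nat.sub_le (Fintype.card F) 1)
          have := Nat.lt_of_mul_lt_mul_left (lt_of_lt_of_le h3 h4)
          omega
        have hUle : Nat.card ↥(U hθ ⊓ H) ∣ I := Subgroup.card_dvd_of_le
          (le_inf inf_le_right (inf_le_left.trans (U_le_B hθ)))
        obtain ⟨e, he⟩ := hUle
        have hU3 : Nat.card ↥(U hθ ⊓ H) ≤ (Fintype.card F) * (Fintype.card F) := by
          rw [← card_U hθ]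
          exact Nat.card_le_card_of_injective (Subgroup.inclusion inf_le_left) (Subgroup.inclusion_injective _)
        have hUd : Nat.card ↥(U hθ ⊓ H) ∣ (Fintype.card F) * (Fintype.card F) := card_U hθ ▸ Subgroup.card_dvd_of_le inf_le_left
        obtain ⟨v, hv⟩ := hUd
        have hv2 : v ≤ 2 := by
          by_contra hcon
          have := Nat.mul_le_mul_left (Nat.card ↥(U hθ ⊓ H)) (not_le.mp hcon)
          omega
        have he1 : e = 1 := by
          rcases e with _ | _ | e
          · rw [mul_zero] at he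
            exact absurd he Nat.card_pos.ne'
          · rfl
          · exfalso
            rw [Nat.mul_succ, Nat.mul_succ] at he
            omega
        rw [he1, mul_one] at he
        -- so the index is `v ((Fintype.card F) - 1)`
        have hindex : (Fintype.card F) + 2 ^ (m + 1) + 1 + f₁ = v * ((Fintype.card F) - 1) := by
          refine Nat.eq_of_mul_eq_mul_right (show 0 < I from Nat.card_pos) ?_
          rw [← hqq, hcase, hqq, he, hv]; ring
        rcases v with _ | _ | v
        · omega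
        · omega
        · have : v = 0 := by omega
          subst this
          omega
    · -- not transitive: the orbit has `q²/2 + 1` points
      push Not at hall
      obtain ⟨o, ho⟩ := hall
      have hout : Nat.card ↥(U hθ ⊓ H) ≤ (Finset.univ \ O).card := by
        rw [← Nat.card_eq_finsetCard]
        refine Nat.card_le_card_of_injective (fun x => ⟨act hθ x.1 o, Finset.mem_sdiff.mpr ⟨Finset.mem_univ _, ?_⟩⟩) ?_
        · intro hx
          obtain ⟨h, hh, he⟩ := (Finset.mem_filter.mp hx).2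
          exact ho (Finset.mem_filter.mpr ⟨Finset.mem_univ _, x.1⁻¹ * h, mul_mem (inv_mem x.2.2) hh,
            by rw [act_mul, he, act_inv_act]⟩)
        · intro x y e
          have e' : act hθ (y.1⁻¹ * x.1) o = o := by
            rw [act_mul, show act hθ x.1 o = act hθ y.1 o from congrArg Subtype.val e, act_inv_act]
          obtain ⟨a, b, hab⟩ : y.1⁻¹ * x.1 ∈ U hθ := mul_mem (inv_mem y.2.1) x.2.1
          by_contra hxy
          have hne2 : u hθ a b ≠ 1 := fun e2 => hxy (Subtype.ext (inv_mul_eq_one.mp (hab.trans e2)).symm)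
          exact ho (u_fix_only hθ hne2 (hab ▸ e') ▸ hnoneO)
      rw [Finset.card_sdiff_of_subset (Finset.subset_univ _), Finset.card_univ, Fintype.card_option,
        Fintype.card_prod] at hout
      have hpos : 0 < (Fintype.card F) * (Fintype.card F) := by positivity
      have hOc : 2 * O.card = (Fintype.card F) * (Fintype.card F) + 2 := by omega
      have hd : O.card ∣ ((Fintype.card F) * (Fintype.card F) + 1) * ((Fintype.card F) * (Fintype.card F) * ((Fintype.card F) - 1)) := by
        rw [← card_sz hθ]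
        exact (Dvd.intro _ horbit.symm).trans (Subgroup.card_subgroup_dvd_card H)
      have h2q : 2 ∣ (Fintype.card F) := by rw [hF]; exact dvd_pow_self 2 (by omega)
      have h4q : 4 ∣ (Fintype.card F) * (Fintype.card F) := mul_dvd_mul h2q h2q
      have hc1 : Nat.Coprime O.card ((Fintype.card F) * (Fintype.card F) + 1) := by
        refine Nat.coprime_of_dvd fun p hp h1 h2 => ?_
        have h3 : p ∣ 2 * O.card := h1.mul_left 2
        rw [hOc, show (Fintype.card F) * (Fintype.card F) + 2 = ((Fintype.card F) * (Fintype.card F) + 1) + 1 from rfl] at h3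
        exact hp.not_dvd_one ((Nat.dvd_add_right h2).mp h3)
      have hc2 : Nat.Coprime O.card ((Fintype.card F) * (Fintype.card F)) := by
        have : Nat.Coprime O.card 2 := by
          rw [Nat.coprime_comm, Nat.Prime.coprime_iff_not_dvd Nat.prime_two]
          omega
        rw [hF, ← pow_add]
        exact this.pow_right _
      have hd' := hc2.dvd_of_dvd_mul_left (hc1.dvd_of_dvd_mul_left hd)
      have hle := Nat.le_of_dvd (by omega) hd'
      have : 8 * (Fintype.card F) ≤ (Fintype.card F) * (Fintype.card F) := Nat.mul_le_mul_right (Fintype.card F) hq8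
      omega
  -- now `H ≤ B`
  have hidx : (H.subgroupOf (B hθ)).index ≤ 2 := by
    have hb := fix_bound H hfx ht1 (B hθ) (fun x hx => by
      obtain ⟨a, b, k, hk⟩ := stab_none hθ (inv_mem hx : x⁻¹ ∈ B hθ)
      have e : x⁻¹ * u hθ 0 1 * x = x⁻¹ * u hθ 0 1 * x⁻¹⁻¹ := by rw [inv_inv]
      rw [e, hk, conj_center' hθ]
      exact hZ _)
    rw [inf_eq_right.mpr hHB] at hb
    have h := (H.subgroupOf (B hθ)).card_mul_index
    rw [Nat.card_congr (Subgroup.subgroupOfEquivOfLe hHB).toEquiv] at h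
    by_contra hcon
    have h3 : 3 ≤ (H.subgroupOf (B hθ)).index := by omega
    have := Nat.mul_le_mul_left (Nat.card H) h3
    have hpos : 0 < Nat.card H := Nat.card_pos
    omega
  refine le_antisymm hHB fun g hg => ?_
  by_contra hgH
  have hidx2 : (H.subgroupOf (B hθ)).index = 2 := by
    have h1 : (H.subgroupOf (B hθ)).index ≠ 1 := fun h => hgH (Subgroup.subgroupOf_eq_top.mp (Subgroup.index_eq_one.mp h) hg)
    have h0 := Subgroup.index_ne_zero_of_finite (H := H.subgroupOf (B hθ))
    omega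
  obtain ⟨t, ht0, ht1'⟩ := exists_two hθ hm hF
  set k := Units.mk0 t ht0
  have hk : k ≠ 1 := fun e => ht1' (congrArg Units.val e)
  set w := szTh m (k : F) / ((k : F) * k) with hw
  have hw1 : 1 + w ≠ 0 := fun h => hk (th_div_sq_eq_one hθ (by
    have := CharTwo.add_eq_zero.mp h
    rw [hw, eq_div_iff (mul_ne_zero k.ne_zero k.ne_zero), one_mul] at this
    exact this.symm))
  have hsq : ∀ x ∈ B hθ, x * x ∈ H := fun x hx => by
    have := Subgroup.mul_self_mem_of_index_two hidx2 ⟨x, hx⟩
    rwa [Subgroup.mem_subgroupOf, Subgroup.coe_mul] at this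
  have htor : ∀ l : Fˣ, tor hθ l ∈ H := by
    intro l
    obtain ⟨x, hx⟩ := Finite.surjective_of_injective (frobenius_inj F 2) (l : F)
    rw [frobenius_def, sq] at hx
    have hx0 : x ≠ 0 := fun h => l.ne_zero (by rw [← hx, h, mul_zero])
    have := hsq _ (tor_mem_B hθ (Units.mk0 x hx0))
    rwa [tor_mul, show Units.mk0 x hx0 * Units.mk0 x hx0 = l from Units.ext hx] at this
  have hu : ∀ a b, u hθ a b ∈ H := by
    intro a b
    set a' := a / (1 + w) with ha'
    have h := hsq _ (mul_mem (U_le_B hθ (u_mem hθ a' 0)) (tor_mem_B hθ k))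
    rw [show u hθ a' 0 * tor hθ k * (u hθ a' 0 * tor hθ k) =
      u hθ a' 0 * (tor hθ k * u hθ a' 0 * (tor hθ k)⁻¹) * (tor hθ k * tor hθ k) by group, conj_u, u_mul, tor_mul,
      Subgroup.mul_mem_cancel_right _ (htor _)] at h
    have ea : a' + a' * szTh m (k : F) / ((k : F) * k) = a := by
      rw [mul_div_assoc, ← hw, ← mul_one_add, ha', div_mul_cancel₀ _ hw1]
    rw [ea] at h
    set b' := 0 + 0 / szTh m (k : F) + szTh m a' * (a' * szTh m (k : F) / ((k : F) * k))
    have h2 := mul_mem h (hZ (b' + b))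
    rw [u_mul, add_zero, mul_zero, add_zero, ← add_assoc, CharTwo.add_self_eq_zero, zero_add] at h2
    exact h2
  obtain ⟨a, b, l, rfl⟩ := stab_none hθ hg
  exact hgH (mul_mem (hu a b) (htor l))

theorem fixity_odd (hm : 1 ≤ m) (hF : Fintype.card F = 2 ^ (2 * m + 1)) (H : Subgroup ↥(G F m)) (hne : H ≠ ⊥)
    (hfx : ∀ g : ↥(G F m), g ≠ 1 → Nat.card (MulAction.fixedBy (↥(G F m) ⧸ H) g) ≤ 2)
    (hodd : ¬ 2 ∣ Nat.card H) : Nat.card H = Fintype.card F - 1 := by
  have hq1 : 1 < (Fintype.card F) := Fintype.one_lt_card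
  have hkey : ∀ g ∈ H, g ≠ 1 → ∃ X, IsSS hθ X ∧ g ∈ X ∧ X ≤ H ∧ Nat.card X = (Fintype.card F) - 1 := by
    intro g hg hg1
    obtain ⟨X, hX, hgX⟩ : ∃ X, IsSS hθ X ∧ g ∈ X := by
      by_cases hfix : ∃ o, act hθ g o = o
      · obtain ⟨o, ho⟩ := hfix
        rcases fixed_cases hθ ho with ⟨c, a, b, h⟩ | ⟨c, k, -, h⟩
        · exfalso
          obtain ⟨r, hr⟩ := u_two_power hθ hF c a b
          rw [← h] at hr
          rcases r with _ | r
          · exact hg1 (orderOf_eq_one_iff.mp (by simpa using hr))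
          · refine hodd ((dvd_pow_self 2 (Nat.succ_ne_zero r)).trans ?_)
            rw [← hr, ← Subgroup.orderOf_mk g hg]; exact orderOf_dvd_natCard _
        · exact ⟨_, Or.inl ⟨c, rfl⟩, tor hθ k, ⟨k, rfl⟩, h.symm⟩
      · push Not at hfix
        exact ⟨_, Or.inr ⟨g, hfix, rfl⟩, Subgroup.mem_centralizer_singleton_iff.mpr rfl⟩
    set N := Subgroup.normalizer (X : Set ↥(G F m))
    have hK : ∀ x ∈ N, x⁻¹ * g * x ∈ H := by
      intro x hx
      have hxg : x⁻¹ * g * x ∈ X := by
        have := ((Subgroup.mem_normalizer_iff.mp (inv_mem hx)) g).mp hgX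
        rwa [inv_inv] at this
      haveI := ss_cyclic hθ hF hX
      obtain ⟨z, hz⟩ := IsCyclic.exists_generator (α := ↥X)
      obtain ⟨i, hi⟩ := hz ⟨g, hgX⟩
      obtain ⟨j, hj⟩ := hz ⟨x⁻¹ * g * x, hxg⟩
      have ho : orderOf (⟨x⁻¹ * g * x, hxg⟩ : ↥X) = orderOf (⟨g, hgX⟩ : ↥X) := by
        have := (MulAut.conj x⁻¹).orderOf_eq g
        rw [MulAut.conj_apply, inv_inv] at this
        exact (Subgroup.orderOf_mk _ hxg).trans (this.trans (Subgroup.orderOf_mk g hgX).symm)
      obtain ⟨l, hl⟩ : (⟨x⁻¹ * g * x, hxg⟩ : ↥X) ∈ Subgroup.zpowers (⟨g, hgX⟩ : ↥X) := by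
        haveI := Fintype.ofFinite ↥X
        have hle := IsCyclic.card_pow_eq_one_le (α := ↥X) (n := orderOf (⟨g, hgX⟩ : ↥X)) (orderOf_pos _)
        have hsub : (Finset.univ.filter fun y => y ∈ Subgroup.zpowers (⟨g, hgX⟩ : ↥X)) ⊆
            Finset.univ.filter fun y : ↥X => y ^ orderOf (⟨g, hgX⟩ : ↥X) = 1 := fun y hy => by
          simp only [Finset.mem_filter, Finset.mem_univ, true_and] at hy ⊢
          obtain ⟨w, rfl⟩ := hy
          rw [← zpow_natCast, ← _root_.zpow_mul, mul_comm, _root_.zpow_mul, zpow_natCast, pow_orderOf_eq_one, _root_.one_zpow]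
        have heq := Finset.eq_of_subset_of_card_le hsub (by
          rw [← Fintype.card_subtype (fun y => y ∈ Subgroup.zpowers (⟨g, hgX⟩ : ↥X))]
          refine hle.trans ?_
          rw [Fintype.card_zpowers])
        have hmem : (⟨x⁻¹ * g * x, hxg⟩ : ↥X) ∈ Finset.univ.filter fun y : ↥X => y ^ orderOf (⟨g, hgX⟩ : ↥X) = 1 :=
          Finset.mem_filter.mpr ⟨Finset.mem_univ _, by rw [← ho, pow_orderOf_eq_one]⟩
        rw [← heq] at hmem
        exact (Finset.mem_filter.mp hmem).2
      have hl' : g ^ l = x⁻¹ * g * x := congrArg Subtype.val hl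
      rw [← hl']
      exact zpow_mem hg l
    have hb := fix_bound H hfx hg1 N hK
    obtain ⟨j, hj, hN⟩ := ss_normalizer_card hθ hm hF hX
    have hle : N ⊓ H ≤ X := fun z hz => ss_odd_mem hθ hm hF hX hz.1 fun h => hodd (h.trans (by
      rw [← Subgroup.orderOf_mk z hz.2]; exact orderOf_dvd_natCard _))
    have hle' := Nat.card_le_card_of_injective (Subgroup.inclusion hle) (Subgroup.inclusion_injective hle)
    rcases hX with ⟨c, rfl⟩ | hX
    · refine ⟨_, Or.inl ⟨c, rfl⟩, hgX, ?_, by rw [Subgroup.card_map_of_injective (MulAut.conj c).injective, card_T hθ]⟩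
      rw [card_normalizer_map hθ, card_normalizer_T hθ hm hF] at hN
      have e : N ⊓ H = (T hθ).map (MulAut.conj c).toMonoidHom := by
        refine Subgroup.eq_of_le_of_card_ge hle ?_
        have : Nat.card N = 2 * Nat.card ((T hθ).map (MulAut.conj c).toMonoidHom) := by
          rw [card_normalizer_map hθ, card_normalizer_T hθ hm hF, Subgroup.card_map_of_injective (MulAut.conj c).injective]
        omega
      rw [← e]; exact inf_le_right
    · exfalso
      obtain ⟨_, _, -, -, -, -, -, h4, -⟩ := exists_tori hθ hm hF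
      have := h4 X hX
      have hpos : 0 < Nat.card X := Nat.card_pos
      change Nat.card N = _ at this
      omega
  obtain ⟨g, hg, hg1⟩ := H.bot_or_exists_ne_one.resolve_left hne
  obtain ⟨X, hX, hgX, hXH, hXc⟩ := hkey g hg hg1
  by_contra hne'
  haveI := Fintype.ofFinite ↥(G F m)
  let W : Subgroup ↥(G F m) → Finset ↥(G F m) := fun Y => (Finset.univ.filter fun z => z ∈ Y).erase 1
  let orbH : Subgroup ↥(G F m) → Finset (Subgroup ↥(G F m)) := fun Y =>
    (Finset.univ.filter fun h => h ∈ H).image fun h : ↥(G F m) => Y.map (MulAut.conj h).toMonoidHom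
  have hsum : ∀ Y, IsSS hθ Y → Y ≤ H → Nat.card Y = (Fintype.card F) - 1 →
      ((orbH Y).biUnion W).card = Nat.card H / ((Fintype.card F) - 1) * ((Fintype.card F) - 2) ∧ ((Fintype.card F) - 1) ∣ Nat.card H := by
    intro Y hY hYH hYc
    have hNH : Subgroup.normalizer (Y : Set ↥(G F m)) ⊓ H = Y := le_antisymm
      (fun z hz => ss_odd_mem hθ hm hF hY hz.1 fun h => hodd (h.trans (by
        rw [← Subgroup.orderOf_mk z hz.2]; exact orderOf_dvd_natCard _)))
      (le_inf Subgroup.le_normalizer hYH)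
    have hfib : ∀ h h' : ↥(G F m), h ∈ H → h' ∈ H →
        (Y.map (MulAut.conj h).toMonoidHom = Y.map (MulAut.conj h').toMonoidHom ↔ h'⁻¹ * h ∈ Y) := by
      intro h h' hh hh'
      constructor
      · intro e
        rw [← hNH]
        refine ⟨mem_normalizer_of_map_le' Y _ ?_, H.mul_mem (H.inv_mem hh') hh⟩
        rintro _ ⟨z, hz, rfl⟩
        have : h * z * h⁻¹ ∈ Y.map (MulAut.conj h').toMonoidHom := e ▸ ⟨z, hz, rfl⟩
        rw [Subgroup.mem_map_equiv, MulAut.conj_symm_apply] at this
        show h'⁻¹ * h * z * (h'⁻¹ * h)⁻¹ ∈ Y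
        rwa [show h'⁻¹ * h * z * (h'⁻¹ * h)⁻¹ = h'⁻¹ * (h * z * h⁻¹) * h' by group]
      · intro hmem
        have hn := Subgroup.mem_normalizer_iff.mp (Subgroup.le_normalizer hmem : h'⁻¹ * h ∈ Subgroup.normalizer (Y : Set _))
        ext z
        rw [Subgroup.mem_map_equiv, Subgroup.mem_map_equiv, MulAut.conj_symm_apply, MulAut.conj_symm_apply,
          hn (h⁻¹ * z * h), show h'⁻¹ * h * (h⁻¹ * z * h) * (h'⁻¹ * h)⁻¹ = h'⁻¹ * z * h' by group]
    have hc : (orbH Y).card * ((Fintype.card F) - 1) = Nat.card H := by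
      have hcount := Finset.card_eq_sum_card_fiberwise
        (f := fun h : ↥(G F m) => Y.map (MulAut.conj h).toMonoidHom)
        (s := Finset.univ.filter fun h => h ∈ H) (t := orbH Y) (fun h hh => Finset.mem_image_of_mem _ hh)
      rw [← Fintype.card_subtype, ← Nat.card_eq_fintype_card] at hcount
      rw [hcount]
      refine (Finset.sum_const_nat fun Z hZ => ?_).symm
      obtain ⟨h', hh', rfl⟩ := Finset.mem_image.mp hZ
      have hh'' := (Finset.mem_filter.mp hh').2
      rw [← hYc, Nat.card_eq_fintype_card, Fintype.card_subtype]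
      refine Finset.card_bij (fun z _ => h'⁻¹ * z) ?_ (fun a _ b _ e => mul_left_cancel e)
        (fun z hz => ⟨h' * z, ?_, inv_mul_cancel_left _ _⟩)
      · intro z hz
        simp only [Finset.mem_filter, Finset.mem_univ, true_and] at hz
        exact Finset.mem_filter.mpr ⟨Finset.mem_univ _, (hfib z h' hz.1 hh'').mp hz.2⟩
      · simp only [Finset.mem_filter, Finset.mem_univ, true_and] at hz ⊢
        exact ⟨mul_mem hh'' (hYH hz), (hfib _ h' (mul_mem hh'' (hYH hz)) hh'').mpr (by rwa [inv_mul_cancel_left])⟩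
    refine ⟨?_, Dvd.intro_left _ hc⟩
    rw [Finset.card_biUnion]
    · rw [Finset.sum_congr rfl (fun Z hZ => ?_), Finset.sum_const, smul_eq_mul, ← hc,
        Nat.mul_div_cancel _ (by omega)]
      obtain ⟨h', -, rfl⟩ := Finset.mem_image.mp hZ
      show (Finset.erase _ 1).card = _
      rw [Finset.card_erase_of_mem (Finset.mem_filter.mpr ⟨Finset.mem_univ _, one_mem _⟩), ← Fintype.card_subtype,
        ← Nat.card_eq_fintype_card, Subgroup.card_map_of_injective (MulAut.conj h').injective, hYc]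
      omega
    · intro Z hZ Z' hZ' hne''
      simp only [Function.onFun]
      rw [Finset.disjoint_left]
      intro z h1 h2
      simp only [W, Finset.mem_erase, Finset.mem_filter, Finset.mem_univ, true_and] at h1 h2
      obtain ⟨a, -, rfl⟩ := Finset.mem_image.mp hZ
      obtain ⟨b, -, rfl⟩ := Finset.mem_image.mp hZ'
      exact hne'' (ss_unique hθ hF (ss_conj hθ hY a) (ss_conj hθ hY b) h1.1 h1.2 h2.2)
  obtain ⟨hc₁, hdvd⟩ := hsum X hX hXH hXc
  have hWH : ∀ Y, Y ≤ H → (orbH Y).biUnion W ⊆ (Finset.univ.filter fun z => z ∈ H).erase 1 := by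
    intro Y hYH z hz
    obtain ⟨Z, hZ, hzZ⟩ := Finset.mem_biUnion.mp hz
    obtain ⟨h, hh, rfl⟩ := Finset.mem_image.mp hZ
    simp only [W, Finset.mem_erase, Finset.mem_filter, Finset.mem_univ, true_and] at hzZ hh ⊢
    obtain ⟨hz1, y, hy, rfl⟩ := hzZ
    exact ⟨hz1, mul_mem (mul_mem hh (hYH hy)) (inv_mem hh)⟩
  have hHc : ((Finset.univ.filter fun z => z ∈ H).erase 1).card = Nat.card H - 1 := by
    rw [Finset.card_erase_of_mem (Finset.mem_filter.mpr ⟨Finset.mem_univ _, one_mem _⟩), ← Fintype.card_subtype,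
      Nat.card_eq_fintype_card]
  obtain ⟨d, hd⟩ := hdvd
  have hd1 : 2 ≤ d := by
    have hpos : 0 < Nat.card H := Nat.card_pos
    rcases d with _ | _ | d
    · omega
    · exact absurd (by simpa using hd) hne'
    · omega
  have hdd : Nat.card H / ((Fintype.card F) - 1) = d := by rw [hd, Nat.mul_div_cancel_left _ (by omega)]
  rw [hdd] at hc₁
  have hlt : ((orbH X).biUnion W).card < ((Finset.univ.filter fun z => z ∈ H).erase 1).card := by
    rw [hc₁, hHc, hd]
    obtain ⟨r, hr⟩ : ∃ r, (Fintype.card F) = r + 2 := ⟨(Fintype.card F) - 2, by omega⟩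
    rw [hr, show r + 2 - 1 = r + 1 from rfl, show r + 2 - 2 = r from rfl, Nat.add_mul, one_mul, mul_comm d r]
    omega
  obtain ⟨g', hg', hg'X⟩ := Finset.exists_mem_notMem_of_card_lt_card hlt
  simp only [Finset.mem_erase, Finset.mem_filter, Finset.mem_univ, true_and] at hg'
  obtain ⟨Y, hY, hgY, hYH, hYc⟩ := hkey g' hg'.2 hg'.1
  obtain ⟨hc₂, -⟩ := hsum Y hY hYH hYc
  rw [hdd] at hc₂
  have hd12 : Disjoint ((orbH X).biUnion W) ((orbH Y).biUnion W) := by
    rw [Finset.disjoint_left]
    intro z h1 h2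
    apply hg'X
    obtain ⟨Z, hZ, hzZ⟩ := Finset.mem_biUnion.mp h1
    obtain ⟨Z', hZ', hzZ'⟩ := Finset.mem_biUnion.mp h2
    simp only [W, Finset.mem_erase, Finset.mem_filter, Finset.mem_univ, true_and] at hzZ hzZ'
    obtain ⟨a, ha, rfl⟩ := Finset.mem_image.mp hZ
    obtain ⟨b, hb, rfl⟩ := Finset.mem_image.mp hZ'
    have e := ss_unique hθ hF (ss_conj hθ hX a) (ss_conj hθ hY b) hzZ.1 hzZ.2 hzZ'.2
    simp only [Finset.mem_filter, Finset.mem_univ, true_and] at ha hb
    refine Finset.mem_biUnion.mpr ⟨X.map (MulAut.conj (b⁻¹ * a)).toMonoidHom,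
      Finset.mem_image.mpr ⟨_, Finset.mem_filter.mpr ⟨Finset.mem_univ _, mul_mem (inv_mem hb) ha⟩, rfl⟩, ?_⟩
    simp only [W, Finset.mem_erase, Finset.mem_filter, Finset.mem_univ, true_and]
    refine ⟨hg'.1, ?_⟩
    have hb' : b * g' * b⁻¹ ∈ X.map (MulAut.conj a).toMonoidHom := e ▸ ⟨g', hgY, rfl⟩
    rw [Subgroup.mem_map_equiv, MulAut.conj_symm_apply] at hb' ⊢
    rwa [show (b⁻¹ * a)⁻¹ * g' * (b⁻¹ * a) = a⁻¹ * (b * g' * b⁻¹) * a by group]
  have h := Finset.card_le_card (Finset.union_subset (hWH X hXH) (hWH Y hYH))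
  rw [Finset.card_union_of_disjoint hd12, hc₁, hc₂, hHc, hd] at h
  obtain ⟨r, hr⟩ : ∃ r, (Fintype.card F) = r + 3 := ⟨(Fintype.card F) - 3, by
    have : 8 ≤ (Fintype.card F) := by rw [hF]; exact (Nat.pow_le_pow_right (by norm_num) (show 3 ≤ 2 * m + 1 by omega) : 2 ^ 3 ≤ _)
    omega⟩
  rw [hr, show r + 3 - 1 = r + 2 from rfl, show r + 3 - 2 = r + 1 from rfl, Nat.mul_add, Nat.add_mul] at h
  rw [mul_comm d r, mul_one] at h
  omega

end

end Cfsg.Agent.Lib.KnownA.Suz

namespace Cfsg.Agent.Lib.KnownA.Suz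

open Matrix Cfsg.Lie
open scoped Classical

noncomputable section

theorem fixity_two {X : Type*} [Group X] [Finite X] {F : Type*} [Field F] [Fintype F] [CharP F 2] {m : ℕ}
    (hθ : ∀ x : F, szTh m (szTh m x) = x * x) (hm : 1 ≤ m) (hF : Fintype.card F = 2 ^ (2 * m + 1)) (e : X ≃* ↥(G F m))
    {Ω : Type*} [Fintype Ω] [MulAction X Ω] [FaithfulSMul X Ω] [MulAction.IsPretransitive X Ω]
    (hfix : ∀ g : X, g ≠ 1 → Nat.card (MulAction.fixedBy Ω g) ≤ 2) (hex : ∃ g : X, g ≠ 1 ∧ Nat.card (MulAction.fixedBy Ω g) = 2) :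
    (Fintype.card Ω = Fintype.card F ^ 2 + 1 ∧ MulAction.IsMultiplyPretransitive X Ω 2) ∨
    (Fintype.card Ω = Fintype.card F ^ 2 * (Fintype.card F ^ 2 + 1) ∧
      ∀ α : Ω, Nat.card (MulAction.stabilizer X α) = Fintype.card F - 1) := by
  obtain ⟨g₀, hg₀, hg₀2⟩ := hex
  haveI : Finite Ω := inferInstance
  obtain ⟨⟨α, hα⟩⟩ : Nonempty (MulAction.fixedBy Ω g₀) := (Nat.card_pos_iff.mp (by omega)).1
  let St : Ω → Subgroup ↥(G F m) := fun β => (MulAction.stabilizer X β).map e.toMonoidHom
  have hmem : ∀ β g, g ∈ St β ↔ e.symm g • β = β := fun β g => by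
    simp only [St, Subgroup.mem_map_equiv, MulAction.mem_stabilizer_iff]
  have hidx : ∀ β, (St β).index = Fintype.card Ω := fun β => by
    simp only [St]
    erw [Subgroup.index_map_equiv]
    rw [MulAction.index_stabilizer_of_transitive, Nat.card_eq_fintype_card]
  have hfx : ∀ β, ∀ g : ↥(G F m), g ≠ 1 → Nat.card (MulAction.fixedBy (↥(G F m) ⧸ St β) g) ≤ 2 := by
    intro β g hg
    have hg' : e.symm g ≠ 1 := fun h => hg (by simpa using congrArg e h)
    let f : ↥(G F m) ⧸ St β → Ω := fun q => Quotient.liftOn' q (fun x => e.symm x • β) fun x y h => by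
      have := (hmem β _).mp (QuotientGroup.leftRel_apply.mp h)
      rwa [map_mul, map_inv, mul_smul, inv_smul_eq_iff, eq_comm] at this
    refine le_trans (Nat.card_le_card_of_injective (fun q => (⟨f q.1, ?_⟩ : MulAction.fixedBy Ω (e.symm g))) ?_) (hfix _ hg')
    · obtain ⟨q, hq⟩ := q
      induction q using QuotientGroup.induction_on with | _ x =>
      have h : ((g * x : ↥(G F m)) : ↥(G F m) ⧸ St β) = (x : ↥(G F m) ⧸ St β) := hq
      show e.symm g • e.symm x • β = e.symm x • β
      have := congrArg f h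
      change e.symm (g * x) • β = e.symm x • β at this
      rwa [map_mul, mul_smul] at this
    · rintro ⟨a, ha⟩ ⟨b, hb⟩ h
      apply Subtype.ext
      show a = b
      have h' : f a = f b := congrArg Subtype.val h
      induction a using QuotientGroup.induction_on with | _ x =>
      induction b using QuotientGroup.induction_on with | _ y =>
      rw [QuotientGroup.eq, hmem, map_mul, map_inv, mul_smul, inv_smul_eq_iff]
      exact h'.symm
  have hne : ∀ β, St β ≠ ⊥ := by
    intro β h
    have h1 : (St α).index = (St β).index := by rw [hidx, hidx]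
    have h2 : Nat.card (St α) = 1 := by
      have a := (St α).index_mul_card
      have b := (St β).index_mul_card
      rw [← h1, h, Subgroup.card_bot, mul_one] at b
      exact Nat.eq_of_mul_eq_mul_left (Nat.pos_of_ne_zero (Subgroup.index_ne_zero_of_finite)) (a.trans (b.symm.trans (mul_one _).symm))
    have : St α = ⊥ := Subgroup.card_eq_one.mp h2
    have hm0 : e g₀ ∈ St α := (hmem _ _).mpr (by rw [MulEquiv.symm_apply_apply]; exact hα)
    rw [this, Subgroup.mem_bot, map_eq_one_iff e e.injective] at hm0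
    exact hg₀ hm0
  have htop : ∀ β, St β ≠ ⊤ := by
    intro β h
    have h1 := hidx β
    rw [h, Subgroup.index_top] at h1
    haveI : Subsingleton Ω := Fintype.card_le_one_iff_subsingleton.mp h1.ge
    exact hg₀ (FaithfulSMul.eq_of_smul_eq_smul (α := Ω) fun x => Subsingleton.elim _ _)
  set q := Fintype.card F with hq
  have hq1 : 1 < q := Fintype.one_lt_card
  have hG := card_sz hθ (F := F) (m := m)
  rw [← hq] at hG
  by_cases hev : 2 ∣ Nat.card (St α)
  · left
    haveI : Fact (Nat.Prime 2) := ⟨Nat.prime_two⟩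
    obtain ⟨y, hy⟩ := exists_prime_orderOf_dvd_card' 2 hev
    obtain ⟨c, hc⟩ := involution_conj hθ hF (y := y.1) (by rw [Subgroup.orderOf_coe]; exact hy)
    set β := (e.symm c)⁻¹ • α
    have ht : u hθ 0 1 ∈ St β := by
      rw [hmem]
      have hy' := (hmem _ _).mp y.2
      rw [hc, map_mul, map_mul, map_inv, mul_smul, mul_smul] at hy'
      calc e.symm (u hθ 0 1) • β = (e.symm c)⁻¹ • e.symm c • e.symm (u hθ 0 1) • β := (inv_smul_smul _ _).symm
        _ = (e.symm c)⁻¹ • α := by rw [hy']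
    have hB := fixity_involution hθ hm hF (St β) (htop β) (hfx β) ht
    have hcard : Fintype.card Ω = q * q + 1 := by
      have h := (St β).index_mul_card
      rw [hidx, hB, card_B hθ, hG, ← hq] at h
      exact Nat.eq_of_mul_eq_mul_right (Nat.mul_pos (Nat.mul_pos (by omega) (by omega)) (by omega)) h
    refine ⟨by rw [hcard, sq], MulAction.is_two_pretransitive_iff.mpr ?_⟩
    choose c' hc' using fun o : Pts F => two_transitive hθ (o₁ := o) (o₂ := if o = none then some (0, 0) else none) (by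
      split_ifs with h
      · rw [h]; simp
      · exact h)
    let ψ : Pts F → Ω := fun o => e.symm (c' o) • β
    have heq : ∀ g o, e.symm g • ψ o = ψ (act hθ g o) := by
      intro g o
      have hmB : (c' (act hθ g o))⁻¹ * (g * c' o) ∈ St β := by
        rw [hB, mem_B hθ, act_mul, act_mul, (hc' o).1]
        have e1 := act_inv_act hθ (c' (act hθ g o)) none
        rwa [(hc' _).1] at e1
      have h := (hmem β _).mp hmB
      rw [map_mul, map_mul, map_inv, mul_smul, mul_smul, inv_smul_eq_iff] at h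
      exact h
    have hsur : ∀ x, ∃ o, ψ o = x := fun x => by
      obtain ⟨h, hh⟩ := MulAction.exists_smul_eq X (ψ none) x
      exact ⟨act hθ (e h) none, by rw [← heq, MulEquiv.symm_apply_apply, hh]⟩
    intro a b a' b' hab hab'
    obtain ⟨oa, rfl⟩ := hsur a
    obtain ⟨ob, rfl⟩ := hsur b
    obtain ⟨oa', rfl⟩ := hsur a'
    obtain ⟨ob', rfl⟩ := hsur b'
    obtain ⟨g, hg1, hg2⟩ := two_transitive hθ (o₁ := oa) (o₂ := ob) fun h => hab (by rw [h])
    obtain ⟨g', hg1', hg2'⟩ := two_transitive hθ (o₁ := oa') (o₂ := ob') fun h => hab' (by rw [h])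
    refine ⟨e.symm (g' * g⁻¹), ?_, ?_⟩
    · rw [heq, act_mul, ← hg1, act_inv_act, hg1']
    · rw [heq, act_mul, ← hg2, act_inv_act, hg2']
  · right
    have hc := fixity_odd hθ hm hF (St α) (hne α) (hfx α) hev
    rw [← hq] at hc
    have h := (St α).index_mul_card
    rw [hidx, hc, hG] at h
    have hΩ : Fintype.card Ω = (q * q + 1) * (q * q) :=
      Nat.eq_of_mul_eq_mul_right (show 0 < q - 1 by omega) (by rw [h]; ring)
    refine ⟨by rw [hΩ]; ring, fun β => ?_⟩
    rw [← Subgroup.card_map_of_injective (f := e.toMonoidHom) e.injective]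
    have h' := (St β).index_mul_card
    rw [hidx, hG, hΩ] at h'
    exact Nat.eq_of_mul_eq_mul_left (show 0 < (q * q + 1) * (q * q) by positivity) (by rw [h']; ring)

end

end Cfsg.Agent.Lib.KnownA.Suz
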