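import Mathlib
import Cfsg.Agent.Lib.KnownA.SuzukiSolubilizer

/-! The sizes of the solubilisers in the Suzuki group. -/

set_option autoImplicit false
set_option maxHeartbeats 800000

namespace Cfsg.Agent.Lib.KnownA.Suz

open Matrix Cfsg.Lie
open scoped Classical

set_option linter.unusedSectionVars false

noncomputable section

variable {F : Type*} [Field F] [Fintype F] [CharP F 2] {m : ℕ} (hθ : ∀ x : F, szTh m (szTh m x) = x * x)

include hθ

theorem card_Stab (o : Pts F) : Nat.card (Stab hθ o) = Nat.card (B hθ) := by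
  obtain ⟨c, hc⟩ := exists_conj_stab hθ o
  rw [stab_eq_map hθ hc, Subgroup.card_map_of_injective (MulAut.conj c).injective]

theorem split_no_fixed (hm : 1 ≤ m) (hF : Fintype.card F = 2 ^ (2 * m + 1)) (c : ↥(G F m)) {y : ↥(G F m)}
    (hy : y ∈ Subgroup.normalizer ((T hθ).map (MulAut.conj c).toMonoidHom : Set ↥(G F m)))
    (hyX : y ∉ (T hθ).map (MulAut.conj c).toMonoidHom) :
    act hθ y (act hθ c none) ≠ act hθ c none ∧ act hθ y (act hθ c (some (0, 0))) ≠ act hθ c (some (0, 0)) := by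
  obtain ⟨t, ht0, ht1⟩ := exists_two hθ hm hF
  set k := Units.mk0 t ht0
  have hk : k ≠ 1 := fun e => ht1 (congrArg Units.val e)
  have hmem : c⁻¹ * y * c * tor hθ k * (c⁻¹ * y * c)⁻¹ ∈ T hθ := by
    have h := ((Subgroup.mem_normalizer_iff.mp hy) (c * tor hθ k * c⁻¹)).mp ⟨tor hθ k, ⟨k, rfl⟩, rfl⟩
    rw [Subgroup.mem_map_equiv, MulAut.conj_symm_apply] at h
    rwa [show c⁻¹ * (y * (c * tor hθ k * c⁻¹) * y⁻¹) * c = c⁻¹ * y * c * tor hθ k * (c⁻¹ * y * c)⁻¹ by group] at h
  rcases T_normalizer hθ hk hmem with ⟨l, hl⟩ | ⟨l, hl⟩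
  · exact absurd (by rw [Subgroup.mem_map_equiv, MulAut.conj_symm_apply, hl]; exact ⟨l, rfl⟩) hyX
  · have e : y = c * (wel hθ * tor hθ l) * c⁻¹ := by rw [← hl]; group
    constructor
    · rw [e, Ne, fix_iff_conj, act_mul, act_tor_none, act_wel_none]; simp
    · rw [e, Ne, fix_iff_conj, act_mul, act_tor_some]
      simp [act_wel_zero]

theorem inter_stab_card (hm : 1 ≤ m) (hF : Fintype.card F = 2 ^ (2 * m + 1)) {X : Subgroup ↥(G F m)}
    (hX : IsSS hθ X) {k : ℕ} (hk : Nat.card (Subgroup.normalizer (X : Set ↥(G F m))) = k * Nat.card X)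
    (hk2 : k = 2 ∨ k = 4) {x : ↥(G F m)} (hx1 : x ≠ 1) (hx2 : ∃ r, orderOf x = 2 ^ r)
    (hxN : x ∈ Subgroup.normalizer (X : Set ↥(G F m))) {o : Pts F} (ho : act hθ x o = o)
    (huniq : ∀ o', act hθ x o' = o' → o' = o) :
    Nat.card ↥(Subgroup.normalizer (X : Set ↥(G F m)) ⊓ Stab hθ o) = k := by
  haveI : Fact (Nat.Prime 2) := ⟨Nat.prime_two⟩
  set N := Subgroup.normalizer (X : Set ↥(G F m)) with hN
  have hxX : x ∉ X := by
    intro h
    obtain ⟨r, hr⟩ := hx2
    have hd : orderOf x ∣ Nat.card X := by rw [← Subgroup.orderOf_mk x h]; exact orderOf_dvd_natCard _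
    rw [hr] at hd
    rcases r with _ | r
    · exact hx1 (orderOf_eq_one_iff.mp (by simpa using hr))
    · exact ss_not_two_dvd hθ hF hX ((dvd_pow_self 2 (Nat.succ_ne_zero r)).trans hd)
  have hdisj : ∀ z, z ∈ X → act hθ z o = o → z = 1 := by
    intro z hz hzo
    by_contra hz1
    rcases hX with ⟨c, rfl⟩ | hX
    · obtain ⟨h1, h2⟩ := split_no_fixed hθ hm hF c hxN hxX
      obtain ⟨t, ⟨l, rfl⟩, rfl⟩ := hz
      have hl : l ≠ 1 := fun e => hz1 (by rw [e, map_one, map_one])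
      have e : act hθ (tor hθ l) (act hθ c⁻¹ o) = act hθ c⁻¹ o := by
        refine (fix_iff_conj hθ (c := c)).mp ?_
        rw [← act_mul hθ c c⁻¹, mul_inv_cancel, act_one]
        exact hzo
      have ho' : o = act hθ c (act hθ c⁻¹ o) := by rw [← act_mul, mul_inv_cancel, act_one]
      rcases tor_fix hθ hl e with e' | e' <;> rw [e'] at ho'
      · exact h1 (by rw [← ho', ho])
      · exact h2 (by rw [← ho', ho])
    · exact torus_mem_fpf hθ hX hz hz1 o hzo
  apply le_antisymm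
  · have hinj : Function.Injective (fun p : ↥(N ⊓ Stab hθ o) × ↥X =>
        (⟨p.1.1 * p.2.1, mul_mem p.1.2.1 (Subgroup.le_normalizer p.2.2)⟩ : ↥N)) := by
      rintro ⟨⟨a, ha⟩, b⟩ ⟨⟨a', ha'⟩, b'⟩ h
      have h' : a * b.1 = a' * b'.1 := congrArg Subtype.val h
      have e : a'⁻¹ * a = b'.1 * b.1⁻¹ := by
        rw [eq_mul_inv_iff_mul_eq, mul_assoc, h', inv_mul_cancel_left]
      have h1 : a'⁻¹ * a = 1 :=
        hdisj _ (by rw [e]; exact mul_mem b'.2 (inv_mem b.2)) ((mem_Stab hθ).mp (mul_mem (inv_mem (show a' ∈ Stab hθ o from ha'.2)) (show a ∈ Stab hθ o from ha.2)))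
      have ha_eq : a' = a := inv_mul_eq_one.mp h1
      subst ha_eq
      exact Prod.ext rfl (Subtype.ext (mul_left_cancel h'))
    have h := Nat.card_le_card_of_injective _ hinj
    rw [Nat.card_prod, hk] at h
    exact Nat.le_of_mul_le_mul_right h Nat.card_pos
  · obtain ⟨r, hr⟩ := hx2
    have hpx : IsPGroup 2 ↥(Subgroup.zpowers (⟨x, hxN⟩ : ↥N)) :=
      IsPGroup.of_card (n := r) (by rw [Nat.card_zpowers, Subgroup.orderOf_mk, hr])
    obtain ⟨P, hP⟩ := hpx.exists_le_sylow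
    have hPcard : Nat.card (P : Subgroup ↥N) = k := by
      rw [P.card_eq_multiplicity, hk, Nat.factorization_mul (by omega) Nat.card_pos.ne', Finsupp.add_apply,
        Nat.factorization_eq_zero_of_not_dvd (ss_not_two_dvd hθ hF hX), add_zero]
      rcases hk2 with rfl | rfl
      · rw [Nat.prime_two.factorization_self, pow_one]
      · rw [show Nat.factorization 4 2 = 2 by
          have := Nat.Prime.factorization_pow (k := 2) Nat.prime_two
          norm_num at this
          rw [this]; simp]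
        rfl
    obtain ⟨Q, hQ⟩ := (P.2.map N.subtype).exists_le_sylow
    obtain ⟨c, hc⟩ := MulAction.exists_smul_eq ↥(G F m) (sylow hθ hF) Q
    have hQB : (Q : Subgroup ↥(G F m)) ≤ Stab hθ (act hθ c none) := by
      rw [← hc, Sylow.coe_subgroup_smul, stab_eq_map hθ rfl, sylow_coe hθ hF]
      exact Subgroup.map_mono (U_le_B hθ)
    have ho' : act hθ c none = o :=
      huniq _ (hQB (hQ ⟨⟨x, hxN⟩, hP (Subgroup.mem_zpowers _), rfl⟩))
    rw [← hPcard]
    refine Nat.card_le_card_of_injective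
      (fun p : ↥(P : Subgroup ↥N) => (⟨p.1.1, p.1.2, ho' ▸ hQB (hQ ⟨p.1, p.2, rfl⟩)⟩ : ↥(N ⊓ Stab hθ o))) ?_
    intro a b h
    exact Subtype.ext (Subtype.ext (congrArg (fun z : ↥(N ⊓ Stab hθ o) => z.1) h))

theorem two_term (hm : 1 ≤ m) (hF : Fintype.card F = 2 ^ (2 * m + 1)) [Fintype ↥(G F m)] {X : Subgroup ↥(G F m)}
    (hX : IsSS hθ X) {k : ℕ} (hk : Nat.card (Subgroup.normalizer (X : Set ↥(G F m))) = k * Nat.card X)
    (hk2 : k = 2 ∨ k = 4) {x : ↥(G F m)} (hx1 : x ≠ 1) (hx2 : ∃ r, orderOf x = 2 ^ r) :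
    ∑ Y ∈ (Finset.univ.image fun d : ↥(G F m) => X.map (MulAut.conj d).toMonoidHom).filter
        (fun Y : Subgroup ↥(G F m) => x ∈ Subgroup.normalizer (Y : Set ↥(G F m))),
      ((Finset.univ.filter fun y : ↥(G F m) => y ∈ Subgroup.normalizer (Y : Set ↥(G F m))) \ Fx hθ x).card =
    ((Finset.univ.image fun d : ↥(G F m) => X.map (MulAut.conj d).toMonoidHom).filter
        (fun Y : Subgroup ↥(G F m) => x ∈ Subgroup.normalizer (Y : Set ↥(G F m)))).card * (k * (Nat.card X - 1)) := by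
  rw [← smul_eq_mul, ← Finset.sum_const]
  refine Finset.sum_congr rfl fun Y hY => ?_
  obtain ⟨hY, hxY⟩ := Finset.mem_filter.mp hY
  obtain ⟨d, -, rfl⟩ := Finset.mem_image.mp hY
  have hcd : Nat.card (X.map (MulAut.conj d).toMonoidHom) = Nat.card X :=
    Subgroup.card_map_of_injective (MulAut.conj d).injective
  have hkd : Nat.card (Subgroup.normalizer (X.map (MulAut.conj d).toMonoidHom : Set ↥(G F m))) =
      k * Nat.card (X.map (MulAut.conj d).toMonoidHom) := by rw [card_normalizer_map hθ, hk, hcd]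
  obtain ⟨o, ho, huniq, -⟩ := two_element_fixed hθ hF hx1 hx2
  have hi := inter_stab_card hθ hm hF (ss_conj hθ hX d) hkd hk2 hx1 hx2 hxY ho huniq
  set N := Subgroup.normalizer (X.map (MulAut.conj d).toMonoidHom : Set ↥(G F m))
  rw [← Finset.sdiff_inter_self_left, Finset.card_sdiff_of_subset (by intro z hz; exact (Finset.mem_inter.mp hz).1),
    ← Fintype.card_subtype, ← Nat.card_eq_fintype_card, hkd, hcd, Nat.mul_sub, mul_one]
  congr 1
  rw [show (Finset.univ.filter fun y : ↥(G F m) => y ∈ N) ∩ Fx hθ x =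
    Finset.univ.filter fun y => y ∈ N ⊓ Stab hθ o from ?_, ← Fintype.card_subtype, ← Nat.card_eq_fintype_card]
  · exact hi
  ext y
  simp only [Finset.mem_inter, Finset.mem_filter, Finset.mem_univ, true_and, mem_Fx, Subgroup.mem_inf, mem_Stab]
  constructor
  · rintro ⟨h1, o', h2, h3⟩; exact ⟨h1, huniq o' h2 ▸ h3⟩
  · rintro ⟨h1, h2⟩; exact ⟨h1, o, ho, h2⟩

theorem solubilizer_two (hm : 1 ≤ m) (hF : Fintype.card F = 2 ^ (2 * m + 1)) (x : ↥(G F m)) :
    (orderOf x = 2 → Nat.card {y : ↥(G F m) // Group.IsSolvable ↥(Subgroup.closure ({x, y} : Set ↥(G F m)))} =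
      Fintype.card F ^ 2 * (4 * Fintype.card F - 3)) ∧
    (orderOf x = 4 → Nat.card {y : ↥(G F m) // Group.IsSolvable ↥(Subgroup.closure ({x, y} : Set ↥(G F m)))} =
      Fintype.card F ^ 2 * (Fintype.card F + 3)) := by
  haveI := Fintype.ofFinite ↥(G F m)
  obtain ⟨A₁, A₂, hA₁, hA₂, hc₁, hc₂, hcop, hN, hclass⟩ := exists_tori hθ hm hF
  rw [← hF] at hc₁ hc₂
  set q := Fintype.card F with hq
  set s := 2 ^ (m + 1) with hs
  have hq8 : 8 ≤ q := by
    rw [hF]; exact (Nat.pow_le_pow_right (by norm_num) (show 3 ≤ 2 * m + 1 by omega) : 2 ^ 3 ≤ _)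
  have hsq : s < q := by rw [hs, hF]; exact Nat.pow_lt_pow_right (by norm_num) (by omega)
  have hs2 : 4 ≤ s := by rw [hs]; exact (Nat.pow_le_pow_right (by norm_num) (show 2 ≤ m + 1 by omega) : 2 ^ 2 ≤ _)
  have hT : IsSS hθ (T hθ) := Or.inl ⟨1, by ext x; simp⟩
  have hcT : Nat.card (T hθ) = q - 1 := card_T hθ
  have hNT := card_normalizer_T hθ hm hF
  have hq1 : Nat.card A₁ ≠ q - 1 ∧ Nat.card A₂ ≠ q - 1 ∧ Nat.card A₁ ≠ Nat.card A₂ := by
    refine ⟨by omega, fun h => ?_, by omega⟩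
    have hd := torus_dvd hθ hF hA₂
    rw [h] at hd
    have he : (q - 1) * (q + 1) + 2 = q * q + 1 := by
      obtain ⟨r, hr⟩ : ∃ r, q = r + 1 := ⟨q - 1, by omega⟩
      rw [hr, Nat.add_sub_cancel]; ring
    rw [← hq, ← he] at hd
    have := Nat.le_of_dvd (by norm_num) ((Nat.dvd_add_right (dvd_mul_right _ _)).mp hd)
    omega
  let orb : Subgroup ↥(G F m) → Finset (Subgroup ↥(G F m)) := fun X =>
    Finset.univ.image fun d : ↥(G F m) => X.map (MulAut.conj d).toMonoidHom
  have horb : ∀ (X : Subgroup ↥(G F m)) Y, Y ∈ orb X → Nat.card Y = Nat.card X := fun X Y h => by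
    obtain ⟨d, -, rfl⟩ := Finset.mem_image.mp h
    exact Subgroup.card_map_of_injective (MulAut.conj d).injective
  have hdisj : ∀ X X' : Subgroup ↥(G F m), Nat.card X ≠ Nat.card X' → Disjoint (orb X) (orb X') := fun X X' h =>
    Finset.disjoint_left.mpr fun Y h1 h2 => h ((horb X Y h1).symm.trans (horb X' Y h2))
  set P := fun Y : Subgroup ↥(G F m) => x ∈ Subgroup.normalizer (Y : Set ↥(G F m)) with hP
  have hS : ∀ Y, Y ∈ ((orb (T hθ)).filter P ∪ (orb A₁).filter P) ∪ (orb A₂).filter P ↔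
      IsSS hθ Y ∧ x ∈ Subgroup.normalizer (Y : Set ↥(G F m)) := by
    intro Y
    simp only [Finset.mem_union, Finset.mem_filter, hP]
    constructor
    · rintro ((⟨h, hx⟩ | ⟨h, hx⟩) | ⟨h, hx⟩) <;> obtain ⟨d, -, rfl⟩ := Finset.mem_image.mp h <;> refine ⟨?_, hx⟩
      · exact ss_conj hθ hT d
      · exact Or.inr (torus_conj hθ hA₁ d)
      · exact Or.inr (torus_conj hθ hA₂ d)
    · rintro ⟨⟨c, rfl⟩ | hY, hx⟩
      · exact Or.inl (Or.inl ⟨Finset.mem_image.mpr ⟨c, Finset.mem_univ _, rfl⟩, hx⟩)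
      · obtain ⟨c, rfl | rfl⟩ := hclass Y hY
        · exact Or.inl (Or.inr ⟨Finset.mem_image.mpr ⟨c, Finset.mem_univ _, rfl⟩, hx⟩)
        · exact Or.inr ⟨Finset.mem_image.mpr ⟨c, Finset.mem_univ _, rfl⟩, hx⟩
  have hmain : ∀ r, orderOf x = 2 ^ r → x ≠ 1 →
      Nat.card {y : ↥(G F m) // Group.IsSolvable ↥(Subgroup.closure ({x, y} : Set ↥(G F m)))} =
        q * q * (q - 1) + (((orb (T hθ)).filter P).card * (2 * (q - 1 - 1)) +
          ((orb A₁).filter P).card * (4 * (Nat.card A₁ - 1)) + ((orb A₂).filter P).card * (4 * (Nat.card A₂ - 1))) := by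
    intro r hr hx1
    obtain ⟨o, ho, huniq, -⟩ := two_element_fixed hθ hF hx1 ⟨r, hr⟩
    rw [sol_decomp hθ hm hF x _ hS]
    congr 1
    · rw [← card_B hθ, ← card_Stab hθ o, Nat.card_eq_fintype_card, Fintype.card_subtype]
      congr 1
      ext y
      simp only [mem_Fx, Finset.mem_filter, Finset.mem_univ, true_and, mem_Stab]
      exact ⟨fun ⟨o', h2, h3⟩ => huniq o' h2 ▸ h3, fun h => ⟨o, ho, h⟩⟩
    · have d1 : Disjoint ((orb (T hθ)).filter P) ((orb A₁).filter P) :=
        Disjoint.mono (Finset.filter_subset _ _) (Finset.filter_subset _ _) (hdisj _ _ (by rw [hcT]; exact hq1.1.symm))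
      have d2 : Disjoint ((orb (T hθ)).filter P ∪ (orb A₁).filter P) ((orb A₂).filter P) := by
        rw [Finset.disjoint_union_left]
        exact ⟨Disjoint.mono (Finset.filter_subset _ _) (Finset.filter_subset _ _)
            (hdisj _ _ (by rw [hcT]; exact hq1.2.1.symm)),
          Disjoint.mono (Finset.filter_subset _ _) (Finset.filter_subset _ _) (hdisj _ _ hq1.2.2)⟩
      rw [Finset.sum_union d2, Finset.sum_union d1]
      have e0 := two_term hθ hm hF hT (x := x) hNT (Or.inl rfl) hx1 ⟨r, hr⟩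
      have e1 := two_term hθ hm hF (Or.inr hA₁) (x := x) (hN A₁ hA₁) (Or.inr rfl) hx1 ⟨r, hr⟩
      have e2 := two_term hθ hm hF (Or.inr hA₂) (x := x) (hN A₂ hA₂) (Or.inr rfl) hx1 ⟨r, hr⟩
      rw [hcT] at e0
      exact congrArg₂ (· + ·) (congrArg₂ (· + ·) e0 e1) e2
  have hcT' := class_count hθ hm hF hT hNT (Or.inl rfl) x
  have hcA₁ := class_count hθ hm hF (Or.inr hA₁) (hN A₁ hA₁) (Or.inr rfl) x
  have hcA₂ := class_count hθ hm hF (Or.inr hA₂) (hN A₂ hA₂) (Or.inr rfl) x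
  constructor
  · intro hx
    have hx1 : x ≠ 1 := fun e => by rw [e, orderOf_one] at hx; norm_num at hx
    rw [hmain 1 hx hx1, hc₁, hc₂]
    have e0 : ((orb (T hθ)).filter P).card * 2 = q * q := hcT'.1 hx
    have e1 : ((orb A₁).filter P).card * 4 = q * q := hcA₁.1 hx
    have e2 : ((orb A₂).filter P).card * 4 = q * q := hcA₂.1 hx
    rw [← mul_assoc, e0, ← mul_assoc, e1, ← mul_assoc, e2]
    obtain ⟨u, hu⟩ : ∃ u, q = s + u := ⟨q - s, by omega⟩
    rw [show q - s + 1 - 1 = q - s by omega, show q + s + 1 - 1 = q + s by omega,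
      show q - 1 - 1 = q - 2 by omega]
    zify [show 1 ≤ q by omega, show 2 ≤ q by omega, show s ≤ q by omega, show 3 ≤ 4 * q by omega]
    ring
  · intro hx
    have hx1 : x ≠ 1 := fun e => by rw [e, orderOf_one] at hx; norm_num at hx
    rw [hmain 2 hx hx1, hc₁, hc₂]
    have e0 : ((orb (T hθ)).filter P).card * 2 = q * 0 := hcT'.2 hx
    have e1 : ((orb A₁).filter P).card * 4 = q * 2 := hcA₁.2 hx
    have e2 : ((orb A₂).filter P).card * 4 = q * 2 := hcA₂.2 hx
    rw [← mul_assoc, e0, ← mul_assoc, e1, ← mul_assoc, e2]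
    rw [show q - s + 1 - 1 = q - s by omega, show q + s + 1 - 1 = q + s by omega,
      show q - 1 - 1 = q - 2 by omega]
    zify [show 1 ≤ q by omega, show 2 ≤ q by omega, show s ≤ q by omega]
    ring

theorem ss_sol (hm : 1 ≤ m) (hF : Fintype.card F = 2 ^ (2 * m + 1)) [Fintype ↥(G F m)] {X : Subgroup ↥(G F m)}
    (hX : IsSS hθ X) {x : ↥(G F m)} (hx : x ∈ X) (hx1 : x ≠ 1) :
    Nat.card {y : ↥(G F m) // Group.IsSolvable ↥(Subgroup.closure ({x, y} : Set ↥(G F m)))} =
      (Fx hθ x).card +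
        ((Finset.univ.filter fun y : ↥(G F m) => y ∈ Subgroup.normalizer (X : Set ↥(G F m))) \ Fx hθ x).card := by
  rw [sol_decomp hθ hm hF x {X} ?_, Finset.sum_singleton]
  intro Y
  rw [Finset.mem_singleton]
  constructor
  · rintro rfl; exact ⟨hX, Subgroup.le_normalizer hx⟩
  · rintro ⟨hY, hxY⟩
    have ho : ¬ 2 ∣ orderOf x := fun h => ss_not_two_dvd hθ hF hX (h.trans (by
      rw [← Subgroup.orderOf_mk x hx]; exact orderOf_dvd_natCard _))
    exact ss_unique hθ hF hY hX hx1 (ss_odd_mem hθ hm hF hY hxY ho) hx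

theorem solubilizer_split (hm : 1 ≤ m) (hF : Fintype.card F = 2 ^ (2 * m + 1)) (x : ↥(G F m)) (hx1 : x ≠ 1)
    (hx : orderOf x ∣ Fintype.card F - 1) :
    Nat.card {y : ↥(G F m) // Group.IsSolvable ↥(Subgroup.closure ({x, y} : Set ↥(G F m)))} =
      2 * Fintype.card F ^ 2 * (Fintype.card F - 1) := by
  haveI := Fintype.ofFinite ↥(G F m)
  have h2q : 2 ∣ Fintype.card F := by rw [hF]; exact dvd_pow_self 2 (by omega)
  have hq1 : 1 < Fintype.card F := Fintype.one_lt_card
  obtain ⟨c, k, hk, hxc⟩ : ∃ c k, k ≠ 1 ∧ x = c * tor hθ k * c⁻¹ := by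
    by_cases hfix : ∃ o, act hθ x o = o
    · obtain ⟨o, ho⟩ := hfix
      rcases fixed_cases hθ ho with ⟨c, a, b, h⟩ | h
      · exfalso
        obtain ⟨r, hr⟩ := u_two_power hθ hF c a b
        rw [← h] at hr
        rw [hr] at hx
        rcases r with _ | r
        · exact hx1 (orderOf_eq_one_iff.mp (by simpa using hr))
        · have := (dvd_pow_self 2 (Nat.succ_ne_zero r)).trans hx
          omega
      · exact h
    · exfalso
      push Not at hfix
      obtain ⟨p, j, hp, hj⟩ := exists_prime_power_elt hθ hx1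
      have hj1 : x ^ j ≠ 1 := fun e => hp.ne_one (hj ▸ e ▸ orderOf_one)
      obtain ⟨hd, hp2⟩ := prime_fpf hθ hF hp hj (fpf_pow hθ hfix j hj1)
      have h1 : p ∣ Fintype.card F - 1 := (hj ▸ orderOf_pow_dvd j).trans hx
      rcases card_dvd_facts hθ hF hp (by rw [card_sz hθ]; exact hd.mul_right _) with h | ⟨-, h, -⟩ | ⟨-, h, -⟩
      · exact hp2 h
      · exact h hd
      · exact h h1
  have hX : IsSS hθ ((T hθ).map (MulAut.conj c).toMonoidHom) := Or.inl ⟨c, rfl⟩
  have hxX : x ∈ (T hθ).map (MulAut.conj c).toMonoidHom := ⟨tor hθ k, ⟨k, rfl⟩, hxc.symm⟩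
  rw [ss_sol hθ hm hF hX hxX hx1]
  set X := (T hθ).map (MulAut.conj c).toMonoidHom with hXdef
  set o₁ := act hθ c none with ho₁
  set o₂ := act hθ c (some (0, 0)) with ho₂
  have hfx : ∀ o, act hθ x o = o ↔ o = o₁ ∨ o = o₂ := by
    intro o
    constructor
    · intro ho
      have e : act hθ (tor hθ k) (act hθ c⁻¹ o) = act hθ c⁻¹ o := by
        refine (fix_iff_conj hθ (c := c)).mp ?_
        rw [← act_mul hθ c c⁻¹, mul_inv_cancel, act_one, ← hxc, ho]
      have ho' : o = act hθ c (act hθ c⁻¹ o) := by rw [← act_mul, mul_inv_cancel, act_one]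
      rcases tor_fix hθ hk e with e' | e' <;> rw [e'] at ho'
      · exact Or.inl ho'
      · exact Or.inr ho'
    · rintro (rfl | rfl) <;> rw [hxc] <;> simp only [ho₁, ho₂]
      · rw [fix_iff_conj, act_tor_none]
      · rw [fix_iff_conj, act_tor_some]; simp
  have hinter : Stab hθ o₁ ⊓ Stab hθ o₂ = X := by
    ext y
    rw [Subgroup.mem_inf, mem_Stab, mem_Stab, hXdef, Subgroup.mem_map_equiv, MulAut.conj_symm_apply, ho₁, ho₂]
    conv_lhs => rw [show y = c * (c⁻¹ * y * c) * c⁻¹ by group, fix_iff_conj, fix_iff_conj]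
    constructor
    · rintro ⟨h1, h2⟩; obtain ⟨l, hl⟩ := stab_two hθ h1 h2; exact ⟨l, hl.symm⟩
    · rintro ⟨l, hl⟩
      rw [← hl]
      exact ⟨act_tor_none hθ l, by show act hθ (tor hθ l) _ = _; rw [act_tor_some]; simp⟩
  have hFx : Fx hθ x = (Finset.univ.filter fun y => y ∈ Stab hθ o₁) ∪ (Finset.univ.filter fun y => y ∈ Stab hθ o₂) := by
    ext y
    simp only [mem_Fx, Finset.mem_union, Finset.mem_filter, Finset.mem_univ, true_and, mem_Stab, hfx]
    constructor
    · rintro ⟨o, rfl | rfl, h⟩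
      · exact Or.inl h
      · exact Or.inr h
    · rintro (h | h)
      · exact ⟨o₁, Or.inl rfl, h⟩
      · exact ⟨o₂, Or.inr rfl, h⟩
  have hXc : Nat.card X = Fintype.card F - 1 := by
    rw [hXdef, Subgroup.card_map_of_injective (MulAut.conj c).injective, card_T hθ]
  have hN : Nat.card (Subgroup.normalizer (X : Set ↥(G F m))) = 2 * (Fintype.card F - 1) := by
    rw [hXdef, card_normalizer_map hθ, card_normalizer_T hθ hm hF, card_T hθ]
  have hcard : ∀ H : Subgroup ↥(G F m), (Finset.univ.filter fun y => y ∈ H).card = Nat.card H := fun H => by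
    rw [← Fintype.card_subtype, Nat.card_eq_fintype_card]
  have hNF : (Finset.univ.filter fun y : ↥(G F m) => y ∈ Subgroup.normalizer (X : Set ↥(G F m))) ∩ Fx hθ x =
      Finset.univ.filter fun y => y ∈ X := by
    ext y
    simp only [Finset.mem_inter, Finset.mem_filter, Finset.mem_univ, true_and, hFx, Finset.mem_union, mem_Stab]
    constructor
    · rintro ⟨hy, h⟩
      by_contra hyX
      obtain ⟨h1, h2⟩ := split_no_fixed hθ hm hF c hy hyX
      exact h.elim h1 h2
    · intro hy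
      exact ⟨Subgroup.le_normalizer hy, Or.inl (hinter.symm ▸ hy).1⟩
  rw [← Finset.sdiff_inter_self_left, Finset.card_sdiff_of_subset (by intro z hz; exact (Finset.mem_inter.mp hz).1),
    hNF, hcard, hcard, hXc, hN]
  have h := Finset.card_union_add_card_inter (Finset.univ.filter fun y => y ∈ Stab hθ o₁)
    (Finset.univ.filter fun y => y ∈ Stab hθ o₂)
  rw [← Finset.filter_and, ← hFx] at h
  have h12 : (Finset.univ.filter fun a => a ∈ Stab hθ o₁ ∧ a ∈ Stab hθ o₂).card = Fintype.card F - 1 := by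
    rw [← hXc, ← hinter, ← hcard]
    congr 1
    ext a
    simp [Subgroup.mem_inf]
  rw [hcard, hcard, card_Stab hθ, card_Stab hθ, card_B hθ, h12] at h
  obtain ⟨r, hr⟩ : ∃ r, Fintype.card F = r + 1 := ⟨Fintype.card F - 1, by omega⟩
  simp only [hr, Nat.add_sub_cancel] at h ⊢
  have h2 : 2 * r - r = r := by omega
  rw [h2]
  linarith

theorem solubilizer_torus (hm : 1 ≤ m) (hF : Fintype.card F = 2 ^ (2 * m + 1)) (x : ↥(G F m)) (hx1 : x ≠ 1) :
    (orderOf x ∣ 2 ^ (2 * m + 1) + 2 ^ (m + 1) + 1 →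
      Nat.card {y : ↥(G F m) // Group.IsSolvable ↥(Subgroup.closure ({x, y} : Set ↥(G F m)))} =
        4 * (2 ^ (2 * m + 1) + 2 ^ (m + 1) + 1)) ∧
    (orderOf x ∣ 2 ^ (2 * m + 1) - 2 ^ (m + 1) + 1 →
      Nat.card {y : ↥(G F m) // Group.IsSolvable ↥(Subgroup.closure ({x, y} : Set ↥(G F m)))} =
        4 * (2 ^ (2 * m + 1) - 2 ^ (m + 1) + 1)) := by
  haveI := Fintype.ofFinite ↥(G F m)
  obtain ⟨A₁, A₂, hA₁, hA₂, hc₁, hc₂, hcop, hN, hclass⟩ := exists_tori hθ hm hF
  rw [← hc₁, ← hc₂]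
  have h2q : 2 ∣ Fintype.card F := by rw [hF]; exact dvd_pow_self 2 (by omega)
  have key : ∀ A B' : Subgroup ↥(G F m), IsTorus hθ A → Nat.Coprime (Nat.card A) (Nat.card B') →
      (∀ C, IsTorus hθ C → ∃ c : ↥(G F m), C = A.map (MulAut.conj c).toMonoidHom ∨ C = B'.map (MulAut.conj c).toMonoidHom) →
      orderOf x ∣ Nat.card A →
      Nat.card {y : ↥(G F m) // Group.IsSolvable ↥(Subgroup.closure ({x, y} : Set ↥(G F m)))} = 4 * Nat.card A := by
    intro A B' hA hco hcl hx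
    have hdq := hx.trans (torus_dvd hθ hF hA)
    have hfix : ∀ o, act hθ x o ≠ o := by
      intro o ho
      rcases fixed_cases hθ ho with ⟨c, a, b, h⟩ | ⟨c, k, hk, h⟩
      · obtain ⟨r, hr⟩ := u_two_power hθ hF c a b
        rw [← h] at hr
        rcases r with _ | r
        · exact hx1 (orderOf_eq_one_iff.mp (by simpa using hr))
        · rw [hr] at hdq
          have := (dvd_pow_self 2 (Nat.succ_ne_zero r)).trans hdq
          have : 2 ∣ Fintype.card F * Fintype.card F := h2q.mul_right _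
          omega
      · have h' := tor_order hθ c k
        rw [← h] at h'
        have hne : orderOf x ≠ 1 := fun e => hx1 (orderOf_eq_one_iff.mp e)
        obtain ⟨p, hp, hpd⟩ := Nat.exists_prime_and_dvd hne
        rcases card_dvd_facts hθ hF hp (hpd.trans (orderOf_dvd_natCard x)) with h2 | ⟨-, h2, -⟩ | ⟨-, h2, -⟩
        · subst h2
          have := hpd.trans h'
          have := Fintype.one_lt_card (α := F)
          omega
        · exact h2 (hpd.trans hdq)
        · exact h2 (hpd.trans h')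
    set X := Subgroup.centralizer ({x} : Set ↥(G F m)) with hXdef
    have hX : IsTorus hθ X := ⟨x, hfix, rfl⟩
    have hxX : x ∈ X := Subgroup.mem_centralizer_singleton_iff.mpr rfl
    have hXc : Nat.card X = Nat.card A := by
      obtain ⟨c, hc | hc⟩ := hcl X hX
      · rw [hc, Subgroup.card_map_of_injective (MulAut.conj c).injective]
      · exfalso
        have hd : orderOf x ∣ Nat.card X := by rw [← Subgroup.orderOf_mk x hxX]; exact orderOf_dvd_natCard _
        rw [hc, Subgroup.card_map_of_injective (MulAut.conj c).injective] at hd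
        exact hx1 (orderOf_eq_one_iff.mp (Nat.eq_one_of_dvd_coprimes hco hx hd))
    have hFx : Fx hθ x = ∅ := Finset.eq_empty_of_forall_notMem fun y hy => by
      obtain ⟨o, ho, -⟩ := (mem_Fx hθ).mp hy; exact hfix o ho
    rw [ss_sol hθ hm hF (Or.inr hX) hxX hx1, hFx, Finset.card_empty, zero_add, Finset.sdiff_empty,
      ← Fintype.card_subtype, ← Nat.card_eq_fintype_card, hN X hX, hXc]
  exact ⟨key A₁ A₂ hA₁ hcop hclass, key A₂ A₁ hA₂ hcop.symm fun C hC => by
    obtain ⟨c, h⟩ := hclass C hC; exact ⟨c, h.symm⟩⟩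

end

end Cfsg.Agent.Lib.KnownA.Suz
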