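import Mathlib
import Cfsg.Agent.Lib.KnownA.SuzukiOut
import Cfsg.Prelude.Def_Solvable
import Cfsg.Prelude.Def_Transfer

/-! The automorphism group of a Sylow `2`-subgroup of the Suzuki group. -/

set_option autoImplicit false
set_option maxHeartbeats 400000

namespace Cfsg.Agent.Lib.KnownA.Suz

open Matrix Cfsg.Lie
open scoped Classical

set_option linter.unusedSectionVars false

noncomputable section

variable {F : Type*} [Field F] [Fintype F] [CharP F 2] {m : ℕ} (hθ : ∀ x : F, szTh m (szTh m x) = x * x)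
include hθ

omit hθ in
theorem hua_char_two (A D : F) (hA : A ≠ 0) (hD : D ≠ 0) (hs : D + A ≠ 0) :
    (A⁻¹ + (D + A)⁻¹)⁻¹ = A + A * A * D⁻¹ := by
  rw [inv_add_inv hA hs, show A + (D + A) = D by linear_combination A * (CharTwo.two_eq_zero : (2 : F) = 0), inv_div]
  field_simp

theorem trace_th [Algebra (ZMod 2) F] (x : F) :
    Algebra.trace (ZMod 2) F (szTh m x) = Algebra.trace (ZMod 2) F x := by
  let r := RingEquiv.ofBijective (szTh (F := F) m) ⟨(szTh (F := F) m).injective, Finite.surjective_of_injective (szTh (F := F) m).injective⟩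
  let e : F ≃ₐ[ZMod 2] F := AlgEquiv.ofRingEquiv (f := r) fun z =>
    RingHom.congr_fun (RingHom.ext_zmod (r.toRingHom.comp (algebraMap (ZMod 2) F)) (algebraMap (ZMod 2) F)) z
  exact Algebra.trace_eq_of_algEquiv e x

/-- An additive bijection compatible with the squaring map of `U` is semilinear. -/
theorem semilinear (f h : F → F) (hfi : Function.Injective f)
    (fadd : ∀ a b, f (a + b) = f a + f b) (hadd : ∀ a b, h (a + b) = h a + h b)
    (hq : ∀ a, h (szTh m a * a) = szTh m (f a) * f a) :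
    ∃ (c : F) (σ : F ≃+* F), c ≠ 0 ∧ (∀ a, f a = c * σ a) ∧ ∀ b, h b = szTh m c * c * σ b := by
  haveI : Fact (Nat.Prime 2) := ⟨Nat.prime_two⟩
  letI := ZMod.algebra F 2
  set τ := szTh (F := F) m with hτ
  have f0 : f 0 = 0 := by simpa using fadd 0 0
  have h0 : h 0 = 0 := by simpa using hadd 0 0
  have hinj : Function.Injective h := by
    intro b b' e
    obtain ⟨a, rfl⟩ := (th_mul_self_bij hθ).2 b
    obtain ⟨a', rfl⟩ := (th_mul_self_bij hθ).2 b'
    simp only at e ⊢
    rw [hq, hq] at e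
    rw [hfi ((th_mul_self_bij hθ).1 e)]
  have hB : ∀ a b, h (τ a * b + τ b * a) = τ (f a) * f b + τ (f b) * f a := fun a b => by
    have e := hq (a + b)
    rw [map_add, show (τ a + τ b) * (a + b) = τ a * a + τ b * b + (τ a * b + τ b * a) by ring, hadd, hadd, hq, hq,
      fadd, map_add] at e
    linear_combination e
  let T := (Algebra.traceForm (ZMod 2) F).toDual (traceForm_nondegenerate (ZMod 2) F)
  have hT : ∀ w x, T w x = Algebra.trace (ZMod 2) F (w * x) := fun w x => by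
    rw [LinearMap.BilinForm.toDual_def, Algebra.traceForm_apply]
  let hL : F →ₗ[ZMod 2] F := (AddMonoidHom.mk' h hadd).toZModLinearMap 2
  let A : F → F := fun w => T.symm ((T w).comp hL)
  have hA : ∀ w x, Algebra.trace (ZMod 2) F (A w * x) = Algebra.trace (ZMod 2) F (w * h x) := fun w x => by
    rw [← hT, ← hT]; simp only [A, LinearEquiv.apply_symm_apply]; rfl
  have hnd : ∀ w, (∀ x, Algebra.trace (ZMod 2) F (w * x) = 0) → w = 0 := fun w hw =>
    T.map_eq_zero_iff.mp (LinearMap.ext fun x => by rw [hT, hw]; rfl)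
  have hsurj : Function.Surjective h := Finite.surjective_of_injective hinj
  have hA0 : ∀ w, A w = 0 → w = 0 := fun w hw => hnd w fun x => by
    obtain ⟨y, rfl⟩ := hsurj x
    rw [← hA, hw, zero_mul, map_zero]
  have hAadd : ∀ w w', A (w + w') = A w + A w' := fun w w' => by
    simp only [A, map_add, LinearMap.add_comp]
  have hAinj : Function.Injective A := fun w w' e => by
    have := hA0 (w - w') (by rw [CharTwo.sub_eq_add, hAadd, e, CharTwo.add_self_eq_zero])
    exact sub_eq_zero.mp this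
  have hkey : ∀ a, a ≠ 0 → A (τ (f a) * f a)⁻¹ = (τ a * a)⁻¹ := by
    intro a ha
    have hfa : f a ≠ 0 := fun e => ha (hfi (e.trans f0.symm))
    have hτfa : τ (f a) ≠ 0 := (map_ne_zero _).mpr hfa
    have hτa : τ a ≠ 0 := (map_ne_zero _).mpr ha
    set w := A (τ (f a) * f a)⁻¹ with hw
    have hw0 : w ≠ 0 := fun e => inv_ne_zero (mul_ne_zero hτfa hfa) (hA0 _ e)
    have hzero : ∀ b, Algebra.trace (ZMod 2) F (w * (τ a * b + τ b * a)) = 0 := fun b => by
      rw [hw, hA, hB]
      have e : (τ (f a) * f a)⁻¹ * (τ (f a) * f b + τ (f b) * f a) = f b / f a + τ (f b / f a) := by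
        rw [map_div₀]; field_simp
      rw [e, map_add, trace_th hθ, CharTwo.add_self_eq_zero]
    obtain ⟨y, hy⟩ := Finite.surjective_of_injective τ.injective (w * (τ a * a))
    have hyy : τ y = y := by
      have h1 : τ y - y = 0 := hnd _ fun x => by
        have h := hzero (a * x)
        rw [map_mul τ a x, show w * (τ a * (a * x) + τ a * τ x * a) = w * (τ a * a) * x + w * (τ a * a) * τ x by ring, ← hy,
          map_add, ← map_mul τ y x, trace_th hθ] at h
        rw [sub_mul, map_sub, CharTwo.sub_eq_add]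
        exact h
      exact sub_eq_zero.mp h1
    have hy2 : y * y = y := by
      have := hθ y
      rw [hyy, hyy] at this
      exact this.symm
    have hy0 : y ≠ 0 := fun e => mul_ne_zero hw0 (mul_ne_zero hτa ha) (by rw [← hy, e, map_zero])
    have hy1 : y = 1 := mul_left_cancel₀ hy0 (by rw [hy2, mul_one])
    rw [hy1, map_one] at hy
    exact eq_inv_of_mul_eq_one_left hy.symm
  -- `x ↦ (h x⁻¹)⁻¹` is additive
  let K : F → F := fun x => (h x⁻¹)⁻¹
  have hAK : ∀ x, A (K x) = x := by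
    intro x
    rcases eq_or_ne x 0 with rfl | hx
    · simp only [K, _root_.inv_zero, h0]
      have := hAadd 0 0
      rw [add_zero] at this
      rw [this, CharTwo.add_self_eq_zero]
    · obtain ⟨a, ha⟩ := (th_mul_self_bij hθ).2 x⁻¹
      simp only at ha
      have ha0 : a ≠ 0 := fun e => inv_ne_zero hx (by rw [← ha, e, mul_zero])
      simp only [K]
      rw [← ha, hq, hkey a ha0, ha, inv_inv]
  have hKadd : ∀ x y, K (x + y) = K x + K y := fun x y => hAinj (by rw [hAadd, hAK, hAK, hAK])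
  have hua : ∀ a b, h (a * a * b) = h a * h a * K b := by
    intro a b
    rcases eq_or_ne a 0 with rfl | ha
    · rw [zero_mul, zero_mul, h0, zero_mul, zero_mul]
    rcases eq_or_ne b 0 with rfl | hb
    · rw [mul_zero, h0]; simp only [K, _root_.inv_zero, h0, mul_zero]
    have hha : h a ≠ 0 := fun e => ha (hinj (e.trans h0.symm))
    rcases eq_or_ne (b⁻¹ + a) 0 with e | e
    · have hb' : b = a⁻¹ := by rw [← inv_inv b, CharTwo.add_eq_zero.mp e]
      subst hb'
      simp only [K]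
      rw [inv_inv, mul_assoc a, mul_inv_cancel₀ ha, mul_one]
      field_simp
    · have hhe : h (b⁻¹ + a) ≠ 0 := fun e' => e (hinj (e'.trans h0.symm))
      have e1 : (a⁻¹ + (b⁻¹ + a)⁻¹)⁻¹ = a + a * a * b := by
        rw [hua_char_two a b⁻¹ ha (inv_ne_zero hb) e, inv_inv]
      have h1 := hKadd a⁻¹ (b⁻¹ + a)⁻¹
      simp only [K, inv_inv] at h1
      rw [e1, hadd, hadd] at h1
      have hbh : h b⁻¹ ≠ 0 := fun e' => inv_ne_zero hb (hinj (e'.trans h0.symm))
      have hsum : h b⁻¹ + h a ≠ 0 := by rwa [← hadd]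
      have h2 : h a + h (a * a * b) = ((h a)⁻¹ + (h b⁻¹ + h a)⁻¹)⁻¹ := by rw [← h1, inv_inv]
      have h3 : ((h a)⁻¹ + (h b⁻¹ + h a)⁻¹)⁻¹ = h a + h a * h a * (h b⁻¹)⁻¹ :=
        hua_char_two (h a) (h b⁻¹) hha hbh hsum
      rw [h3] at h2
      exact add_left_cancel h2
  -- normalise at `1`
  have hd : h 1 ≠ 0 := fun e => one_ne_zero (hinj (e.trans h0.symm))
  have hone : ∀ b, h b = h 1 * h 1 * K b := fun b => by simpa using hua 1 b
  let g : F → F := fun x => h x / h 1
  have gmul2 : ∀ a b, g (a * a * b) = g a * g a * g b := fun a b => by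
    simp only [g]
    rw [hua, hone b]
    field_simp
  have g1 : g 1 = 1 := div_self hd
  have gadd : ∀ a b, g (a + b) = g a + g b := fun a b => by simp only [g]; rw [hadd, add_div]
  have gmul : ∀ a b, g (a * b) = g a * g b := fun a b => by
    obtain ⟨x, rfl⟩ : ∃ x, x * x = a := by
      obtain ⟨x, hx⟩ := Finite.surjective_of_injective (frobenius_inj F 2) a
      exact ⟨x, by rwa [frobenius_def, sq] at hx⟩
    rw [gmul2, show g (x * x) = g x * g x by simpa [g1] using gmul2 x 1]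
  let σ₀ : F →+* F :=
    { toFun := g, map_one' := g1, map_mul' := gmul, map_zero' := by simp [g, h0], map_add' := gadd }
  let σ := RingEquiv.ofBijective σ₀ ⟨σ₀.injective, Finite.surjective_of_injective σ₀.injective⟩
  obtain ⟨c, hc⟩ := (th_mul_self_bij hθ).2 (h 1)
  simp only at hc
  have hc0 : c ≠ 0 := fun e => hd (by rw [← hc, e, mul_zero])
  have hh : ∀ b, h b = τ c * c * σ b := fun b => by
    show _ = τ c * c * (h b / h 1)
    rw [hc, mul_div_cancel₀ _ hd]
  refine ⟨c, σ, hc0, fun a => (th_mul_self_bij hθ).1 ?_, hh⟩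
  show τ (f a) * f a = τ (c * σ a) * (c * σ a)
  rw [← hq, hh, map_mul, map_mul, show σ (τ a) = τ (σ a) from autComp σ a]
  ring

/-- The first coordinate. -/
def cA (x : ↥(U hθ)) : F := x.2.choose

/-- The second coordinate. -/
def cB (x : ↥(U hθ)) : F := x.2.choose_spec.choose

theorem coord_eq (x : ↥(U hθ)) : x = ⟨u hθ (cA hθ x) (cB hθ x), u_mem hθ _ _⟩ :=
  Subtype.ext x.2.choose_spec.choose_spec

theorem coord_mk (a b : F) :
    cA hθ ⟨u hθ a b, u_mem hθ a b⟩ = a ∧ cB hθ ⟨u hθ a b, u_mem hθ a b⟩ = b := by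
  have h := congrArg Subtype.val (coord_eq hθ ⟨u hθ a b, u_mem hθ a b⟩)
  exact ⟨(u_injective hθ h).1.symm, (u_injective hθ h).2.symm⟩

theorem coord_mul (x y : ↥(U hθ)) :
    cA hθ (x * y) = cA hθ x + cA hθ y ∧ cB hθ (x * y) = cB hθ x + cB hθ y + szTh m (cA hθ x) * cA hθ y := by
  have h : x * y = ⟨u hθ (cA hθ x + cA hθ y) (cB hθ x + cB hθ y + szTh m (cA hθ x) * cA hθ y), u_mem hθ _ _⟩ :=
    Subtype.ext (by
      show x.1 * y.1 = u hθ _ _
      rw [← u_mul]
      exact congrArg₂ (· * ·) (congrArg Subtype.val (coord_eq hθ x)) (congrArg Subtype.val (coord_eq hθ y)))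
  rw [h]; exact coord_mk hθ _ _

/-- The automorphism attached to the data. -/
def autHom (p : (F →+ F) × Fˣ × (F ≃+* F)) : ↥(U hθ) →* ↥(U hθ) :=
  MonoidHom.mk' (fun x => ⟨u hθ ((p.2.1 : F) * p.2.2 (cA hθ x))
      (szTh m (p.2.1 : F) * p.2.1 * p.2.2 (cB hθ x) + p.1 (cA hθ x)), u_mem hθ _ _⟩) fun x y => by
    apply Subtype.ext
    rw [Subgroup.coe_mul]
    show u hθ _ _ = u hθ _ _ * u hθ _ _
    rw [(coord_mul hθ x y).1, (coord_mul hθ x y).2, u_mul, map_add, map_add, map_add, map_add, map_mul, map_mul,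
      show p.2.2 (szTh m (cA hθ x)) = szTh m (p.2.2 (cA hθ x)) from autComp p.2.2 (cA hθ x)]
    congr 1 <;> ring

theorem autHom_bij (p : (F →+ F) × Fˣ × (F ≃+* F)) : Function.Bijective (autHom hθ p) := by
  refine Finite.injective_iff_bijective.mp ((injective_iff_map_eq_one _).mpr fun x hx => ?_)
  have h : u hθ ((p.2.1 : F) * p.2.2 (cA hθ x)) (szTh m (p.2.1 : F) * p.2.1 * p.2.2 (cB hθ x) + p.1 (cA hθ x)) =
      u hθ 0 0 := (congrArg Subtype.val hx).trans (u_zero hθ).symm
  obtain ⟨h1, h2⟩ := u_injective hθ h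
  have ha : cA hθ x = 0 := p.2.2.injective (by
    rw [map_zero]; exact (mul_eq_zero.mp h1).resolve_left p.2.1.ne_zero)
  rw [ha, map_zero, add_zero] at h2
  have hb : cB hθ x = 0 := p.2.2.injective (by
    rw [map_zero]
    exact (mul_eq_zero.mp h2).resolve_left (mul_ne_zero ((map_ne_zero _).mpr p.2.1.ne_zero) p.2.1.ne_zero))
  rw [coord_eq hθ x]
  apply Subtype.ext
  show u hθ _ _ = 1
  rw [ha, hb, u_zero]

/-- The automorphism of `U` attached to the data. -/
def mkAut (p : (F →+ F) × Fˣ × (F ≃+* F)) : MulAut ↥(U hθ) :=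
  MulEquiv.ofBijective (autHom hθ p) (autHom_bij hθ p)

theorem mkAut_apply (p : (F →+ F) × Fˣ × (F ≃+* F)) (a b : F) :
    mkAut hθ p ⟨u hθ a b, u_mem hθ a b⟩ =
      ⟨u hθ ((p.2.1 : F) * p.2.2 a) (szTh m (p.2.1 : F) * p.2.1 * p.2.2 b + p.1 a), u_mem hθ _ _⟩ := by
  show (⟨u hθ _ _, _⟩ : ↥(U hθ)) = _
  simp only [coord_mk]

theorem mkAut_injective : Function.Injective (mkAut hθ) := by
  rintro ⟨L, c, σ⟩ ⟨L', c', σ'⟩ h
  have key : ∀ a b, (c : F) * σ a = c' * σ' a ∧
      szTh m (c : F) * c * σ b + L a = szTh m (c' : F) * c' * σ' b + L' a := fun a b => by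
    have e := congrArg (fun f : MulAut ↥(U hθ) => (f ⟨u hθ a b, u_mem hθ a b⟩ : ↥(U hθ)).1) h
    simp only [mkAut_apply] at e
    exact u_injective hθ e
  have hc : c = c' := Units.ext (by simpa using (key 1 0).1)
  subst hc
  have hσ : σ = σ' := RingEquiv.ext fun a => mul_left_cancel₀ c.ne_zero (key a 0).1
  subst hσ
  have hL : L = L' := AddMonoidHom.ext fun a => add_left_cancel (key a 0).2
  rw [hL]

theorem mkAut_surjective : Function.Surjective (mkAut hθ) := by
  intro α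
  set f : F → F := fun a => cA hθ (α ⟨u hθ a 0, u_mem hθ a 0⟩) with hf
  set h : F → F := fun b => cB hθ (α ⟨u hθ 0 b, u_mem hθ 0 b⟩) with hh
  have hmul : ∀ a b a' b', α ⟨u hθ (a + a') (b + b' + szTh m a * a'), u_mem hθ _ _⟩ =
      α ⟨u hθ a b, u_mem hθ a b⟩ * α ⟨u hθ a' b', u_mem hθ a' b'⟩ := fun a b a' b' => by
    rw [← map_mul]; congr 1; exact Subtype.ext (u_mul hθ a b a' b').symm
  have hz : ∀ b, cA hθ (α ⟨u hθ 0 b, u_mem hθ 0 b⟩) = 0 := by
    intro b
    obtain ⟨a, ha⟩ := (th_mul_self_bij hθ).2 b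
    have e := hmul a 0 a 0
    rw [CharTwo.add_self_eq_zero, add_zero, zero_add] at e
    have e' := congrArg (cA hθ) e
    rw [(coord_mul hθ _ _).1, CharTwo.add_self_eq_zero] at e'
    simp only at ha
    rwa [← ha]
  have fadd : ∀ a a', f (a + a') = f a + f a' := by
    intro a a'
    have e := congrArg (cA hθ) (hmul a 0 a' 0)
    rw [(coord_mul hθ _ _).1] at e
    have e2 := congrArg (cA hθ) (hmul (a + a') 0 0 (szTh m a * a'))
    rw [(coord_mul hθ _ _).1, hz, add_zero] at e2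
    simp only [add_zero, zero_add, mul_zero] at e e2
    exact (e2.symm.trans e)
  have hadd : ∀ b b', h (b + b') = h b + h b' := by
    intro b b'
    have e := congrArg (cB hθ) (hmul 0 b 0 b')
    rw [(coord_mul hθ _ _).2, hz, map_zero, zero_mul, add_zero] at e
    simp only [add_zero, map_zero, zero_mul] at e
    exact e
  have hq : ∀ a, h (szTh m a * a) = szTh m (f a) * f a := by
    intro a
    have e := congrArg (cB hθ) (hmul a 0 a 0)
    rw [(coord_mul hθ _ _).2, CharTwo.add_self_eq_zero] at e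
    simp only [zero_add, add_zero, CharTwo.add_self_eq_zero] at e
    exact e
  have hfi : Function.Injective f := by
    intro a a' e
    have e' := fadd a a'
    rw [e, CharTwo.add_self_eq_zero] at e'
    set d := a + a' with hd
    have hs := hq d
    rw [e', map_zero, zero_mul] at hs
    have h1 : α ⟨u hθ 0 (szTh m d * d), u_mem hθ _ _⟩ = 1 := by
      rw [coord_eq hθ (α _)]
      apply Subtype.ext
      show u hθ _ _ = 1
      rw [hz, show cB hθ (α ⟨u hθ 0 (szTh m d * d), u_mem hθ _ _⟩) = 0 from hs, u_zero]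
    rw [EmbeddingLike.map_eq_one_iff] at h1
    have h2 := (u_injective hθ ((congrArg Subtype.val h1).trans (u_zero hθ).symm)).2
    have hd0 : d = 0 := (mul_eq_zero.mp h2).elim (fun h => (map_eq_zero _).mp h) id
    exact CharTwo.add_eq_zero.mp (hd ▸ hd0)
  obtain ⟨c, σ, hc, hfc, hhc⟩ := semilinear hθ f h hfi fadd hadd hq
  set g : F → F := fun a => cB hθ (α ⟨u hθ a 0, u_mem hθ a 0⟩) with hg
  have hsplit : ∀ a b, cA hθ (α ⟨u hθ a b, u_mem hθ a b⟩) = f a ∧
      cB hθ (α ⟨u hθ a b, u_mem hθ a b⟩) = h b + g a := by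
    intro a b
    have e := hmul a 0 0 b
    simp only [add_zero, zero_add, mul_zero] at e
    rw [e]
    constructor
    · rw [(coord_mul hθ _ _).1, hz, add_zero]
    · rw [(coord_mul hθ _ _).2, hz, mul_zero, add_zero, add_comm]
  have gadd : ∀ a a', g (a + a') = g a + g a' := by
    intro a a'
    have e := congrArg (cB hθ) (hmul a 0 a' 0)
    rw [(coord_mul hθ _ _).2, (hsplit _ _).2] at e
    simp only [zero_add, add_zero] at e
    change h (szTh m a * a') + g (a + a') = g a + g a' + szTh m (f a) * f a' at e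
    rw [hhc, hfc, hfc, map_mul, map_mul, show σ (szTh m a) = szTh m (σ a) from autComp σ a] at e
    linear_combination e
  refine ⟨(AddMonoidHom.mk' g gadd, Units.mk0 c hc, σ), MulEquiv.ext fun x => ?_⟩
  rw [coord_eq hθ x, mkAut_apply, coord_eq hθ (α _)]
  apply Subtype.ext
  show u hθ _ _ = u hθ _ _
  rw [(hsplit _ _).1, (hsplit _ _).2, hfc, hhc]
  rfl

theorem card_addHom (hF : Fintype.card F = 2 ^ (2 * m + 1)) :
    Nat.card (F →+ F) = 2 ^ ((2 * m + 1) ^ 2) := by
  haveI : Fact (Nat.Prime 2) := ⟨Nat.prime_two⟩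
  letI := ZMod.algebra F 2
  have hr : Module.finrank (ZMod 2) F = 2 * m + 1 := by
    have h := Module.natCard_eq_pow_finrank (K := ZMod 2) (V := F)
    rw [Nat.card_eq_fintype_card, Nat.card_zmod, hF] at h
    exact (Nat.pow_right_injective le_rfl h).symm
  rw [Nat.card_congr (AddMonoidHom.toZModLinearMapEquiv 2 : (F →+ F) ≃+ (F →ₗ[ZMod 2] F)).toEquiv]
  haveI : Finite (F →ₗ[ZMod 2] F) := Finite.of_injective (fun f : F →ₗ[ZMod 2] F => (f : F → F)) DFunLike.coe_injective
  rw [Module.natCard_eq_pow_finrank (K := ZMod 2) (V := F →ₗ[ZMod 2] F), Nat.card_zmod, Module.finrank_linearMap, hr, sq]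

theorem aut_U (hm : 1 ≤ m) (hF : Fintype.card F = 2 ^ (2 * m + 1)) :
    Cfsg.IsElementaryAbelian 2 (Cfsg.pCore 2 (MulAut ↥(U hθ))) ∧
      Nat.card ↥(Cfsg.pCore 2 (MulAut ↥(U hθ))) = 2 ^ ((2 * m + 1) ^ 2) ∧
      Nat.card (MulAut ↥(U hθ)) = 2 ^ ((2 * m + 1) ^ 2) * ((2 * m + 1) * (2 ^ (2 * m + 1) - 1)) := by
  haveI : Fact (Nat.Prime 2) := ⟨Nat.prime_two⟩
  have hcard : Nat.card (MulAut ↥(U hθ)) = 2 ^ ((2 * m + 1) ^ 2) * ((2 * m + 1) * (2 ^ (2 * m + 1) - 1)) := by
    rw [← Nat.card_eq_of_bijective _ ⟨mkAut_injective hθ, mkAut_surjective hθ⟩, Nat.card_prod, Nat.card_prod,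
      card_addHom hθ hF, ringAut_card hF, Nat.card_units, Nat.card_eq_fintype_card, hF]
    ring
  let N : Subgroup (MulAut ↥(U hθ)) :=
    { carrier := {α | ∀ x, cA hθ (α x) = cA hθ x}
      one_mem' := fun _ => rfl
      mul_mem' := fun {α β} hα hβ x => (hα (β x)).trans (hβ x)
      inv_mem' := fun {α} hα x => by
        have := hα (α⁻¹ x)
        rw [MulAut.apply_inv_self] at this
        exact this.symm }
  have hNiff : ∀ α, α ∈ N ↔ ∃ L : F →+ F, mkAut hθ (L, 1, RingEquiv.refl F) = α := by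
    intro α
    constructor
    · intro hα
      obtain ⟨⟨L, c, σ⟩, rfl⟩ := mkAut_surjective hθ α
      have key : ∀ a, (c : F) * σ a = a := fun a => by
        have := hα ⟨u hθ a 0, u_mem hθ a 0⟩
        rwa [mkAut_apply, (coord_mk hθ _ _).1, (coord_mk hθ _ _).1] at this
      have hc : c = 1 := Units.ext (by simpa using key 1)
      subst hc
      have hσ : σ = RingEquiv.refl F := RingEquiv.ext fun a => by simpa using key a
      exact ⟨L, by rw [hσ]⟩
    · rintro ⟨L, rfl⟩ x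
      rw [coord_eq hθ x, mkAut_apply, (coord_mk hθ _ _).1, (coord_mk hθ _ _).1]
      simp
  have hNcard : Nat.card N = 2 ^ ((2 * m + 1) ^ 2) := by
    rw [← card_addHom hθ hF]
    refine (Nat.card_eq_of_bijective (fun L : F →+ F => (⟨mkAut hθ (L, 1, RingEquiv.refl F), (hNiff _).mpr ⟨L, rfl⟩⟩ : N))
      ⟨fun L L' h => ?_, fun α => ?_⟩).symm
    · exact (Prod.ext_iff.mp (mkAut_injective hθ (congrArg Subtype.val h))).1
    · obtain ⟨L, hL⟩ := (hNiff _).mp α.2
      exact ⟨L, Subtype.ext hL⟩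
  have hhom : ∀ α β : MulAut ↥(U hθ), (∀ a b, cA hθ (β ⟨u hθ a b, u_mem hθ a b⟩) = cA hθ (α ⟨u hθ a b, u_mem hθ a b⟩)) →
      β⁻¹ * α ∈ N := fun α β h x => by
    have key : ∀ y, cA hθ (α y) = cA hθ (β y) := fun y => by rw [coord_eq hθ y]; exact (h _ _).symm
    have hβ : ∀ y z, cA hθ (β y) = cA hθ (β z) → cA hθ y = cA hθ z := fun y z e => by
      obtain ⟨⟨L, c, σ⟩, rfl⟩ := mkAut_surjective hθ β
      rw [coord_eq hθ y, coord_eq hθ z, mkAut_apply, mkAut_apply, (coord_mk hθ _ _).1, (coord_mk hθ _ _).1] at e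
      exact σ.injective (mul_left_cancel₀ c.ne_zero e)
    apply hβ
    rw [MulAut.mul_apply, MulAut.apply_inv_self]
    exact key x
  haveI hN : N.Normal := ⟨fun α hα β x => by
    obtain ⟨⟨L, c, σ⟩, hβ⟩ := mkAut_surjective hθ β
    show cA hθ (β (α (β⁻¹ x))) = cA hθ x
    obtain ⟨y, rfl⟩ : ∃ y, β y = x := ⟨β⁻¹ x, MulAut.apply_inv_self _ _ _⟩
    rw [MulAut.inv_apply_self]
    have := hα y
    subst hβ
    rw [coord_eq hθ (α y), coord_eq hθ y, mkAut_apply, mkAut_apply, (coord_mk hθ _ _).1, (coord_mk hθ _ _).1]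
    rw [coord_eq hθ y] at this
    rw [this, (coord_mk hθ _ _).1]⟩
  have hNel : Cfsg.IsElementaryAbelian 2 N := by
    have hm2 : ∀ L L' : F →+ F, mkAut hθ (L, 1, RingEquiv.refl F) * mkAut hθ (L', 1, RingEquiv.refl F) =
        mkAut hθ (L + L', 1, RingEquiv.refl F) := fun L L' => MulEquiv.ext fun x => by
      rw [coord_eq hθ x, MulAut.mul_apply, mkAut_apply, mkAut_apply, mkAut_apply]
      apply Subtype.ext
      show u hθ _ _ = u hθ _ _
      simp [add_comm, add_left_comm]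
    refine ⟨⟨⟨fun α β => Subtype.ext ?_⟩⟩, fun α hα => ?_⟩
    · obtain ⟨L, hL⟩ := (hNiff _).mp α.2
      obtain ⟨L', hL'⟩ := (hNiff _).mp β.2
      show α.1 * β.1 = β.1 * α.1
      rw [← hL, ← hL', hm2, hm2, add_comm]
    · obtain ⟨L, rfl⟩ := (hNiff _).mp hα
      rw [sq, hm2]
      have : L + L = 0 := AddMonoidHom.ext fun a => CharTwo.add_self_eq_zero (L a)
      rw [this]
      refine MulEquiv.ext fun x => ?_
      rw [coord_eq hθ x, mkAut_apply]
      apply Subtype.ext
      show u hθ _ _ = u hθ _ _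
      simp
  have hcore : Cfsg.pCore 2 (MulAut ↥(U hθ)) = N := by
    have hNp : IsPGroup 2 N := IsPGroup.of_card hNcard
    refine le_antisymm (sSup_le fun P ⟨hP, hPp⟩ α hα => ?_) (le_sSup ⟨hN, hNp⟩)
    obtain ⟨r, hr⟩ := hPp ⟨α, hα⟩
    have hr' : α ^ 2 ^ r = 1 := congrArg Subtype.val hr
    have hodd : ¬ 2 ∣ N.index := by
      have h := N.card_mul_index
      rw [hNcard, hcard] at h
      rw [Nat.eq_of_mul_eq_mul_left (by positivity) h, Nat.prime_two.dvd_mul]
      rintro (h2 | h2)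
      · omega
      · have : 2 ∣ 2 ^ (2 * m + 1) := dvd_pow_self 2 (by omega)
        have := Nat.one_le_two_pow (n := 2 * m + 1)
        omega
    rw [← QuotientGroup.eq_one_iff (N := N), ← orderOf_eq_one_iff]
    have h1 : orderOf (α : MulAut ↥(U hθ) ⧸ N) ∣ 2 ^ r := orderOf_dvd_of_pow_eq_one (by
      rw [← QuotientGroup.mk_pow, hr']; rfl)
    have h2 : orderOf (α : MulAut ↥(U hθ) ⧸ N) ∣ N.index := by
      rw [Subgroup.index_eq_card]; exact orderOf_dvd_natCard _
    exact Nat.eq_one_of_dvd_coprimes ((Nat.Prime.coprime_iff_not_dvd Nat.prime_two).mpr hodd |>.pow_left r) h1 h2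
  rw [hcore]
  exact ⟨hNel, hNcard, hcard⟩

end

end Cfsg.Agent.Lib.KnownA.Suz
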