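import Mathlib

/-!
Isomorphism of Sylow subgroups from a common multiplication table.
-/

set_option autoImplicit false

namespace Cfsg.Agent.Lib.KnownA.SylowIso

/-- A table property for a map into a monoid. -/
structure IsTable {G : Type*} [Monoid G] {n k : ℕ} (a : Fin (n + 1) → G) (t : Fin (n + 1) → Fin k → Fin (n + 1)) :
    Prop where
  one : a 0 = 1
  inj : Function.Injective a
  mul : ∀ i j, a i * a (t 0 j) = a (t i j)

/-- The tree property of a table. -/
def TreeOk {n k : ℕ} (t : Fin (n + 1) → Fin k → Fin (n + 1)) (p : Fin (n + 1) → Fin (n + 1) × Fin k) : Prop :=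
  ∀ i, i ≠ 0 → (p i).1 < i ∧ t (p i).1 (p i).2 = i

theorem mem_of_tree {G : Type*} [Monoid G] {n k : ℕ} {a : Fin (n + 1) → G}
    {t : Fin (n + 1) → Fin k → Fin (n + 1)} {p : Fin (n + 1) → Fin (n + 1) × Fin k} (hp : TreeOk t p)
    (h1 : a 0 = 1) (hmul : ∀ i j, a i * a (t 0 j) = a (t i j)) (S : Submonoid G) (hg : ∀ j, a (t 0 j) ∈ S) :
    ∀ i, a i ∈ S := by
  intro i
  induction i using WellFoundedLT.induction with
  | _ i ih =>
    by_cases h0 : i = 0
    · rw [h0, h1]; exact one_mem S
    · obtain ⟨hlt, he⟩ := hp i h0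
      rw [← he, ← hmul]
      exact mul_mem (ih _ hlt) (hg _)

theorem mul_index {n k : ℕ} {t : Fin (n + 1) → Fin k → Fin (n + 1)} {p : Fin (n + 1) → Fin (n + 1) × Fin k}
    (hp : TreeOk t p) {G H : Type*} [Monoid G] [Monoid H] {a : Fin (n + 1) → G} {b : Fin (n + 1) → H}
    (ha : IsTable a t) (hb : IsTable b t) (i l : Fin (n + 1)) :
    ∃ m, a i * a l = a m ∧ b i * b l = b m := by
  induction l using WellFoundedLT.induction with
  | _ l ih =>
    by_cases h0 : l = 0
    · exact ⟨i, by rw [h0, ha.one, mul_one], by rw [h0, hb.one, mul_one]⟩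
    · obtain ⟨hlt, he⟩ := hp l h0
      obtain ⟨m, hm, hm'⟩ := ih _ hlt
      refine ⟨t m (p l).2, ?_, ?_⟩
      · conv_lhs => rw [← he]
        rw [← ha.mul, ← mul_assoc, hm, ha.mul]
      · conv_lhs => rw [← he]
        rw [← hb.mul, ← mul_assoc, hm', hb.mul]

/-- Two groups whose Sylow subgroups share a table have isomorphic Sylow subgroups. -/
theorem sylow_iso {n k : ℕ} {t : Fin (n + 1) → Fin k → Fin (n + 1)} {p : Fin (n + 1) → Fin (n + 1) × Fin k}
    (hp : TreeOk t p) {G H : Type*} [Group G] [Group H] [Finite G] [Finite H] {a : Fin (n + 1) → G}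
    {b : Fin (n + 1) → H} (ha : IsTable a t) (hb : IsTable b t) {q : ℕ} [Fact q.Prime] {e r s : ℕ}
    (hn : n + 1 = q ^ e) (hG : Nat.card G = q ^ e * r) (hr : ¬ q ∣ r) (hH : Nat.card H = q ^ e * s) (hs : ¬ q ∣ s)
    (P : Sylow q G) (Q : Sylow q H) : Nonempty (↥(P : Subgroup G) ≃* ↥(Q : Subgroup H)) := by
  classical
  let M : Submonoid (G × H) :=
    { carrier := Set.range fun i => (a i, b i)
      one_mem' := ⟨0, by simp [ha.one, hb.one]⟩
      mul_mem' := by
        rintro _ _ ⟨i, rfl⟩ ⟨l, rfl⟩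
        obtain ⟨m, hm, hm'⟩ := mul_index hp ha hb i l
        exact ⟨m, by simp [hm, hm']⟩ }
  let K : Subgroup (G × H) :=
    { M with
      inv_mem' := fun {x} hx => by
        have h := M.pow_mem hx (orderOf x - 1)
        have e : x ^ (orderOf x - 1) = x⁻¹ := eq_inv_of_mul_eq_one_left (by
          rw [← pow_succ, Nat.sub_add_cancel (orderOf_pos x), pow_orderOf_eq_one])
        rwa [e] at h }
  let fa : K →* G := (MonoidHom.fst G H).comp K.subtype
  let fb : K →* H := (MonoidHom.snd G H).comp K.subtype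
  have hfa : Function.Injective fa := by
    rintro ⟨x, i, rfl⟩ ⟨y, l, rfl⟩ h
    have : i = l := ha.inj h
    subst this; rfl
  have hfb : Function.Injective fb := by
    rintro ⟨x, i, rfl⟩ ⟨y, l, rfl⟩ h
    have : i = l := hb.inj h
    subst this; rfl
  have hK : Nat.card K = n + 1 := by
    have hinj : Function.Injective fun i => (a i, b i) := fun i l h => ha.inj (congrArg Prod.fst h)
    exact (Nat.card_congr (Equiv.ofInjective _ hinj).symm).trans (Nat.card_fin _)
  have hfac : ∀ {m r : ℕ}, ¬ q ∣ r → m = q ^ e * r → m.factorization q = e := by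
    intro m r hr hm
    have hr0 : r ≠ 0 := fun h => hr (h ▸ dvd_zero q)
    have hq : q.Prime := Fact.out
    rw [hm, Nat.factorization_mul (pow_ne_zero _ hq.ne_zero) hr0, Finsupp.add_apply,
      hq.factorization_pow, Finsupp.single_eq_same, Nat.factorization_eq_zero_of_not_dvd hr, add_zero]
  let ea := MonoidHom.ofInjective hfa
  let eb := MonoidHom.ofInjective hfb
  let S : Sylow q G := Sylow.ofCard fa.range (by
    rw [← Nat.card_congr ea.toEquiv, hK, hn, hfac hr hG])
  let T : Sylow q H := Sylow.ofCard fb.range (by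
    rw [← Nat.card_congr eb.toEquiv, hK, hn, hfac hs hH])
  exact ⟨((P.equiv S).trans (ea.symm.trans eb)).trans (T.equiv Q)⟩

end Cfsg.Agent.Lib.KnownA.SylowIso
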