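import Mathlib
import Cfsg.Agent.Lib.KnownA.SylowTori
import Cfsg.Agent.Lib.Classical.SympCard

/-!
Sylow subgroups of symplectic groups for large primes.
-/

set_option autoImplicit false
set_option linter.unusedSectionVars false

namespace Cfsg.Agent.Lib.KnownA.SylowSymp

open Matrix Cfsg.Agent.Lib.KnownA.SylowTori

variable {F : Type*} [Field F] {L L' : Type*} [Fintype L] [DecidableEq L] [Fintype L'] [DecidableEq L']

/-- Reindexing of symplectic groups. -/
theorem exists_reindex_hom (e : L ≃ L') :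
    ∃ φ : ↥(symplecticGroup L F) →* ↥(symplecticGroup L' F), Function.Injective φ := by
  let f := reindexAlgEquiv F F (Equiv.sumCongr e e)
  have hJ : f (J L F) = J L' F := by
    ext (i | i) (j | j) <;> simp [f, J, Matrix.one_apply]
  refine ⟨MonoidHom.codRestrict (f.toAlgHom.toMonoidHom.comp (symplecticGroup L F).subtype) _ fun M => ?_,
    fun M N h => Subtype.ext (f.injective (congrArg Subtype.val h))⟩
  rw [SymplecticGroup.mem_iff']
  show (f (M : Matrix (L ⊕ L) (L ⊕ L) F))ᵀ * J L' F * f (M : Matrix (L ⊕ L) (L ⊕ L) F) = J L' F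
  rw [← hJ, show (f (M : Matrix (L ⊕ L) (L ⊕ L) F))ᵀ = f (M : Matrix (L ⊕ L) (L ⊕ L) F)ᵀ from rfl, ← map_mul, ← map_mul,
    SymplecticGroup.mem_iff'.mp M.2]

/-- Adding an orthogonal symplectic space. -/
theorem exists_extend_hom :
    ∃ φ : ↥(symplecticGroup L F) →* ↥(symplecticGroup (L ⊕ L') F), Function.Injective φ := by
  let f := reindexAlgEquiv F F (Equiv.sumSumSumComm L L L' L')
  let g : Matrix (L ⊕ L) (L ⊕ L) F →* Matrix ((L ⊕ L) ⊕ (L' ⊕ L')) ((L ⊕ L) ⊕ (L' ⊕ L')) F :=
    { toFun := fun M => fromBlocks M 0 0 1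
      map_one' := fromBlocks_one
      map_mul' := fun M N => by simp [fromBlocks_multiply] }
  have hJ : f (fromBlocks (J L F) 0 0 (J L' F)) = J (L ⊕ L') F := by
    ext ((i | i) | (i | i)) ((j | j) | (j | j)) <;> simp [f, J, Matrix.one_apply]
  refine ⟨MonoidHom.codRestrict (f.toAlgHom.toMonoidHom.comp (g.comp (symplecticGroup L F).subtype)) _ fun M => ?_,
    fun M N h => Subtype.ext ?_⟩
  · rw [SymplecticGroup.mem_iff']
    show (f (g (M : Matrix (L ⊕ L) (L ⊕ L) F)))ᵀ * J (L ⊕ L') F * f (g (M : Matrix (L ⊕ L) (L ⊕ L) F)) = J (L ⊕ L') F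
    rw [← hJ, show (f (g (M : Matrix (L ⊕ L) (L ⊕ L) F)))ᵀ = f (g (M : Matrix (L ⊕ L) (L ⊕ L) F))ᵀ from rfl,
      ← map_mul, ← map_mul]
    congr 1
    show (fromBlocks (M : Matrix (L ⊕ L) (L ⊕ L) F) 0 0 1)ᵀ * fromBlocks (J L F) 0 0 (J L' F) *
      fromBlocks (M : Matrix (L ⊕ L) (L ⊕ L) F) 0 0 1 = _
    simp [fromBlocks_transpose, fromBlocks_multiply, SymplecticGroup.mem_iff'.mp M.2]
  · exact (fromBlocks_inj.mp (f.injective (congrArg Subtype.val h))).1

/-- The general linear group inside the symplectic group. -/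
theorem exists_GL_to_symp : ∃ φ : GL L F →* ↥(symplecticGroup L F), Function.Injective φ := by
  let g : GL L F →* Matrix (L ⊕ L) (L ⊕ L) F :=
    { toFun := fun A => fromBlocks (A : Matrix L L F) 0 0 ((A⁻¹ : GL L F) : Matrix L L F)ᵀ
      map_one' := by simp
      map_mul' := fun A B => by simp [fromBlocks_multiply] }
  refine ⟨MonoidHom.codRestrict g _ fun A => ?_, fun A B h => Units.ext (fromBlocks_inj.mp (congrArg Subtype.val h)).1⟩
  rw [SymplecticGroup.mem_iff']
  show (fromBlocks (A : Matrix L L F) 0 0 ((A⁻¹ : GL L F) : Matrix L L F)ᵀ)ᵀ * J L F *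
    fromBlocks (A : Matrix L L F) 0 0 ((A⁻¹ : GL L F) : Matrix L L F)ᵀ = J L F
  rw [J, fromBlocks_transpose, fromBlocks_multiply, fromBlocks_multiply]
  congr 1 <;> simp [← transpose_mul, -Matrix.coe_units_inv]

/-- Tuples of elements of `SL₂` as symplectic matrices. -/
theorem exists_SL2_tuple_hom :
    ∃ φ : (L → SpecialLinearGroup (Fin 2) F) →* ↥(symplecticGroup L F), Function.Injective φ := by
  let d : (L → SpecialLinearGroup (Fin 2) F) → Fin 2 → Fin 2 → Matrix L L F := fun c i j =>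
    diagonal fun l => (c l : Matrix (Fin 2) (Fin 2) F) i j
  let g : (L → SpecialLinearGroup (Fin 2) F) →* Matrix (L ⊕ L) (L ⊕ L) F :=
    { toFun := fun c => fromBlocks (d c 0 0) (d c 0 1) (d c 1 0) (d c 1 1)
      map_one' := by simp [d]
      map_mul' := fun c e => by simp [d, fromBlocks_multiply, Matrix.mul_apply, Fin.sum_univ_two] }
  refine ⟨MonoidHom.codRestrict g _ fun c => ?_, fun c e h => ?_⟩
  · have hdet : ∀ l, (c l : Matrix (Fin 2) (Fin 2) F) 0 0 * (c l : Matrix (Fin 2) (Fin 2) F) 1 1 -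
        (c l : Matrix (Fin 2) (Fin 2) F) 0 1 * (c l : Matrix (Fin 2) (Fin 2) F) 1 0 = 1 := fun l => by
      rw [← Matrix.det_fin_two]; exact (c l).2
    rw [SymplecticGroup.mem_iff']
    show (fromBlocks (d c 0 0) (d c 0 1) (d c 1 0) (d c 1 1))ᵀ * J L F * fromBlocks (d c 0 0) (d c 0 1) (d c 1 0) (d c 1 1) = J L F
    simp only [d, J, fromBlocks_transpose, diagonal_transpose, fromBlocks_multiply, mul_zero, zero_mul, mul_one, add_zero,
      zero_add, mul_neg, neg_mul, diagonal_mul_diagonal, diagonal_neg, diagonal_add]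
    congr 1
    all_goals
      ext i j
      by_cases hij : i = j
      · subst hij
        simp
        first
          | linear_combination hdet i
          | linear_combination -hdet i
          | ring
      · simp [hij]
  · have h' := fromBlocks_inj.mp (congrArg Subtype.val h)
    funext l
    ext i j
    fin_cases i <;> fin_cases j
    · exact congrFun (diagonal_injective h'.1) l
    · exact congrFun (diagonal_injective h'.2.1) l
    · exact congrFun (diagonal_injective h'.2.2.1) l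
    · exact congrFun (diagonal_injective h'.2.2.2) l

/-- A symplectic group over an extension field inside one over the ground field. -/
theorem exists_descent_hom {K : Type*} [Field K] [Algebra F K] [Algebra.IsSeparable F K] {κ : Type*} [Fintype κ] [DecidableEq κ]
    (b : Module.Basis κ F K) :
    ∃ φ : ↥(symplecticGroup L K) →* ↥(symplecticGroup (L × κ) F), Function.Injective φ := by
  let G : Matrix κ κ F := (Algebra.traceForm F K).toMatrix b
  have hGt : Gᵀ = G := by
    ext u v
    simp [G, Algebra.traceForm_toMatrix, mul_comm]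
  have hT : ∀ x : K, (Algebra.leftMulMatrix b x)ᵀ * G = G * Algebra.leftMulMatrix b x := by
    have e : ∀ (x : K) (u v : κ), ((Algebra.leftMulMatrix b x)ᵀ * G) u v = Algebra.trace F K (x * b u * b v) := by
      intro x u v
      conv_rhs => rw [← b.sum_repr (x * b u), Finset.sum_mul, map_sum]
      rw [Matrix.mul_apply]
      refine Finset.sum_congr rfl fun z _ => ?_
      rw [transpose_apply, Algebra.leftMulMatrix_eq_repr_mul, smul_mul_assoc, map_smul, smul_eq_mul]
      exact congrArg _ (by simp [G])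
    intro x
    ext u v
    rw [e, show (G * Algebra.leftMulMatrix b x) u v = ((Algebra.leftMulMatrix b x)ᵀ * G) v u by
      rw [← transpose_apply ((Algebra.leftMulMatrix b x)ᵀ * G), transpose_mul, transpose_transpose, hGt], e]
    congr 1; ring
  let T : Matrix (L ⊕ L) (L ⊕ L) K →+* Matrix ((L ⊕ L) × κ) ((L ⊕ L) × κ) F :=
    (compRingEquiv (L ⊕ L) κ F).toRingHom.comp (Algebra.leftMulMatrix b).toRingHom.mapMatrix
  let Gd : Matrix ((L ⊕ L) × κ) ((L ⊕ L) × κ) F := compRingEquiv (L ⊕ L) κ F (diagonal fun _ => G)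
  have key : ∀ M, (T M)ᵀ * Gd = Gd * T Mᵀ := by
    intro M
    ext ⟨i, x⟩ ⟨j, y⟩
    have h := congrFun (congrFun (hT (M j i)) x) y
    simp only [Matrix.mul_apply, transpose_apply] at h
    simp only [Matrix.mul_apply, Fintype.sum_prod_type, transpose_apply, T, Gd, RingHom.comp_apply,
      RingEquiv.toRingHom_eq_coe, RingHom.coe_coe, compRingEquiv_apply, comp_apply, RingHom.mapMatrix_apply,
      map_apply, diagonal_apply, AlgHom.toRingHom_eq_coe]
    rw [Finset.sum_eq_single j (fun l _ hl => by simp [hl]) (by simp),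
      Finset.sum_eq_single i (fun l _ hl => by simp [Ne.symm hl]) (by simp)]
    simpa using h
  let f := reindexAlgEquiv F F (Equiv.sumProdDistrib L L κ)
  let G' : Matrix (L × κ) (L × κ) F := compRingEquiv L κ F (diagonal fun _ => G)
  let D : Matrix ((L × κ) ⊕ (L × κ)) ((L × κ) ⊕ (L × κ)) F := fromBlocks 1 0 0 G'
  have hDu : IsUnit D.det := by
    rw [det_fromBlocks_zero₁₂, det_one, one_mul]
    have hG : IsUnit G := (isUnit_iff_isUnit_det G).mpr (isUnit_iff_ne_zero.mpr (det_traceForm_ne_zero b))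
    have hd : IsUnit (diagonal fun _ : L => G) := by
      obtain ⟨u, hu⟩ := hG
      exact ⟨⟨diagonal fun _ => G, diagonal fun _ => ((u⁻¹ : (Matrix κ κ F)ˣ) : Matrix κ κ F),
        by rw [diagonal_mul_diagonal, ← hu, Units.mul_inv]; exact diagonal_one,
        by rw [diagonal_mul_diagonal, ← hu, Units.inv_mul]; exact diagonal_one⟩, rfl⟩
    exact (isUnit_iff_isUnit_det G').mp (hd.map (compRingEquiv L κ F))
  have hW : f (Gd * T (J L K)) = Dᵀ * J (L × κ) F * D := by
    rw [show Gd * T (J L K) = compRingEquiv (L ⊕ L) κ F (diagonal (fun _ => G) * (J L K).map (Algebra.leftMulMatrix b))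
      from by rw [map_mul]; rfl, J, J, fromBlocks_transpose, fromBlocks_multiply, fromBlocks_multiply]
    have hG't : G'ᵀ = G' := by
      ext ⟨i, x⟩ ⟨j, y⟩
      by_cases hij : i = j
      · subst hij
        simpa [G'] using congrFun (congrFun hGt x) y
      · simp [G', hij, Ne.symm hij]
    ext (⟨i, x⟩ | ⟨i, x⟩) (⟨j, y⟩ | ⟨j, y⟩) <;> by_cases hij : i = j <;>
      simp [f, G', hG't, hij, diagonal_mul, Matrix.one_apply, Matrix.map_apply, Ne.symm]
    all_goals exact (congrFun (congrFun hGt x) y).symm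
  let g : ↥(symplecticGroup L K) →* Matrix ((L × κ) ⊕ (L × κ)) ((L × κ) ⊕ (L × κ)) F :=
    { toFun := fun M => D * f (T (M : Matrix (L ⊕ L) (L ⊕ L) K)) * D⁻¹
      map_one' := by simp [mul_nonsing_inv D hDu]
      map_mul' := fun M N => by
        rw [Submonoid.coe_mul, map_mul, map_mul]
        simp only [mul_assoc]
        rw [← mul_assoc D⁻¹ D, nonsing_inv_mul D hDu, one_mul] }
  refine ⟨MonoidHom.codRestrict g _ fun M => ?_, fun M N h => Subtype.ext ?_⟩
  · rw [SymplecticGroup.mem_iff']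
    have e : (f (T (M : Matrix (L ⊕ L) (L ⊕ L) K)))ᵀ * (Dᵀ * J (L × κ) F * D) * f (T (M : Matrix (L ⊕ L) (L ⊕ L) K)) =
        Dᵀ * J (L × κ) F * D := by
      rw [← hW, show (f (T (M : Matrix (L ⊕ L) (L ⊕ L) K)))ᵀ = f (T (M : Matrix (L ⊕ L) (L ⊕ L) K))ᵀ from rfl, ← map_mul, ← map_mul]
      congr 1
      rw [← mul_assoc, key, mul_assoc, mul_assoc, ← map_mul, ← map_mul, ← mul_assoc, SymplecticGroup.mem_iff'.mp M.2]
    show (D * f (T (M : Matrix (L ⊕ L) (L ⊕ L) K)) * D⁻¹)ᵀ * J (L × κ) F * (D * f (T (M : Matrix (L ⊕ L) (L ⊕ L) K)) * D⁻¹) = _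
    calc _ = (D⁻¹)ᵀ * ((f (T (M : Matrix (L ⊕ L) (L ⊕ L) K)))ᵀ * (Dᵀ * J (L × κ) F * D) * f (T (M : Matrix (L ⊕ L) (L ⊕ L) K))) * D⁻¹ := by
          simp only [transpose_mul, mul_assoc]
      _ = ((D⁻¹)ᵀ * Dᵀ) * J (L × κ) F * (D * D⁻¹) := by rw [e]; simp only [mul_assoc]
      _ = _ := by rw [← transpose_mul, mul_nonsing_inv D hDu, transpose_one, one_mul, mul_one]
  · have h1 : D * f (T (M : Matrix (L ⊕ L) (L ⊕ L) K)) * D⁻¹ = D * f (T (N : Matrix (L ⊕ L) (L ⊕ L) K)) * D⁻¹ :=
      congrArg Subtype.val h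
    have hD : IsUnit D := (isUnit_iff_isUnit_det D).mpr hDu
    have h2 : T (M : Matrix (L ⊕ L) (L ⊕ L) K) = T (N : Matrix (L ⊕ L) (L ⊕ L) K) :=
      f.injective (hD.mul_left_cancel ((isUnit_nonsing_inv_iff.mpr hD).mul_right_cancel h1))
    exact Matrix.map_injective (Algebra.leftMulMatrix_injective b) ((compRingEquiv (L ⊕ L) κ F).injective h2)

variable {r q : ℕ} [hr : Fact r.Prime] [Fintype F]

/-- A cyclic subgroup of the norm one torus in `SL₂`. -/
theorem exists_SL2_hom {K K₂ : Type*} [Field K] [Fintype K] [Field K₂] [Fintype K₂] [Algebra K K₂]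
    (h2 : Module.finrank K K₂ = 2) (hdvd : r ^ expo r q ∣ Fintype.card K + 1) :
    ∃ ψ : Multiplicative (ZMod (r ^ expo r q)) →* SpecialLinearGroup (Fin 2) K, Function.Injective ψ := by
  have hc : Fintype.card K₂ = Fintype.card K ^ 2 := by rw [Module.card_eq_pow_finrank (K := K), h2]
  have hsq : Fintype.card K ^ 2 - 1 = (Fintype.card K - 1) * (Fintype.card K + 1) := by
    rw [← one_pow 2, Nat.sq_sub_sq, one_pow, mul_comm]
  obtain ⟨ψ, hψ⟩ := exists_units_hom (r := r) (q := q) (K := K₂) (by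
    rw [hc, hsq]; exact dvd_mul_of_dvd_right hdvd _)
  let b : Module.Basis (Fin 2) K K₂ := (Module.finBasis K K₂).reindex (finCongr h2)
  have hnorm : ∀ x, Algebra.norm K ((ψ x : K₂ˣ) : K₂) = 1 := by
    intro x
    apply (algebraMap K K₂).injective
    have hK := Fintype.one_lt_card (α := K)
    rw [FiniteField.algebraMap_norm_eq_pow, map_one, Nat.card_eq_fintype_card, Nat.card_eq_fintype_card, hc, hsq,
      Nat.mul_div_cancel_left _ (by omega), ← Units.val_pow_eq_pow_val, ← map_pow, Units.val_eq_one]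
    obtain ⟨c, hc'⟩ := hdvd
    have hx : x ^ (r ^ expo r q) = 1 := by
      apply Multiplicative.toAdd.injective
      rw [toAdd_pow, toAdd_one, nsmul_eq_mul, ZMod.natCast_self, zero_mul]
    rw [hc', pow_mul, hx, one_pow, map_one]
  refine ⟨{ toFun := fun x => ⟨Algebra.leftMulMatrix b ((ψ x : K₂ˣ) : K₂), by rw [← Algebra.norm_eq_matrix_det b]; exact hnorm x⟩
            map_one' := Subtype.ext (by simp)
            map_mul' := fun x y => Subtype.ext (by simp only [map_mul, Units.val_mul]; rfl) }, fun x y h => hψ (Units.ext ?_)⟩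
  exact Algebra.leftMulMatrix_injective b (congrArg Subtype.val h)

theorem val_symp (hF : Fintype.card F = q) {n : ℕ} (hr2 : r ≠ 2) (hrn : n < r) (hrq : ¬ r ∣ q) :
    (Nat.card ↥(symplecticGroup (Fin n) F)).factorization r =
      ((Finset.Icc 1 n).filter fun i => orderOf (q : ZMod r) ∣ 2 * i).card * expo r q := by
  have hq := one_lt_q hF
  have hne : ∀ i, q ^ (2 * (i + 1)) - 1 ≠ 0 := fun i => by
    have := Nat.one_lt_pow (n := 2 * (i + 1)) (by omega) hq; omega
  have hval : ∀ i, 1 ≤ i → i ≤ n → padicValNat r (q ^ (2 * i) - 1) = if orderOf (q : ZMod r) ∣ 2 * i then expo r q else 0 := by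
    intro i hi hin
    split_ifs with h
    · obtain ⟨j, hj⟩ := h
      rw [hj]
      have hd := ord_pos hrq
      set Q := q ^ orderOf (q : ZMod r) with hQ
      have hQ1 : 1 < Q := Nat.one_lt_pow hd.ne' hq
      have hj0 : 1 ≤ j := Nat.pos_of_ne_zero fun h => by simp [h] at hj; omega
      have hfac : (∑ l ∈ Finset.range j, Q ^ l) * (Q - 1) = Q ^ j - 1 := geom_sum_mul_of_one_le hQ1.le j
      rw [pow_mul, ← hQ, ← hfac, padicValNat.mul ?_ (by omega), padicValNat.eq_zero_of_not_dvd, zero_add]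
      · rw [expo, ← hQ]
      · intro hdvd
        have h1 : ((∑ l ∈ Finset.range j, Q ^ l : ℕ) : ZMod r) = 0 := (ZMod.natCast_eq_zero_iff _ r).mpr hdvd
        have h2 : (Q : ZMod r) = 1 := by rw [hQ, Nat.cast_pow, pow_orderOf_eq_one]
        push_cast at h1
        simp [h2] at h1
        rw [ZMod.natCast_eq_zero_iff] at h1
        have h3 : r ∣ 2 * i := hj ▸ h1.mul_left _
        rcases (Nat.Prime.dvd_mul hr.out).mp h3 with h3 | h3
        · exact hr2 ((Nat.prime_dvd_prime_iff_eq hr.out Nat.prime_two).mp h3)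
        · have := Nat.le_of_dvd hi h3; omega
      · refine (Finset.sum_pos (fun l _ => Nat.pow_pos (by omega)) ?_).ne'
        exact ⟨0, Finset.mem_range.mpr hj0⟩
    · exact padicValNat.eq_zero_of_not_dvd fun hd => h ((dvd_pow_sub_one_iff (by omega) _).mp hd)
  have hsum : ∑ i ∈ Finset.range n, (if orderOf (q : ZMod r) ∣ 2 * (i + 1) then expo r q else 0) =
      ∑ i ∈ Finset.Icc 1 n, (if orderOf (q : ZMod r) ∣ 2 * i then expo r q else 0) := by
    refine Finset.sum_bij' (fun i _ => i + 1) (fun j _ => j - 1) ?_ ?_ ?_ ?_ ?_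
    all_goals first
      | (intro i hi; simp only [Finset.mem_range, Finset.mem_Icc] at hi ⊢; omega)
      | (intro i hi; rfl)
  rw [Nat.factorization_def _ hr.out, Classical.card_sp, hF, padicValNat.mul (pow_ne_zero _ (by omega))
    (Finset.prod_ne_zero_iff.mpr fun i _ => hne i),
    padicValNat.eq_zero_of_not_dvd (fun h => hrq (hr.out.dvd_of_dvd_pow h)), zero_add,
    val_prod _ _ fun i _ => hne i,
    Finset.sum_congr rfl fun i hi => hval (i + 1) (by omega) (by have := Finset.mem_range.mp hi; omega),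
    hsum, Finset.sum_ite, Finset.sum_const_zero, add_zero, Finset.sum_const, smul_eq_mul]

theorem card_multiples (n k : ℕ) : ((Finset.Icc 1 n).filter fun i => k ∣ i).card = n / k := by
  rw [← Nat.Ioc_filter_dvd_card_eq_div n k]
  congr 1

theorem exists_symp_hom (hF : Fintype.card F = q) {n : ℕ} (hrq : ¬ r ∣ q) :
    ∃ φ : (Fin ((Finset.Icc 1 n).filter fun i => orderOf (q : ZMod r) ∣ 2 * i).card →
        Multiplicative (ZMod (r ^ expo r q))) →* ↥(symplecticGroup (Fin n) F), Function.Injective φ := by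
  classical
  have hq := one_lt_q hF
  have hd := ord_pos hrq
  obtain ⟨d, hdd⟩ : ∃ d, d = orderOf (q : ZMod r) := ⟨_, rfl⟩
  rw [← hdd] at hd ⊢
  rcases Nat.even_or_odd d with ⟨k, hk⟩ | hodd
  · have hk0 : 0 < k := by omega
    rw [Finset.filter_congr (q := fun i => k ∣ i) fun i _ => by
      rw [hk, ← two_mul]; exact Nat.mul_dvd_mul_iff_left (by norm_num), card_multiples]
    obtain ⟨p, hp⟩ := CharP.exists F
    haveI := hp
    haveI : Fact p.Prime := ⟨CharP.char_is_prime F p⟩
    haveI : NeZero k := ⟨hk0.ne'⟩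
    let K := FiniteField.Extension F p k
    letI : Fintype K := Fintype.ofFinite K
    haveI : CharP K p := charP_of_injective_algebraMap (algebraMap F K).injective p
    have hK : Fintype.card K = q ^ k := by
      rw [← Nat.card_eq_fintype_card, FiniteField.natCard_extension, Nat.card_eq_fintype_card, hF]
    let K₂ := FiniteField.Extension K p 2
    letI : Fintype K₂ := Fintype.ofFinite K₂
    have hdvd : r ^ expo r q ∣ Fintype.card K + 1 := by
      rw [hK]
      have hcop : Nat.Coprime (r ^ expo r q) (q ^ k - 1) := by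
        refine Nat.Coprime.pow_left _ (hr.out.coprime_iff_not_dvd.mpr fun h => ?_)
        have h2 := Nat.le_of_dvd hk0 ((dvd_pow_sub_one_iff (by omega) k).mp h)
        omega
      refine hcop.dvd_of_dvd_mul_left ?_
      rw [mul_comm, ← Nat.sq_sub_sq, one_pow, ← pow_mul, mul_two, ← hk, hdd]
      exact pow_padicValNat_dvd
    obtain ⟨ψ, hψ⟩ := exists_SL2_hom (r := r) (q := q) (K := K) (K₂ := K₂) (FiniteField.finrank_extension _ _ _) hdvd
    obtain ⟨φ₁, h₁⟩ := exists_SL2_tuple_hom (F := K) (L := Fin (n / k))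
    obtain ⟨φ₂, h₂⟩ := exists_descent_hom (F := F) (L := Fin (n / k))
      ((Module.finBasis F K).reindex (finCongr (FiniteField.finrank_extension F p k)))
    obtain ⟨φ₃, h₃⟩ := exists_extend_hom (F := F) (L := Fin (n / k) × Fin k) (L' := Fin (n - n / k * k))
    obtain ⟨φ₄, h₄⟩ := exists_reindex_hom (F := F) (L := (Fin (n / k) × Fin k) ⊕ Fin (n - n / k * k)) (L' := Fin n)
      (Fintype.equivOfCardEq (by
        simp only [Fintype.card_sum, Fintype.card_prod, Fintype.card_fin]
        have := Nat.div_mul_le_self n k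
        omega))
    refine ⟨φ₄.comp (φ₃.comp (φ₂.comp (φ₁.comp (Pi.monoidHom fun i => ψ.comp (Pi.evalMonoidHom _ i))))),
      h₄.comp (h₃.comp (h₂.comp (h₁.comp fun a b h => funext fun i => hψ (congrFun h i))))⟩
  · rw [Finset.filter_congr (q := fun i => d ∣ i) fun i _ =>
      ⟨fun h => (Nat.coprime_two_right.mpr hodd).dvd_of_dvd_mul_left h, fun h => h.mul_left 2⟩, card_multiples, hdd]
    obtain ⟨φ, hφ⟩ := exists_GL_hom (r := r) hF (n := n) hrq
    obtain ⟨φ', hφ'⟩ := exists_GL_to_symp (F := F) (L := Fin n)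
    exact ⟨φ'.comp φ, hφ'.comp hφ⟩

theorem sylow_symp (hF : Fintype.card F = q) {n : ℕ} (hr2 : r ≠ 2) (hrn : n < r) (hrq : ¬ r ∣ q)
    (P : Sylow r ↥(symplecticGroup (Fin n) F)) :
    Nonempty (↥(P : Subgroup ↥(symplecticGroup (Fin n) F)) ≃*
      (Fin ((Finset.Icc 1 n).filter fun i => orderOf (q : ZMod r) ∣ 2 * i).card → Multiplicative (ZMod (r ^ expo r q)))) := by
  obtain ⟨φ, hφ⟩ := exists_symp_hom (r := r) hF (n := n) hrq
  exact sylow_equiv_of_embedding φ hφ (by rw [card_tuples, val_symp hF hr2 hrn hrq]) P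

end Cfsg.Agent.Lib.KnownA.SylowSymp
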