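import Mathlib
import Cfsg.Agent.Lib.KnownA.SylowTwo

/-! Maximal subgroups above a Sylow 2-subgroup of a symmetric or alternating group. -/

set_option autoImplicit false
set_option maxHeartbeats 400000

namespace Cfsg.Agent.Lib.KnownA.SylowTwo

open Equiv MulAction
open scoped Pointwise

/-- Transitivity on the pairs lifts to transitivity on the paired points. -/
theorem model_transitive {m r : ℕ} (hr : r ≤ 1) {T : Sylow 2 (Perm (Mdl m r))}
    (hT : (T : Subgroup (Perm (Mdl m r))) ≤ wr m r)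
    (hQ : ∀ (Q : Sylow 2 (Perm (Fin m))) (i j : Fin m), ∃ t ∈ (Q : Subgroup (Perm (Fin m))), t i = j)
    (x y : Fin m × Bool) : ∃ t ∈ (T : Subgroup (Perm (Mdl m r))), t (Sum.inl x) = Sum.inl y := by
  obtain ⟨i, b⟩ := x
  obtain ⟨j, c⟩ := y
  obtain ⟨p, hp, hpe⟩ := hQ ((T.subtype hT).mapSurjective toPairs_surjective) i j
  rw [Sylow.coe_mapSurjective, Subgroup.mem_map] at hp
  obtain ⟨t, ht, rfl⟩ := hp
  obtain ⟨b', hb'⟩ := qf_spec t.2 i b
  have hq : qf (t : Perm (Mdl m r)) i = j := hpe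
  rw [hq] at hb'
  by_cases hbc : b' = c
  · exact ⟨t, ht, by rw [hb', hbc]⟩
  · refine ⟨_, (T : Subgroup (Perm (Mdl m r))).mul_mem (swap_mem_sylow hr hT (Sum.inl (j, b'))) ht, ?_⟩
    rw [Perm.mul_apply, show ((wr m r).subtype t : Perm (Mdl m r)) (Sum.inl (i, b)) = _ from hb',
      Equiv.swap_apply_left, flipM_inl, Bool.eq_not.mpr (Ne.symm hbc)]

theorem sylow_transitive_pow : ∀ (k n : ℕ), n = 2 ^ k → ∀ (T : Sylow 2 (Perm (Fin n))) (x y : Fin n),
    ∃ t ∈ (T : Subgroup (Perm (Fin n))), t x = y := by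
  intro k
  induction k with
  | zero =>
    intro n hn T x y
    obtain rfl : n = 1 := by simpa using hn
    exact ⟨1, one_mem _, Subsingleton.elim _ _⟩
  | succ k ih =>
    intro n hn T x y
    obtain ⟨m, r, e, T₀, hr, hmr, hT₀, hiff⟩ := exists_model T
    rw [Nat.card_fin, hn, pow_succ] at hmr
    have hr0 : r = 0 := by omega
    subst hr0
    have hm : m = 2 ^ k := by omega
    rcases hx : e.symm x with x' | j
    swap; · exact absurd j.2 (by omega)
    rcases hy : e.symm y with y' | j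
    swap; · exact absurd j.2 (by omega)
    obtain ⟨t, ht, hte⟩ := model_transitive hr hT₀ (ih m hm) x' y'
    exact ⟨_, (hiff t).mp ht, by rw [Equiv.permCongr_apply, hx, hte, ← hy, Equiv.apply_symm_apply]⟩

theorem sylow_transitive_succ {k n : ℕ} (hk : 1 ≤ k) (hn : n = 2 ^ k + 1) (T : Sylow 2 (Perm (Fin n))) :
    ∃ z : Fin n, (∀ t ∈ (T : Subgroup (Perm (Fin n))), t z = z) ∧
      ∀ x y, x ≠ z → y ≠ z → ∃ t ∈ (T : Subgroup (Perm (Fin n))), t x = y := by
  obtain ⟨m, r, e, T₀, hr, hmr, hT₀, hiff⟩ := exists_model T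
  obtain ⟨k, rfl⟩ : ∃ l, k = l + 1 := ⟨k - 1, by omega⟩
  rw [Nat.card_fin, hn, pow_succ] at hmr
  have hr1 : r = 1 := by omega
  subst hr1
  have hm : m = 2 ^ k := by omega
  have hz : ∀ c : Fin 1, c = 0 := fun c => Subsingleton.elim _ _
  refine ⟨e (Sum.inr 0), fun t ht => ?_, fun x y hx hy => ?_⟩
  · obtain ⟨t₀, rfl⟩ : ∃ h, e.permCongr h = t := ⟨e.permCongr.symm t, e.permCongr.apply_symm_apply t⟩
    rw [Equiv.permCongr_apply, Equiv.symm_apply_apply, inr_fixed hr (hT₀ ((hiff _).mpr ht))]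
  · rcases hx' : e.symm x with x' | j
    swap; · exact absurd (by rw [← hz j, ← hx', Equiv.apply_symm_apply]) hx
    rcases hy' : e.symm y with y' | j
    swap; · exact absurd (by rw [← hz j, ← hy', Equiv.apply_symm_apply]) hy
    obtain ⟨t, ht, hte⟩ := model_transitive hr hT₀ (sylow_transitive_pow k m hm) x' y'
    exact ⟨_, (hiff t).mp ht, by rw [Equiv.permCongr_apply, hx', hte, ← hy', Equiv.apply_symm_apply]⟩

theorem sylow_halves : ∀ (k n : ℕ), n = 2 ^ (k + 1) → ∀ (T : Sylow 2 (Perm (Fin n))),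
    ∃ c : Fin n → Bool, (∀ b, Nat.card {x // c x = b} = 2 ^ k) ∧
      ∀ t ∈ (T : Subgroup (Perm (Fin n))), ∃ e : Bool, ∀ x, c (t x) = (c x ^^ e) := by
  intro k
  induction k with
  | zero =>
    intro n hn T
    subst hn
    refine ⟨fun x => decide (x = 0), fun b => ?_, ?_⟩
    · rw [Nat.card_eq_fintype_card]; revert b; decide
    · have key : ∀ t : Perm (Fin 2), ∃ e : Bool, ∀ x, decide (t x = 0) = (decide (x = 0) ^^ e) := by decide
      exact fun t _ => key t
  | succ k ih =>
    intro n hn T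
    obtain ⟨m, r, e, T₀, hr, hmr, hT₀, hiff⟩ := exists_model T
    rw [Nat.card_fin, hn, pow_succ] at hmr
    have hr0 : r = 0 := by omega
    subst hr0
    have hm : m = 2 ^ (k + 1) := by omega
    obtain ⟨c, hc, hpres⟩ := ih m hm ((T₀.subtype hT₀).mapSurjective toPairs_surjective)
    refine ⟨fun x => Sum.elim (fun p => c p.1) (fun _ => false) (e.symm x), fun b => ?_, fun t ht => ?_⟩
    · have f : {x // Sum.elim (fun p => c p.1) (fun _ => false) (e.symm x) = b} ≃ {i // c i = b} × Bool :=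
        ((e.symm.trans (Equiv.sumEmpty _ _)).subtypeEquiv (q := fun p : Fin m × Bool => c p.1 = b)
          (fun x => by
            rcases hx : e.symm x with p | j
            · simp [hx]
            · exact absurd j.2 (by omega))).trans (Equiv.prodSubtypeFstEquivSubtypeProd (p := fun i => c i = b))
      rw [Nat.card_congr f, Nat.card_prod, hc b, Nat.card_eq_fintype_card, Fintype.card_bool, pow_succ]
    · obtain ⟨t₀, rfl⟩ : ∃ h, e.permCongr h = t := ⟨e.permCongr.symm t, e.permCongr.apply_symm_apply t⟩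
      have ht₀ := (hiff _).mpr ht
      obtain ⟨b, hb⟩ := hpres (toPairs ⟨t₀, hT₀ ht₀⟩)
        (by rw [Sylow.coe_mapSurjective]; exact Subgroup.mem_map_of_mem _ ht₀)
      refine ⟨b, fun x => ?_⟩
      simp only [Equiv.permCongr_apply, Equiv.symm_apply_apply]
      rcases hx : e.symm x with ⟨i, d⟩ | j
      · obtain ⟨d', hd'⟩ := qf_spec (hT₀ ht₀) i d
        rw [hd']
        exact hb i
      · exact absurd j.2 (by omega)

theorem swap_commute' {α : Type*} [DecidableEq α] {a b c d : α} (h1 : a ≠ c) (h2 : a ≠ d) (h3 : b ≠ c) (h4 : b ≠ d) :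
    Commute (Equiv.swap a b) (Equiv.swap c d) := by
  rw [Commute, SemiconjBy, Equiv.mul_swap_eq_swap_mul, Equiv.swap_apply_of_ne_of_ne h1.symm h3.symm,
    Equiv.swap_apply_of_ne_of_ne h2.symm h4.symm]

theorem isThreeCycle_of_overlap {α : Type*} [Fintype α] [DecidableEq α] {u v w w' t q r : α} (huv : u ≠ v)
    (hut : u ≠ t) (hvt : v ≠ t) (huw : u ≠ w) (huw' : u ≠ w') (hvw : v ≠ w) (hvw' : v ≠ w') (htw : t ≠ w)
    (htw' : t ≠ w') (huq : u ≠ q) (hur : u ≠ r) (hvq : v ≠ q) (hvr : v ≠ r) (htq : t ≠ q) (htr : t ≠ r)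
    (hwq : w ≠ q) (hwr : w ≠ r) (hwq' : w' ≠ q) (hwr' : w' ≠ r) :
    (((Equiv.swap u v * Equiv.swap w w') * (Equiv.swap u t * Equiv.swap q r)) ^ 2).IsThreeCycle := by
  set X := Equiv.swap u v * Equiv.swap u t with hX
  set Y := Equiv.swap w w' with hY
  set Z := Equiv.swap q r with hZ
  have hYt : Commute (Equiv.swap u t) Y := swap_commute' huw huw' htw htw'
  have hXY : Commute X Y := (swap_commute' huw huw' hvw hvw').mul_left hYt
  have hXZ : Commute X Z := (swap_commute' huq hur hvq hvr).mul_left (swap_commute' huq hur htq htr)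
  have hYZ : Commute Y Z := swap_commute' hwq hwr hwq' hwr'
  have he : (Equiv.swap u v * Y) * (Equiv.swap u t * Z) = X * (Y * Z) := by
    rw [hX, mul_assoc, ← mul_assoc Y, ← hYt.eq]; simp only [mul_assoc]
  rw [he, (hXY.mul_right hXZ).mul_pow, hYZ.mul_pow]
  rw [show Y ^ 2 = 1 by rw [sq, hY, Equiv.swap_mul_self], show Z ^ 2 = 1 by rw [sq, hZ, Equiv.swap_mul_self],
    one_mul, mul_one, sq]
  exact (Equiv.Perm.isThreeCycle_swap_mul_swap_same huv hut hvt).isThreeCycle_sq

theorem alt_le_of_five {M : Subgroup (Perm (Fin 5))} (h5 : 5 ∣ Nat.card ↥M) (T : Sylow 2 (Perm (Fin 5)))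
    (hT : (T : Subgroup (Perm (Fin 5))) ⊓ alternatingGroup (Fin 5) ≤ M) : alternatingGroup (Fin 5) ≤ M := by
  set A := alternatingGroup (Fin 5)
  have hA : Nat.card ↥A = 60 := by
    rw [nat_card_alternatingGroup, Nat.card_fin]; rfl
  set M' := M.subgroupOf A with hM'
  have h5' : 5 ∣ Nat.card ↥M' := by
    haveI : Fact (Nat.Prime 5) := ⟨by norm_num⟩
    obtain ⟨g, hg⟩ := exists_prime_orderOf_dvd_card' 5 h5
    have hs : (g : Perm (Fin 5)) ∈ A := by
      rw [Perm.mem_alternatingGroup]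
      have h : (g : Perm (Fin 5)) ^ 5 = 1 := by
        have h' := pow_orderOf_eq_one g
        rw [hg] at h'
        simpa using congrArg Subtype.val h'
      have h' := congrArg Perm.sign h
      rw [map_pow, map_one] at h'
      rcases Int.units_eq_one_or (Perm.sign (g : Perm (Fin 5))) with e | e
      · exact e
      · rw [e] at h'; exact absurd h' (by decide)
    have hmem : (⟨g, hs⟩ : ↥A) ∈ M' := Subgroup.mem_subgroupOf.mpr g.2
    have h := orderOf_dvd_natCard (G := ↥M') ⟨_, hmem⟩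
    rwa [← Subgroup.orderOf_coe, ← Subgroup.orderOf_coe, show ((⟨g, hs⟩ : ↥A) : Perm (Fin 5)) = g from rfl,
      Subgroup.orderOf_coe g, hg] at h
  have h4 : 4 ∣ Nat.card ↥M' := by
    have hT8 : Nat.card ↥(T : Subgroup (Perm (Fin 5))) = 8 := by
      rw [T.card_eq_multiplicity, Nat.card_perm, Nat.card_fin, show Nat.factorial 5 = 2 ^ 3 * 15 by rfl,
        Nat.factorization_mul (by norm_num) (by norm_num), Finsupp.add_apply,
        Nat.Prime.factorization_pow Nat.prime_two,
        Nat.factorization_eq_zero_of_not_dvd (show ¬ 2 ∣ 15 by norm_num), Finsupp.single_eq_same]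
      norm_num
    have hi : A.relIndex (T : Subgroup (Perm (Fin 5))) ∣ 2 := by
      have := Subgroup.relIndex_dvd_index_of_normal A (T : Subgroup (Perm (Fin 5)))
      rwa [alternatingGroup.index_eq_two] at this
    have h := Subgroup.index_mul_card (A.subgroupOf (T : Subgroup (Perm (Fin 5))))
    rw [hT8] at h
    have hle : (T : Subgroup (Perm (Fin 5))).subgroupOf A ≤ M' := fun x hx => hT ⟨hx, x.2⟩
    refine Dvd.dvd.trans ?_ (Subgroup.card_dvd_of_le hle)
    rw [← Subgroup.inf_subgroupOf_right, Nat.card_congr (Subgroup.subgroupOfEquivOfLe inf_le_right).toEquiv]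
    rw [← Subgroup.inf_subgroupOf_right A, Nat.card_congr (Subgroup.subgroupOfEquivOfLe inf_le_right).toEquiv,
      Subgroup.inf_subgroupOf_right, inf_comm] at h
    change (A.subgroupOf (T : Subgroup (Perm (Fin 5)))).index ∣ 2 at hi
    rcases (Nat.dvd_prime Nat.prime_two).mp hi with e | e <;> rw [e] at h <;> omega
  have h20 : 20 ∣ Nat.card ↥M' := Nat.Coprime.mul_dvd_of_dvd_of_dvd (by norm_num : Nat.Coprime 4 5) h4 h5'
  have hidx := M'.index_mul_card
  rw [hA] at hidx
  have hpos : M'.index ≠ 0 := by intro e; rw [e] at hidx; omega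
  have hle : M'.index ≤ 3 := by
    obtain ⟨d, hd⟩ := h20
    rw [hd] at hidx
    rcases Nat.eq_zero_or_pos d with e | e
    · subst e; omega
    · nlinarith
  haveI := alternatingGroup.isSimpleGroup_five
  rcases (M'.normalCore_normal).eq_bot_or_eq_top with e | e
  · exfalso
    have h1 : M'.normalCore.index ∣ Nat.card (Perm (↥A ⧸ M')) := by
      rw [Subgroup.normalCore_eq_ker, Subgroup.index_ker]
      exact Subgroup.card_subgroup_dvd_card _
    rw [e, Subgroup.index_bot, hA, Nat.card_perm, ← Subgroup.index_eq_card] at h1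
    have := Nat.le_of_dvd (Nat.factorial_pos _) h1
    have := Nat.factorial_le hle
    simp [Nat.factorial] at this
    omega
  · intro g hg
    have : (⟨g, hg⟩ : ↥A) ∈ M' := M'.normalCore_le (e ▸ Subgroup.mem_top _)
    exact this

/-- Twin swaps preserve the pairing. -/
theorem twin_commute {n : ℕ} {σ : Perm (Fin n)} (hσ : ∀ x, σ (σ x) = x) {a b : Fin n} (h1 : a ≠ σ b) (h2 : σ a ≠ a)
    (h3 : σ b ≠ b) : ∀ x, (Equiv.swap a b * Equiv.swap (σ a) (σ b)) (σ x) = σ ((Equiv.swap a b * Equiv.swap (σ a) (σ b)) x) := by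
  intro x
  have hc : Commute (Equiv.swap a b) (Equiv.swap (σ a) (σ b)) :=
    swap_commute' (Ne.symm h2) h1 (fun e => h1 (by rw [e, hσ])) (Ne.symm h3)
  have e1 : σ * Equiv.swap a b = Equiv.swap (σ a) (σ b) * σ := Equiv.mul_swap_eq_swap_mul σ a b
  have e2 : σ * Equiv.swap (σ a) (σ b) = Equiv.swap a b * σ := by
    rw [Equiv.mul_swap_eq_swap_mul, hσ, hσ]
  have : σ * (Equiv.swap a b * Equiv.swap (σ a) (σ b)) = (Equiv.swap a b * Equiv.swap (σ a) (σ b)) * σ := by
    rw [← mul_assoc, e1, mul_assoc, e2, ← mul_assoc, ← hc.eq]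
  exact (Equiv.ext_iff.mp this x).symm

theorem twin_sign {n : ℕ} {σ : Perm (Fin n)} {a b : Fin n} (hab : a ≠ b) :
    Perm.sign (Equiv.swap a b * Equiv.swap (σ a) (σ b)) = 1 := by
  rw [map_mul, Perm.sign_swap hab, Perm.sign_swap (σ.injective.ne hab)]; rfl

theorem three_sign {α : Type*} [Fintype α] [DecidableEq α] {a b c : α} (hab : a ≠ b) (hac : a ≠ c) :
    Perm.sign (Equiv.swap a b * Equiv.swap a c) = 1 := by
  rw [map_mul, Perm.sign_swap hab, Perm.sign_swap hac]; rfl

/-- If the pairing centraliser and the halves stabiliser lie in a group, so does the alternating group. -/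
theorem alt_le_of_pairs_halves {n : ℕ} {M : Subgroup (Perm (Fin n))} {σ : Perm (Fin n)}
    (hσ : ∀ x, σ (σ x) = x) (hne : ∀ x, σ x ≠ x) (c : Fin n → Bool) (hc : ∀ b, 4 ≤ Nat.card {x // c x = b})
    (hcσ : ∀ x, c (σ x) = c x)
    (hM1 : ∀ g : Perm (Fin n), Perm.sign g = 1 → (∀ x, g (σ x) = σ (g x)) → g ∈ M)
    (hM2 : ∀ g : Perm (Fin n), Perm.sign g = 1 → (∀ x, c (g x) = c x) → g ∈ M) :
    alternatingGroup (Fin n) ≤ M := by
  classical
  have hcyc : ∀ a b d : Fin n, a ≠ b → a ≠ d → c a = c b → c a = c d → Equiv.swap a b * Equiv.swap a d ∈ M := by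
    intro a b d hab had h1 h2
    refine hM2 _ (three_sign hab had) fun x => ?_
    rw [Perm.mul_apply]
    have hs : ∀ p q y : Fin n, c p = c q → c (Equiv.swap p q y) = c y := by
      intro p q y h
      rcases eq_or_ne y p with rfl | h1
      · rw [Equiv.swap_apply_left, h]
      rcases eq_or_ne y q with rfl | h2
      · rw [Equiv.swap_apply_right, h]
      rw [Equiv.swap_apply_of_ne_of_ne h1 h2]
    rw [hs _ _ _ h1, hs _ _ _ h2]
  have hfour : ∀ (b : Bool) (s : Finset (Fin n)), s.card ≤ 3 → ∃ p, c p = b ∧ p ∉ s := by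
    intro b s hs
    by_contra hcon
    push Not at hcon
    have h := hc b
    rw [Nat.card_eq_fintype_card, Fintype.card_subtype] at h
    have := Finset.card_le_card (show Finset.univ.filter (fun x => c x = b) ⊆ s from
      fun p hp => hcon p (Finset.mem_filter.mp hp).2)
    omega
  have htr : IsPretransitive ↥M (Fin n) := by
    have step : ∀ x y : Fin n, y ≠ x → y ≠ σ x → ∃ g : ↥M, g • x = y := by
      intro x y hxy hy
      refine ⟨⟨_, hM1 _ (twin_sign (Ne.symm hxy)) (twin_commute hσ (fun e => hy (by rw [e, hσ])) (hne x) (hne y))⟩, ?_⟩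
      change Equiv.swap x y (Equiv.swap (σ x) (σ y) x) = y
      rw [Equiv.swap_apply_of_ne_of_ne (Ne.symm (hne x)) (fun e => hy (by rw [e, hσ])), Equiv.swap_apply_left]
    constructor
    intro x y
    rcases eq_or_ne y x with rfl | h1
    · exact ⟨1, one_smul _ _⟩
    rcases eq_or_ne y (σ x) with rfl | h2
    · obtain ⟨z, -, hz⟩ := hfour true {x, σ x} (Finset.card_le_two.trans (by norm_num))
      simp only [Finset.mem_insert, Finset.mem_singleton, not_or] at hz
      obtain ⟨g, hg⟩ := step x z hz.1 hz.2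
      obtain ⟨g', hg'⟩ := step z (σ x) (Ne.symm hz.2) (fun e => hz.1 (σ.injective e).symm)
      exact ⟨g' * g, by rw [mul_smul, hg, hg']⟩
    · exact step x y h1 h2
  have hprim : IsPreprimitive ↥M (Fin n) := by
    refine { isTrivialBlock_of_isBlock := fun {B} hB => ?_ }
    by_cases hsub : B.Subsingleton
    · exact Or.inl hsub
    right
    rw [Set.not_subsingleton_iff] at hsub
    obtain ⟨x, hx, y, hy, hxy⟩ := hsub
    have hmove : ∀ g ∈ M, ∀ u ∈ B, g u ∈ B → ∀ v ∈ B, g v ∈ B := by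
      intro g hg u hu hgu v hv
      have h := hB.smul_eq_of_mem (g := (⟨g, hg⟩ : ↥M)) hu hgu
      rw [← h]; exact ⟨v, hv, rfl⟩
    have hL : ∀ u ∈ B, ∀ v ∈ B, u ≠ v → ∀ w, c w = c v → w ∈ B := by
      intro u hu v hv huv w hw
      rcases eq_or_ne w v with rfl | hwv
      · exact hv
      rcases eq_or_ne w u with rfl | hwu
      · exact hu
      obtain ⟨p, hp, hp'⟩ := hfour (c v) {u, v, w} Finset.card_le_three
      simp only [Finset.mem_insert, Finset.mem_singleton, not_or] at hp'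
      have hg := hcyc v p w (Ne.symm hp'.2.1) (Ne.symm hwv) hp.symm hw.symm
      have h1 : (Equiv.swap v p * Equiv.swap v w) u = u := by
        rw [Perm.mul_apply, Equiv.swap_apply_of_ne_of_ne huv (Ne.symm hwu),
          Equiv.swap_apply_of_ne_of_ne huv (Ne.symm hp'.1)]
      have h2 : (Equiv.swap v p * Equiv.swap v w) v = w := by
        rw [Perm.mul_apply, Equiv.swap_apply_left, Equiv.swap_apply_of_ne_of_ne hwv (Ne.symm hp'.2.2)]
      have := hmove _ hg u hu (by rw [h1]; exact hu) v hv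
      rwa [h2] at this
    have hhalf : ∀ w, c w = c y → w ∈ B := hL x hx y hy hxy
    obtain ⟨b, hb, hb'⟩ := hfour (!c y) ∅ (by simp)
    obtain ⟨z, hz, hz'⟩ := hfour (c y) {y, σ y} (Finset.card_le_two.trans (by norm_num))
    simp only [Finset.mem_insert, Finset.mem_singleton, not_or] at hz'
    have hyb : y ≠ b := fun e => by rw [e] at hb; simp at hb
    have hne' : ∀ p q : Fin n, c p = c y → c q = !c y → p ≠ q := fun p q h1 h2 e => by
      rw [e, h2] at h1; simp at h1
    have hg := hM1 _ (twin_sign (σ := σ) hyb)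
      (twin_commute hσ (hne' y (σ b) rfl (by rw [hcσ, hb])) (hne y) (hne b))
    have h1 : (Equiv.swap y b * Equiv.swap (σ y) (σ b)) z = z := by
      rw [Perm.mul_apply, Equiv.swap_apply_of_ne_of_ne hz'.2 (hne' z _ hz (by rw [hcσ, hb])),
        Equiv.swap_apply_of_ne_of_ne hz'.1 (hne' z b hz hb)]
    have h2 : (Equiv.swap y b * Equiv.swap (σ y) (σ b)) y = b := by
      rw [Perm.mul_apply, Equiv.swap_apply_of_ne_of_ne (Ne.symm (hne y)) (hne' y _ rfl (by rw [hcσ, hb])),
        Equiv.swap_apply_left]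
    have hbB : b ∈ B := by
      have := hmove _ hg z (hhalf z hz) (by rw [h1]; exact hhalf z hz) y hy
      rwa [h2] at this
    refine Set.eq_univ_of_forall fun w => ?_
    rcases Bool.eq_or_eq_not (c w) (c y) with e | e
    · exact hhalf w e
    · exact hL y hy b hbB hyb w (e.trans hb.symm)
  obtain ⟨a, ha, -⟩ := hfour true ∅ (by simp)
  obtain ⟨b, hb, hb'⟩ := hfour true {a} (by simp)
  obtain ⟨d, hd, hd'⟩ := hfour true {a, b} (Finset.card_le_two.trans (by norm_num))
  simp only [Finset.mem_insert, Finset.mem_singleton, not_or] at hb' hd'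
  exact Equiv.Perm.alternatingGroup_le_of_isPreprimitive_of_isThreeCycle_mem hprim
    (Equiv.Perm.isThreeCycle_swap_mul_swap_same (Ne.symm hb') (Ne.symm hd'.1) (Ne.symm hd'.2))
    (hcyc a b d (Ne.symm hb') (Ne.symm hd'.1) (ha.trans hb.symm) (ha.trans hd.symm))

theorem inv_app {α : Type*} (f : Perm α) (x : α) : f⁻¹ (f x) = x := by simp

/-- A transitive group containing the even part of a Sylow 2-subgroup, in degree `2 ^ k + 1`. -/
theorem alt_le_of_succ {n : ℕ} (hn : 9 ≤ n) {M : Subgroup (Perm (Fin n))} {σ : Perm (Fin n)} {z : Fin n}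
    (hσ : ∀ x, σ (σ x) = x) (hz : σ z = z) (hfix : ∀ x, σ x = x → x = z)
    (hsw : ∀ a b, a ≠ z → b ≠ z → Equiv.swap a (σ a) * Equiv.swap b (σ b) ∈ M)
    (htr : ∀ x y, x ≠ z → y ≠ z → ∃ g ∈ M, g z = z ∧ g x = y)
    (hmove : ∃ g ∈ M, g z ≠ z) : alternatingGroup (Fin n) ≤ M := by
  classical
  obtain ⟨g₀, hg₀, hg₀z⟩ := hmove
  have hto : ∀ y, ∃ g ∈ M, g z = y := by
    intro y
    rcases eq_or_ne y z with rfl | hy
    · exact ⟨1, one_mem _, rfl⟩
    obtain ⟨g, hg, -, hgy⟩ := htr (g₀ z) y hg₀z hy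
    exact ⟨g * g₀, mul_mem hg hg₀, hgy⟩
  have hT : IsPretransitive ↥M (Fin n) := ⟨fun x y => by
    obtain ⟨g, hg, hgx⟩ := hto x
    obtain ⟨h, hh, hhy⟩ := hto y
    refine ⟨⟨h * g⁻¹, mul_mem hh (inv_mem hg)⟩, ?_⟩
    change h (g⁻¹ x) = y
    rw [← hgx, inv_app, hhy]⟩
  have hprim : IsPreprimitive ↥M (Fin n) := by
    refine { isTrivialBlock_of_isBlock := fun {B} hB => ?_ }
    by_cases hsub : B.Subsingleton
    · exact Or.inl hsub
    right
    rw [Set.not_subsingleton_iff] at hsub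
    obtain ⟨x, hx, y, hy, hxy⟩ := hsub
    obtain ⟨g, hg, hgx⟩ := hto x
    have hB' := hB.translate (⟨g⁻¹, inv_mem hg⟩ : ↥M)
    set B' := (⟨g⁻¹, inv_mem hg⟩ : ↥M) • B
    have hzB : z ∈ B' := ⟨x, hx, by change g⁻¹ x = z; rw [← hgx, inv_app]⟩
    have hyB : g⁻¹ y ∈ B' := ⟨y, hy, rfl⟩
    have hyz : g⁻¹ y ≠ z := fun e => hxy (by rw [← hgx, ← e]; simp)
    have huniv : B' = Set.univ := Set.eq_univ_of_forall fun w => by
      rcases eq_or_ne w z with rfl | hw
      · exact hzB
      obtain ⟨h, hh, hhz, hhw⟩ := htr _ w hyz hw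
      have e := hB'.smul_eq_of_mem (g := (⟨h, hh⟩ : ↥M)) hzB (by change h z ∈ B'; rw [hhz]; exact hzB)
      rw [← e]
      exact ⟨_, hyB, hhw⟩
    refine Set.eq_univ_of_forall fun w => ?_
    obtain ⟨v, hv, hvw⟩ : g⁻¹ w ∈ B' := huniv ▸ Set.mem_univ _
    rw [← (g⁻¹).injective hvw]
    exact hv
  obtain ⟨x₀, hx₀⟩ := exists_not_mem {z} (by simp; omega)
  obtain ⟨y₀, hy₀⟩ := exists_not_mem {z, x₀, σ x₀} (lt_of_le_of_lt Finset.card_le_three (by omega))
  simp only [Finset.mem_insert, Finset.mem_singleton, not_or] at hx₀ hy₀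
  obtain ⟨m, hm, hmz⟩ := hto x₀
  have hmi : m⁻¹ x₀ = z := by rw [← hmz, inv_app]
  set p := m⁻¹ (σ x₀) with hp
  set q := m⁻¹ y₀ with hq
  set r := m⁻¹ (σ y₀) with hr
  have hb : Equiv.swap z p * Equiv.swap q r ∈ M := by
    have h := mul_mem (mul_mem (inv_mem hm) (hsw x₀ y₀ hx₀ hy₀.1)) hm
    have e : m⁻¹ * (Equiv.swap x₀ (σ x₀) * Equiv.swap y₀ (σ y₀)) * m = Equiv.swap z p * Equiv.swap q r := by
      rw [← hmi, hp, hq, hr, Equiv.swap_apply_apply, Equiv.swap_apply_apply]; group
    rwa [e] at h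
  have hsx : σ x₀ ≠ x₀ := fun e => hx₀ (hfix _ e)
  have hsy : σ y₀ ≠ y₀ := fun e => hy₀.1 (hfix _ e)
  have hxy' : x₀ ≠ σ y₀ := fun e => hy₀.2.2 (by rw [e, hσ])
  have hzp : z ≠ p := by rw [← hmi]; exact (m⁻¹).injective.ne (Ne.symm hsx)
  have hzq : z ≠ q := by rw [← hmi]; exact (m⁻¹).injective.ne (Ne.symm hy₀.2.1)
  have hzr : z ≠ r := by rw [← hmi]; exact (m⁻¹).injective.ne hxy'
  have hpq : p ≠ q := (m⁻¹).injective.ne (Ne.symm hy₀.2.2)
  have hpr : p ≠ r := (m⁻¹).injective.ne (σ.injective.ne (Ne.symm hy₀.2.1))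
  have hqr : q ≠ r := (m⁻¹).injective.ne (Ne.symm hsy)
  have key : ∀ u t q' r' a b : Fin n, (t = z ∧ q' = a ∧ r' = b ∨ q' = z ∧ t = a ∧ r' = b) →
      u ≠ z → u ≠ t → u ≠ q' → u ≠ r' → t ≠ q' → t ≠ r' →
      σ u ≠ t → σ u ≠ q' → σ u ≠ r' → Equiv.swap u t * Equiv.swap q' r' ∈ M → alternatingGroup (Fin n) ≤ M := by
    intro u t q' r' a b hcase huz hut huq hur htq' htr' s1 s2 s3 hmem
    obtain ⟨w, hw⟩ := exists_not_mem (({z, u, σ u} : Finset (Fin n)) ∪ {a, σ a, b, σ b}) (by
      have h1 := Finset.card_union_le ({z, u, σ u} : Finset (Fin n)) {a, σ a, b, σ b}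
      have h2 : ({z, u, σ u} : Finset (Fin n)).card ≤ 3 := Finset.card_le_three
      have h3 : ({a, σ a, b, σ b} : Finset (Fin n)).card ≤ 4 := Finset.card_le_four
      omega)
    simp only [Finset.mem_union, Finset.mem_insert, Finset.mem_singleton, not_or] at hw
    obtain ⟨⟨w1, w2, w3⟩, w4, w5, w6, w7⟩ := hw
    have hsw' : σ w ≠ z := fun e => w1 (by rw [← hσ w, e, hz])
    have hu' : u ≠ σ w := fun e => w3 (by rw [e, hσ])
    have hv' : σ u ≠ σ w := σ.injective.ne (Ne.symm w2)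
    have ha' : a ≠ σ w := fun e => w5 (by rw [e, hσ])
    have hb' : b ≠ σ w := fun e => w7 (by rw [e, hσ])
    have hsu : σ u ≠ u := fun e => huz (hfix _ e)
    have h3c : ((Equiv.swap u (σ u) * Equiv.swap w (σ w)) * (Equiv.swap u t * Equiv.swap q' r')) ^ 2 ∈ M :=
      pow_mem (mul_mem (hsw u w huz w1) hmem) 2
    refine Equiv.Perm.alternatingGroup_le_of_isPreprimitive_of_isThreeCycle_mem hprim ?_ h3c
    rcases hcase with ⟨rfl, rfl, rfl⟩ | ⟨rfl, rfl, rfl⟩
    · exact isThreeCycle_of_overlap (Ne.symm hsu) hut s1 (Ne.symm w2) hu' (Ne.symm w3) hv' (Ne.symm w1)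
        (Ne.symm hsw') huq hur s2 s3 htq' htr' w4 w6 (Ne.symm ha') (Ne.symm hb')
    · exact isThreeCycle_of_overlap (Ne.symm hsu) hut s1 (Ne.symm w2) hu' (Ne.symm w3) hv' (Ne.symm w4)
        ha' huq hur s2 s3 htq' htr' w1 w6 hsw' (Ne.symm hb')
  have hp' : σ p ≠ z := fun e => hzp (by rw [← hσ p, e, hz])
  have hq' : σ q ≠ z := fun e => hzq (by rw [← hσ q, e, hz])
  have hr' : σ r ≠ z := fun e => hzr (by rw [← hσ r, e, hz])
  rcases eq_or_ne (σ p) q with e1 | e1
  · refine key r q z p q p (Or.inr ⟨rfl, rfl, rfl⟩) (Ne.symm hzr) (Ne.symm hqr) (Ne.symm hzr) (Ne.symm hpr)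
      (Ne.symm hzq) (Ne.symm hpq)
      (fun e => hpr (σ.injective (e1.trans e.symm))) hr' (fun e => hqr (by rw [← e1, ← e, hσ])) ?_
    rwa [Equiv.swap_comm r q, ← (swap_commute' hzq hzr hpq hpr).eq]
  rcases eq_or_ne (σ p) r with e2 | e2
  · refine key q r z p r p (Or.inr ⟨rfl, rfl, rfl⟩) (Ne.symm hzq) hqr (Ne.symm hzq) (Ne.symm hpq)
      (Ne.symm hzr) (Ne.symm hpr)
      (fun e => hpq (σ.injective (e2.trans e.symm))) hq' (fun e => hqr (by rw [← e2, ← e, hσ])) ?_
    rwa [← (swap_commute' hzq hzr hpq hpr).eq]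
  refine key p z q r q r (Or.inl ⟨rfl, rfl, rfl⟩) (Ne.symm hzp) (Ne.symm hzp) hpq hpr hzq hzr hp' e1 e2 ?_
  rwa [Equiv.swap_comm p z]

/-- The stabiliser of a two-part partition. -/
def halvesGroup {α : Type*} (c : α → Bool) : Subgroup (Perm α) where
  carrier := {g | ∃ e : Bool, ∀ x, c (g x) = (c x ^^ e)}
  one_mem' := ⟨false, fun x => by simp⟩
  mul_mem' := by
    rintro g h ⟨e, he⟩ ⟨e', he'⟩
    exact ⟨e' ^^ e, fun x => by rw [Perm.mul_apply, he, he', Bool.xor_assoc]⟩
  inv_mem' := by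
    rintro g ⟨e, he⟩
    refine ⟨e, fun x => ?_⟩
    have h := he (g⁻¹ x)
    rw [show g (g⁻¹ x) = x by simp] at h
    rw [h]
    cases c (g⁻¹ x) <;> cases e <;> rfl

/-- Unique maximal overgroups of Sylow 2-subgroups, uniformly for the alternating and symmetric groups. -/
theorem unique_max_iff {G : Type*} [Group G] [Finite G] {n : ℕ} (hn : 5 ≤ n) (φ : G →* Perm (Fin n))
    (hφ : Function.Injective φ) (hA : ∀ g : Perm (Fin n), Perm.sign g = 1 → ∃ x, φ x = g)
    (T : Sylow 2 (Perm (Fin n))) (R : Subgroup G) (hR : R = (T : Subgroup (Perm (Fin n))).comap φ)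
    (hst : ∀ s : Set (Fin n), s.Nonempty → sᶜ.Nonempty → Nat.card (Fin n) ≠ 2 * s.ncard →
      IsCoatom ((MulAction.stabilizer (Perm (Fin n)) s).comap φ))
    (htop : ∀ M : Subgroup G, R ≤ M → (∀ x, Perm.sign (φ x) = 1 → x ∈ M) → M = ⊤) :
    (∃! M : Subgroup G, IsCoatom M ∧ R ≤ M) ↔ ∃ k : ℕ, 2 ≤ k ∧ n = 2 ^ k + 1 := by
  classical
  obtain ⟨σ, hσ, hfix, hcomm, hswap, hodd, heven⟩ := exists_pairing T
  have hmap : ∀ (M : Subgroup G), (∀ x, Perm.sign (φ x) = 1 → φ x ∈ M.map φ) → ∀ x, Perm.sign (φ x) = 1 → x ∈ M :=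
    fun M h x hx => (Subgroup.mem_map_iff_mem hφ).mp (h x hx)
  constructor
  · intro huniq
    by_contra hk
    obtain ⟨M₀, -, hM₀u⟩ := huniq
    suffices h : ∃ M₁ M₂ : Subgroup G, IsCoatom M₁ ∧ R ≤ M₁ ∧ IsCoatom M₂ ∧ R ≤ M₂ ∧ M₁ ≠ M₂ by
      obtain ⟨M₁, M₂, a1, a2, a3, a4, a5⟩ := h
      exact a5 ((hM₀u M₁ ⟨a1, a2⟩).trans (hM₀u M₂ ⟨a3, a4⟩).symm)
    have horbit : ∀ a : Fin n, ∃ j : ℕ, (MulAction.orbit ↥(T : Subgroup (Perm (Fin n))) a).ncard = 2 ^ j := by
      intro a
      rw [← MulAction.index_stabilizer]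
      obtain ⟨e, he⟩ := IsPGroup.iff_card.mp T.isPGroup'
      obtain ⟨j, -, hj⟩ := (Nat.dvd_prime_pow Nat.prime_two).mp
        (he ▸ Subgroup.index_dvd_card (MulAction.stabilizer ↥(T : Subgroup (Perm (Fin n))) a))
      exact ⟨j, hj⟩
    have hRs : ∀ a : Fin n, R ≤ (MulAction.stabilizer (Perm (Fin n)) (MulAction.orbit ↥(T : Subgroup (Perm (Fin n))) a)).comap φ := by
      intro a x hx
      rw [hR] at hx
      exact MulAction.smul_orbit (⟨φ x, hx⟩ : ↥(T : Subgroup (Perm (Fin n)))) a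
    have hC : R ≤ (Subgroup.centralizer {σ}).comap φ := by
      intro x hx
      rw [hR] at hx
      rw [Subgroup.mem_comap, Subgroup.mem_centralizer_singleton_iff]
      exact Equiv.ext fun y => hcomm _ hx y
    rcases Nat.even_or_odd n with he | ho
    · have hne := heven he
      obtain ⟨a, -⟩ := exists_not_mem (∅ : Finset (Fin n)) (by simp; omega)
      obtain ⟨z, hz⟩ := exists_not_mem {a, σ a} (lt_of_le_of_lt Finset.card_le_two (by omega))
      simp only [Finset.mem_insert, Finset.mem_singleton, not_or] at hz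
      have hCtop : (Subgroup.centralizer {σ}).comap φ ≠ ⊤ := by
        intro h
        obtain ⟨x, hx⟩ := hA _ (three_sign (Ne.symm (hne a)) (Ne.symm hz.1))
        have hxm : x ∈ (Subgroup.centralizer {σ}).comap φ := h ▸ Subgroup.mem_top x
        rw [Subgroup.mem_comap, Subgroup.mem_centralizer_singleton_iff, hx, Equiv.ext_iff] at hxm
        have h1 := hxm a
        simp only [Perm.mul_apply] at h1
        rw [Equiv.swap_apply_of_ne_of_ne (hne a) (fun e => hz.2 e.symm), Equiv.swap_apply_right,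
          Equiv.swap_apply_left, Equiv.swap_apply_of_ne_of_ne hz.1 hz.2] at h1
        exact hz.2 (by rw [h1, hσ])
      obtain ⟨M₂, hM₂, hCM⟩ := (eq_top_or_exists_le_coatom _).resolve_left hCtop
      have hM1' : ∀ g : Perm (Fin n), Perm.sign g = 1 → (∀ x, g (σ x) = σ (g x)) → ∃ x ∈ M₂, φ x = g := by
        intro g hg hgc
        obtain ⟨x, hx⟩ := hA g hg
        refine ⟨x, hCM ?_, hx⟩
        rw [Subgroup.mem_comap, Subgroup.mem_centralizer_singleton_iff, hx]
        exact Equiv.ext fun y => hgc y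
      by_cases hp : ∃ k, n = 2 ^ k
      · obtain ⟨k, hk'⟩ := hp
        obtain ⟨k, rfl⟩ : ∃ l, k = l + 3 := by
          refine ⟨k - 3, ?_⟩
          have : ¬ k ≤ 2 := fun h => by
            have := Nat.pow_le_pow_right (show 1 ≤ 2 by norm_num) h
            omega
          omega
        obtain ⟨c, hc, hcT⟩ := sylow_halves (k + 2) n hk' T
        have hW : R ≤ (halvesGroup c).comap φ := fun x hx => by
          rw [hR] at hx
          exact hcT _ hx
        have hc4 : ∀ b, 4 ≤ Nat.card {x // c x = b} := fun b => by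
          rw [hc b, pow_add]
          have := Nat.one_le_two_pow (n := k)
          omega
        have hfour : ∀ (b : Bool) (s : Finset (Fin n)), s.card ≤ 3 → ∃ p, c p = b ∧ p ∉ s := by
          intro b s hs
          by_contra hcon
          push Not at hcon
          have h := hc4 b
          rw [Nat.card_eq_fintype_card, Fintype.card_subtype] at h
          have := Finset.card_le_card (show Finset.univ.filter (fun x => c x = b) ⊆ s from
            fun p hp => hcon p (Finset.mem_filter.mp hp).2)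
          omega
        have hcσ : ∀ x, c (σ x) = c x := by
          intro x
          obtain ⟨e, he⟩ := hcT _ (hswap x)
          obtain ⟨w, -, hw⟩ := hfour true {x, σ x} (Finset.card_le_two.trans (by norm_num))
          simp only [Finset.mem_insert, Finset.mem_singleton, not_or] at hw
          have h1 := he w
          rw [Equiv.swap_apply_of_ne_of_ne hw.1 hw.2] at h1
          have h2 := he x
          rw [Equiv.swap_apply_left] at h2
          rw [h2]
          cases e
          · simp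
          · simp at h1
        have hWtop : (halvesGroup c).comap φ ≠ ⊤ := by
          intro h
          obtain ⟨u, hu, -⟩ := hfour true ∅ (by simp)
          obtain ⟨v, hv, hv'⟩ := hfour true {u} (by simp)
          obtain ⟨w, hw, -⟩ := hfour false ∅ (by simp)
          simp only [Finset.mem_singleton] at hv'
          have huw : u ≠ w := fun e => by rw [e, hw] at hu; simp at hu
          obtain ⟨x, hx⟩ := hA _ (three_sign (Ne.symm hv') huw)
          obtain ⟨e, he⟩ : φ x ∈ halvesGroup c := (h ▸ Subgroup.mem_top x : x ∈ (halvesGroup c).comap φ)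
          rw [hx] at he
          have h1 := he u
          have h2 := he v
          have hvw : v ≠ w := fun e => by rw [e, hw] at hv; simp at hv
          rw [Perm.mul_apply, Equiv.swap_apply_left, Equiv.swap_apply_of_ne_of_ne (Ne.symm huw) (Ne.symm hvw), hw, hu] at h1
          rw [Perm.mul_apply, Equiv.swap_apply_of_ne_of_ne hv' hvw, Equiv.swap_apply_right, hu, hv] at h2
          cases e <;> simp at h1 h2
        obtain ⟨M₁, hM₁, hWM⟩ := (eq_top_or_exists_le_coatom _).resolve_left hWtop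
        refine ⟨M₁, M₂, hM₁, hW.trans hWM, hM₂, hC.trans hCM, ?_⟩
        rintro rfl
        refine hM₁.1 (htop _ (hC.trans hCM) (hmap _ fun x hx => ?_))
        refine alt_le_of_pairs_halves hσ hne c hc4 hcσ (fun g hg hgc => ?_) (fun g hg hgc => ?_)
          (Perm.mem_alternatingGroup.mpr hx)
        · obtain ⟨y, hy, hyg⟩ := hM1' g hg hgc
          exact ⟨y, hy, hyg⟩
        · obtain ⟨y, hy⟩ := hA g hg
          exact ⟨y, hWM (show φ y ∈ halvesGroup c from ⟨false, fun w => by rw [hy, hgc, Bool.xor_false]⟩), hy⟩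
      · obtain ⟨j, hj⟩ := horbit a
        set s := MulAction.orbit ↥(T : Subgroup (Perm (Fin n))) a with hs
        have hsn : s.ncard ≠ n := fun e => hp ⟨j, by rw [← hj, e]⟩
        have hcompl : sᶜ.Nonempty := by
          rw [Set.nonempty_compl]
          intro e
          exact hsn (by rw [e, Set.ncard_univ, Nat.card_fin])
        have hS := hst s (MulAction.nonempty_orbit a) hcompl (by
          rw [Nat.card_fin, hj]
          intro e
          exact hp ⟨j + 1, by rw [e, pow_succ']⟩)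
        refine ⟨_, M₂, hS, hRs a, hM₂, hC.trans hCM, fun e => ?_⟩
        obtain ⟨y, hy⟩ := hcompl
        have hsa : σ a ∈ s := ⟨⟨_, hswap a⟩, by change Equiv.swap a (σ a) a = σ a; rw [Equiv.swap_apply_left]⟩
        have hya : y ≠ a := fun e => hy (e ▸ MulAction.mem_orbit_self a)
        have hys : y ≠ σ a := fun e => hy (e ▸ hsa)
        obtain ⟨g, hg, hge⟩ := hM1' _ (twin_sign (σ := σ) (Ne.symm hya))
          (twin_commute hσ (fun e => hys (by rw [e, hσ])) (hne a) (hne y))
        rw [← e, Subgroup.mem_comap, hge] at hg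
        have h1 : (Equiv.swap a y * Equiv.swap (σ a) (σ y)) • a ∈ (Equiv.swap a y * Equiv.swap (σ a) (σ y)) • s :=
          Set.smul_mem_smul_set (MulAction.mem_orbit_self a)
        rw [MulAction.mem_stabilizer_iff.mp hg, Perm.smul_def, Perm.mul_apply,
          Equiv.swap_apply_of_ne_of_ne (Ne.symm (hne a)) (fun e => hys (by rw [e, hσ])), Equiv.swap_apply_left] at h1
        exact hy h1
    · obtain ⟨z, hz⟩ := hodd ho
      have hTz : ∀ t ∈ (T : Subgroup (Perm (Fin n))), t z = z := fun t ht =>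
        hfix _ _ (by rw [← hcomm t ht z, hz]) hz
      obtain ⟨a, ha⟩ := exists_not_mem {z} (by simp; omega)
      rw [Finset.mem_singleton] at ha
      obtain ⟨j, hj⟩ := horbit a
      set s := MulAction.orbit ↥(T : Subgroup (Perm (Fin n))) a with hs
      have hzs : z ∉ s := by
        rintro ⟨t, ht⟩
        exact ha ((t : Perm (Fin n)).injective (ht.trans (hTz _ t.2).symm))
      have hcard : s.ncard + sᶜ.ncard = n := by rw [Set.ncard_add_ncard_compl, Nat.card_fin]
      have hsmall : 3 ≤ sᶜ.ncard := by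
        have h1 : 1 ≤ sᶜ.ncard := (Set.ncard_pos).mpr ⟨z, hzs⟩
        by_contra hcon
        obtain ⟨d, hd⟩ := ho
        rcases Nat.eq_zero_or_pos j with hj0 | hj0
        · rw [hj0, pow_zero] at hj; omega
        · obtain ⟨i, rfl⟩ : ∃ i, j = i + 1 := ⟨j - 1, by omega⟩
          rw [pow_succ'] at hj
          apply hk
          refine ⟨i + 1, ?_, by rw [pow_succ']; omega⟩
          rcases Nat.eq_zero_or_pos i with h0 | h0
          · rw [h0, pow_zero] at hj; omega
          · omega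
      have hS := hst s (MulAction.nonempty_orbit a) ⟨z, hzs⟩ (by
        rw [Nat.card_fin]; obtain ⟨d, hd⟩ := ho; omega)
      have hZ := hst {z} (Set.singleton_nonempty z) ⟨a, by simpa using ha⟩ (by
        rw [Nat.card_fin, Set.ncard_singleton]; omega)
      refine ⟨_, _, hS, hRs a, hZ, ?_, fun e => ?_⟩
      · intro x hx
        rw [hR] at hx
        rw [Subgroup.mem_comap, MulAction.stabilizer_singleton]
        exact hTz _ hx
      obtain ⟨y, hy, hyz⟩ := Set.exists_ne_of_one_lt_ncard (show 1 < sᶜ.ncard by omega) z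
      obtain ⟨w, hw, hw'⟩ : ∃ w ∈ sᶜ, w ∉ ({z, y} : Set (Fin n)) := by
        by_contra hcon
        push Not at hcon
        have h1 : sᶜ.ncard ≤ ({z, y} : Set (Fin n)).ncard := Set.ncard_le_ncard hcon
        have h2 := Set.ncard_insert_le z ({y} : Set (Fin n))
        rw [Set.ncard_singleton] at h2
        omega
      simp only [Set.mem_insert_iff, Set.mem_singleton_iff, not_or] at hw'
      obtain ⟨x, hx⟩ := hA _ (three_sign (Ne.symm hyz) (Ne.symm hw'.1))
      have h1 : x ∈ (MulAction.stabilizer (Perm (Fin n)) s).comap φ := by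
        rw [Subgroup.mem_comap, hx, MulAction.mem_stabilizer_set' s.toFinite]
        intro u hu
        have hn1 : u ≠ z := fun e => hzs (e ▸ hu)
        have hn2 : u ≠ y := fun e => hy (e ▸ hu)
        have hn3 : u ≠ w := fun e => hw (e ▸ hu)
        rw [Perm.smul_def, Perm.mul_apply, Equiv.swap_apply_of_ne_of_ne hn1 hn3, Equiv.swap_apply_of_ne_of_ne hn1 hn2]
        exact hu
      rw [e, Subgroup.mem_comap, hx, MulAction.stabilizer_singleton, MulAction.mem_stabilizer_iff, Perm.smul_def,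
        Perm.mul_apply, Equiv.swap_apply_left, Equiv.swap_apply_of_ne_of_ne hw'.1 hw'.2] at h1
      exact hw'.1 h1
  · rintro ⟨k, hk, hnk⟩
    obtain ⟨z, hTz, htr⟩ := sylow_transitive_succ (by omega) hnk T
    have hev : Even (2 ^ k) := Nat.even_pow.mpr ⟨even_two, by omega⟩
    have hzfix : σ z = z := by
      obtain ⟨z0, hz0⟩ := hodd (by rw [hnk]; exact hev.add_one)
      by_cases e : z0 = z
      · rwa [← e]
      obtain ⟨y, hy⟩ := exists_not_mem {z, z0} (lt_of_le_of_lt Finset.card_le_two (by omega))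
      simp only [Finset.mem_insert, Finset.mem_singleton, not_or] at hy
      obtain ⟨t, ht, hty⟩ := htr z0 y e hy.1
      exact absurd (hty.symm.trans (hfix _ _ (by rw [← hcomm t ht z0, hz0]) hz0)) hy.2
    have hfixz : ∀ x, σ x = x → x = z := fun x hx => hfix x z hx hzfix
    have hRstab : R ≤ (MulAction.stabilizer (Perm (Fin n)) ({z} : Set (Fin n))).comap φ := by
      intro x hx
      rw [hR] at hx
      rw [Subgroup.mem_comap, MulAction.stabilizer_singleton]
      exact hTz _ hx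
    obtain ⟨b, hb⟩ := exists_not_mem {z} (by simp; omega)
    have hZ := hst {z} (Set.singleton_nonempty z) ⟨b, by simpa using hb⟩ (by
      rw [Nat.card_fin, Set.ncard_singleton]; omega)
    refine ⟨_, ⟨hZ, hRstab⟩, ?_⟩
    rintro M ⟨hM, hRM⟩
    by_contra hne
    have hnle : ¬ M ≤ (MulAction.stabilizer (Perm (Fin n)) ({z} : Set (Fin n))).comap φ := fun h =>
      (hM.le_iff.mp h).elim hZ.1 (fun e => hne e.symm)
    obtain ⟨g, hg, hgz⟩ := SetLike.not_le_iff_exists.mp hnle
    rw [Subgroup.mem_comap, MulAction.stabilizer_singleton, MulAction.mem_stabilizer_iff, Perm.smul_def] at hgz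
    have hRmem : ∀ t ∈ (T : Subgroup (Perm (Fin n))), Perm.sign t = 1 → t ∈ M.map φ := by
      intro t ht hs
      obtain ⟨x, hx⟩ := hA t hs
      exact ⟨x, hRM (by rw [hR, Subgroup.mem_comap, hx]; exact ht), hx⟩
    have hsw : ∀ a b, a ≠ z → b ≠ z → Equiv.swap a (σ a) * Equiv.swap b (σ b) ∈ M.map φ := by
      intro a b ha hb
      refine hRmem _ (mul_mem (hswap a) (hswap b)) ?_
      rw [map_mul, Perm.sign_swap (fun e => ha (hfixz a e.symm)), Perm.sign_swap (fun e => hb (hfixz b e.symm))]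
      rfl
    have htr' : ∀ x y, x ≠ z → y ≠ z → ∃ h ∈ M.map φ, h z = z ∧ h x = y := by
      intro x y hx hy
      obtain ⟨t, ht, hty⟩ := htr x y hx hy
      rcases Int.units_eq_one_or (Perm.sign t) with e | e
      · exact ⟨t, hRmem t ht e, hTz t ht, hty⟩
      obtain ⟨w, hw⟩ := exists_not_mem {z, y, σ y} (lt_of_le_of_lt Finset.card_le_three (by omega))
      simp only [Finset.mem_insert, Finset.mem_singleton, not_or] at hw
      have hw' : w ≠ σ w := fun e => hw.1 (hfixz w e.symm)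
      refine ⟨Equiv.swap w (σ w) * t, hRmem _ (mul_mem (hswap w) ht) ?_, ?_, ?_⟩
      · rw [map_mul, e, Perm.sign_swap hw']; rfl
      · rw [Perm.mul_apply, hTz t ht, Equiv.swap_apply_of_ne_of_ne (Ne.symm hw.1)
          (fun e => hw.1 (by rw [← hσ w, ← e, hzfix]))]
      · rw [Perm.mul_apply, hty, Equiv.swap_apply_of_ne_of_ne (Ne.symm hw.2.1)
          (fun e => hw.2.2 (by rw [e, hσ]))]
    have hmove : ∃ h ∈ M.map φ, h z ≠ z := ⟨φ g, Subgroup.mem_map_of_mem φ hg, hgz⟩
    refine hM.1 (htop M hRM (hmap M fun x hx => ?_))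
    rcases (show k = 2 ∨ 3 ≤ k by omega) with rfl | hk3
    · have hn5 : n = 5 := by rw [hnk]; rfl
      subst hn5
      have htrans : IsPretransitive ↥(M.map φ) (Fin 5) := by
        obtain ⟨h₀, hh₀, hh₀z⟩ := hmove
        have hto : ∀ y, ∃ h : ↥(M.map φ), h • z = y := by
          intro y
          rcases eq_or_ne y z with rfl | hy
          · exact ⟨1, one_smul _ _⟩
          obtain ⟨h, hh, -, hhy⟩ := htr' (h₀ z) y hh₀z hy
          exact ⟨⟨h * h₀, mul_mem hh hh₀⟩, hhy⟩
        constructor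
        intro u v
        obtain ⟨p, hp⟩ := hto u
        obtain ⟨q, hq⟩ := hto v
        exact ⟨q * p⁻¹, by rw [mul_smul, ← hp, inv_smul_smul, hq]⟩
      have h5 : 5 ∣ Nat.card ↥(M.map φ) := by
        have h := MulAction.index_stabilizer_of_transitive ↥(M.map φ) z
        rw [Nat.card_fin] at h
        exact (dvd_of_eq h.symm).trans (Subgroup.index_dvd_card _)
      exact alt_le_of_five h5 T (fun t ht => hRmem t ht.1 (Perm.mem_alternatingGroup.mp ht.2))
        (Perm.mem_alternatingGroup.mpr hx)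
    · have h8 : (2 : ℕ) ^ 3 ≤ 2 ^ k := Nat.pow_le_pow_right (by norm_num) hk3
      exact alt_le_of_succ (by omega) hσ hzfix hfixz hsw htr' hmove (Perm.mem_alternatingGroup.mpr hx)

end Cfsg.Agent.Lib.KnownA.SylowTwo
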