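import Mathlib

/-!
Characteristic polynomials of semisimple symplectic matrices.
-/

set_option autoImplicit false
set_option linter.unusedSectionVars false

namespace Cfsg.Agent.Lib.KnownA.SympSemisimple

open Matrix Polynomial

variable {F : Type*} [Field F] {n : ℕ}

local notation "M2" => Matrix (Fin n ⊕ Fin n) (Fin n ⊕ Fin n) F

theorem reverse_charpoly_eq {g : M2} (hg : g ∈ Matrix.symplecticGroup (Fin n) F) :
    g.charpoly.reverse = g.charpoly := by
  have hJ : IsUnit (J (Fin n) F) := (isUnit_iff_isUnit_det _).mpr (isUnit_det_J (Fin n) F)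
  have hdet := SymplecticGroup.det_eq_one hg
  have hu : IsUnit g := (isUnit_iff_isUnit_det g).mpr (hdet ▸ isUnit_one)
  have h := SymplecticGroup.mem_iff'.mp hg
  have hconj : gᵀ = hJ.unit.val * g⁻¹ * hJ.unit.val⁻¹ := by
    have h1 : gᵀ * J (Fin n) F = J (Fin n) F * g⁻¹ := by
      calc gᵀ * J (Fin n) F = gᵀ * J (Fin n) F * (g * g⁻¹) := by
            rw [Matrix.mul_nonsing_inv g ((isUnit_iff_isUnit_det g).mp hu), mul_one]
        _ = _ := by rw [← mul_assoc, h]
    calc gᵀ = gᵀ * J (Fin n) F * (J (Fin n) F)⁻¹ := by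
          rw [mul_assoc, Matrix.mul_nonsing_inv _ (isUnit_det_J (Fin n) F), mul_one]
      _ = _ := by rw [h1, IsUnit.unit_spec]
  have hinv : g⁻¹.charpoly = g.charpoly := by
    conv_rhs => rw [← Matrix.charpoly_transpose, hconj, Matrix.charpoly_units_conj]
  rw [Matrix.reverse_charpoly]
  have h2 := Matrix.charpoly_inv g hu
  rw [hinv, hdet, Ring.inverse_one, Fintype.card_sum, Fintype.card_fin, ← two_mul, pow_mul] at h2
  simpa using h2.symm

/-- At most `q ^ n` self-reciprocal polynomials occur. -/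
theorem coeff_determines {f f' : F[X]} (hf : f.Monic) (hf' : f'.Monic) (hd : f.natDegree = 2 * n)
    (hd' : f'.natDegree = 2 * n) (hr : f.reverse = f) (hr' : f'.reverse = f')
    (h : ∀ i : Fin n, f.coeff (i + 1) = f'.coeff (i + 1)) : f = f' := by
  have key : ∀ {f : F[X]}, f.natDegree = 2 * n → f.reverse = f → ∀ k ≤ 2 * n, f.coeff k = f.coeff (2 * n - k) := by
    intro f hd hr k hk
    conv_lhs => rw [← hr, coeff_reverse, hd, revAt_le hk]
  have low : ∀ k ≤ n, f.coeff k = f'.coeff k := by
    intro k hk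
    rcases Nat.eq_zero_or_pos k with rfl | hk0
    · rw [key hd hr 0 (by omega), key hd' hr' 0 (by omega), Nat.sub_zero, ← hd, hf.coeff_natDegree, hd, ← hd',
        hf'.coeff_natDegree]
    · obtain ⟨i, rfl⟩ : ∃ i : Fin n, k = (i : ℕ) + 1 := ⟨⟨k - 1, by omega⟩, by simp; omega⟩
      exact h i
  ext k
  rcases le_or_gt k n with hk | hk
  · exact low k hk
  · rcases le_or_gt k (2 * n) with hk2 | hk2
    · rw [key hd hr k hk2, key hd' hr' k hk2, low _ (by omega)]
    · rw [coeff_eq_zero_of_natDegree_lt (by omega), coeff_eq_zero_of_natDegree_lt (by omega)]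

/-- The polynomial `X ^ n * h (X + 1 / X)`. -/
noncomputable def recip (n : ℕ) (h : F[X]) : F[X] :=
  ∑ i ∈ Finset.range (n + 1), C (h.coeff i) * (X ^ 2 + 1) ^ i * X ^ (n - i)

theorem recip_sub (h h' : F[X]) : recip n (h - h') = recip n h - recip n h' := by
  simp only [recip, coeff_sub, map_sub, sub_mul, Finset.sum_sub_distrib]

theorem recip_eq_zero {d : F[X]} (hd : d.natDegree ≤ n) (h : recip n d = 0) : d = 0 := by
  by_contra hne
  set m := d.natDegree
  have hdeg : ∀ i, ((X ^ 2 + 1 : F[X]) ^ i).natDegree = 2 * i ∧ ((X ^ 2 + 1 : F[X]) ^ i).Monic := by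
    intro i
    have hm : (X ^ 2 + 1 : F[X]).Monic := by
      rw [← C_1]; exact monic_X_pow_add_C 1 two_ne_zero
    refine ⟨?_, hm.pow i⟩
    rw [hm.natDegree_pow, ← C_1, natDegree_X_pow_add_C, mul_comm]
  have hc := congrArg (fun p => p.coeff (n + m)) h
  simp only [recip, finsetSum_coeff, coeff_zero] at hc
  rw [Finset.sum_eq_single m] at hc
  · rw [mul_assoc, coeff_C_mul, show n + m = 2 * m + (n - m) by omega, coeff_mul_X_pow] at hc
    rw [← (hdeg m).1, (hdeg m).2.coeff_natDegree, mul_one] at hc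
    exact hne (leadingCoeff_eq_zero.mp hc)
  · intro i hi him
    rcases lt_or_gt_of_ne him with hlt | hgt
    · have h0 : ((X ^ 2 + 1 : F[X]) ^ i * X ^ (n - i)).coeff (n + m) = 0 := by
        refine coeff_eq_zero_of_natDegree_lt (lt_of_le_of_lt natDegree_mul_le ?_)
        rw [(hdeg i).1, natDegree_X_pow]
        omega
      rw [mul_assoc, coeff_C_mul, h0, mul_zero]
    · rw [coeff_eq_zero_of_natDegree_lt hgt]
      simp
  · intro hm
    exact absurd (Finset.mem_range.mpr (by omega)) hm

theorem recip_inj {h h' : F[X]} (hd : h.natDegree ≤ n) (hd' : h'.natDegree ≤ n) (e : recip n h = recip n h') :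
    h = h' :=
  sub_eq_zero.mp (recip_eq_zero ((natDegree_sub_le _ _).trans (max_le hd hd')) (by rw [recip_sub, e, sub_self]))

theorem det_pencil {K : Type*} [Field K] (C₀ : Matrix (Fin n) (Fin n) K) {a b : K} (hb : b ≠ 0) :
    (a • (1 : Matrix (Fin n) (Fin n) K) - b • C₀).det =
      ∑ i ∈ Finset.range (n + 1), C₀.charpoly.coeff i * a ^ i * b ^ (n - i) := by
  have h : a • (1 : Matrix (Fin n) (Fin n) K) - b • C₀ = b • (Matrix.scalar (Fin n) (a / b) - C₀) := by
    rw [smul_sub, Matrix.scalar_apply, ← Matrix.smul_one_eq_diagonal, smul_smul, mul_div_cancel₀ _ hb]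
  rw [h, Matrix.det_smul, ← Matrix.eval_charpoly, Fintype.card_fin,
    eval_eq_sum_range' (n := n + 1) (by rw [Matrix.charpoly_natDegree_eq_dim, Fintype.card_fin]; omega), Finset.mul_sum]
  refine Finset.sum_congr rfl fun i hi => ?_
  have hi' : i ≤ n := by have := Finset.mem_range.mp hi; omega
  rw [div_pow]
  have e : b ^ n = b ^ i * b ^ (n - i) := by rw [← pow_add, Nat.add_sub_cancel' hi']
  rw [e]
  field_simp

theorem charpoly_block (C₀ : Matrix (Fin n) (Fin n) F) :
    (Matrix.fromBlocks 0 (-1) 1 C₀ : M2).charpoly = recip n C₀.charpoly := by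
  classical
  set X' : Matrix (Fin n) (Fin n) F[X] := (X : F[X]) • 1
  set D := X' - C₀.map C with hD
  have hcm : Matrix.charmatrix (Matrix.fromBlocks 0 (-1) 1 C₀ : M2) = Matrix.fromBlocks X' 1 (-1) D := by
    rw [Matrix.charmatrix_fromBlocks]
    congr 1
    · simp [Matrix.charmatrix, X', Matrix.smul_one_eq_diagonal]
    · ext i j; simp [Matrix.one_apply]
      all_goals (split <;> simp)
    · ext i j; simp [Matrix.one_apply]
      all_goals (split <;> simp)
    · simp [Matrix.charmatrix, X', hD, Matrix.smul_one_eq_diagonal]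
  have hL : (Matrix.fromBlocks (1 : Matrix (Fin n) (Fin n) F[X]) 0 (-X') 1).det = 1 := by
    rw [Matrix.det_fromBlocks_zero₁₂, Matrix.det_one, one_mul]
  have hJ : (J (Fin n) F[X]).det = 1 :=
    SymplecticGroup.det_eq_one (SymplecticGroup.J_mem (l := Fin n) (R := F[X]))
  have e : Matrix.fromBlocks X' 1 (-1) D * Matrix.fromBlocks 1 0 (-X') 1 * J (Fin n) F[X] =
      Matrix.fromBlocks 1 0 D (1 + D * X') := by
    rw [Matrix.J, Matrix.fromBlocks_multiply, Matrix.fromBlocks_multiply]
    congr 1 <;> simp [add_comm]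
  have hdet := congrArg Matrix.det e
  rw [Matrix.det_mul, Matrix.det_mul, hL, hJ, mul_one, mul_one, Matrix.det_fromBlocks_zero₁₂, Matrix.det_one, one_mul] at hdet
  rw [Matrix.charpoly, hcm, hdet]
  have e2 : 1 + D * X' = ((X : F[X]) ^ 2 + 1) • (1 : Matrix (Fin n) (Fin n) F[X]) - (X : F[X]) • C₀.map C := by
    rw [hD, sub_mul]
    simp only [X', Matrix.mul_smul, mul_one, smul_smul, add_smul, one_smul, pow_two, Algebra.mul_smul_comm]
    abel
  rw [e2]
  apply FaithfulSMul.algebraMap_injective F[X] (RatFunc F)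
  rw [RingHom.map_det, map_sub, recip, map_sum]
  have hb : algebraMap F[X] (RatFunc F) X ≠ 0 := by
    rw [RatFunc.algebraMap_X]; exact RatFunc.X_ne_zero
  have e3 := det_pencil (K := RatFunc F) (C₀.map (algebraMap F (RatFunc F)))
    (a := algebraMap F[X] (RatFunc F) (X ^ 2 + 1)) hb
  refine (Eq.trans ?_ e3).trans ?_
  · congr 1
    congr 1
    · ext i j; by_cases h : i = j <;> simp [h, Matrix.one_apply]
    · ext i j; simp [RatFunc.algebraMap_C]; exact mul_comm _ _
  · refine Finset.sum_congr rfl fun i _ => ?_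
    rw [Matrix.charpoly_map, coeff_map, map_mul, map_mul, map_pow, map_pow]
    simp [RatFunc.algebraMap_C]

/-- A symmetrizable matrix with given characteristic polynomial. -/
theorem exists_selfadjoint {h : F[X]} (hm : h.Monic) (hd : h.natDegree = n) :
    ∃ C₀ S : Matrix (Fin n) (Fin n) F, C₀.charpoly = h ∧ Sᵀ = S ∧ IsUnit S.det ∧ C₀ᵀ * S = S * C₀ := by
  classical
  subst hd
  let pb := AdjoinRoot.powerBasis' hm
  let B : Module.Basis (Fin h.natDegree) F (AdjoinRoot h) := AdjoinRoot.powerBasisAux' hm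
  let φ : AdjoinRoot h →ₗ[F] F := (lcoeff F (h.natDegree - 1)).comp (AdjoinRoot.modByMonicHom hm)
  let C₀ := Algebra.leftMulMatrix B (AdjoinRoot.root h)
  let S : Matrix (Fin h.natDegree) (Fin h.natDegree) F := Matrix.of fun i j => φ (B i * B j)
  refine ⟨C₀, S, ?_, ?_, ?_, ?_⟩
  · have := charpoly_leftMulMatrix pb
    rw [show C₀ = Algebra.leftMulMatrix pb.basis pb.gen from rfl]
    refine this.trans ?_
    show minpoly F (AdjoinRoot.root h) = h
    rw [AdjoinRoot.minpoly_root hm.ne_zero, hm.leadingCoeff]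
    simp
  · ext i j; simp [S, mul_comm]
  · rw [isUnit_iff_ne_zero, Ne, ← Matrix.exists_mulVec_eq_zero_iff]
    rintro ⟨v, hv, hv0⟩
    set u : AdjoinRoot h := ∑ j, v j • B j with hu
    have hzero : ∀ w, φ (w * u) = 0 := by
      intro w
      rw [← B.sum_repr w, Finset.sum_mul, map_sum]
      refine Finset.sum_eq_zero fun i _ => ?_
      have h1 := congrFun hv0 i
      simp only [Matrix.mulVec, dotProduct, S, Matrix.of_apply, Pi.zero_apply] at h1
      rw [smul_mul_assoc, map_smul, hu, Finset.mul_sum, map_sum]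
      have h2 : ∑ j, φ (B i * v j • B j) = 0 := by
        rw [← h1]
        refine Finset.sum_congr rfl fun j _ => ?_
        rw [mul_smul_comm, map_smul, smul_eq_mul, mul_comm]
      rw [h2, smul_zero]
    have hune : u ≠ 0 := fun h0 => hv (funext fun j =>
      Fintype.linearIndependent_iff.mp B.linearIndependent v h0 j)
    set r := AdjoinRoot.modByMonicHom hm u with hr
    have hmk : AdjoinRoot.mk h r = u := AdjoinRoot.mk_leftInverse hm u
    have hr0 : r ≠ 0 := fun h0 => hune (by rw [← hmk, h0, map_zero])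
    have hh1 : h ≠ 1 := fun h1 => by
      have := congrArg natDegree h1
      rw [natDegree_one] at this
      exact hv (funext fun j => absurd j.2 (by omega))
    have hrlt : r.natDegree < h.natDegree := by
      obtain ⟨f, hf⟩ := AdjoinRoot.mk_surjective u
      rw [hr, ← hf, AdjoinRoot.modByMonicHom_mk]
      exact natDegree_modByMonic_lt f hm hh1
    obtain ⟨e, he⟩ : ∃ e, r.natDegree + e + 1 = h.natDegree := ⟨h.natDegree - r.natDegree - 1, by omega⟩
    have := hzero (AdjoinRoot.mk h (X ^ e))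
    rw [← hmk, ← map_mul] at this
    simp only [φ, LinearMap.comp_apply, lcoeff_apply, AdjoinRoot.modByMonicHom_mk] at this
    rw [(modByMonic_eq_self_iff hm).mpr (degree_lt_degree (by
        rw [natDegree_mul (pow_ne_zero _ X_ne_zero) hr0, natDegree_X_pow]; omega)),
      show h.natDegree - 1 = r.natDegree + e by omega, coeff_X_pow_mul] at this
    exact hr0 (leadingCoeff_eq_zero.mp this)
  · have hC : ∀ j, AdjoinRoot.root h * B j = ∑ k, C₀ k j • B k := fun j => by
      conv_lhs => rw [← B.sum_repr (AdjoinRoot.root h * B j)]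
      refine Finset.sum_congr rfl fun k _ => ?_
      rw [show C₀ k j = B.repr (AdjoinRoot.root h * B j) k from Algebra.leftMulMatrix_eq_repr_mul B _ k j]
    have key : ∀ i j, (S * C₀) i j = φ (B i * (AdjoinRoot.root h * B j)) := by
      intro i j
      rw [hC, Finset.mul_sum, map_sum, Matrix.mul_apply]
      refine Finset.sum_congr rfl fun k _ => ?_
      rw [mul_smul_comm, map_smul, smul_eq_mul, mul_comm]
      rfl
    ext i j
    have hS : (C₀ᵀ * S) i j = (S * C₀) j i := by
      simp only [Matrix.mul_apply, Matrix.transpose_apply, S, Matrix.of_apply]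
      exact Finset.sum_congr rfl fun k _ => by rw [mul_comm (B k), mul_comm (C₀ k i)]
    rw [hS, key, key]
    congr 1
    ring

/-- Every polynomial `X ^ n * h (X + 1 / X)` comes from a symplectic matrix. -/
theorem exists_symplectic {h : F[X]} (hm : h.Monic) (hd : h.natDegree = n) :
    ∃ g ∈ Matrix.symplecticGroup (Fin n) F, (g : M2).charpoly = recip n h := by
  classical
  obtain ⟨C₀, S, hC, hS, hSd, hsa⟩ := exists_selfadjoint hm hd
  let M : M2 := Matrix.fromBlocks 0 (-1) 1 C₀
  let T : M2 := Matrix.fromBlocks 1 0 0 S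
  have hTd : IsUnit T.det := by rw [Matrix.det_fromBlocks_zero₁₂, Matrix.det_one, one_mul]; exact hSd
  have hT : IsUnit T := (isUnit_iff_isUnit_det T).mpr hTd
  refine ⟨T * M * T⁻¹, ?_, ?_⟩
  · rw [SymplecticGroup.mem_iff']
    have hW : Mᵀ * (Tᵀ * J (Fin n) F * T) * M = Tᵀ * J (Fin n) F * T := by
      simp only [M, T, Matrix.J, Matrix.fromBlocks_transpose, Matrix.transpose_one, Matrix.transpose_zero,
        Matrix.transpose_neg, Matrix.fromBlocks_multiply, hS]
      congr 1 <;> simp [hsa]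
    calc (T * M * T⁻¹)ᵀ * J (Fin n) F * (T * M * T⁻¹) = (T⁻¹)ᵀ * (Mᵀ * (Tᵀ * J (Fin n) F * T) * M) * T⁻¹ := by
          simp only [Matrix.transpose_mul, mul_assoc]
      _ = (T⁻¹)ᵀ * Tᵀ * J (Fin n) F * (T * T⁻¹) := by rw [hW]; simp only [mul_assoc]
      _ = J (Fin n) F := by
          rw [← Matrix.transpose_mul, Matrix.mul_nonsing_inv T hTd, Matrix.transpose_one, one_mul, mul_one]
  · rw [show T * M * T⁻¹ = hT.unit.val * M * hT.unit.val⁻¹ from rfl, Matrix.charpoly_units_conj,
      charpoly_block, hC]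

variable [Fintype F]

theorem charpoly_pow_card_pow (M : M2) : ∀ a : ℕ, (M ^ Fintype.card F ^ a).charpoly = M.charpoly := by
  intro a
  induction a with
  | zero => simp
  | succ a ih => rw [pow_succ, pow_mul, FiniteField.Matrix.charpoly_pow_card, ih]

/-- The semisimple part keeps the characteristic polynomial. -/
theorem exists_coprime_charpoly (p : ℕ) [Fact p.Prime] [CharP F p] (g : ↥(Matrix.symplecticGroup (Fin n) F)) :
    ∃ s : ↥(Matrix.symplecticGroup (Fin n) F), (orderOf s).Coprime p ∧ (s : M2).charpoly = (g : M2).charpoly := by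
  classical
  have hp : p.Prime := Fact.out
  have hpos : 0 < orderOf g := orderOf_pos g
  obtain ⟨a, o, ho, hord⟩ := Nat.exists_eq_pow_mul_and_not_dvd hpos.ne' p hp.ne_one
  have hcop : Nat.Coprime (p ^ a) o := Nat.Coprime.pow_left a (hp.coprime_iff_not_dvd.mpr ho)
  obtain ⟨N, hN0, hN1⟩ := Nat.chineseRemainder hcop 0 1
  refine ⟨g ^ N, ?_, ?_⟩
  · refine Nat.Coprime.coprime_dvd_left (orderOf_dvd_of_pow_eq_one ?_) (Nat.Coprime.symm (hp.coprime_iff_not_dvd.mpr ho))
    rw [← pow_mul, ← orderOf_dvd_iff_pow_eq_one, hord]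
    exact mul_dvd_mul_right (Nat.modEq_zero_iff_dvd.mp hN0) o
  · obtain ⟨f, -, hf⟩ := FiniteField.card F p
    have he : (g ^ N) ^ Fintype.card F ^ a = g ^ Fintype.card F ^ a := by
      rw [← pow_mul, pow_eq_pow_iff_modEq, hord]
      refine ((Nat.modEq_and_modEq_iff_modEq_mul hcop).mp ⟨?_, ?_⟩)
      · have hd : p ^ a ∣ Fintype.card F ^ a := pow_dvd_pow_of_dvd (hf ▸ dvd_pow_self p f.pos.ne') a
        exact (Nat.modEq_zero_iff_dvd.mpr (dvd_mul_of_dvd_right hd N)).trans (Nat.modEq_zero_iff_dvd.mpr hd).symm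
      · simpa using hN1.mul_right (Fintype.card F ^ a)
    rw [← charpoly_pow_card_pow ((g ^ N : ↥(Matrix.symplecticGroup (Fin n) F)) : M2) a, ← SubmonoidClass.coe_pow, he,
      SubmonoidClass.coe_pow, charpoly_pow_card_pow]

/-- The number of monic polynomials of given degree. -/
theorem card_monic (m : ℕ) : Nat.card {h : F[X] // h.Monic ∧ h.natDegree = m} = Fintype.card F ^ m := by
  rw [Nat.card_congr ((Polynomial.monicEquivDegreeLT m).trans (Polynomial.degreeLTEquiv F m).toEquiv), Nat.card_fun,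
    Nat.card_fin, Nat.card_eq_fintype_card]

end Cfsg.Agent.Lib.KnownA.SympSemisimple
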