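import Cfsg.Prelude.Def_Classical

/-!
In `SU₃(q)`, commutators in the normalizer of a nontrivial unipotent subgroup are unipotent.
-/

set_option autoImplicit false
set_option linter.unusedSectionVars false

namespace Cfsg.Agent.Lib.KnownA.UnitaryBorel

open scoped Matrix

variable {p : ℕ} [hp : Fact p.Prime] {K : Type*} [Field K] [Fintype K] [CharP K p] {n : ℕ}

local notation "Gr" => (Cfsg.SU 3 K (p ^ n))
local notation "M3" => Matrix (Fin 3) (Fin 3) K

/-- The underlying matrix. -/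
def mat (g : Gr) : M3 := ((g : Matrix.SpecialLinearGroup (Fin 3) K) : M3)

theorem mat_mul (g g' : Gr) : mat (g * g') = mat g * mat g' := rfl

theorem mat_one : mat (1 : Gr) = 1 := rfl

theorem mat_injective : Function.Injective (mat : Gr → M3) := fun _ _ h => Subtype.ext (Subtype.ext h)

theorem mat_pow (g : Gr) (k : ℕ) : mat (g ^ k) = mat g ^ k := by
  induction k with
  | zero => rfl
  | succ k ih => rw [pow_succ, pow_succ, mat_mul, ih]

/-- The Hermitian form. -/
def hh (u v : Fin 3 → K) : K := Cfsg.hermForm 3 K (p ^ n) u v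

theorem hh_eq (u v : Fin 3 → K) :
    hh (p := p) (n := n) u v = u 0 * v 0 ^ p ^ n + u 1 * v 1 ^ p ^ n + u 2 * v 2 ^ p ^ n := by
  simp [hh, Cfsg.hermForm, Fin.sum_univ_three]

theorem hh_inv (g : Gr) (u v : Fin 3 → K) :
    hh (p := p) (n := n) (mat g *ᵥ u) (mat g *ᵥ v) = hh (p := p) (n := n) u v := g.2 u v

theorem hh_add_right (u v w : Fin 3 → K) :
    hh (p := p) (n := n) u (v + w) = hh (p := p) (n := n) u v + hh (p := p) (n := n) u w := by
  simp only [hh_eq, Pi.add_apply, add_pow_char_pow]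
  ring

theorem hh_add_left (u v w : Fin 3 → K) :
    hh (p := p) (n := n) (v + w) u = hh (p := p) (n := n) v u + hh (p := p) (n := n) w u := by
  simp only [hh_eq, Pi.add_apply]
  ring

theorem hh_smul_left (c : K) (u v : Fin 3 → K) :
    hh (p := p) (n := n) (c • u) v = c * hh (p := p) (n := n) u v := by
  simp only [hh_eq, Pi.smul_apply, smul_eq_mul]
  ring

theorem mulVec_action (g g' : Gr) (u : Fin 3 → K) : mat g *ᵥ (mat g' *ᵥ u) = mat (g * g') *ᵥ u := by
  rw [Matrix.mulVec_mulVec, mat_mul]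

/-- The normalizer of a nontrivial unipotent subgroup fixes an isotropic line. -/
theorem exists_line (S : Subgroup Gr) (hS : IsPGroup p S) (hS1 : S ≠ ⊥) :
    ∃ v : Fin 3 → K, v ≠ 0 ∧ hh (p := p) (n := n) v v = 0 ∧
      ∀ x : Gr, (∀ s, s ∈ S ↔ x * s * x⁻¹ ∈ S) → ∃ c : K, c ≠ 0 ∧ mat x *ᵥ v = c • v := by
  classical
  let Fx : Set (Fin 3 → K) := {u | ∀ s ∈ S, mat s *ᵥ u = u}
  let O : AddSubgroup (Fin 3 → K) :=
    { carrier := {w | ∀ f ∈ Fx, hh (p := p) (n := n) f w = 0}
      add_mem' := fun {a b} ha hb f hf => by rw [hh_add_right, ha f hf, hb f hf, add_zero]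
      zero_mem' := fun f _ => by simp [hh_eq, zero_pow (pow_ne_zero n hp.out.ne_zero)]
      neg_mem' := fun {a} ha f hf => by
        have h := hh_add_right (p := p) (n := n) f a (-a)
        rw [add_neg_cancel, ha f hf, zero_add] at h
        rw [← h]
        simp [hh_eq, zero_pow (pow_ne_zero n hp.out.ne_zero)] }
  have hOinv : ∀ s ∈ S, ∀ w ∈ O, mat s *ᵥ w ∈ O := fun s hs w hw f hf => by
    rw [← hf s hs, hh_inv]; exact hw f hf
  obtain ⟨s₀, hs₀, hs₀1⟩ : ∃ s ∈ S, s ≠ 1 := by
    by_contra! h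
    exact hS1 ((Subgroup.eq_bot_iff_forall _).mpr h)
  obtain ⟨u₀, hu₀⟩ : ∃ u, mat s₀ *ᵥ u ≠ u := by
    by_contra! h
    exact hs₀1 (mat_injective (Matrix.ext_of_mulVec_single fun i => by rw [h, mat_one, Matrix.one_mulVec]))
  have hr : mat s₀ *ᵥ u₀ - u₀ ∈ O := fun f hf => by
    have h1 := hh_inv s₀ f u₀
    rw [hf s₀ hs₀] at h1
    have h2 := hh_add_right (p := p) (n := n) f (mat s₀ *ᵥ u₀ - u₀) u₀
    rw [sub_add_cancel, h1] at h2
    exact right_eq_add.mp h2 |>.symm |>.symm
  have hr0 : mat s₀ *ᵥ u₀ - u₀ ≠ 0 := sub_ne_zero.mpr hu₀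
  letI : MulAction S O :=
    { smul := fun s w => ⟨mat (s : Gr) *ᵥ w, hOinv s s.2 w w.2⟩
      one_smul := fun w => Subtype.ext (show mat ((1 : S) : Gr) *ᵥ (w : Fin 3 → K) = w by
        rw [Subgroup.coe_one, mat_one, Matrix.one_mulVec])
      mul_smul := fun s s' w => Subtype.ext (show mat ((s * s' : S) : Gr) *ᵥ (w : Fin 3 → K) = _ from
        (mulVec_action (s : Gr) (s' : Gr) w).symm) }
  have hdvd : p ∣ Nat.card O := by
    have h1 : addOrderOf (⟨_, hr⟩ : O) = p := by
      refine addOrderOf_eq_prime ?_ fun h => hr0 (congrArg Subtype.val h)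
      refine Subtype.ext ?_
      show p • (mat s₀ *ᵥ u₀ - u₀) = 0
      funext i
      simp [CharP.cast_eq_zero]
    rw [← h1]
    exact addOrderOf_dvd_natCard _
  obtain ⟨⟨v, hvO⟩, hvfix, hv0⟩ := hS.exists_fixed_point_of_prime_dvd_card_of_fixed_point O hdvd (a := 0)
    (fun s => Subtype.ext (show mat (s : Gr) *ᵥ (0 : Fin 3 → K) = 0 from Matrix.mulVec_zero _))
  have hvF : v ∈ Fx := fun s hs => congrArg Subtype.val (hvfix ⟨s, hs⟩)
  have hv : v ≠ 0 := fun h => hv0 (Subtype.ext h.symm)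
  refine ⟨v, hv, hvO v hvF, fun x hx => ?_⟩
  -- the image of `v` spans the same line
  let w := mat x *ᵥ v
  have hwF : w ∈ Fx := fun s hs => by
    have h1 : x⁻¹ * s * x ∈ S := (hx _).mpr (by simpa [mul_assoc] using hs)
    show mat s *ᵥ (mat x *ᵥ v) = mat x *ᵥ v
    rw [mulVec_action, show s * x = x * (x⁻¹ * s * x) by group, ← mulVec_action, hvF _ h1]
  have hwO : w ∈ O := fun f hf => by
    have hf' : mat x⁻¹ *ᵥ f ∈ Fx := fun s hs => by
      have h1 : x * s * x⁻¹ ∈ S := (hx s).mp hs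
      rw [mulVec_action, show s * x⁻¹ = x⁻¹ * (x * s * x⁻¹) by group, ← mulVec_action, hf _ h1]
    have h1 := hh_inv x (mat x⁻¹ *ᵥ f) v
    rw [mulVec_action, mul_inv_cancel, mat_one, Matrix.one_mulVec] at h1
    exact h1.trans (hvO _ hf')
  have e1 := hvO v hvF
  have e2 := hwO v hvF
  have e3 := hvO w hwF
  have e4 := hwO w hwF
  rw [hh_eq] at e1 e2 e3 e4
  have hw0 : w ≠ 0 := fun h => hv (by
    have := congrArg (mat x⁻¹ *ᵥ ·) h
    simp only [w, mulVec_action, inv_mul_cancel, mat_one, Matrix.one_mulVec, Matrix.mulVec_zero] at this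
    exact this)
  -- both conjugate vectors are proportional to the cross product
  have hprop : ∀ i j, v i * w j = v j * w i := by
    have hinj : Function.Injective fun t : K => t ^ p ^ n := by
      intro a b h
      have hc := iterateFrobenius_inj K p n (a₁ := a) (a₂ := b)
      exact hc (by simpa [iterateFrobenius_def] using h)
    set c0 := v 1 * w 2 - v 2 * w 1 with hc0
    set c1 := v 2 * w 0 - v 0 * w 2 with hc1
    set c2 := v 0 * w 1 - v 1 * w 0 with hc2
    have key : ∀ a0 a1 a2 : K, v 0 * a0 + v 1 * a1 + v 2 * a2 = 0 → w 0 * a0 + w 1 * a1 + w 2 * a2 = 0 →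
        a0 * c1 = a1 * c0 ∧ a0 * c2 = a2 * c0 ∧ a1 * c2 = a2 * c1 := by
      intro a0 a1 a2 h1 h2
      refine ⟨?_, ?_, ?_⟩
      · rw [hc0, hc1]; linear_combination v 2 * h2 - w 2 * h1
      · rw [hc0, hc2]; linear_combination w 1 * h1 - v 1 * h2
      · rw [hc1, hc2]; linear_combination v 0 * h2 - w 0 * h1
    obtain ⟨k1, k2, k3⟩ := key _ _ _ e1 e3
    obtain ⟨l1, l2, l3⟩ := key _ _ _ e2 e4
    have hc : c0 = 0 ∧ c1 = 0 ∧ c2 = 0 := by
      by_contra hne
      have hq : ∀ a b : K, a ^ p ^ n = b ^ p ^ n → a = b := fun a b h => hinj h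
      refine hne ?_
      rcases ne_or_eq c0 0 with h | h
      · have h2 : v 0 * w 1 = v 1 * w 0 := hq _ _ (mul_right_cancel₀ h (by
          rw [mul_pow, mul_pow]; linear_combination w 0 ^ p ^ n * k1 - v 0 ^ p ^ n * l1))
        have h1 : v 2 * w 0 = v 0 * w 2 := hq _ _ (mul_right_cancel₀ h (by
          rw [mul_pow, mul_pow]; linear_combination v 0 ^ p ^ n * l2 - w 0 ^ p ^ n * k2))
        have h0' : v 1 * w 2 * v 0 = v 2 * w 1 * v 0 := by linear_combination (-v 2) * h2 - v 1 * h1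
        have h0'' : v 1 * w 2 * w 0 = v 2 * w 1 * w 0 := by linear_combination (-w 1) * h1 - w 2 * h2
        have hv00 : v 0 = 0 ∧ w 0 = 0 := by
          constructor
          · by_contra hh0; exact h (sub_eq_zero.mpr (mul_right_cancel₀ hh0 h0'))
          · by_contra hh0; exact h (sub_eq_zero.mpr (mul_right_cancel₀ hh0 h0''))
        have hk : v 1 * w 2 = v 2 * w 1 := by
          refine hq _ _ (mul_right_cancel₀ h ?_)
          rw [mul_pow, mul_pow]
          have a1 : v 0 ^ p ^ n = 0 := by rw [hv00.1, zero_pow (pow_ne_zero n hp.out.ne_zero)]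
          have a2 : w 0 ^ p ^ n = 0 := by rw [hv00.2, zero_pow (pow_ne_zero n hp.out.ne_zero)]
          rw [a1, zero_mul] at k1 k2
          rw [a2, zero_mul] at l1 l2
          linear_combination w 1 ^ p ^ n * k2 - w 2 ^ p ^ n * k1
        exact absurd (sub_eq_zero.mpr hk) h
      · rw [h, mul_zero] at k1 k2 l1 l2
        rcases ne_or_eq c1 0 with h1 | h1
        · have a1 : v 0 ^ p ^ n = 0 := (mul_eq_zero.mp k1).resolve_right h1
          have a2 : w 0 ^ p ^ n = 0 := (mul_eq_zero.mp l1).resolve_right h1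
          refine absurd ?_ h1
          rw [hc1, eq_zero_of_pow_eq_zero a1, eq_zero_of_pow_eq_zero a2]; ring
        · refine ⟨h, h1, ?_⟩
          by_contra h2
          have a1 : v 0 ^ p ^ n = 0 := (mul_eq_zero.mp k2).resolve_right h2
          have a2 : w 0 ^ p ^ n = 0 := (mul_eq_zero.mp l2).resolve_right h2
          refine h2 ?_
          rw [hc2, eq_zero_of_pow_eq_zero a1, eq_zero_of_pow_eq_zero a2]; ring
    intro i j
    have q0 := sub_eq_zero.mp hc.1
    have q1 := sub_eq_zero.mp hc.2.1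
    have q2 := sub_eq_zero.mp hc.2.2
    fin_cases i <;> fin_cases j <;> first | rfl | assumption | exact q0 | exact q0.symm | exact q1 | exact q1.symm | exact q2 | exact q2.symm
  obtain ⟨i, hi⟩ : ∃ i, v i ≠ 0 := Function.ne_iff.mp hv
  refine ⟨w i / v i, ?_, funext fun j => ?_⟩
  · intro h
    rcases div_eq_zero_iff.mp h with h | h
    · refine hw0 (funext fun j => ?_)
      have := hprop i j
      rw [h, mul_zero] at this
      exact (mul_eq_zero.mp this).resolve_left hi
    · exact hi h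
  · show w j = w i / v i * v j
    field_simp
    linear_combination hprop i j

/-- An element fixing an isotropic vector is unipotent. -/
theorem pow_eq_one_of_fix (z : Gr) (v : Fin 3 → K) (hv : v ≠ 0) (hiso : hh (p := p) (n := n) v v = 0)
    (hz : mat z *ᵥ v = v) (hp2 : 3 ≤ p ^ 2) : z ^ p ^ 2 = 1 := by
  classical
  let d : Fin 3 → K := fun i => v i ^ p ^ n
  have hd : ∀ u, hh (p := p) (n := n) u v = u 0 * d 0 + u 1 * d 1 + u 2 * d 2 := fun u => hh_eq u v
  obtain ⟨e, f, hev, hfv, hind⟩ : ∃ e f : Fin 3 → K, hh (p := p) (n := n) e v ≠ 0 ∧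
      hh (p := p) (n := n) f v = 0 ∧ ∀ a : K, f ≠ a • v := by
    obtain ⟨i, hi⟩ : ∃ i, v i ≠ 0 := Function.ne_iff.mp hv
    have hdi : d i ≠ 0 := pow_ne_zero _ hi
    let fj : Fin 3 → Fin 3 → K := fun j => Pi.single j (d i) - Pi.single i (d j)
    have hfj : ∀ j, hh (p := p) (n := n) (fj j) v = 0 := by
      intro j
      rw [hd]
      fin_cases i <;> fin_cases j <;> simp [fj, Pi.single_apply] <;> ring
    refine ⟨Pi.single i 1, ?_⟩
    have hE : hh (p := p) (n := n) (Pi.single i 1) v ≠ 0 := by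
      rw [hd]; fin_cases i <;> simpa [Pi.single_apply] using hdi
    by_cases h1 : ∀ a : K, fj (i + 1) ≠ a • v
    · exact ⟨fj (i + 1), hE, hfj _, h1⟩
    · refine ⟨fj (i + 2), hE, hfj _, fun b hb => ?_⟩
      push Not at h1
      obtain ⟨a, ha⟩ := h1
      have a1 := congrFun ha (i + 1)
      have a2 := congrFun ha (i + 2)
      have b2 := congrFun hb (i + 2)
      fin_cases i <;>
        simp [fj, Pi.single_apply] at a1 a2 b2 hdi <;>
        rcases a2 with a2 | a2 <;> simp_all
  let M : M3 := Matrix.of fun a b => (![v, f, e] b) a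
  have hMv : ∀ x : Fin 3 → K, M *ᵥ x = x 0 • v + x 1 • f + x 2 • e := by
    intro x; funext a
    simp [M, Matrix.mulVec, dotProduct, Fin.sum_univ_three]; ring
  have hdet : M.det ≠ 0 := by
    rw [Ne, ← Matrix.exists_mulVec_eq_zero_iff]
    rintro ⟨x, hx, h⟩
    rw [hMv] at h
    have h2 := congrArg (fun u => hh (p := p) (n := n) u v) h
    rw [hh_add_left, hh_add_left, hh_smul_left, hh_smul_left, hh_smul_left, hiso, hfv, mul_zero, mul_zero,
      zero_add, zero_add, show hh (p := p) (n := n) (0 : Fin 3 → K) v = 0 by simp [hd]] at h2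
    have hx2 : x 2 = 0 := (mul_eq_zero.mp h2).resolve_right hev
    rw [hx2, zero_smul, add_zero] at h
    have hx1 : x 1 = 0 := by
      by_contra hne
      refine hind (-(x 1)⁻¹ * x 0) ?_
      have h' : x 1 • f = -(x 0 • v) := eq_neg_of_add_eq_zero_right h
      calc f = (x 1)⁻¹ • (x 1 • f) := by rw [smul_smul, inv_mul_cancel₀ hne, one_smul]
        _ = _ := by rw [h', smul_neg, smul_smul, neg_mul, neg_smul]
    rw [hx1, zero_smul, add_zero] at h
    refine hx (funext fun a => ?_)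
    fin_cases a
    · exact (smul_eq_zero.mp h).resolve_right hv
    · exact hx1
    · exact hx2
  have hunit : IsUnit M.det := Ne.isUnit hdet
  obtain ⟨T, hMT⟩ : ∃ T : M3, mat z * M = M * T :=
    ⟨M⁻¹ * mat z * M, by simp only [← mul_assoc, Matrix.mul_nonsing_inv M hunit, one_mul]⟩
  have hzh : ∀ u, hh (p := p) (n := n) (mat z *ᵥ u) v = hh (p := p) (n := n) u v := by
    intro u
    conv_lhs => rw [← hz]
    exact hh_inv z u v
  have hcol : ∀ b, mat z *ᵥ (![v, f, e] b) = T 0 b • v + T 1 b • f + T 2 b • e := by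
    intro b; funext a
    have := congrFun (congrFun hMT a) b
    simp [Matrix.mul_apply, Fin.sum_univ_three, M] at this
    simp [Matrix.mulVec, dotProduct, Fin.sum_univ_three]
    linear_combination this
  have hT2 : ∀ b, T 2 b * hh (p := p) (n := n) e v = hh (p := p) (n := n) (![v, f, e] b) v := by
    intro b
    have h1 := hzh (![v, f, e] b)
    rw [hcol, hh_add_left, hh_add_left, hh_smul_left, hh_smul_left, hh_smul_left, hiso, hfv] at h1
    linear_combination h1
  have t20 : T 2 0 = 0 := by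
    have := hT2 0; simp only [Matrix.cons_val_zero, hiso] at this
    exact (mul_eq_zero.mp this).resolve_right hev
  have t21 : T 2 1 = 0 := by
    have := hT2 1; simp only [Matrix.cons_val_one, Matrix.cons_val_zero, hfv] at this
    exact (mul_eq_zero.mp this).resolve_right hev
  have t22 : T 2 2 = 1 := by
    have := hT2 2
    rw [show (![v, f, e] (2 : Fin 3)) = e from rfl] at this
    exact (mul_eq_right₀ hev).mp this
  have h0 : M *ᵥ (fun a => T a 0) = M *ᵥ ![1, 0, 0] := by
    rw [hMv, hMv, ← hcol, show (![v, f, e] (0 : Fin 3)) = v from rfl, hz]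
    simp
  have hinjM : Function.Injective (M *ᵥ ·) := Matrix.mulVec_injective_iff_isUnit.mpr ((Matrix.isUnit_iff_isUnit_det M).mpr hunit)
  have hc0 := hinjM h0
  have t00 : T 0 0 = 1 := congrFun hc0 0
  have t10 : T 1 0 = 0 := congrFun hc0 1
  have t11 : T 1 1 = 1 := by
    have h1 : (mat z * M).det = (M * T).det := by rw [hMT]
    rw [Matrix.det_mul, Matrix.det_mul, show (mat z).det = 1 from (z : Matrix.SpecialLinearGroup (Fin 3) K).2, one_mul] at h1
    have h2 : T.det = 1 := (mul_eq_left₀ hdet).mp h1.symm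
    rw [Matrix.det_fin_three, t00, t10, t20, t21, t22] at h2
    linear_combination h2
  have hN : (T - 1) ^ 3 = 0 := by
    ext a b
    fin_cases a <;> fin_cases b <;>
      simp [pow_succ, Matrix.mul_apply, Fin.sum_univ_three, t00, t10, t20, t21, t22, t11]
  have hz3 : (mat z - 1) ^ 3 = 0 := by
    have h1 : ∀ k : ℕ, (mat z - 1) ^ k * M = M * (T - 1) ^ k := by
      intro k
      induction k with
      | zero => simp
      | succ k ih =>
        rw [pow_succ', mul_assoc, ih, ← mul_assoc, sub_mul, one_mul, hMT, pow_succ' (T - 1) k, ← mul_assoc M, Matrix.mul_sub, mul_one]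
    have := h1 3
    rw [hN, mul_zero] at this
    calc (mat z - 1) ^ 3 = (mat z - 1) ^ 3 * M * M⁻¹ := by rw [mul_assoc, Matrix.mul_nonsing_inv M hunit, mul_one]
      _ = 0 := by rw [this, zero_mul]
  refine mat_injective ?_
  rw [mat_pow, mat_one]
  have h4 : (mat z - 1) ^ p ^ 2 = 0 := pow_eq_zero_of_le hp2 hz3
  rw [sub_pow_char_pow_of_commute (p := p) 2 (Commute.one_right _), one_pow, sub_eq_zero] at h4
  exact h4

theorem commutator_pow {S : Subgroup Gr} (hS : IsPGroup p S) (hS1 : S ≠ ⊥) (hp2 : 3 ≤ p ^ 2) {x y : Gr}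
    (hx : ∀ s, s ∈ S ↔ x * s * x⁻¹ ∈ S) (hy : ∀ s, s ∈ S ↔ y * s * y⁻¹ ∈ S) :
    (x * y * x⁻¹ * y⁻¹) ^ p ^ 2 = 1 := by
  obtain ⟨v, hv, hiso, hl⟩ := exists_line S hS hS1
  obtain ⟨a, ha0, ha⟩ := hl x hx
  obtain ⟨b, hb0, hb⟩ := hl y hy
  refine pow_eq_one_of_fix _ v hv hiso ?_ hp2
  have e1 : mat (y * x) *ᵥ v = (a * b) • v := by
    rw [← mulVec_action, ha, Matrix.mulVec_smul, hb, smul_smul]
  have e2 : mat (x * y) *ᵥ v = (a * b) • v := by
    rw [← mulVec_action, hb, Matrix.mulVec_smul, ha, smul_smul, mul_comm b a]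
  have h1 := congrArg (fun g : Gr => mat g *ᵥ v) (show x * y * x⁻¹ * y⁻¹ * (y * x) = x * y by group)
  rw [← mulVec_action, e1, e2, Matrix.mulVec_smul] at h1
  exact smul_right_injective _ (mul_ne_zero ha0 hb0) h1

end Cfsg.Agent.Lib.KnownA.UnitaryBorel
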