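import Cfsg.Agent.Lib.Classical.HermCard

/-!
Involutions of `SU₃(q)`, `q` odd, as nondegenerate points of the unitary plane.
-/

set_option autoImplicit false
set_option linter.unusedSectionVars false
set_option linter.unusedFintypeInType false

namespace Cfsg.Agent.Lib.KnownA.UnitaryInvol

open scoped Matrix
open Cfsg.Agent.Lib.Classical

variable {F : Type*} [Field F] [Fintype F] {q : ℕ}

local notation "V3" => (Fin 3 → F)
local notation "M3" => Matrix (Fin 3) (Fin 3) F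
local notation "S3" => (Cfsg.SU 3 F q)
local notation "⟪" u ", " v "⟫" => Cfsg.hermForm 3 F q u v

/-- The underlying matrix. -/
def mat (g : S3) : M3 := ((g : Matrix.SpecialLinearGroup (Fin 3) F) : M3)

theorem mat_mul (g g' : S3) : mat (g * g') = mat g * mat g' := rfl

theorem mat_one : mat (1 : S3) = 1 := rfl

theorem mat_ext {g g' : S3} (h : ∀ x, mat g *ᵥ x = mat g' *ᵥ x) : g = g' :=
  Subtype.ext (Subtype.ext (Matrix.ext_of_mulVec_single fun i => h _))

theorem mat_preserves (g : S3) (u v : V3) : ⟪mat g *ᵥ u, mat g *ᵥ v⟫ = ⟪u, v⟫ := g.2 u v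

theorem mulVec_mat (g g' : S3) (x : V3) : mat g *ᵥ (mat g' *ᵥ x) = mat (g * g') *ᵥ x := by
  rw [Matrix.mulVec_mulVec, mat_mul]

theorem hf_add_left (u v w : V3) : ⟪u + v, w⟫ = ⟪u, w⟫ + ⟪v, w⟫ := by
  simp only [Cfsg.hermForm, Pi.add_apply, add_mul, Finset.sum_add_distrib]

theorem hf_smul_left (c : F) (u v : V3) : ⟪c • u, v⟫ = c * ⟪u, v⟫ := by
  simp only [Cfsg.hermForm, Pi.smul_apply, smul_eq_mul, Finset.mul_sum, mul_assoc]

theorem hf_sub_left (u v w : V3) : ⟪u - v, w⟫ = ⟪u, w⟫ - ⟪v, w⟫ := by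
  simp only [Cfsg.hermForm, Pi.sub_apply, sub_mul, Finset.sum_sub_distrib]

section

variable (hF : Fintype.card F = q ^ 2)
include hF

theorem hf_conj (u v : V3) : conjHom hF ⟪u, v⟫ = ⟪v, u⟫ := hermForm_conj hF u v

theorem hf_add_right (u v w : V3) : ⟪u, v + w⟫ = ⟪u, v⟫ + ⟪u, w⟫ := by
  rw [← hf_conj hF, hf_add_left, map_add, hf_conj hF, hf_conj hF]

theorem hf_sub_right (u v w : V3) : ⟪u, v - w⟫ = ⟪u, v⟫ - ⟪u, w⟫ := by
  rw [← hf_conj hF, hf_sub_left, map_sub, hf_conj hF, hf_conj hF]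

theorem hf_smul_right (c : F) (u v : V3) : ⟪u, c • v⟫ = conjHom hF c * ⟪u, v⟫ := by
  rw [← hf_conj hF, hf_smul_left, map_mul, hf_conj hF]

theorem hf_symm_zero {u v : V3} (h : ⟪u, v⟫ = 0) : ⟪v, u⟫ = 0 := by
  rw [← hf_conj hF, h, map_zero]

theorem conj_two : conjHom hF (2 : F) = 2 := map_ofNat _ 2

theorem two_ne_zero_of_odd (hq : Odd q) : (2 : F) ≠ 0 := by
  refine Ring.two_ne_zero fun h => ?_
  have := FiniteField.even_card_of_char_two h
  rw [hF, Nat.pow_mod, Nat.odd_iff.mp hq] at this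
  norm_num at this

theorem three_le_q (hq : Odd q) : 3 ≤ q := by
  have := two_le_q hF
  rcases eq_or_lt_of_le this with h | h
  · subst h; exact absurd hq (by decide)
  · omega

/-- A norm one multiple of an anisotropic vector. -/
theorem exists_unit {a : V3} (ha : ⟪a, a⟫ ≠ 0) : ∃ c : F, c ≠ 0 ∧ ⟪c • a, c • a⟫ = 1 := by
  obtain ⟨c, hc⟩ := Geometry.exists_mul_conj_eq (conjHom_ne_id hF) (conjHom_conjHom hF) (s := ⟪a, a⟫⁻¹)
    (by rw [map_inv₀, hf_conj hF])
  have hc0 : c ≠ 0 := by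
    rintro rfl
    rw [map_zero, zero_mul] at hc
    exact ha (inv_eq_zero.mp hc.symm)
  exact ⟨c, hc0, by rw [hf_smul_left, hf_smul_right hF, ← mul_assoc, mul_comm c, hc, inv_mul_cancel₀ ha]⟩

/-- A nonzero subspace without anisotropic vectors is totally isotropic. -/
theorem hf_eq_zero_of_isotropic (W : Submodule F V3) (h : ∀ a ∈ W, ⟪a, a⟫ = 0) :
    ∀ a ∈ W, ∀ b ∈ W, ⟪a, b⟫ = 0 := by
  intro a ha b hb
  have key : ∀ c : F, conjHom hF c * ⟪a, b⟫ + c * ⟪b, a⟫ = 0 := fun c => by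
    have h1 := h _ (W.add_mem ha (W.smul_mem c hb))
    rw [hf_add_left, hf_add_right hF, hf_add_right hF, hf_smul_left, hf_smul_left, hf_smul_right hF, hf_smul_right hF,
      h a ha, h b hb] at h1
    linear_combination h1
  obtain ⟨c, hc⟩ : ∃ c, conjHom hF c ≠ c := by
    by_contra! hh
    exact conjHom_ne_id hF (RingHom.ext hh)
  have h1 := key 1
  rw [map_one] at h1
  have h2 : (conjHom hF c - c) * ⟪a, b⟫ = 0 := by linear_combination key c - c * h1
  exact (mul_eq_zero.mp h2).resolve_left (sub_ne_zero.mpr hc)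

theorem nondeg {a : V3} (h : ∀ x, ⟪a, x⟫ = 0) : a = 0 := by
  funext i
  have := h (Pi.single i 1)
  rw [hermForm_single_left hF] at this
  exact this

/-- Expansion in an orthonormal basis. -/
theorem expand {u v w : V3} (hu : ⟪u, u⟫ = 1) (hv : ⟪v, v⟫ = 1) (hw : ⟪w, w⟫ = 1) (huv : ⟪u, v⟫ = 0)
    (huw : ⟪u, w⟫ = 0) (hvw : ⟪v, w⟫ = 0) (x : V3) : x = ⟪x, u⟫ • u + ⟪x, v⟫ • v + ⟪x, w⟫ • w := by
  let M : M3 := Matrix.of fun r i => (![u, v, w] i) r
  have h1 : Mᵀ * M.map (conjHom hF) = 1 := by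
    ext i k
    rw [transpose_mul_map_apply hF]
    show ⟪![u, v, w] i, ![u, v, w] k⟫ = _
    fin_cases i <;> fin_cases k <;>
      simp [hu, hv, hw, huv, huw, hvw, hf_symm_zero hF huv, hf_symm_zero hF huw, hf_symm_zero hF hvw]
  have h2 : M.map (conjHom hF) * Mᵀ = 1 := mul_eq_one_comm.mp h1
  have h3 : M * (M.map (conjHom hF))ᵀ = 1 := by
    have := congrArg Matrix.transpose h2
    rwa [Matrix.transpose_mul, Matrix.transpose_transpose, Matrix.transpose_one] at this
  have h4 := congrArg (· *ᵥ x) h3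
  simp only [Matrix.one_mulVec, ← Matrix.mulVec_mulVec] at h4
  conv_lhs => rw [← h4]
  funext r
  simp [M, Matrix.mulVec, dotProduct, Fin.sum_univ_three, Cfsg.hermForm, conjHom_apply, mul_comm]

/-- `x ↦ 2⟨x, v⟩ v - x`. -/
theorem reflMat_exists (v : V3) : ∃ M : M3, ∀ x, M *ᵥ x = (2 * ⟪x, v⟫) • v - x := by
  refine ⟨Matrix.of (fun i j => 2 * v i * v j ^ q) - 1, fun x => ?_⟩
  rw [Matrix.sub_mulVec, Matrix.one_mulVec]
  congr 1
  funext i
  simp [Matrix.mulVec, dotProduct, Fin.sum_univ_three, Cfsg.hermForm]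
  ring

theorem refl_exists (v : V3) (hv : ⟪v, v⟫ = 1) : ∃ g : S3, ∀ x, mat g *ᵥ x = (2 * ⟪x, v⟫) • v - x := by
  obtain ⟨M, hM⟩ := reflMat_exists hF v
  obtain ⟨g, hg, hgv⟩ := exists_isometry_single hF v hv
  let G : M3 := LinearMap.toMatrix' (g : V3 →ₗ[F] V3)
  have hG : ∀ x, G *ᵥ x = g x := fun x => LinearMap.toMatrix'_mulVec _ _
  have hpres : ∀ a b, ⟪M *ᵥ a, M *ᵥ b⟫ = ⟪a, b⟫ := fun a b => by
    rw [hM, hM, hf_sub_left, hf_sub_right hF, hf_sub_right hF, hf_smul_left, hf_smul_left, hf_smul_right hF,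
      hf_smul_right hF, hv, map_mul, conj_two hF, hf_conj hF]
    ring
  have hdet : M.det = 1 := by
    have e : M * G = G * Matrix.diagonal ![1, -1, -1] := by
      refine Matrix.ext_of_mulVec_single fun i => ?_
      rw [← Matrix.mulVec_mulVec, ← Matrix.mulVec_mulVec, hG, hM, hG]
      have h1 : ∀ x, ⟪g x, v⟫ = x 0 := fun x => by rw [← hgv, hg, hermForm_single_left hF]
      rw [h1]
      have hd : Matrix.diagonal ![(1 : F), -1, -1] *ᵥ Pi.single i 1 =
          (2 * (Pi.single i (1 : F) : V3) 0) • (Pi.single 0 1 : V3) - Pi.single i 1 := by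
        funext r
        rw [Matrix.mulVec_diagonal]
        fin_cases i <;> fin_cases r <;> simp <;> ring
      rw [hd, map_sub, map_smul, hgv]
    have hGd : G.det ≠ 0 := by
      intro h
      obtain ⟨x, hx, hx'⟩ := (Matrix.exists_mulVec_eq_zero_iff).mpr h
      rw [hG, map_eq_zero_iff _ g.injective] at hx'
      exact hx hx'
    have h1 := congrArg Matrix.det e
    rw [Matrix.det_mul, Matrix.det_mul, Matrix.det_diagonal, Fin.prod_univ_three, mul_comm] at h1
    have h2 := mul_left_cancel₀ hGd h1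
    simpa using h2
  exact ⟨⟨⟨M, hdet⟩, hpres⟩, hM⟩

/-- The involution attached to a unit vector (junk otherwise). -/
noncomputable def refl (v : V3) : S3 :=
  haveI := _root_.Classical.dec (⟪v, v⟫ = 1)
  if hv : ⟪v, v⟫ = 1 then (refl_exists hF v hv).choose else 1

theorem refl_apply {v : V3} (hv : ⟪v, v⟫ = 1) (x : V3) : mat (refl hF v) *ᵥ x = (2 * ⟪x, v⟫) • v - x := by
  classical
  simp only [refl, dif_pos hv]
  exact (refl_exists hF v hv).choose_spec x

theorem refl_sq {v : V3} (hv : ⟪v, v⟫ = 1) : refl hF v * refl hF v = 1 := by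
  refine mat_ext fun x => ?_
  rw [← mulVec_mat, refl_apply hF hv, refl_apply hF hv, hf_sub_left, hf_smul_left, hv, mat_one, Matrix.one_mulVec]
  funext i
  simp only [Pi.sub_apply, Pi.smul_apply, smul_eq_mul]
  ring

theorem refl_self {v : V3} (hv : ⟪v, v⟫ = 1) : mat (refl hF v) *ᵥ v = v := by
  rw [refl_apply hF hv, hv, mul_one, two_smul, add_sub_cancel_right]

/-- Conjugation moves the point. -/
theorem conj_refl (g : S3) {v : V3} (hv : ⟪v, v⟫ = 1) : g * refl hF v * g⁻¹ = refl hF (mat g *ᵥ v) := by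
  have hv' : ⟪mat g *ᵥ v, mat g *ᵥ v⟫ = 1 := by rw [mat_preserves, hv]
  refine mat_ext fun x => ?_
  have hx : ⟪mat g⁻¹ *ᵥ x, v⟫ = ⟪x, mat g *ᵥ v⟫ := by
    conv_lhs => rw [← mat_preserves g, mulVec_mat, mul_inv_cancel, mat_one, Matrix.one_mulVec]
  rw [← mulVec_mat, ← mulVec_mat, refl_apply hF hv, refl_apply hF hv', Matrix.mulVec_sub, Matrix.mulVec_smul,
    mulVec_mat, mul_inv_cancel, mat_one, Matrix.one_mulVec, hx]

theorem refl_smul {v : V3} (hv : ⟪v, v⟫ = 1) {c : F} (hv' : ⟪c • v, c • v⟫ = 1) : refl hF (c • v) = refl hF v := by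
  rw [hf_smul_left, hf_smul_right hF, hv, mul_one] at hv'
  have hv'' : ⟪c • v, c • v⟫ = 1 := by rw [hf_smul_left, hf_smul_right hF, hv, mul_one, hv']
  refine mat_ext fun x => ?_
  rw [refl_apply hF hv'', refl_apply hF hv, hf_smul_right hF, smul_smul]
  congr 2
  linear_combination (2 * ⟪x, v⟫) * hv'

variable (hq : Odd q)
include hq

theorem refl_inj {v w : V3} (hv : ⟪v, v⟫ = 1) (hw : ⟪w, w⟫ = 1) (h : refl hF v = refl hF w) :
    w = ⟪w, v⟫ • v := by
  have h1 := congrArg (fun g => mat g *ᵥ w) h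
  simp only [refl_apply hF hv, refl_apply hF hw, hw, mul_one] at h1
  have h2 : (2 : F) • (⟪w, v⟫ • v) = (2 : F) • w := by rw [smul_smul]; exact sub_left_inj.mp h1
  exact (smul_right_injective _ (two_ne_zero_of_odd hF hq) h2).symm

theorem refl_ne_one {v : V3} (hv : ⟪v, v⟫ = 1) : refl hF v ≠ 1 := by
  intro h
  have h0 : ∀ x : V3, x = ⟪x, v⟫ • v := fun x => by
    have h1 := congrArg (fun g => mat g *ᵥ x) h
    simp only [refl_apply hF hv, mat_one, Matrix.one_mulVec, sub_eq_iff_eq_add, ← two_smul F x, ← smul_smul] at h1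
    exact (smul_right_injective _ (two_ne_zero_of_odd hF hq) h1).symm
  have e0 := h0 (Pi.single 0 1)
  have e1 := h0 (Pi.single 1 1)
  have a := congrFun e0 0
  have b := congrFun e1 1
  have c := congrFun e0 1
  simp at a b c
  rcases c with c | c
  · rw [c, zero_mul] at a; exact one_ne_zero a
  · rw [c, mul_zero] at b; exact one_ne_zero b

/-- Every involution comes from a point. -/
theorem exists_point {t : S3} (ht : t ≠ 1) (ht2 : t * t = 1) : ∃ v : V3, ⟪v, v⟫ = 1 ∧ t = refl hF v := by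
  have h2 := two_ne_zero_of_odd hF hq
  let T : V3 →ₗ[F] V3 := Matrix.toLin' (mat t)
  have hT : ∀ x, T x = mat t *ᵥ x := fun x => Matrix.toLin'_apply _ _
  have hTT : ∀ x, T (T x) = x := fun x => by rw [hT, hT, mulVec_mat, ht2, mat_one, Matrix.one_mulVec]
  let Ep : Submodule F V3 := LinearMap.ker (T - LinearMap.id)
  let Em : Submodule F V3 := LinearMap.ker (T + LinearMap.id)
  have hEp : ∀ x, x ∈ Ep ↔ T x = x := fun x => by simp [Ep, sub_eq_zero]
  have hEm : ∀ x, x ∈ Em ↔ T x = -x := fun x => by simp [Em, add_eq_zero_iff_eq_neg]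
  have horth : ∀ a ∈ Ep, ∀ b ∈ Em, ⟪a, b⟫ = 0 := by
    intro a ha b hb
    have h := mat_preserves t a b
    rw [← hT, ← hT, (hEp a).mp ha, (hEm b).mp hb, show -b = (-1 : F) • b from (neg_one_smul F b).symm,
      hf_smul_right hF, map_neg, map_one] at h
    have : (2 : F) * ⟪a, b⟫ = 0 := by linear_combination -h
    exact (mul_eq_zero.mp this).resolve_left h2
  have hdec : ∀ x, ∃ a ∈ Ep, ∃ b ∈ Em, x = a + b := fun x => by
    refine ⟨(2 : F)⁻¹ • (x + T x), ?_, (2 : F)⁻¹ • (x - T x), ?_, ?_⟩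
    · rw [hEp, map_smul, map_add, hTT, add_comm]
    · rw [hEm, map_smul, map_sub, hTT, ← smul_neg, neg_sub]
    · rw [← smul_add, add_add_sub_cancel, ← two_smul F x, smul_smul, inv_mul_cancel₀ h2, one_smul]
  -- unit vectors inside the eigenspaces
  have hunit : ∀ (W W' U : Submodule F V3), (∀ a ∈ W, ∀ b ∈ W', ⟪a, b⟫ = 0) → (∀ x, ∃ a ∈ W, ∃ b ∈ W', x = a + b) →
      (∀ a ∈ U, a ∈ W) → (∀ a ∈ U, ∀ c ∈ W, ∃ u ∈ U, ⟪a, c⟫ = ⟪a, u⟫) → U ≠ ⊥ → ∃ v ∈ U, ⟪v, v⟫ = 1 := by
    intro W W' U ho hd hUW hproj hU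
    by_contra! hcon
    refine hU ((Submodule.eq_bot_iff _).mpr fun a ha => nondeg hF fun x => ?_)
    obtain ⟨c, hc, d, hd', rfl⟩ := hd x
    obtain ⟨u, hu, hau⟩ := hproj a ha c hc
    rw [hf_add_right hF, ho a (hUW a ha) d hd', add_zero, hau]
    refine hf_eq_zero_of_isotropic hF U (fun e he => ?_) a ha u hu
    by_contra hne
    obtain ⟨k, -, hk⟩ := exists_unit hF hne
    exact hcon _ (U.smul_mem k he) hk
  have hEp0 : Ep ≠ ⊥ := by
    intro h
    have hneg : ∀ x, T x = -x := fun x => by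
      obtain ⟨a, ha, b, hb, rfl⟩ := hdec x
      rw [h, Submodule.mem_bot] at ha
      subst ha
      rw [zero_add, (hEm b).mp hb]
    have : mat t = -1 := Matrix.ext_of_mulVec_single fun i => by rw [← hT, hneg, Matrix.neg_mulVec, Matrix.one_mulVec]
    have hd : (mat t).det = 1 := (t : Matrix.SpecialLinearGroup (Fin 3) F).2
    rw [this, Matrix.det_neg, Fintype.card_fin, Matrix.det_one] at hd
    apply h2
    linear_combination -hd
  obtain ⟨v, hvE, hv⟩ := hunit Ep Em Ep horth hdec (fun a ha => ha) (fun a _ c hc => ⟨c, hc, rfl⟩) hEp0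
  refine ⟨v, hv, ?_⟩
  let pr : V3 →ₗ[F] F :=
    { toFun := fun x => ⟪x, v⟫
      map_add' := fun a b => hf_add_left a b v
      map_smul' := fun c a => hf_smul_left c a v }
  let U : Submodule F V3 := Ep ⊓ LinearMap.ker pr
  by_cases hU : U = ⊥
  · refine mat_ext fun x => ?_
    rw [refl_apply hF hv, ← hT]
    obtain ⟨a, ha, b, hb, rfl⟩ := hdec x
    have hbv : ⟪b, v⟫ = 0 := hf_symm_zero hF (horth v hvE b hb)
    have hz : a - ⟪a, v⟫ • v ∈ U := ⟨Ep.sub_mem ha (Ep.smul_mem _ hvE), by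
      show ⟪a - ⟪a, v⟫ • v, v⟫ = 0
      rw [hf_sub_left, hf_smul_left, hv, mul_one, sub_self]⟩
    rw [hU, Submodule.mem_bot, sub_eq_zero] at hz
    rw [map_add, (hEp a).mp ha, (hEm b).mp hb, hf_add_left, hbv, add_zero, ← smul_smul, ← hz, two_smul]
    abel
  · exfalso
    obtain ⟨w, ⟨hwE, hwv⟩, hw⟩ := hunit Ep Em U horth hdec (fun a ha => ha.1) (fun a ha c hc => by
      refine ⟨c - ⟪c, v⟫ • v, ⟨Ep.sub_mem hc (Ep.smul_mem _ hvE), ?_⟩, ?_⟩
      · show ⟪c - ⟪c, v⟫ • v, v⟫ = 0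
        rw [hf_sub_left, hf_smul_left, hv, mul_one, sub_self]
      · rw [hf_sub_right hF, hf_smul_right hF, show ⟪a, v⟫ = 0 from ha.2, mul_zero, sub_zero]) hU
    by_cases hEm0 : Em = ⊥
    · refine ht (mat_ext fun x => ?_)
      obtain ⟨a, ha, b, hb, rfl⟩ := hdec x
      rw [hEm0, Submodule.mem_bot] at hb
      subst hb
      rw [add_zero, ← hT, (hEp a).mp ha, mat_one, Matrix.one_mulVec]
    · obtain ⟨u, huE, hu⟩ := hunit Em Ep Em (fun a ha b hb => hf_symm_zero hF (horth b hb a ha))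
        (fun x => by obtain ⟨a, ha, b, hb, rfl⟩ := hdec x; exact ⟨b, hb, a, ha, add_comm a b⟩)
        (fun a ha => ha) (fun a _ c hc => ⟨c, hc, rfl⟩) hEm0
      have hvw : ⟪v, w⟫ = 0 := hf_symm_zero hF hwv
      let M : M3 := Matrix.of fun r i => (![v, w, u] i) r
      have h1 : Mᵀ * M.map (conjHom hF) = 1 := by
        ext i k
        rw [transpose_mul_map_apply hF]
        show ⟪![v, w, u] i, ![v, w, u] k⟫ = _
        fin_cases i <;> fin_cases k <;>
          simp [hv, hw, hu, hvw, hf_symm_zero hF hvw, horth v hvE u huE, horth w hwE u huE,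
            hf_symm_zero hF (horth v hvE u huE), hf_symm_zero hF (horth w hwE u huE)]
      have hMd : M.det ≠ 0 := by
        intro h
        have := congrArg Matrix.det h1
        rw [Matrix.det_mul, Matrix.det_transpose, h, zero_mul, Matrix.det_one] at this
        exact zero_ne_one this
      have e : mat t * M = M * Matrix.diagonal ![1, 1, -1] := by
        refine Matrix.ext_of_mulVec_single fun i => ?_
        rw [← Matrix.mulVec_mulVec, ← Matrix.mulVec_mulVec, ← hT]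
        have hM : ∀ j, M *ᵥ Pi.single j 1 = ![v, w, u] j := fun j => by
          funext r; simp [M, Matrix.mulVec_single_one, Matrix.col]
        rw [hM, show Matrix.diagonal ![(1 : F), 1, -1] *ᵥ Pi.single i 1 = (![(1 : F), 1, -1] i) • Pi.single i 1 by
          funext r; rw [Matrix.mulVec_diagonal]; rcases eq_or_ne r i with rfl | h <;> simp [*],
          Matrix.mulVec_smul, hM]
        fin_cases i <;> simp [(hEp v).mp hvE, (hEp w).mp hwE, (hEm u).mp huE]
      have hd := congrArg Matrix.det e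
      rw [Matrix.det_mul, Matrix.det_mul, Matrix.det_diagonal, Fin.prod_univ_three,
        show (mat t).det = 1 from (t : Matrix.SpecialLinearGroup (Fin 3) F).2, one_mul] at hd
      have h5 := (mul_eq_left₀ hMd).mp hd.symm
      simp at h5
      apply h2
      linear_combination -h5

/-- Two distinct involutions commute exactly when the points are orthogonal. -/
theorem commute_iff {v w : V3} (hv : ⟪v, v⟫ = 1) (hw : ⟪w, w⟫ = 1) (hne : refl hF v ≠ refl hF w) :
    Commute (refl hF v) (refl hF w) ↔ ⟪w, v⟫ = 0 := by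
  constructor
  · intro h
    have h1 : refl hF (mat (refl hF v) *ᵥ w) = refl hF w := by
      rw [← conj_refl hF _ hw, h.eq, mul_inv_cancel_right]
    have h2 := refl_inj hF hq hw (by rw [mat_preserves, hw]) h1.symm
    rw [refl_apply hF hv] at h2
    set l := ⟪(2 * ⟪w, v⟫) • v - w, w⟫
    by_contra hne'
    refine hne ?_
    have h3 : w = (2 * ⟪w, v⟫) • v - l • w := by rw [← h2]; abel
    have hl : l + 1 ≠ 0 := by
      intro hl
      have h4 : (2 * ⟪w, v⟫) • v = (l + 1) • w := by rw [add_smul, one_smul]; exact sub_eq_iff_eq_add.mp h2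
      rw [hl, zero_smul] at h4
      have h5 := congrArg (fun u => ⟪u, v⟫) h4
      simp only [hf_smul_left, hv, mul_one] at h5
      rw [show (0 : V3) = (0 : F) • v by rw [zero_smul], hf_smul_left, zero_mul] at h5
      exact hne' ((mul_eq_zero.mp h5).resolve_left (two_ne_zero_of_odd hF hq))
    have h4 : w = ((l + 1)⁻¹ * (2 * ⟪w, v⟫)) • v := by
      rw [← smul_smul, show (2 * ⟪w, v⟫) • v = (l + 1) • w by rw [add_smul, one_smul]; exact sub_eq_iff_eq_add.mp h2,
        smul_smul, inv_mul_cancel₀ hl, one_smul]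
    rw [h4]
    exact (refl_smul hF hv (h4 ▸ hw)).symm
  · intro h
    have e : mat (refl hF v) *ᵥ w = (-1 : F) • w := by
      rw [refl_apply hF hv, h, mul_zero, zero_smul, zero_sub, neg_one_smul]
    have h1 := conj_refl hF (refl hF v) hw
    rw [e, refl_smul hF hw (by rw [hf_smul_left, hf_smul_right hF, map_neg, map_one, hw]; ring)] at h1
    exact mul_inv_eq_iff_eq_mul.mp h1

/-- The third involution of a commuting pair. -/
theorem exists_third {v w : V3} (hv : ⟪v, v⟫ = 1) (hw : ⟪w, w⟫ = 1) (hwv : ⟪w, v⟫ = 0) :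
    ∃ u : V3, ⟪u, u⟫ = 1 ∧ ⟪u, v⟫ = 0 ∧ ⟪u, w⟫ = 0 ∧ refl hF u = refl hF v * refl hF w := by
  have hne : refl hF v ≠ refl hF w := fun h => by
    have := refl_inj hF hq hv hw h
    rw [hwv, zero_smul] at this
    rw [this] at hw
    simp [Cfsg.hermForm] at hw
  have hc := (commute_iff hF hq hv hw hne).mpr hwv
  have hprod : refl hF v * refl hF w ≠ 1 := fun h =>
    hne ((mul_eq_one_iff_eq_inv.mp h).trans (inv_eq_of_mul_eq_one_left (refl_sq hF hw)))
  have hsq : refl hF v * refl hF w * (refl hF v * refl hF w) = 1 := by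
    calc refl hF v * refl hF w * (refl hF v * refl hF w) =
          refl hF v * (refl hF w * refl hF v) * refl hF w := by group
      _ = refl hF v * (refl hF v * refl hF w) * refl hF w := by rw [hc.eq]
      _ = 1 := by rw [← mul_assoc, refl_sq hF hv, one_mul, refl_sq hF hw]
  obtain ⟨u, hu, he⟩ := exists_point hF hq hprod hsq
  have hfix : mat (refl hF v) *ᵥ (mat (refl hF w) *ᵥ u) = u := by
    rw [mulVec_mat, he, refl_self hF hu]
  rw [refl_apply hF hw, refl_apply hF hv, hf_sub_left, hf_smul_left, hwv, mul_zero, zero_sub] at hfix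
  have a := congrArg (fun x => ⟪x, v⟫) hfix
  have b := congrArg (fun x => ⟪x, w⟫) hfix
  simp only [hf_sub_left, hf_smul_left, hv, hw, hwv, hf_symm_zero hF hwv] at a b
  refine ⟨u, hu, ?_, ?_, he.symm⟩
  · have : (2 : F) * ⟪u, v⟫ = 0 := by linear_combination -a
    exact (mul_eq_zero.mp this).resolve_left (two_ne_zero_of_odd hF hq)
  · have : (2 : F) * ⟪u, w⟫ = 0 := by linear_combination -b
    exact (mul_eq_zero.mp this).resolve_left (two_ne_zero_of_odd hF hq)

/-- Two different points have at most one common orthogonal point. -/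
theorem common_unique {a b u w : V3} (ha : ⟪a, a⟫ = 1) (hb : ⟪b, b⟫ = 1) (hu : ⟪u, u⟫ = 1) (hw : ⟪w, w⟫ = 1)
    (hab : refl hF a ≠ refl hF b) (hua : ⟪u, a⟫ = 0) (hub : ⟪u, b⟫ = 0) (hwa : ⟪w, a⟫ = 0) (hwb : ⟪w, b⟫ = 0) :
    refl hF w = refl hF u := by
  obtain ⟨c, hc, hcu, hca, -⟩ := exists_third hF hq hu ha (hf_symm_zero hF hua)
  have huc := hf_symm_zero hF hcu
  have hac := hf_symm_zero hF hca
  have ew := expand hF hu ha hc hua huc hac w
  have eb := expand hF hu ha hc hua huc hac b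
  rw [hwa, zero_smul, add_zero] at ew
  rw [hf_symm_zero hF hub, zero_smul, zero_add] at eb
  have h := hwb
  rw [eb, hf_add_right hF, hf_smul_right hF, hf_smul_right hF, hwa, mul_zero, zero_add] at h
  rcases mul_eq_zero.mp h with h | h
  · exfalso
    rw [map_eq_zero] at h
    rw [h, zero_smul, add_zero] at eb
    exact hab (by rw [eb]; exact (refl_smul hF ha (eb ▸ hb)).symm)
  · rw [h, zero_smul, add_zero] at ew
    rw [ew]
    exact refl_smul hF hu (ew ▸ hw)

/-- Vectors versus involutions. -/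
theorem card_points (P : S3 → Prop) : Nat.card {v : V3 // ⟪v, v⟫ = 1 ∧ P (refl hF v)} =
    (q + 1) * Nat.card {x : S3 // x ≠ 1 ∧ x * x = 1 ∧ P x} := by
  classical
  let f : {v : V3 // ⟪v, v⟫ = 1 ∧ P (refl hF v)} → {x : S3 // x ≠ 1 ∧ x * x = 1 ∧ P x} := fun v =>
    ⟨refl hF v.1, refl_ne_one hF hq v.2.1, refl_sq hF v.2.1, v.2.2⟩
  rw [← Nat.card_congr (Equiv.sigmaFiberEquiv f), Nat.card_sigma, Nat.card_eq_fintype_card (α := {x : S3 // _})]
  rw [Finset.sum_const_nat (m := q + 1), Finset.card_univ, mul_comm]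
  rintro ⟨x, hx, hx2, hP⟩ -
  obtain ⟨v, hv, rfl⟩ := exists_point hF hq hx hx2
  refine Eq.trans (Nat.card_congr ?_) ((card_norm_eq hF (1 : F) (one_pow q)).trans (if_neg one_ne_zero))
  refine
    { toFun := fun w => ⟨⟪w.1.1, v⟫, ?_⟩
      invFun := fun c => ⟨⟨c.1 • v, ?_, ?_⟩, ?_⟩
      left_inv := fun w => Subtype.ext (Subtype.ext
        (refl_inj hF hq hv w.1.2.1 (congrArg Subtype.val w.2).symm).symm)
      right_inv := fun c => Subtype.ext (by show ⟪c.1 • v, v⟫ = c.1; rw [hf_smul_left, hv, mul_one]) }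
  · have e := refl_inj hF hq hv w.1.2.1 (congrArg Subtype.val w.2).symm
    have h := w.1.2.1
    rw [e, hf_smul_left, hf_smul_right hF, hv, mul_one, conjHom_apply] at h
    rw [pow_succ']; exact h
  · rw [hf_smul_left, hf_smul_right hF, hv, mul_one, conjHom_apply, ← pow_succ']; exact c.2
  · rw [refl_smul hF hv (by rw [hf_smul_left, hf_smul_right hF, hv, mul_one, conjHom_apply, ← pow_succ']; exact c.2)]
    exact hP
  · exact Subtype.ext (refl_smul hF hv (by rw [hf_smul_left, hf_smul_right hF, hv, mul_one, conjHom_apply, ← pow_succ']; exact c.2))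

theorem card_involutions : Nat.card {x : S3 // x ≠ 1 ∧ x * x = 1} = q ^ 2 * (q ^ 2 - q + 1) := by
  have h := card_points hF hq (fun _ => True)
  simp only [and_true] at h
  rw [← hermCount, hermCount_one_eq hF, if_neg (by decide)] at h
  have hq2 : q ≤ q ^ 2 := by rw [pow_two]; exact Nat.le_mul_self q
  refine Nat.eq_of_mul_eq_mul_left (show 0 < q + 1 by omega) (h.symm.trans ?_)
  zify [hq2]
  ring

theorem exists_isometry_SU {v : V3} (hv : ⟪v, v⟫ = 1) : ∃ g : S3, mat g *ᵥ Pi.single 0 1 = v := by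
  obtain ⟨g, hg, hgv⟩ := exists_isometry_single hF v hv
  let G : M3 := LinearMap.toMatrix' (g : V3 →ₗ[F] V3)
  have hG : ∀ x, G *ᵥ x = g x := fun x => LinearMap.toMatrix'_mulVec _ _
  have hGu : Gᵀ * G.map (conjHom hF) = 1 := (preserves_hermForm_iff hF G).mp fun a b => by rw [hG, hG, hg]
  have hd : G.det * conjHom hF G.det = 1 := by
    have := congrArg Matrix.det hGu
    rwa [Matrix.det_mul, Matrix.det_transpose, ← RingHom.mapMatrix_apply, ← RingHom.map_det, Matrix.det_one] at this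
  have hd0 : G.det ≠ 0 := fun h => by rw [h, zero_mul] at hd; exact zero_ne_one hd
  let D : M3 := Matrix.diagonal ![1, G.det⁻¹, 1]
  have hD : Dᵀ * D.map (conjHom hF) = 1 := diagonal_preserves hF _ fun i => by
    fin_cases i <;> simp [inv_pow]
    rw [pow_succ', ← conjHom_apply hF]; exact hd
  refine ⟨⟨⟨G * D, ?_⟩, (mem_SU_iff hF _).mpr (preserves_mul hF hGu hD)⟩, ?_⟩
  · rw [Matrix.det_mul, Matrix.det_diagonal, Fin.prod_univ_three]
    simp [hd0]
  · show (G * D) *ᵥ Pi.single 0 1 = v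
    rw [← Matrix.mulVec_mulVec, show D *ᵥ Pi.single 0 1 = Pi.single 0 1 by
      funext r; rw [Matrix.mulVec_diagonal]; fin_cases r <;> simp, hG, hgv]

theorem all_conj {t x : S3} (ht : t ≠ 1) (ht2 : t * t = 1) (hx : x ≠ 1) (hx2 : x * x = 1) :
    ∃ g : S3, g * t * g⁻¹ = x := by
  obtain ⟨v, hv, rfl⟩ := exists_point hF hq ht ht2
  obtain ⟨w, hw, rfl⟩ := exists_point hF hq hx hx2
  obtain ⟨a, ha⟩ := exists_isometry_SU hF hq hv
  obtain ⟨b, hb⟩ := exists_isometry_SU hF hq hw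
  refine ⟨b * a⁻¹, ?_⟩
  rw [conj_refl hF _ hv]
  congr 1
  rw [← ha, mulVec_mat, inv_mul_cancel_right, hb]

theorem card_commuting {t : S3} (ht : t ≠ 1) (ht2 : t * t = 1) :
    Nat.card {x : S3 // x ≠ 1 ∧ x * x = 1 ∧ x ≠ t ∧ Commute t x} = q * (q - 1) := by
  obtain ⟨v, hv, rfl⟩ := exists_point hF hq ht ht2
  have h := card_points hF hq (fun x => x ≠ refl hF v ∧ Commute (refl hF v) x)
  obtain ⟨g, hg⟩ := exists_isometry_SU hF hq hv
  have e : Nat.card {w : V3 // ⟪w, w⟫ = 1 ∧ refl hF w ≠ refl hF v ∧ Commute (refl hF v) (refl hF w)} =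
      hermCount F q 2 (1 : F) := by
    refine Eq.trans (Nat.card_congr (Equiv.subtypeEquivRight (q := fun w => ⟪w, w⟫ = 1 ∧ ⟪w, v⟫ = 0) fun w => ?_)) ?_
    · constructor
      · rintro ⟨h1, h2, h3⟩
        exact ⟨h1, (commute_iff hF hq hv h1 (Ne.symm h2)).mp h3⟩
      · rintro ⟨h1, h2⟩
        have hne : refl hF v ≠ refl hF w := fun he => by
          have := refl_inj hF hq hv h1 he
          rw [h2, zero_smul] at this
          rw [this] at h1
          simp [Cfsg.hermForm] at h1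
        exact ⟨h1, hne.symm, (commute_iff hF hq hv h1 hne).mpr h2⟩
    · refine Nat.card_congr
        { toFun := fun w => ⟨Fin.tail (mat g⁻¹ *ᵥ w.1), ?_⟩
          invFun := fun u => ⟨mat g *ᵥ Fin.cons 0 u.1, ?_, ?_⟩
          left_inv := fun w => Subtype.ext ?_
          right_inv := fun u => Subtype.ext ?_ }
      · have h0 : (mat g⁻¹ *ᵥ w.1) 0 = 0 := by
          rw [← hermForm_single_left hF (0 : Fin 3) (mat g⁻¹ *ᵥ w.1), ← mat_preserves g, mulVec_mat, mul_inv_cancel,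
            mat_one, Matrix.one_mulVec, hg]
          exact w.2.2
        have h1 := mat_preserves g⁻¹ w.1 w.1
        rw [w.2.1, hermForm_succ, h0, zero_pow (by omega), zero_add] at h1
        exact h1
      · rw [mat_preserves, hermForm_succ]
        simpa using u.2
      · rw [← hg, mat_preserves, hermForm_single_left hF, Fin.cons_zero]
      · have h0 : (mat g⁻¹ *ᵥ w.1) 0 = 0 := by
          rw [← hermForm_single_left hF (0 : Fin 3) (mat g⁻¹ *ᵥ w.1), ← mat_preserves g, mulVec_mat, mul_inv_cancel,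
            mat_one, Matrix.one_mulVec, hg]
          exact w.2.2
        show mat g *ᵥ Fin.cons 0 (Fin.tail (mat g⁻¹ *ᵥ w.1)) = w.1
        rw [show (Fin.cons 0 (Fin.tail (mat g⁻¹ *ᵥ w.1)) : V3) = mat g⁻¹ *ᵥ w.1 by
          conv_rhs => rw [← Fin.cons_self_tail (mat g⁻¹ *ᵥ w.1), h0], mulVec_mat, mul_inv_cancel, mat_one, Matrix.one_mulVec]
      · show Fin.tail (mat g⁻¹ *ᵥ (mat g *ᵥ Fin.cons 0 u.1)) = u.1
        rw [mulVec_mat, inv_mul_cancel, mat_one, Matrix.one_mulVec, Fin.tail_cons]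
  rw [e, hermCount_one_eq hF, if_pos (by decide)] at h
  refine Nat.eq_of_mul_eq_mul_left (show 0 < q + 1 by omega) (h.symm.trans ?_)
  have h1 : 1 ≤ q ^ 2 := Nat.one_le_pow _ _ (by have := two_le_q hF; omega)
  have h2 : 1 ≤ q := by have := two_le_q hF; omega
  zify [h1, h2]
  ring

theorem third_unique {t x : S3} (ht : t ≠ 1) (ht2 : t * t = 1) (hx : x ≠ 1) (hx2 : x * x = 1) (hne : x ≠ t)
    (hc : Commute t x) :
    Nat.card {y : S3 // y ≠ 1 ∧ y * y = 1 ∧ y ≠ t ∧ y ≠ x ∧ Commute t y ∧ Commute x y} = 1 := by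
  obtain ⟨v, hv, rfl⟩ := exists_point hF hq ht ht2
  obtain ⟨w, hw, rfl⟩ := exists_point hF hq hx hx2
  have hwv := (commute_iff hF hq hv hw hne.symm).mp hc
  obtain ⟨u, hu, huv, huw, he⟩ := exists_third hF hq hv hw hwv
  have hneu : ∀ {a : V3}, ⟪a, a⟫ = 1 → ⟪u, a⟫ = 0 → refl hF a ≠ refl hF u := fun {a} ha h e => by
    have := refl_inj hF hq ha hu e
    rw [h, zero_smul] at this
    rw [this] at hu
    simp [Cfsg.hermForm] at hu
  rw [Nat.card_eq_one_iff_exists]
  refine ⟨⟨refl hF u, refl_ne_one hF hq hu, refl_sq hF hu, (hneu hv huv).symm, (hneu hw huw).symm,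
    (commute_iff hF hq hv hu (hneu hv huv)).mpr huv, (commute_iff hF hq hw hu (hneu hw huw)).mpr huw⟩, ?_⟩
  rintro ⟨y, hy, hy2, hyt, hyx, hty, hxy⟩
  obtain ⟨z, hz, rfl⟩ := exists_point hF hq hy hy2
  exact Subtype.ext (common_unique hF hq hv hw hu hz hne.symm huv huw
    ((commute_iff hF hq hv hz hyt.symm).mp hty) ((commute_iff hF hq hw hz hyx.symm).mp hxy))

theorem neighbours_eq {t x y y' : S3} (ht : t ≠ 1) (ht2 : t * t = 1) (hx : x ≠ 1) (hx2 : x * x = 1)
    (hnc : ¬ Commute t x) (hy : y ≠ 1) (hy2 : y * y = 1) (hy' : y' ≠ 1) (hy2' : y' * y' = 1)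
    (h1 : Commute t y) (h2 : Commute y x) (h1' : Commute t y') (h2' : Commute y' x) : y' = y := by
  have hne : t ≠ x := fun e => hnc (e ▸ Commute.refl t)
  have n1 : t ≠ y := fun e => hnc (e ▸ h2)
  have n2 : x ≠ y := fun e => hnc (e ▸ h1)
  have n1' : t ≠ y' := fun e => hnc (e ▸ h2')
  have n2' : x ≠ y' := fun e => hnc (e ▸ h1')
  obtain ⟨v, hv, rfl⟩ := exists_point hF hq ht ht2
  obtain ⟨w, hw, rfl⟩ := exists_point hF hq hx hx2
  obtain ⟨a, ha, rfl⟩ := exists_point hF hq hy hy2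
  obtain ⟨b, hb, rfl⟩ := exists_point hF hq hy' hy2'
  exact common_unique hF hq hv hw ha hb hne
    ((commute_iff hF hq hv ha n1).mp h1) ((commute_iff hF hq hw ha n2).mp h2.symm)
    ((commute_iff hF hq hv hb n1').mp h1') ((commute_iff hF hq hw hb n2').mp h2'.symm)

theorem card_dist_two {t : S3} (ht : t ≠ 1) (ht2 : t * t = 1) :
    Nat.card {x : S3 // x ≠ 1 ∧ x * x = 1 ∧ ¬ Commute t x ∧
      ∃ y : S3, y ≠ 1 ∧ y * y = 1 ∧ Commute t y ∧ Commute y x} = q * (q - 2) * (q ^ 2 - 1) := by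
  classical
  let Y := {y : S3 // y ≠ 1 ∧ y * y = 1 ∧ y ≠ t ∧ Commute t y}
  let Z : Y → Type _ := fun y => {x : S3 // x ≠ 1 ∧ x * x = 1 ∧ x ≠ y.1 ∧ Commute y.1 x ∧ ¬ Commute t x}
  let f : (Σ y : Y, Z y) → {x : S3 // x ≠ 1 ∧ x * x = 1 ∧ ¬ Commute t x ∧
      ∃ y : S3, y ≠ 1 ∧ y * y = 1 ∧ Commute t y ∧ Commute y x} := fun p =>
    ⟨p.2.1, p.2.2.1, p.2.2.2.1, p.2.2.2.2.2.2, p.1.1, p.1.2.1, p.1.2.2.1, p.1.2.2.2.2, p.2.2.2.2.2.1⟩
  have hf : Function.Bijective f := by
    constructor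
    · rintro ⟨⟨y, hy, hy2, hyt, hty⟩, x, hx, hx2, hxy, hyx, hnc⟩ ⟨⟨y', hy', hy2', hyt', hty'⟩, x', hx', hx2', hxy', hyx', hnc'⟩ e
      have e' : x = x' := congrArg Subtype.val e
      subst e'
      have hyy := neighbours_eq hF hq ht ht2 hx hx2 hnc hy hy2 hy' hy2' hty hyx hty' hyx'
      subst hyy
      rfl
    · rintro ⟨x, hx, hx2, hnc, y, hy, hy2, hty, hyx⟩
      exact ⟨⟨⟨y, hy, hy2, fun e => hnc (e ▸ hyx), hty⟩, ⟨x, hx, hx2, fun e => hnc (e ▸ hty), hyx, hnc⟩⟩, rfl⟩
  have hZ : ∀ y : Y, Nat.card (Z y) = q * (q - 1) - 2 := by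
    rintro ⟨y, hy, hy2, hyt, hty⟩
    have hB := card_commuting hF hq hy hy2
    obtain ⟨⟨u, hu, hu2, hut, huy, htu, hyu⟩, huniq⟩ :=
      Nat.card_eq_one_iff_exists.mp (third_unique hF hq ht ht2 hy hy2 hyt hty)
    rw [Nat.card_eq_fintype_card, Fintype.card_subtype] at hB
    show Nat.card {x : S3 // x ≠ 1 ∧ x * x = 1 ∧ x ≠ y ∧ Commute y x ∧ ¬ Commute t x} = _
    rw [Nat.card_eq_fintype_card, Fintype.card_subtype, ← hB]
    have e : Finset.univ.filter (fun x : S3 => x ≠ 1 ∧ x * x = 1 ∧ x ≠ y ∧ Commute y x ∧ ¬ Commute t x) =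
        Finset.univ.filter (fun x : S3 => x ≠ 1 ∧ x * x = 1 ∧ x ≠ y ∧ Commute y x) \ {t, u} := by
      ext x
      simp only [Finset.mem_filter, Finset.mem_univ, true_and, Finset.mem_sdiff, Finset.mem_insert, Finset.mem_singleton, not_or]
      constructor
      · rintro ⟨h1, h2, h3, h4, h5⟩
        exact ⟨⟨h1, h2, h3, h4⟩, fun e => h5 (e ▸ Commute.refl t), fun e => h5 (e ▸ htu)⟩
      · rintro ⟨⟨h1, h2, h3, h4⟩, h5, h6⟩
        refine ⟨h1, h2, h3, h4, fun h7 => h6 ?_⟩
        exact congrArg Subtype.val (huniq ⟨x, h1, h2, h5, h3, h7, h4⟩)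
    rw [e, Finset.card_sdiff_of_subset, Finset.card_pair (Ne.symm hut)]
    intro x hx
    simp only [Finset.mem_insert, Finset.mem_singleton] at hx
    simp only [Finset.mem_filter, Finset.mem_univ, true_and]
    rcases hx with rfl | rfl
    · exact ⟨ht, ht2, hyt.symm, hty.symm⟩
    · exact ⟨hu, hu2, huy, hyu⟩
  rw [← Nat.card_eq_of_bijective f hf, Nat.card_sigma, Finset.sum_congr rfl fun y _ => hZ y, Finset.sum_const,
    Finset.card_univ, smul_eq_mul, ← Nat.card_eq_fintype_card, card_commuting hF hq ht ht2]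
  have h3 := three_le_q hF hq
  have h1 : 1 ≤ q ^ 2 := Nat.one_le_pow _ _ (by omega)
  have h4 : 2 ≤ q * (q - 1) := le_trans (by omega : 2 ≤ 3 * 1) (Nat.mul_le_mul h3 (by omega))
  zify [h1, h4, show 1 ≤ q by omega, show 2 ≤ q by omega]
  ring

theorem card_dist_three {t : S3} (ht : t ≠ 1) (ht2 : t * t = 1) :
    Nat.card {x : S3 // x ≠ 1 ∧ x * x = 1 ∧ ¬ Commute t x ∧
      ∀ y : S3, y ≠ 1 → y * y = 1 → ¬ (Commute t y ∧ Commute y x)} = (q + 1) * (q ^ 2 - 1) := by
  classical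
  have hN := card_involutions hF hq (F := F)
  have hB := card_commuting hF hq ht ht2
  have hD := card_dist_two hF hq ht ht2
  rw [Nat.card_eq_fintype_card, Fintype.card_subtype] at hN hB hD ⊢
  have hsplit : Finset.univ.filter (fun x : S3 => x ≠ 1 ∧ x * x = 1) =
      ((Finset.univ.filter fun x : S3 => x ≠ 1 ∧ x * x = 1 ∧ ¬ Commute t x ∧
          ∀ y : S3, y ≠ 1 → y * y = 1 → ¬ (Commute t y ∧ Commute y x)) ∪
        (Finset.univ.filter fun x : S3 => x ≠ 1 ∧ x * x = 1 ∧ ¬ Commute t x ∧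
          ∃ y : S3, y ≠ 1 ∧ y * y = 1 ∧ Commute t y ∧ Commute y x)) ∪
      ((Finset.univ.filter fun x : S3 => x ≠ 1 ∧ x * x = 1 ∧ x ≠ t ∧ Commute t x) ∪ {t}) := by
    ext x
    simp only [Finset.mem_filter, Finset.mem_univ, true_and, Finset.mem_union, Finset.mem_singleton]
    constructor
    · rintro ⟨h1, h2⟩
      by_cases hc : Commute t x
      · by_cases he : x = t
        · exact Or.inr (Or.inr he)
        · exact Or.inr (Or.inl ⟨h1, h2, he, hc⟩)
      · by_cases he : ∃ y : S3, y ≠ 1 ∧ y * y = 1 ∧ Commute t y ∧ Commute y x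
        · exact Or.inl (Or.inr ⟨h1, h2, hc, he⟩)
        · exact Or.inl (Or.inl ⟨h1, h2, hc, fun y a b ⟨c, d⟩ => he ⟨y, a, b, c, d⟩⟩)
    · rintro ((⟨a, b, -⟩ | ⟨a, b, -⟩) | (⟨a, b, -⟩ | rfl))
      exacts [⟨a, b⟩, ⟨a, b⟩, ⟨a, b⟩, ⟨ht, ht2⟩]
  rw [hsplit, Finset.card_union_of_disjoint, Finset.card_union_of_disjoint, Finset.card_union_of_disjoint,
    Finset.card_singleton, hB, hD] at hN
  · have h3 := three_le_q hF hq
    have h1 : 1 ≤ q ^ 2 := Nat.one_le_pow _ _ (by omega)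
    have hq2 : q ≤ q ^ 2 := by rw [pow_two]; exact Nat.le_mul_self q
    zify [h1, hq2, show 1 ≤ q by omega, show 2 ≤ q by omega] at hN ⊢
    linear_combination hN
  · rw [Finset.disjoint_left]
    intro x hx hx'
    simp only [Finset.mem_filter, Finset.mem_univ, true_and, Finset.mem_singleton] at hx hx'
    exact hx.2.2.1 hx'
  · rw [Finset.disjoint_left]
    intro x hx hx'
    simp only [Finset.mem_filter, Finset.mem_univ, true_and] at hx hx'
    obtain ⟨y, a, b, c⟩ := hx'.2.2.2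
    exact hx.2.2.2 y a b c
  · rw [Finset.disjoint_left]
    intro x hx hx'
    simp only [Finset.mem_filter, Finset.mem_univ, true_and, Finset.mem_union, Finset.mem_singleton] at hx hx'
    have hnc : ¬ Commute t x := by rcases hx with h | h <;> exact h.2.2.1
    rcases hx' with h | h
    · exact hnc h.2.2.2
    · exact hnc (h ▸ Commute.refl t)

theorem diameter {t x : S3} (ht : t ≠ 1) (ht2 : t * t = 1) (hx : x ≠ 1) (hx2 : x * x = 1) :
    ∃ y z : S3, y ≠ 1 ∧ y * y = 1 ∧ z ≠ 1 ∧ z * z = 1 ∧ Commute t y ∧ Commute y z ∧ Commute z x := by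
  obtain ⟨v, hv, rfl⟩ := exists_point hF hq ht ht2
  obtain ⟨w, hw, rfl⟩ := exists_point hF hq hx hx2
  have hcomm : ∀ {a b : V3}, ⟪a, a⟫ = 1 → ⟪b, b⟫ = 1 → ⟪b, a⟫ = 0 → Commute (refl hF a) (refl hF b) := by
    intro a b ha hb h
    by_cases e : refl hF a = refl hF b
    · rw [e]
    · exact (commute_iff hF hq ha hb e).mpr h
  -- an orthogonal frame at `v`
  obtain ⟨⟨y₁', hy₁', hy₁2, hne, hc⟩⟩ : Nonempty {x : S3 // x ≠ 1 ∧ x * x = 1 ∧ x ≠ refl hF v ∧ Commute (refl hF v) x} := by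
    refine (Nat.card_pos_iff.mp ?_).1
    rw [card_commuting hF hq (refl_ne_one hF hq hv) (refl_sq hF hv)]
    have := three_le_q hF hq
    exact Nat.mul_pos (by omega) (by omega)
  obtain ⟨a, ha, rfl⟩ := exists_point hF hq hy₁' hy₁2
  have hav := (commute_iff hF hq hv ha hne.symm).mp hc
  obtain ⟨b, hb, hbv, hba, -⟩ := exists_third hF hq hv ha hav
  have hva := hf_symm_zero hF hav
  have hvb := hf_symm_zero hF hbv
  have hab := hf_symm_zero hF hba
  have ew := expand hF hv ha hb hva hvb hab w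
  set A := ⟪w, v⟫
  set B := ⟪w, a⟫
  set C := ⟪w, b⟫
  have hnorm : A * conjHom hF A + B * conjHom hF B + C * conjHom hF C = 1 := by
    have h := hw
    rw [ew] at h
    simp only [hf_add_left, hf_add_right hF, hf_smul_left, hf_smul_right hF, hv, ha, hb, hva, hvb, hab, hav, hbv, hba] at h
    linear_combination h
  by_cases hD : B * conjHom hF B + C * conjHom hF C = 0
  · -- the projection is isotropic: use two steps
    have hA : A * conjHom hF A = 1 := by linear_combination hnorm - hD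
    by_cases hC : C * conjHom hF C + 1 = 0
    · let z := conjHom hF B • v - conjHom hF A • a
      have hzb : ⟪z, b⟫ = 0 := by
        simp only [z, hf_sub_left, hf_smul_left, hvb, hab, mul_zero, sub_zero]
      have hzw : ⟪z, w⟫ = 0 := by
        rw [ew]
        simp only [z, hf_sub_left, hf_add_right hF, hf_smul_left, hf_smul_right hF, hv, ha, hva, hvb, hab, hav]
        ring
      have hzz : ⟪z, z⟫ = B * conjHom hF B + 1 := by
        simp only [z, hf_sub_left, hf_sub_right hF, hf_smul_left, hf_smul_right hF, hv, ha, hva, hav, conjHom_conjHom]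
        linear_combination hA
      have hne0 : ⟪z, z⟫ ≠ 0 := by
        rw [hzz]
        intro h
        apply two_ne_zero_of_odd hF hq
        linear_combination hC - hD + h
      obtain ⟨c, -, hc1⟩ := exists_unit hF hne0
      have hcb : ⟪c • z, b⟫ = 0 := by rw [hf_smul_left, hzb, mul_zero]
      have hwc : ⟪w, c • z⟫ = 0 := hf_symm_zero hF (by rw [hf_smul_left, hzw, mul_zero])
      exact ⟨refl hF b, refl hF (c • z), refl_ne_one hF hq hb, refl_sq hF hb, refl_ne_one hF hq hc1, refl_sq hF hc1,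
        hcomm hv hb hbv, hcomm hb hc1 hcb, hcomm hc1 hw hwc⟩
    · let z := conjHom hF C • v - conjHom hF A • b
      have hza : ⟪z, a⟫ = 0 := by
        simp only [z, hf_sub_left, hf_smul_left, hva, hba, mul_zero, sub_zero]
      have hzw : ⟪z, w⟫ = 0 := by
        rw [ew]
        simp only [z, hf_sub_left, hf_add_right hF, hf_smul_left, hf_smul_right hF, hv, hb, hva, hvb, hba, hbv]
        ring
      have hzz : ⟪z, z⟫ = C * conjHom hF C + 1 := by
        simp only [z, hf_sub_left, hf_sub_right hF, hf_smul_left, hf_smul_right hF, hv, hb, hvb, hbv, conjHom_conjHom]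
        linear_combination hA
      obtain ⟨c, -, hc1⟩ := exists_unit hF (show ⟪z, z⟫ ≠ 0 by rw [hzz]; exact hC)
      have hca : ⟪c • z, a⟫ = 0 := by rw [hf_smul_left, hza, mul_zero]
      have hwc : ⟪w, c • z⟫ = 0 := hf_symm_zero hF (by rw [hf_smul_left, hzw, mul_zero])
      exact ⟨refl hF a, refl hF (c • z), refl_ne_one hF hq ha, refl_sq hF ha, refl_ne_one hF hq hc1, refl_sq hF hc1,
        hcomm hv ha hav, hcomm ha hc1 hca, hcomm hc1 hw hwc⟩
  · let y := conjHom hF C • a - conjHom hF B • b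
    have hyv : ⟪y, v⟫ = 0 := by
      simp only [y, hf_sub_left, hf_smul_left, hav, hbv, mul_zero, sub_zero]
    have hyw : ⟪y, w⟫ = 0 := by
      rw [ew]
      simp only [y, hf_sub_left, hf_add_right hF, hf_smul_left, hf_smul_right hF, ha, hb, hav, hbv, hab, hba]
      ring
    have hyy : ⟪y, y⟫ = B * conjHom hF B + C * conjHom hF C := by
      simp only [y, hf_sub_left, hf_sub_right hF, hf_smul_left, hf_smul_right hF, ha, hb, hab, hba, conjHom_conjHom]
      ring
    obtain ⟨c, -, hc1⟩ := exists_unit hF (show ⟪y, y⟫ ≠ 0 by rw [hyy]; exact hD)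
    have hcv : ⟪c • y, v⟫ = 0 := by rw [hf_smul_left, hyv, mul_zero]
    have hwc : ⟪w, c • y⟫ = 0 := hf_symm_zero hF (by rw [hf_smul_left, hyw, mul_zero])
    exact ⟨refl hF (c • y), refl hF (c • y), refl_ne_one hF hq hc1, refl_sq hF hc1, refl_ne_one hF hq hc1, refl_sq hF hc1,
      hcomm hv hc1 hcv, Commute.refl (refl hF (c • y)), hcomm hc1 hw hwc⟩

theorem card_centralizer {t : S3} (ht : t ≠ 1) (ht2 : t * t = 1) :
    Nat.card (Subgroup.centralizer ({t} : Set S3)) = q * (q + 1) * (q ^ 2 - 1) := by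
  classical
  have h3 := three_le_q hF hq
  have hS : Nat.card S3 = q ^ 3 * (q ^ 2 - 1) * (q ^ 3 + 1) := by
    have h := card_SU hF (n := 3) (by norm_num)
    rw [card_GU hF, Finset.prod_range_succ, Finset.prod_range_succ, Finset.prod_range_one] at h
    rw [if_pos (by decide : Even 0), if_neg (by decide : ¬ Even 1), if_pos (by decide : Even 2)] at h
    refine Nat.eq_of_mul_eq_mul_left (show 0 < q + 1 by omega) (h.trans ?_)
    ring
  let f : S3 → {x : S3 // x ≠ 1 ∧ x * x = 1} := fun g => ⟨g * t * g⁻¹,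
    fun e => ht (conj_eq_one_iff.mp e), by
      rw [show g * t * g⁻¹ * (g * t * g⁻¹) = g * (t * t) * g⁻¹ by group, ht2, mul_one, mul_inv_cancel]⟩
  have hfib : ∀ x, Nat.card {g : S3 // f g = x} = Nat.card (Subgroup.centralizer ({t} : Set S3)) := by
    rintro ⟨x, hx, hx2⟩
    obtain ⟨g₀, hg₀⟩ := all_conj hF hq ht ht2 hx hx2
    refine Nat.card_congr
      { toFun := fun g => ⟨g₀⁻¹ * g.1, ?_⟩
        invFun := fun c => ⟨g₀ * c.1, ?_⟩
        left_inv := fun g => Subtype.ext (mul_inv_cancel_left g₀ g.1)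
        right_inv := fun c => Subtype.ext (inv_mul_cancel_left g₀ c.1) }
    · have e : g.1 * t * g.1⁻¹ = g₀ * t * g₀⁻¹ := (congrArg Subtype.val g.2).trans hg₀.symm
      rw [Subgroup.mem_centralizer_singleton_iff]
      calc g₀⁻¹ * g.1 * t = g₀⁻¹ * (g.1 * t * g.1⁻¹) * g.1 := by group
        _ = t * (g₀⁻¹ * g.1) := by rw [e]; group
    · refine Subtype.ext ?_
      show g₀ * c.1 * t * (g₀ * c.1)⁻¹ = x
      rw [← hg₀, mul_assoc g₀, Subgroup.mem_centralizer_singleton_iff.mp c.2]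
      group
  have h := Nat.card_congr (Equiv.sigmaFiberEquiv f)
  rw [Nat.card_sigma, Finset.sum_congr rfl fun x _ => hfib x, Finset.sum_const, Finset.card_univ, smul_eq_mul,
    ← Nat.card_eq_fintype_card, card_involutions hF hq, hS] at h
  have hq2 : q ≤ q ^ 2 := by rw [pow_two]; exact Nat.le_mul_self q
  refine Nat.eq_of_mul_eq_mul_left (show 0 < q ^ 2 * (q ^ 2 - q + 1) from Nat.mul_pos (by positivity) (by omega)) (h.trans ?_)
  have h1 : 1 ≤ q ^ 2 := Nat.one_le_pow _ _ (by omega)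
  zify [h1, hq2]
  ring

end

end Cfsg.Agent.Lib.KnownA.UnitaryInvol
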