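import Cfsg.Agent.Lib.Classical.HermCard
import Mathlib

/-!
Eigenvalues of unitary matrices and their commuting unipotents.
-/

set_option autoImplicit false

namespace Cfsg.Agent.Lib.KnownA.UnitaryRoots

open Matrix Cfsg.Agent.Lib.Classical

variable {K : Type*} [Field K] {ι : Type*} [Fintype ι] [DecidableEq ι]

theorem exists_eigvec {A : Matrix ι ι K} {t : K} (h : t ∈ A.charpoly.roots) :
    ∃ v : ι → K, v ≠ 0 ∧ A *ᵥ v = t • v := by
  have h0 : (Matrix.scalar ι t - A).det = 0 := by
    rw [← Matrix.eval_charpoly]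
    exact (Polynomial.mem_roots'.1 h).2
  obtain ⟨v, hv0, hv⟩ := Matrix.exists_mulVec_eq_zero_iff.2 h0
  refine ⟨v, hv0, ?_⟩
  rw [Matrix.sub_mulVec, sub_eq_zero] at hv
  rw [← hv]
  ext i
  simp [Matrix.scalar_apply, Matrix.mulVec_diagonal]

theorem pow_mulVec {A : Matrix ι ι K} {t : K} {v : ι → K} (h : A *ᵥ v = t • v) :
    ∀ k : ℕ, (A ^ k) *ᵥ v = t ^ k • v
  | 0 => by simp
  | k + 1 => by rw [pow_succ, ← Matrix.mulVec_mulVec, h, Matrix.mulVec_smul, pow_mulVec h k, smul_smul, pow_succ']

/-- With as many simple eigenvalues as the dimension, a commuting matrix of order dividing `p` is trivial. -/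
theorem eq_one_of_commute {p : ℕ} [Fact p.Prime] [CharP K p] {A U : Matrix ι ι K}
    (hcard : A.charpoly.roots.card = Fintype.card ι) (hnd : A.charpoly.roots.Nodup)
    (hc : Commute A U) (hU : U ^ p = 1) : U = 1 := by
  classical
  set s := A.charpoly.roots.toFinset
  have hs : Fintype.card s = Fintype.card ι := by
    rw [Fintype.card_coe, Multiset.toFinset_card_of_nodup hnd, hcard]
  choose v hv0 hv using fun t : s => exists_eigvec (A := A) (Multiset.mem_toFinset.1 t.2)
  have hli : LinearIndependent K v := by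
    refine Module.End.eigenvectors_linearIndependent' (Matrix.toLin' A) (fun t : s => (t : K))
      Subtype.coe_injective v fun t => ?_
    refine Module.End.hasEigenvector_iff.2 ⟨Module.End.mem_eigenspace_iff.2 ?_, hv0 t⟩
    rw [Matrix.toLin'_apply, hv]
  have hspan : Submodule.span K (Set.range v) = ⊤ :=
    hli.span_eq_top_of_card_eq_finrank' (by rw [hs, Module.finrank_fintype_fun_eq_card])
  have hfix : ∀ t : s, U *ᵥ v t = v t := by
    intro t
    have hw : A *ᵥ (U *ᵥ v t) = (t : K) • (U *ᵥ v t) := by
      rw [Matrix.mulVec_mulVec, hc.eq, ← Matrix.mulVec_mulVec, hv, Matrix.mulVec_smul]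
    have hmem : U *ᵥ v t ∈ Submodule.span K (Set.range v) := by rw [hspan]; trivial
    obtain ⟨c, hc'⟩ := (Submodule.mem_span_range_iff_exists_fun K).1 hmem
    have hzero : ∑ u : s, (c u * ((u : K) - t)) • v u = 0 := by
      have h1 : A *ᵥ (U *ᵥ v t) = ∑ u : s, (c u * u) • v u := by
        rw [← hc', Matrix.mulVec_sum]
        exact Finset.sum_congr rfl fun u _ => by rw [Matrix.mulVec_smul, hv, smul_smul]
      simp only [mul_sub, sub_smul, Finset.sum_sub_distrib]
      rw [← h1, hw, ← hc', Finset.smul_sum, sub_eq_zero]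
      exact Finset.sum_congr rfl fun u _ => by rw [smul_smul, mul_comm]
    have hU1 : U *ᵥ v t = c t • v t := by
      rw [← hc']
      refine Finset.sum_eq_single t (fun u _ hu => ?_) (by simp)
      have := Fintype.linearIndependent_iff.1 hli _ hzero u
      rcases mul_eq_zero.1 this with h | h
      · rw [h, zero_smul]
      · exact absurd (Subtype.ext (sub_eq_zero.1 h)) hu
    have hp : (c t) ^ p = 1 := by
      have := pow_mulVec hU1 p
      rw [hU, Matrix.one_mulVec] at this
      exact smul_left_injective K (hv0 t) (by simpa using this.symm)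
    have h1 : c t = 1 := by
      refine frobenius_inj K p ?_
      simp [frobenius_def, hp]
    rw [hU1, h1, one_smul]
  have : Matrix.toLin' U = Matrix.toLin' (1 : Matrix ι ι K) := by
    refine LinearMap.ext_on_range hspan fun t => ?_
    rw [Matrix.toLin'_apply, hfix, Matrix.toLin'_one]
    rfl
  exact Matrix.toLin'.injective this

/-- A nontrivial matrix of order dividing a prime other than the characteristic has a nontrivial eigenvalue. -/
theorem exists_root_orderOf [IsAlgClosed K] {p r : ℕ} [Fact p.Prime] [CharP K p] (hr : r.Prime) (hrp : r ≠ p)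
    {A : Matrix ι ι K} (hA : A ^ r = 1) (hA1 : A ≠ 1) :
    ∃ t ∈ A.charpoly.roots, orderOf t = r := by
  haveI := Fact.mk hr
  by_contra hno
  simp only [not_exists, not_and] at hno
  have hone : ∀ t ∈ A.charpoly.roots, t = 1 := by
    intro t ht
    obtain ⟨v, hv0, hv⟩ := exists_eigvec ht
    have h1 : t ^ r = 1 := by
      have := pow_mulVec hv r
      rw [hA, Matrix.one_mulVec] at this
      exact smul_left_injective K hv0 (by simpa using this.symm)
    by_contra hne
    exact hno t ht (orderOf_eq_prime h1 hne)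
  have hpoly : A.charpoly = (Polynomial.X - Polynomial.C 1) ^ Fintype.card ι := by
    have h := (IsAlgClosed.splits A.charpoly).eq_prod_roots_of_monic A.charpoly_monic
    have hcard : A.charpoly.roots.card = Fintype.card ι := by
      rw [← (IsAlgClosed.splits A.charpoly).natDegree_eq_card_roots, Matrix.charpoly_natDegree_eq_dim]
    rw [h, Multiset.eq_replicate.2 ⟨hcard, hone⟩, Multiset.map_replicate, Multiset.prod_replicate]
  have hnil : (A - 1) ^ Fintype.card ι = 0 := by
    have := Matrix.aeval_self_charpoly A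
    rw [hpoly] at this
    simpa using this
  have hple : Fintype.card ι ≤ p ^ Fintype.card ι :=
    (Nat.lt_pow_self (Fact.out : p.Prime).one_lt).le
  cases isEmpty_or_nonempty ι with
  | inl h => exact hA1 (Subsingleton.elim _ _)
  | inr h =>
  haveI : CharP (Matrix ι ι K) p := inferInstance
  have hpow : A ^ p ^ Fintype.card ι = 1 := by
    have h0 : (A - 1) ^ p ^ Fintype.card ι = 0 := pow_eq_zero_of_le hple hnil
    rw [sub_pow_char_pow_of_commute p (Fintype.card ι) (Commute.one_right A), one_pow, sub_eq_zero] at h0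
    exact h0
  have hco : Nat.Coprime r (p ^ Fintype.card ι) :=
    Nat.Coprime.pow_right _ ((Nat.coprime_primes hr (Fact.out : p.Prime)).2 hrp)
  exact hA1 (orderOf_eq_one_iff.1 (Nat.eq_one_of_dvd_coprimes hco (orderOf_dvd_of_pow_eq_one hA)
    (orderOf_dvd_of_pow_eq_one hpow)))

/-- The eigenvalues of a unitary matrix are stable under `t ↦ (t ^ q)⁻¹`. -/
theorem inv_pow_mem_roots {A : Matrix ι ι K} (φ : K →+* K) (hA : Aᵀ * A.map φ = 1) {t : K} (ht0 : t ≠ 0)
    (ht : t ∈ A.charpoly.roots) : (φ t)⁻¹ ∈ A.charpoly.roots := by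
  have h0 : (Matrix.scalar ι t - A).det = 0 := by
    rw [← Matrix.eval_charpoly]
    exact (Polynomial.mem_roots'.1 ht).2
  have h1 : (φ t • (1 : Matrix ι ι K) - A.map φ).det = 0 := by
    have h := congrArg φ h0
    rw [map_zero, RingHom.map_det] at h
    rw [← h]
    congr 1
    ext i j
    by_cases hij : i = j
    · subst hij; simp [Matrix.scalar_apply]
    · simp [Matrix.scalar_apply, hij]
  have h2 : (φ t • A - 1).det = 0 := by
    have h : (Aᵀ * (φ t • (1 : Matrix ι ι K) - A.map φ)).det = 0 := by
      rw [Matrix.det_mul, h1, mul_zero]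
    rw [mul_sub, hA, Matrix.mul_smul, mul_one, ← Matrix.det_transpose, Matrix.transpose_sub,
      Matrix.transpose_smul, Matrix.transpose_transpose, Matrix.transpose_one] at h
    exact h
  have hφ : φ t ≠ 0 := (map_ne_zero φ).2 ht0
  refine Polynomial.mem_roots'.2 ⟨(A.charpoly_monic).ne_zero, ?_⟩
  rw [Polynomial.IsRoot.def, Matrix.eval_charpoly]
  have e : φ t • A - 1 = (-φ t) • (Matrix.scalar ι (φ t)⁻¹ - A) := by
    ext i j
    by_cases hij : i = j
    · subst hij; simp [Matrix.scalar_apply]; field_simp; ring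
    · simp [Matrix.scalar_apply, hij]
  rw [e, Matrix.det_smul, mul_eq_zero] at h2
  rcases h2 with h2 | h2
  · exact absurd h2 (pow_ne_zero _ (neg_ne_zero.2 hφ))
  · exact h2

variable {F : Type*} [Field F] [Fintype F] {q : ℕ}

/-- An element of prime order `r` commuting with an element of order `p` bounds the order of `-q` modulo `r`. -/
theorem orderOf_neg_le (p : ℕ) [Fact p.Prime] [CharP F p] (hF : Fintype.card F = q ^ 2) {m r : ℕ} (hm : 1 ≤ m)
    (hr : r.Prime) (hrp : r ≠ p) (hrq : ¬ r ∣ q + 1) (hr2 : ¬ r ∣ q ^ 2 - 1) {B U : Cfsg.SU m F q}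
    (hB : orderOf B = r) (hU : orderOf U = p) (hc : Commute B U) :
    orderOf (-(q : ZMod r)) + 2 ≤ m := by
  classical
  haveI := Fact.mk hr
  let K := AlgebraicClosure F
  haveI : CharP K p := charP_of_injective_algebraMap (algebraMap F K).injective p
  haveI : ExpChar K p := ExpChar.prime Fact.out
  let ι' : F →+* K := algebraMap F K
  let f : Cfsg.SU m F q →* Matrix (Fin m) (Fin m) K :=
    ι'.mapMatrix.toMonoidHom.comp ((Cfsg.slToMat m F).comp (Cfsg.SU m F q).subtype)
  have hinj : Function.Injective f := by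
    intro x y h
    apply Subtype.ext
    apply Subtype.ext
    ext i j
    exact ι'.injective (congrFun (congrFun h i) j)
  set A := f B with hAdef
  have hA : A ^ r = 1 := by rw [← map_pow, ← hB, pow_orderOf_eq_one, map_one]
  have hA1 : A ≠ 1 := fun h => hr.ne_one (by
    rw [← hB, orderOf_eq_one_iff]; exact hinj (by rw [map_one]; exact h))
  obtain ⟨n, hn⟩ : ∃ n, q = p ^ n := by
    obtain ⟨n, hn, hc'⟩ := FiniteField.card F p
    have : q ∣ p ^ (n : ℕ) := hc' ▸ hF ▸ Dvd.intro_left q (sq q).symm
    obtain ⟨i, -, hi⟩ := (Nat.dvd_prime_pow (Fact.out : p.Prime)).1 this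
    exact ⟨i, hi⟩
  let φ : K →+* K := iterateFrobenius K p n
  have hφ : ∀ x, φ x = x ^ q := fun x => by simp [φ, iterateFrobenius_def, hn]
  have hun : Aᵀ * A.map φ = 1 := by
    have h := congrArg ι'.mapMatrix ((mem_SU_iff hF (B : Matrix.SpecialLinearGroup (Fin m) F)).1 B.2)
    rw [map_mul, map_one] at h
    rw [← h]
    congr 1
    ext i j
    show φ (ι' _) = ι' (conjHom hF _)
    rw [hφ, conjHom_apply, map_pow]
    rfl
  obtain ⟨t, ht, hto⟩ := exists_root_orderOf hr hrp hA hA1
  have ht0 : t ≠ 0 := by
    intro h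
    have := pow_orderOf_eq_one t
    rw [hto, h, zero_pow hr.ne_zero] at this
    exact zero_ne_one this
  let g : ℕ → K := fun i => t ^ ((-(q : ℤ)) ^ i)
  have hg : ∀ i, g i ∈ A.charpoly.roots := by
    intro i
    induction i with
    | zero => simpa [g] using ht
    | succ i ih =>
      have := inv_pow_mem_roots φ hun (zpow_ne_zero _ ht0) ih
      rw [hφ, ← zpow_natCast, ← _root_.zpow_mul, ← _root_.zpow_neg] at this
      show t ^ ((-(q : ℤ)) ^ (i + 1)) ∈ _
      rwa [pow_succ, mul_neg]
  set e := orderOf (-(q : ZMod r)) with he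
  have hqr : (q : ZMod r) ≠ 0 := by
    rw [Ne, ZMod.natCast_eq_zero_iff, hn]
    exact fun h => hrp ((Nat.prime_dvd_prime_iff_eq hr Fact.out).1 (hr.dvd_of_dvd_pow h))
  have hord : ∀ a : ℤ, t ^ a = 1 ↔ (a : ZMod r) = 0 := fun a => by
    rw [ZMod.intCast_zmod_eq_zero_iff_dvd, ← hto]
    let u : Kˣ := Units.mk0 t ht0
    have hu : orderOf u = orderOf t := by rw [← orderOf_units]; rfl
    rw [← hu, orderOf_dvd_iff_zpow_eq_one, Units.ext_iff, Units.val_zpow_eq_zpow_val]
    rfl
  have hinjg : Set.InjOn g (Finset.range e : Set ℕ) := by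
    intro i hi j hj hij
    rw [Finset.coe_range, Set.mem_Iio] at hi hj
    have h : t ^ ((-(q : ℤ)) ^ i - (-(q : ℤ)) ^ j) = 1 := by
      rw [zpow_sub₀ ht0]
      exact (div_eq_one_iff_eq (zpow_ne_zero _ ht0)).2 hij
    rw [hord] at h
    push_cast at h
    rw [sub_eq_zero] at h
    exact pow_injOn_Iio_orderOf hi hj h
  have he3 : 3 ≤ e := by
    have hpos : 0 < e := by
      rw [he, orderOf_pos_iff]
      exact isOfFinOrder_iff_pow_eq_one.2 ⟨r - 1, by have := hr.two_le; omega,
        ZMod.pow_card_sub_one_eq_one (neg_ne_zero.2 hqr)⟩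
    by_contra hlt
    have h2 : (q : ZMod r) ^ 2 = 1 := by
      have : e = 1 ∨ e = 2 := by omega
      rcases this with h | h
      · have h' := orderOf_eq_one_iff.1 h
        rw [← neg_sq, h', one_pow]
      · have h' := pow_orderOf_eq_one (-(q : ZMod r))
        rw [← he, h, neg_sq] at h'
        exact h'
    refine hr2 ((ZMod.natCast_eq_zero_iff _ _).1 ?_)
    rw [Nat.cast_sub (Nat.one_le_pow _ _ (by have := two_le_q hF; omega)), Nat.cast_pow, h2, Nat.cast_one, sub_self]
  have hcard : A.charpoly.roots.card = m := by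
    rw [← (IsAlgClosed.splits A.charpoly).natDegree_eq_card_roots, Matrix.charpoly_natDegree_eq_dim, Fintype.card_fin]
  set O : Multiset K := ((Finset.range e).image g).val with hO
  have hOle : O ≤ A.charpoly.roots := by
    rw [hO, Multiset.le_iff_subset ((Finset.range e).image g).nodup]
    intro x hx
    obtain ⟨i, -, rfl⟩ := Finset.mem_image.1 (Finset.mem_def.2 hx)
    exact hg i
  obtain ⟨rest, hrest⟩ := Multiset.le_iff_exists_add.1 hOle
  have hOcard : O.card = e := by
    show ((Finset.range e).image g).card = e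
    rw [Finset.card_image_of_injOn hinjg, Finset.card_range]
  have hprod : O.prod = 1 := by
    have h1 : O.prod = ∏ i ∈ Finset.range e, g i := by
      show (((Finset.range e).image g).val).prod = _
      exact (Finset.prod_val ((Finset.range e).image g)).trans (Finset.prod_image hinjg)
    have h2 : ∀ k, ∏ i ∈ Finset.range k, g i = t ^ (∑ i ∈ Finset.range k, (-(q : ℤ)) ^ i) := by
      intro k
      induction k with
      | zero => simp
      | succ k ih => rw [Finset.prod_range_succ, Finset.sum_range_succ, ih, zpow_add₀ ht0]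
    rw [h1, h2, hord]
    push_cast
    have hg := geom_sum_mul (-(q : ZMod r)) e
    rw [pow_orderOf_eq_one, sub_self, mul_eq_zero] at hg
    refine hg.resolve_right fun h => hrq ((ZMod.natCast_eq_zero_iff _ _).1 ?_)
    rw [Nat.cast_add, Nat.cast_one]
    rw [sub_eq_zero] at h
    rw [← h, add_neg_cancel]
  by_contra hlt
  have hem : e ≤ m := by rw [← hcard, hrest, Multiset.card_add, hOcard]; omega
  have hrc : rest.card ≤ 1 := by
    have := congrArg Multiset.card hrest
    rw [hcard, Multiset.card_add, hOcard] at this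
    omega
  have hnd : A.charpoly.roots.Nodup := by
    rw [hrest, Multiset.nodup_add]
    refine ⟨((Finset.range e).image g).nodup, ?_, ?_⟩
    · rcases Nat.eq_zero_or_pos rest.card with h | h
      · rw [Multiset.card_eq_zero.1 h]; exact Multiset.nodup_zero
      · obtain ⟨c, rfl⟩ := Multiset.card_eq_one.1 (by omega : rest.card = 1)
        exact Multiset.nodup_singleton c
    · rw [Multiset.disjoint_right]
      intro c hc
      obtain rfl : rest = {c} := by
        obtain ⟨d, rfl⟩ := Multiset.card_eq_one.1 (show rest.card = 1 by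
          have := Multiset.card_pos_iff_exists_mem.2 ⟨c, hc⟩; omega)
        rw [Multiset.mem_singleton.1 hc]
      have hdet : A.det = 1 := by
        show (ι'.mapMatrix ((Cfsg.slToMat m F) (B : Matrix.SpecialLinearGroup (Fin m) F))).det = 1
        rw [← RingHom.map_det]
        rw [show ((Cfsg.slToMat m F) (B : Matrix.SpecialLinearGroup (Fin m) F)).det = 1 from
          (B : Matrix.SpecialLinearGroup (Fin m) F).2, map_one]
      rw [Matrix.det_eq_prod_roots_charpoly, hrest, Multiset.prod_add, hprod, one_mul,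
        Multiset.prod_singleton] at hdet
      intro hcO
      rw [hO] at hcO
      obtain ⟨i, -, hi⟩ := Finset.mem_image.1 (Finset.mem_def.2 hcO)
      rw [hdet] at hi
      have h := (hord _).1 hi
      push_cast at h
      exact pow_ne_zero i (neg_ne_zero.2 hqr) h
  have hone : f U = 1 := eq_one_of_commute (p := p) (by rw [hcard, Fintype.card_fin]) hnd (hc.map f)
    (by rw [← map_pow, ← hU, pow_orderOf_eq_one, map_one])
  rw [← map_one f] at hone
  rw [hinj hone, orderOf_one] at hU
  exact (Fact.out : p.Prime).ne_one hU.symm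

end Cfsg.Agent.Lib.KnownA.UnitaryRoots
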