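import Mathlib

/-! A nontrivial word is not a law (not even a projective law) in `SL₂` of a large finite field. -/

set_option autoImplicit false

namespace Cfsg.Agent.Lib.KnownA

open Polynomial

section
variable {R : Type*} [CommRing R]

/-- The polynomial attached to the `i`-th generator. -/
noncomputable def wsT (i : ℕ) : R[X] := X ^ (i + 1)

/-- The image of the `i`-th generator. -/
noncomputable def wsGen (i : ℕ) : Matrix.SpecialLinearGroup (Fin 2) R[X] :=
  ⟨!![1 + wsT i * wsT i, wsT i; wsT i, 1], by simp [Matrix.det_fin_two]⟩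

/-- Row vector times the image of a letter. -/
noncomputable def wsStep (v : R[X] × R[X]) (a : ℕ × Bool) : R[X] × R[X] :=
  if a.2 then (v.1 + wsT a.1 * (v.2 + wsT a.1 * v.1), v.2 + wsT a.1 * v.1)
  else (v.1 - wsT a.1 * v.2, v.2 - wsT a.1 * (v.1 - wsT a.1 * v.2))

/-- The invariant carried along a reduced word. -/
def WsInv (a : ℕ × Bool) (v : R[X] × R[X]) : Prop :=
  if a.2 then ∃ x y : R[X], x.degree < y.degree ∧ v = (x + wsT a.1 * y, y)
  else ∃ x y : R[X], y.degree < x.degree ∧ v = (x, y - wsT a.1 * x)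

end

section
variable {F : Type*} [Field F]

theorem wsT_natDegree (i : ℕ) : (wsT i : F[X]).degree = ((i + 1 : ℕ) : WithBot ℕ) := degree_X_pow _

theorem degree_lt_add_mul {x y c : F[X]} (hc : 0 < c.degree) (h : y.degree < x.degree) :
    x.degree < (y + c * x).degree := by
  have hx : x ≠ 0 := fun h0 => by simp [h0] at h
  have hc0 : c ≠ 0 := fun h0 => by simp [h0] at hc
  have h2 : x.degree < (c * x).degree := by
    rw [degree_mul, degree_eq_natDegree hx, degree_eq_natDegree hc0] at *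
    norm_cast at hc ⊢
    omega
  rw [degree_add_eq_right_of_degree_lt (h.trans h2)]
  exact h2

theorem wsT_pos (i : ℕ) : 0 < (wsT i : F[X]).degree := by
  rw [wsT_natDegree]; exact_mod_cast Nat.succ_pos i

theorem wsT_sub_pos {i j : ℕ} (h : i ≠ j) : 0 < ((wsT i : F[X]) - wsT j).degree := by
  rcases lt_or_gt_of_ne h with hij | hij
  · rw [degree_sub_eq_right_of_degree_lt (by rw [wsT_natDegree, wsT_natDegree]; exact_mod_cast Nat.succ_lt_succ hij)]
    exact wsT_pos j
  · rw [degree_sub_eq_left_of_degree_lt (by rw [wsT_natDegree, wsT_natDegree]; exact_mod_cast Nat.succ_lt_succ hij)]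
    exact wsT_pos i

theorem wsInv_of_pos {x y : F[X]} (i : ℕ) (h : y.degree < x.degree) :
    WsInv (i, true) (wsStep (x, y) (i, true)) :=
  ⟨x, y + wsT i * x, degree_lt_add_mul (wsT_pos i) h, rfl⟩

theorem wsInv_step {a b : ℕ × Bool} (hab : a.1 = b.1 → a.2 = b.2) {v : F[X] × F[X]}
    (hv : WsInv a v) : WsInv b (wsStep v b) := by
  obtain ⟨j, s⟩ := a
  obtain ⟨i, s'⟩ := b
  cases s <;> cases s'
  · obtain ⟨x, y, h, rfl⟩ := hv
    have h1 : x.degree < (y + -wsT j * x).degree :=
      degree_lt_add_mul (by rw [degree_neg]; exact wsT_pos j) h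
    refine ⟨x - wsT i * (y - wsT j * x), y - wsT j * x, ?_, rfl⟩
    rw [show y - wsT j * x = y + -wsT j * x by ring,
      show x - wsT i * (y + -wsT j * x) = x + -wsT i * (y + -wsT j * x) by ring]
    exact degree_lt_add_mul (by rw [degree_neg]; exact wsT_pos i) h1
  · obtain ⟨x, y, h, rfl⟩ := hv
    have hij : i ≠ j := fun e => by simpa using hab e.symm
    refine ⟨x, y - wsT j * x + wsT i * x, ?_, rfl⟩
    rw [show y - wsT j * x + wsT i * x = y + (wsT i - wsT j) * x by ring]
    exact degree_lt_add_mul (wsT_sub_pos hij) h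
  · obtain ⟨x, y, h, rfl⟩ := hv
    have hij : j ≠ i := fun e => by simpa using hab e
    refine ⟨x + wsT j * y - wsT i * y, y, ?_, rfl⟩
    rw [show x + wsT j * y - wsT i * y = x + (wsT j - wsT i) * y by ring]
    exact degree_lt_add_mul (wsT_sub_pos hij) h
  · obtain ⟨x, y, h, rfl⟩ := hv
    exact wsInv_of_pos i (degree_lt_add_mul (wsT_pos j) h)

theorem wsInv_first (b : ℕ × Bool) : WsInv b (wsStep ((1 : F[X]), 0) b) := by
  obtain ⟨i, s⟩ := b
  cases s
  · exact ⟨1, 0, by simp, by simp [wsStep]⟩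
  · exact wsInv_of_pos i (by simp)

theorem wsInv_foldl : ∀ (L : List (ℕ × Bool)) (a : ℕ × Bool) (v : F[X] × F[X]),
    FreeGroup.IsReduced (a :: L) → WsInv a v → ∃ b, WsInv b (L.foldl wsStep v)
  | [], a, v, _, hv => ⟨a, hv⟩
  | b :: L, a, v, hred, hv => by
    rw [FreeGroup.isReduced_cons_cons] at hred
    exact wsInv_foldl L b _ hred.2 (wsInv_step hred.1 hv)

theorem wsInv_end {b : ℕ × Bool} {v : F[X] × F[X]} (h : WsInv b v) : v.2 ≠ 0 := by
  obtain ⟨i, s⟩ := b
  cases s
  · obtain ⟨x, y, h, rfl⟩ := h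
    have h1 := degree_lt_add_mul (c := -wsT i) (by rw [degree_neg]; exact wsT_pos i) h
    rw [show y + -wsT i * x = y - wsT i * x by ring] at h1
    intro h0
    simp only at h0
    simp [h0] at h1
  · obtain ⟨x, y, h, rfl⟩ := h
    intro h0
    simp only at h0
    simp [h0] at h

end

section
variable {R : Type*} [CommRing R]

theorem wsGen_coe (i : ℕ) : ((wsGen i : Matrix.SpecialLinearGroup (Fin 2) R[X]) :
    Matrix (Fin 2) (Fin 2) R[X]) = !![1 + wsT i * wsT i, wsT i; wsT i, 1] := rfl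

theorem wsGen_inv_coe (i : ℕ) : (((wsGen i)⁻¹ : Matrix.SpecialLinearGroup (Fin 2) R[X]) :
    Matrix (Fin 2) (Fin 2) R[X]) = !![1, -wsT i; -wsT i, 1 + wsT i * wsT i] := by
  rw [Matrix.SpecialLinearGroup.coe_inv, wsGen_coe, Matrix.adjugate_fin_two_of]

theorem wsGen_row (M : Matrix.SpecialLinearGroup (Fin 2) R[X]) (a : ℕ × Bool) :
    (((M * cond a.2 (wsGen a.1) (wsGen a.1)⁻¹ : Matrix.SpecialLinearGroup (Fin 2) R[X]) :
        Matrix (Fin 2) (Fin 2) R[X]) 0 0,
      ((M * cond a.2 (wsGen a.1) (wsGen a.1)⁻¹ : Matrix.SpecialLinearGroup (Fin 2) R[X]) :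
        Matrix (Fin 2) (Fin 2) R[X]) 0 1) =
      wsStep ((M : Matrix (Fin 2) (Fin 2) R[X]) 0 0, (M : Matrix (Fin 2) (Fin 2) R[X]) 0 1) a := by
  obtain ⟨i, s⟩ := a
  cases s
  · simp only [cond_false, Matrix.SpecialLinearGroup.coe_mul, wsGen_inv_coe]
    simp [wsStep, Matrix.mul_apply, Fin.sum_univ_two]
    constructor <;> ring
  · simp only [cond_true, Matrix.SpecialLinearGroup.coe_mul, wsGen_coe]
    simp [wsStep, Matrix.mul_apply, Fin.sum_univ_two]
    constructor <;> ring

theorem lift_row : ∀ (L : List (ℕ × Bool)) (M : Matrix.SpecialLinearGroup (Fin 2) R[X]),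
    (((M * (L.map fun a => cond a.2 (wsGen a.1) (wsGen a.1)⁻¹).prod :
        Matrix.SpecialLinearGroup (Fin 2) R[X]) : Matrix (Fin 2) (Fin 2) R[X]) 0 0,
      ((M * (L.map fun a => cond a.2 (wsGen a.1) (wsGen a.1)⁻¹).prod :
        Matrix.SpecialLinearGroup (Fin 2) R[X]) : Matrix (Fin 2) (Fin 2) R[X]) 0 1) =
      L.foldl wsStep ((M : Matrix (Fin 2) (Fin 2) R[X]) 0 0, (M : Matrix (Fin 2) (Fin 2) R[X]) 0 1)
  | [], M => by simp
  | a :: L, M => by
    rw [List.map_cons, List.prod_cons, ← mul_assoc, lift_row L, wsGen_row, List.foldl_cons]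

end

theorem lift_entry_ne_zero {F : Type*} [Field F] (w : FreeGroup ℕ) (hw : w ≠ 1) :
    ((FreeGroup.lift (wsGen (R := F)) w : Matrix.SpecialLinearGroup (Fin 2) F[X]) :
      Matrix (Fin 2) (Fin 2) F[X]) 0 1 ≠ 0 := by
  have hne : FreeGroup.toWord w ≠ [] := fun h => hw (FreeGroup.toWord_eq_nil_iff.mp h)
  obtain ⟨a, L, hL⟩ := List.exists_cons_of_ne_nil hne
  have hred : FreeGroup.IsReduced (a :: L) := hL ▸ FreeGroup.isReduced_toWord
  obtain ⟨b, hb⟩ := wsInv_foldl L a _ hred (wsInv_first (F := F) a)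
  have h := lift_row (R := F) (a :: L) 1
  rw [one_mul, ← FreeGroup.lift_mk (f := wsGen (R := F)), ← hL, FreeGroup.mk_toWord] at h
  have h2 := wsInv_end hb
  simp only [Matrix.SpecialLinearGroup.coe_one, Matrix.one_apply_eq,
    Matrix.one_apply_ne (by decide : (0 : Fin 2) ≠ 1), List.foldl_cons, hL] at h
  rw [← h] at h2
  exact h2

/-- For a nontrivial word there is a bound beyond which every finite field has a substitution
into `SL₂` with non-scalar value. -/
theorem exists_word_not_scalar_SL2 (w : FreeGroup ℕ) (hw : w ≠ 1) :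
    ∃ N : ℕ, ∀ (F : Type*) [Field F] [Fintype F], N ≤ Fintype.card F →
      ∃ f : ℕ → Matrix.SpecialLinearGroup (Fin 2) F,
        ((FreeGroup.lift f w : Matrix.SpecialLinearGroup (Fin 2) F) : Matrix (Fin 2) (Fin 2) F) 0 1 ≠ 0 := by
  set P : ℤ[X] := ((FreeGroup.lift (wsGen (R := ℤ)) w : Matrix.SpecialLinearGroup (Fin 2) ℤ[X]) :
      Matrix (Fin 2) (Fin 2) ℤ[X]) 0 1 with hP
  refine ⟨P.natDegree + 1, fun F _ _ hcard => ?_⟩
  set c : ℤ →+* F := Int.castRingHom F
  have hmap : (Matrix.SpecialLinearGroup.map (Polynomial.mapRingHom c)).comp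
      (FreeGroup.lift (wsGen (R := ℤ))) = FreeGroup.lift (wsGen (R := F)) := by
    refine FreeGroup.ext_hom _ _ fun i => ?_
    simp only [MonoidHom.comp_apply, FreeGroup.lift_apply_of]
    ext r s
    rw [Matrix.SpecialLinearGroup.map_apply_coe, wsGen_coe, wsGen_coe]
    fin_cases r <;> fin_cases s <;> simp [wsT]
  have h0 := lift_entry_ne_zero (F := F) w hw
  rw [← hmap] at h0
  change (Polynomial.mapRingHom c) P ≠ 0 at h0
  have hdeg : ((Polynomial.mapRingHom c) P).natDegree < Fintype.card F :=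
    lt_of_le_of_lt natDegree_map_le (by omega)
  obtain ⟨t, ht⟩ : ∃ t : F, ((Polynomial.mapRingHom c) P).eval t ≠ 0 := by
    by_contra hcon
    push Not at hcon
    exact h0 (eq_zero_of_natDegree_lt_card_of_eval_eq_zero _
      (f := (id : F → F)) Function.injective_id hcon hdeg)
  set e : F[X] →+* F := Polynomial.evalRingHom t
  refine ⟨fun i => Matrix.SpecialLinearGroup.map e (wsGen i), ?_⟩
  have hev : (Matrix.SpecialLinearGroup.map e).comp (FreeGroup.lift (wsGen (R := F))) =
      FreeGroup.lift fun i => Matrix.SpecialLinearGroup.map e (wsGen i) := by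
    refine FreeGroup.ext_hom _ _ fun i => ?_
    simp
  rw [← hev, ← hmap]
  exact ht

theorem not_mem_center_of_entry {n : Type*} [DecidableEq n] [Fintype n] {R : Type*} [CommRing R]
    {A : Matrix.SpecialLinearGroup n R} {i j : n} (hij : i ≠ j) (h : (A : Matrix n n R) i j ≠ 0) :
    A ∉ Subgroup.center (Matrix.SpecialLinearGroup n R) := by
  intro hA
  obtain ⟨r, -, hr⟩ := Matrix.SpecialLinearGroup.mem_center_iff.mp hA
  apply h
  rw [← hr]
  simp [Matrix.scalar_apply, hij]

end Cfsg.Agent.Lib.KnownA
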