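import Mathlib
import Cfsg.Agent.Lib.KnownA.WordSL2

set_option autoImplicit false

namespace Cfsg.Agent.Lib.KnownA

/-- `σ ↦ σ ⊕ σ` is an embedding of a symmetric group into an alternating group. -/
theorem exists_injective_hom_alternatingGroup (G : Type*) [Group G] [Fintype G] (n : ℕ)
    (hn : 2 * Fintype.card G ≤ n) :
    ∃ φ : G →* alternatingGroup (Fin n), Function.Injective φ := by
  classical
  have hc : Fintype.card (G ⊕ G) ≤ Fintype.card (Fin n) := by
    simp only [Fintype.card_sum, Fintype.card_fin]; omega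
  obtain ⟨e⟩ := Function.Embedding.nonempty_of_card_le hc
  let ψ : G →* Equiv.Perm (Fin n) :=
    (Equiv.Perm.viaEmbeddingHom e).comp ((Equiv.Perm.sumCongrHom G G).comp
      ((MulAction.toPermHom G G).prod (MulAction.toPermHom G G)))
  have hs : ∀ g, ψ g ∈ alternatingGroup (Fin n) := by
    intro g
    rw [Equiv.Perm.mem_alternatingGroup]
    simp only [ψ, MonoidHom.comp_apply, Equiv.Perm.viaEmbeddingHom_apply]
    rw [Equiv.Perm.viaEmbedding, Equiv.Perm.sign_extendDomain, Equiv.Perm.sumCongrHom_apply,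
      Equiv.Perm.sign_sumCongr]
    exact Int.units_mul_self _
  refine ⟨ψ.codRestrict _ hs, fun a b hab => ?_⟩
  have h1 : ψ a = ψ b := congrArg Subtype.val hab
  have h2 := Equiv.Perm.viaEmbeddingHom_injective e h1
  have h3 := congrArg Prod.fst (Equiv.Perm.sumCongrHom_injective h2)
  exact MulAction.toPerm_injective (β := G) h3

theorem lift_hom_apply {α G H : Type*} [Group G] [Group H] (φ : G →* H) (f : α → G)
    (w : FreeGroup α) : FreeGroup.lift (fun i => φ (f i)) w = φ (FreeGroup.lift f w) := by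
  have h : FreeGroup.lift (fun i => φ (f i)) = φ.comp (FreeGroup.lift f) :=
    FreeGroup.ext_hom _ _ fun i => by simp
  rw [h, MonoidHom.comp_apply]

/-- A nontrivial word is not a law of some finite group. -/
theorem exists_finite_group_word_ne_one (w : FreeGroup ℕ) (hw : w ≠ 1) :
    ∃ (G : Type) (_ : Group G) (_ : Fintype G) (f : ℕ → G), FreeGroup.lift f w ≠ 1 := by
  obtain ⟨N, hN⟩ := exists_word_not_scalar_SL2 w hw
  obtain ⟨p, hp, hpp⟩ := Nat.exists_infinite_primes N
  haveI := Fact.mk hpp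
  obtain ⟨f, hf⟩ := hN (ZMod p) (by rwa [ZMod.card])
  exact ⟨_, _, Fintype.ofFinite _, f, fun h => hf (by rw [h]; simp)⟩

/-- A nontrivial word is a law in only finitely many alternating groups. -/
theorem exists_word_ne_one_alternating (w : FreeGroup ℕ) (hw : w ≠ 1) :
    ∃ N : ℕ, ∀ n : ℕ, N ≤ n → ∃ f : ℕ → alternatingGroup (Fin n), FreeGroup.lift f w ≠ 1 := by
  obtain ⟨G, _, _, f, hf⟩ := exists_finite_group_word_ne_one w hw
  refine ⟨2 * Fintype.card G, fun n hn => ?_⟩
  obtain ⟨φ, hφ⟩ := exists_injective_hom_alternatingGroup G n hn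
  refine ⟨fun i => φ (f i), fun h => hf (hφ ?_)⟩
  rw [← lift_hom_apply, h, map_one]

end Cfsg.Agent.Lib.KnownA
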