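import Mathlib
import Cfsg.Agent.Lib.KnownA.WordAlternating
import Cfsg.Agent.Lib.KnownA.ClassicalEmbeddings

/-! A nontrivial word is not a law in a big classical group. -/

set_option autoImplicit false

namespace Cfsg.Agent.Lib.KnownA

open Matrix
open scoped MatrixGroups

/-- `w` is not a law of `G`. -/
def NotLaw (w : FreeGroup ℕ) (G : Type*) [Group G] : Prop := ∃ f : ℕ → G, FreeGroup.lift f w ≠ 1

theorem NotLaw.of_mulEquiv {w : FreeGroup ℕ} {G H : Type*} [Group G] [Group H] (h : NotLaw w H)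
    (e : G ≃* H) : NotLaw w G := by
  obtain ⟨f, hf⟩ := h
  refine ⟨fun i => e.symm (f i), fun h1 => hf ?_⟩
  have h2 := lift_hom_apply e.symm.toMonoidHom f w
  change FreeGroup.lift (fun i => e.symm (f i)) w = e.symm _ at h2
  rw [h1] at h2
  have h3 := congrArg e h2.symm
  rwa [e.apply_symm_apply, map_one] at h3

/-- A value outside the centre survives in the central quotient of any overgroup. -/
theorem notLaw_quotient_center {w : FreeGroup ℕ} {H X : Type*} [Group H] [Group X] (φ : H →* X)
    (hφ : Function.Injective φ) (h : ∃ f : ℕ → H, FreeGroup.lift f w ∉ Subgroup.center H) :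
    NotLaw w (X ⧸ Subgroup.center X) := by
  obtain ⟨f, hf⟩ := h
  refine ⟨fun i => QuotientGroup.mk' (Subgroup.center X) (φ (f i)), fun h1 => hf ?_⟩
  rw [lift_hom_apply, lift_hom_apply, QuotientGroup.mk'_apply, QuotientGroup.eq_one_iff,
    Subgroup.mem_center_iff] at h1
  exact Subgroup.mem_center_iff.mpr fun g => hφ (by rw [map_mul, map_mul]; exact h1 (φ g))

/-- The two facts used below. -/
theorem exists_noncentral (w : FreeGroup ℕ) (hw : w ≠ 1) :
    ∃ N : ℕ, 4 ≤ N ∧
      (∀ (F : Type) [Field F] [Fintype F], N ≤ Fintype.card F →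
        ∃ f : ℕ → SpecialLinearGroup (Fin 2) F,
          FreeGroup.lift f w ∉ Subgroup.center (SpecialLinearGroup (Fin 2) F)) ∧
      (∀ n : ℕ, N ≤ n → ∃ f : ℕ → alternatingGroup (Fin n),
        FreeGroup.lift f w ∉ Subgroup.center (alternatingGroup (Fin n))) := by
  obtain ⟨A, hA⟩ := exists_word_not_scalar_SL2.{0} w hw
  obtain ⟨B, hB⟩ := exists_word_ne_one_alternating w hw
  refine ⟨A + B + 4, by omega, fun F _ _ hF => ?_, fun n hn => ?_⟩
  · obtain ⟨f, hf⟩ := hA F (by omega)
    exact ⟨f, not_mem_center_of_entry (by decide) hf⟩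
  · obtain ⟨f, hf⟩ := hB n (by omega)
    refine ⟨f, ?_⟩
    rw [alternatingGroup.center_eq_bot (by rw [Nat.card_eq_fintype_card, Fintype.card_fin]; omega),
      Subgroup.mem_bot]
    exact hf

/-- The bound used for everything small. -/
def wordBound (N : ℕ) : ℕ := N.factorial + (N ^ 2 + 2) ^ ((2 * N + 3) * (2 * N + 3))

theorem card_le_bound {N : ℕ} {ι F G X : Type*} [Fintype ι] [DecidableEq ι] [Fintype F]
    [Group G] [Group X] (q : G ≃* X ⧸ Subgroup.center X) (e : X → Matrix ι ι F) (he : Function.Injective e)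
    (hι : Fintype.card ι ≤ 2 * N + 3) (hF : Fintype.card F ≤ N ^ 2) : Nat.card G ≤ wordBound N := by
  classical
  haveI : Finite (Matrix ι ι F) := inferInstanceAs (Finite (ι → ι → F))
  haveI : Finite X := Finite.of_injective e he
  have h1 : Nat.card G ≤ Nat.card X := by
    rw [Nat.card_congr q.toEquiv]
    exact Nat.card_le_card_of_surjective _ (QuotientGroup.mk_surjective)
  have h2 : Nat.card X ≤ Nat.card (Matrix ι ι F) := Nat.card_le_card_of_injective e he
  have h3 : Nat.card (Matrix ι ι F) = Fintype.card F ^ (Fintype.card ι * Fintype.card ι) := by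
    rw [show Nat.card (Matrix ι ι F) = Nat.card (ι → ι → F) from rfl, Nat.card_eq_fintype_card,
      Fintype.card_fun, Fintype.card_fun, ← pow_mul]
  have h4 : Fintype.card F ^ (Fintype.card ι * Fintype.card ι) ≤
      (N ^ 2 + 2) ^ ((2 * N + 3) * (2 * N + 3)) :=
    (Nat.pow_le_pow_left (by omega) _).trans (Nat.pow_le_pow_right (by omega) (Nat.mul_le_mul hι hι))
  unfold wordBound
  omega

variable {w : FreeGroup ℕ} {N : ℕ}

theorem notLaw_of_SL (h2 : ∀ (F : Type) [Field F] [Fintype F], N ≤ Fintype.card F →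
      ∃ f : ℕ → SpecialLinearGroup (Fin 2) F,
        FreeGroup.lift f w ∉ Subgroup.center (SpecialLinearGroup (Fin 2) F))
    (hA : ∀ n : ℕ, N ≤ n → ∃ f : ℕ → alternatingGroup (Fin n),
        FreeGroup.lift f w ∉ Subgroup.center (alternatingGroup (Fin n)))
    {F : Type} [Field F] [Fintype F] {k : ℕ} (hk : 2 ≤ k) (hbig : N ≤ Fintype.card F ∨ N ≤ k)
    {X : Type} [Group X] (φ : SpecialLinearGroup (Fin k) F →* X) (hφ : Function.Injective φ) :
    NotLaw w (X ⧸ Subgroup.center X) := by
  obtain ⟨r, rfl⟩ := Nat.exists_eq_add_of_le hk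
  rcases hbig with h | h
  · exact notLaw_quotient_center (φ.comp (blockSL finSumFinEquiv))
      (hφ.comp (blockSL_injective _)) (h2 F h)
  · exact notLaw_quotient_center (φ.comp (permSL F _)) (hφ.comp (permSL_injective F _)) (hA _ h)

end Cfsg.Agent.Lib.KnownA
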